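import Cfsg.Agent.Lib.SchurSplit.Core
import Cfsg.Agent.Lib.SchurSplit.Two
import Cfsg.Agent.Lib.SchurSplit.Chain
import Cfsg.Agent.Lib.SchurSplit.Sylow
import Cfsg.Agent.Lib.SchurSplit.SmallMain

/-!
Splitting over subgroups, and lifts inverted by an element, in central extensions.
-/

set_option autoImplicit false

namespace Cfsg.Agent.LeechCount.Co2Mult

open Cfsg.Agent.SchurSplit
open scoped commutatorElement

universe u v

/-- The extension splits over a subgroup. -/
def Splits {E : Type u} {G : Type v} [Group E] [Group G] (π : E →* G) (P : Subgroup G) : Prop :=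
  ∃ T : Subgroup E, T.map π = P ∧ ∀ x ∈ T, π x = 1 → x = 1

theorem perfect_of_simple {P : Type v} [Group P] [IsSimpleGroup P] (hp : ¬ (Nat.card P).Prime) :
    commutator P = ⊤ := by
  rcases Subgroup.Normal.eq_bot_or_eq_top (H := commutator P) inferInstance with h | h
  · exfalso
    apply hp
    haveI : IsMulCommutative P := ⟨⟨fun a b => by
      have hm : ⁅a, b⁆ ∈ commutator P := by
        rw [_root_.commutator_def]
        exact Subgroup.commutator_mem_commutator (Subgroup.mem_top a) (Subgroup.mem_top b)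
      rw [h, Subgroup.mem_bot] at hm
      exact commutatorElement_eq_one_iff_mul_comm.1 hm⟩⟩
    letI : CommGroup P :=
      { (inferInstance : Group P) with mul_comm := IsMulCommutative.is_comm.comm }
    exact IsSimpleGroup.prime_card (α := P)
  · exact h

theorem sub_perfect {G : Type v} [Group G] (P : Subgroup G) (h : commutator ↥P = ⊤) : ⁅P, P⁆ = P := by
  rw [← Subgroup.map_subtype_commutator, h, ← MonoidHom.range_eq_map, Subgroup.range_subtype]

theorem noExt_congr {G H : Type u} [Group G] [Group H] (e : G ≃* H) {p : ℕ} (h : NoExt G p) :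
    NoExt H p := by
  intro E _ _ π hπ hc hcard hd
  have hk : (e.symm.toMonoidHom.comp π).ker = π.ker := by
    ext x
    simp [MonoidHom.mem_ker]
  refine h E (e.symm.toMonoidHom.comp π) (e.symm.surjective.comp hπ) (hk ▸ hc) (hk ▸ hcard) (hk ▸ hd)

variable {E : Type u} {G : Type v} [Group E] [Group G] [Finite E] {π : E →* G} {p : ℕ}

theorem cen_of (hc : π.ker ≤ Subgroup.center E) {k : E} (hk : π k = 1) (x : E) : x * k = k * x :=
  Subgroup.mem_center_iff.1 (hc (MonoidHom.mem_ker.2 hk)) x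

/-- The restriction of the extension to a subgroup. -/
def res (π : E →* G) (P : Subgroup G) : ↥(P.comap π) →* ↥P :=
  (π.comp (P.comap π).subtype).codRestrict P fun x => x.2

theorem res_facts (hs : Function.Surjective π) (hc : π.ker ≤ Subgroup.center E) (P : Subgroup G) :
    Function.Surjective (res π P) ∧ (res π P).ker ≤ Subgroup.center ↥(P.comap π) ∧
      Nat.card (res π P).ker = Nat.card π.ker := by
  refine ⟨fun x => ?_, fun x hx => ?_, ?_⟩
  · obtain ⟨y, hy⟩ := hs x.1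
    exact ⟨⟨y, Subgroup.mem_comap.2 (hy ▸ x.2)⟩, Subtype.ext hy⟩
  · rw [Subgroup.mem_center_iff]
    intro y
    exact Subtype.ext (cen_of hc (congrArg Subtype.val (MonoidHom.mem_ker.1 hx)) y.1)
  · refine Nat.card_congr
      { toFun := fun x => ⟨x.1.1, congrArg Subtype.val (MonoidHom.mem_ker.1 x.2)⟩
        invFun := fun x => ⟨⟨x.1, Subgroup.mem_comap.2 ((MonoidHom.mem_ker.1 x.2).symm ▸ P.one_mem)⟩,
          MonoidHom.mem_ker.2 (Subtype.ext (MonoidHom.mem_ker.1 x.2))⟩
        left_inv := fun x => rfl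
        right_inv := fun x => rfl }

theorem perfect_split (hs : Function.Surjective π) (hp : p.Prime) (hcard : Nat.card π.ker = p)
    {P : Subgroup G} (hP : ⁅P, P⁆ = P) (h : ¬ (res π P).ker ≤ commutator ↥(P.comap π)) :
    (⁅P.comap π, P.comap π⁆).map π = P ∧ ∀ x ∈ ⁅P.comap π, P.comap π⁆, π x = 1 → x = 1 := by
  refine ⟨?_, ?_⟩
  · rw [Subgroup.map_commutator, Subgroup.map_comap_eq_self_of_surjective hs, hP]
  · intro x hx hx1
    by_contra hne
    apply h
    intro y hy
    have hxk : x ∈ π.ker := MonoidHom.mem_ker.2 hx1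
    haveI := Fact.mk hp
    have hgen : Subgroup.zpowers (⟨x, hxk⟩ : π.ker) = ⊤ := zpowers_eq_top_of_prime_card hcard
      (fun e => hne (congrArg Subtype.val e))
    obtain ⟨n, hn⟩ := Subgroup.mem_zpowers_iff.1 (hgen ▸ Subgroup.mem_top
      (⟨y.1, MonoidHom.mem_ker.2 (congrArg Subtype.val (MonoidHom.mem_ker.1 hy))⟩ : π.ker))
    have hn' : x ^ n = y.1 := congrArg Subtype.val hn
    have : y.1 ∈ ⁅P.comap π, P.comap π⁆ := hn' ▸ zpow_mem hx n
    rw [← Subgroup.map_subtype_commutator] at this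
    obtain ⟨z, hz, hzy⟩ := this
    rwa [Subtype.ext hzy] at hz

/-- Splitting over a subgroup of index prime to the kernel. -/
theorem not_le_of_sub (hs : Function.Surjective π) (hc : π.ker ≤ Subgroup.center E) (hp : p.Prime)
    (hcard : Nat.card π.ker = p) {P Q : Subgroup G} (hQP : Q ≤ P) (hQ : Splits π Q)
    (hidx : Nat.Coprime p (Q.relIndex P)) : ¬ (res π P).ker ≤ commutator ↥(P.comap π) := by
  intro hd
  obtain ⟨f1, f2, f3⟩ := res_facts hs hc P
  obtain ⟨T, hT, hTk⟩ := hQ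
  have hle : T ≤ P.comap π := fun x hx => Subgroup.mem_comap.2 (hQP (hT ▸ ⟨x, hx, rfl⟩))
  have hmap : (T.subgroupOf (P.comap π)).map (res π P) = Q.subgroupOf P := by
    ext x
    constructor
    · rintro ⟨y, hy, rfl⟩
      exact Subgroup.mem_subgroupOf.2 (hT ▸ ⟨y.1, hy, rfl⟩)
    · intro hx
      have hx' : (x : G) ∈ T.map π := hT.symm ▸ Subgroup.mem_subgroupOf.1 hx
      obtain ⟨y, hy, hyx⟩ := hx'
      exact ⟨⟨y, hle hy⟩, hy, Subtype.ext hyx⟩
  haveI : Finite ↥P := Finite.of_surjective _ f1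
  refine false_of_split (res π P) f1 f2 hp (f3.trans hcard) hd (T.subgroupOf (P.comap π)) ?_ ?_
  · refine Nat.card_le_card_of_injective ((res π P).subgroupMap (T.subgroupOf (P.comap π))) ?_
    rw [injective_iff_map_eq_one]
    intro a ha
    exact Subtype.ext (Subtype.ext (hTk _ a.2 (congrArg Subtype.val (congrArg Subtype.val ha))))
  · rw [hmap]; exact hidx

theorem Splits.mono {P Q : Subgroup G} (hQP : Q ≤ P) (h : Splits π P) : Splits π Q := by
  obtain ⟨T, hT, hTk⟩ := h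
  refine ⟨T ⊓ Q.comap π, le_antisymm ?_ fun x hx => ?_, fun x hx => hTk x hx.1⟩
  · rintro _ ⟨y, hy, rfl⟩; exact hy.2
  · have hx' : x ∈ T.map π := hT.symm ▸ hQP hx
    obtain ⟨y, hy, rfl⟩ := hx'
    exact ⟨y, ⟨hy, hx⟩, rfl⟩

theorem good_of_split (hc : π.ker ≤ Subgroup.center E) (hk : ∀ v ∈ π.ker, v * v = 1) {T : Subgroup E}
    (hTk : ∀ x ∈ T, π x = 1 → x = 1) {x : G} (hx : x ∈ T.map π) (h2 : x * x = 1) : Good π x := by
  intro y hy
  obtain ⟨l, hl, rfl⟩ := hx
  have hl2 : l * l = 1 := hTk _ (T.mul_mem hl hl) (by rw [map_mul, h2])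
  have hk1 : π (l⁻¹ * y) = 1 := by rw [map_mul, map_inv, hy, inv_mul_cancel]
  obtain ⟨k, hkdef⟩ : ∃ k, l⁻¹ * y = k := ⟨_, rfl⟩
  rw [hkdef] at hk1
  have hy' : y = l * k := by rw [← hkdef, mul_inv_cancel_left]
  rw [hy', mul_assoc, ← mul_assoc k, ← cen_of hc hk1 l, mul_assoc, hk k (MonoidHom.mem_ker.2 hk1), mul_one, hl2]

theorem good_conj (hs : Function.Surjective π) {x y g : G} (hx : Good π x) (h : g * x = y * g) :
    Good π y := by
  intro z hz
  obtain ⟨g', rfl⟩ := hs g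
  have h1 : π (g'⁻¹ * z * g') = x := by
    rw [map_mul, map_mul, map_inv, hz, mul_assoc, ← h, inv_mul_cancel_left]
  calc z * z = g' * ((g'⁻¹ * z * g') * (g'⁻¹ * z * g')) * g'⁻¹ := by group
    _ = 1 := by rw [hx _ h1]; group

theorem conj_central (hc : π.ker ≤ Subgroup.center E) {a b : E} (hab : π a = π b) (x : E) :
    a * x * a⁻¹ = b * x * b⁻¹ := by
  obtain ⟨k, hk⟩ : ∃ k, b⁻¹ * a = k := ⟨_, rfl⟩
  have hk1 : π k = 1 := by rw [← hk, map_mul, map_inv, hab, inv_mul_cancel]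
  have ha : a = b * k := by rw [← hk, mul_inv_cancel_left]
  rw [ha, mul_inv_rev, mul_assoc b k x, ← cen_of hc hk1 x]
  group

theorem comm_central (hc : π.ker ≤ Subgroup.center E) {a b a' b' : E} (ha : π a = π a') (hb : π b = π b') :
    b * a * b⁻¹ * a⁻¹ = b' * a' * b'⁻¹ * a'⁻¹ := by
  rw [conj_central hc hb a]
  have e : b' * (a * b'⁻¹ * a⁻¹) = b' * (a' * b'⁻¹ * a'⁻¹) := by rw [conj_central hc ha b'⁻¹]
  simpa only [← mul_assoc] using e

/-- An element of order prime to `p` centralising an element centralises its lifts. -/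
theorem comm_of_pow (hc : π.ker ≤ Subgroup.center E) (hk : ∀ v ∈ π.ker, v ^ p = 1) {g z : E}
    (hgz : π g * π z = π z * π g) {n : ℕ} (hn : π g ^ n = 1) (hcop : Nat.Coprime n p) :
    g * z * g⁻¹ = z := by
  obtain ⟨k, hk'⟩ : ∃ k, z⁻¹ * (g * z * g⁻¹) = k := ⟨_, rfl⟩
  have hk1 : π k = 1 := by
    rw [← hk', map_mul, map_mul, map_mul, map_inv, map_inv, hgz]; group
  have e1 : g * z * g⁻¹ = z * k := by rw [← hk', mul_inv_cancel_left]
  have key : ∀ m : ℕ, g ^ m * z * (g ^ m)⁻¹ = z * k ^ m := by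
    intro m
    induction m with
    | zero => simp
    | succ m ih =>
      calc g ^ (m + 1) * z * (g ^ (m + 1))⁻¹ = g * (g ^ m * z * (g ^ m)⁻¹) * g⁻¹ := by
            rw [pow_succ']; group
        _ = (g * z * g⁻¹) * (g * k ^ m * g⁻¹) := by rw [ih]; group
        _ = z * k * k ^ m := by
            rw [e1, cen_of hc (by rw [map_pow, hk1, one_pow]) g, mul_inv_cancel_right]
        _ = z * k ^ (m + 1) := by rw [mul_assoc, pow_succ']
  have hn' : π (g ^ n) = π (1 : E) := by rw [map_pow, hn, map_one]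
  have h1 := key n
  rw [conj_central hc hn' z, one_mul, inv_one, mul_one, eq_comm, mul_eq_left] at h1
  have h2 : k ^ p = 1 := hk k (MonoidHom.mem_ker.2 hk1)
  have h3 : k = 1 := by
    have := (pow_gcd_eq_one (a := k)).mpr ⟨h1, h2⟩
    rw [hcop] at this
    simpa using this
  rw [e1, h3, mul_one]

/-- A lift inverted by a lift of an involution inverting the element. -/
theorem exists_inv_lift (hs : Function.Surjective π) (hc : π.ker ≤ Subgroup.center E)
    (hk : ∀ v ∈ π.ker, v ^ p = 1) (hodd : Odd p) (i : E) {a : G} (ha : π i * a = a⁻¹ * π i) :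
    ∃ y, π y = a ∧ i * y * i⁻¹ = y⁻¹ := by
  obtain ⟨y, hy⟩ := hs a
  obtain ⟨k, hk'⟩ : ∃ k, y * (i * y * i⁻¹) = k := ⟨_, rfl⟩
  have hk1 : π k = 1 := by
    rw [← hk', map_mul, map_mul, map_mul, map_inv, hy, ha]; group
  obtain ⟨r, hr⟩ := hodd
  obtain ⟨m, hm⟩ : ∃ m, k⁻¹ ^ (r + 1) = m := ⟨_, rfl⟩
  have hm1 : π m = 1 := by rw [← hm, map_pow, map_inv, hk1, inv_one, one_pow]
  have hm2 : m * m = k⁻¹ := by
    have h' : k⁻¹ ^ p = 1 := by rw [inv_pow, hk k (MonoidHom.mem_ker.2 hk1), inv_one]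
    rw [← hm, ← pow_add, show r + 1 + (r + 1) = p + 1 by omega, pow_succ, h', one_mul]
  refine ⟨y * m, by rw [map_mul, hy, hm1, mul_one], eq_inv_of_mul_eq_one_left ?_⟩
  calc i * (y * m) * i⁻¹ * (y * m) = (i * y * i⁻¹) * (i * m * i⁻¹) * (y * m) := by group
    _ = (y⁻¹ * k) * m * (y * m) := by
        rw [cen_of hc hm1 i, mul_inv_cancel_right, ← hk', inv_mul_cancel_left]
    _ = y⁻¹ * (k * m * y) * m := by group
    _ = y⁻¹ * (y * (k * m)) * m := by rw [cen_of hc (by rw [map_mul, hk1, hm1, one_mul]) y]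
    _ = k * (m * m) := by group
    _ = 1 := by rw [hm2, mul_inv_cancel]

/-- Inverted lifts lie in an invariant complement. -/
theorem inv_lift_mem (hc : π.ker ≤ Subgroup.center E) (hp : p.Prime) (hp2 : p ≠ 2)
    (hk : ∀ v ∈ π.ker, v ^ p = 1) {Q : Subgroup E} (hQk : ∀ x ∈ Q, π x = 1 → x = 1) {i : E}
    (hiQ : i ∈ Subgroup.normalizer (Q : Set E)) {y : E} (hy : i * y * i⁻¹ = y⁻¹) (hyQ : π y ∈ Q.map π) :
    y ∈ Q := by
  obtain ⟨w, hw, hwy⟩ := hyQ
  obtain ⟨k, hk'⟩ : ∃ k, y⁻¹ * w = k := ⟨_, rfl⟩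
  have hk1 : π k = 1 := by rw [← hk', map_mul, map_inv, hwy, inv_mul_cancel]
  have hwk : w = y * k := by rw [← hk', mul_inv_cancel_left]
  have hmem : i * w * i⁻¹ * w ∈ Q := Q.mul_mem ((Subgroup.mem_normalizer_iff.1 hiQ w).1 hw) hw
  have hval : i * w * i⁻¹ * w = k * k := by
    rw [hwk]
    calc i * (y * k) * i⁻¹ * (y * k) = (i * y * i⁻¹) * (i * k * i⁻¹) * (y * k) := by group
      _ = y⁻¹ * k * (y * k) := by rw [hy, cen_of hc hk1 i, mul_inv_cancel_right]
      _ = y⁻¹ * (k * y) * k := by group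
      _ = k * k := by rw [← cen_of hc hk1 y]; group
  rw [hval] at hmem
  have h2 : k ^ 2 = 1 := by rw [sq]; exact hQk _ hmem (by rw [map_mul, hk1, one_mul])
  have h3 : k = 1 := by
    have := (pow_gcd_eq_one (a := k)).mpr ⟨h2, hk k (MonoidHom.mem_ker.2 hk1)⟩
    rw [(Nat.coprime_primes Nat.prime_two hp).2 (Ne.symm hp2)] at this
    simpa using this
  rw [hwk, h3, mul_one] at hw
  exact hw

/-- A subgroup whose image is as large as itself meets the kernel trivially. -/
theorem ker_free (T : Subgroup E) (h : Nat.card T ≤ Nat.card (T.map π)) : ∀ x ∈ T, π x = 1 → x = 1 := by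
  intro x hx h1
  have hb := (π.subgroupMap_surjective T).bijective_of_nat_card_le h
  have : π.subgroupMap T ⟨x, hx⟩ = π.subgroupMap T 1 := Subtype.ext (by simpa using h1)
  exact congrArg Subtype.val (hb.injective this)

end Cfsg.Agent.LeechCount.Co2Mult
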