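import Cfsg.Agent.Lib.LeechCount.Co2Mult.Elt
import Cfsg.Agent.Lib.Golay.Out

/-!
The signs and point permutations inside the stabiliser of a minimal vector.
-/

set_option autoImplicit false
set_option maxRecDepth 20000

namespace Cfsg.Agent.LeechCount.Co2Mult

open Cfsg Cfsg.Agent.Leech Cfsg.Agent.Golay24 MulAction
open Cfsg.Agent.LeechCount.Co3Out (permHom24 permHom24_injective ext_e8)
open scoped symmDiff Pointwise

noncomputable section

attribute [local irreducible] normFS

theorem M22_le : Spor.M22 ≤ M24 := inf_le_left.trans inf_le_left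

theorem perm22_fix (σ : ↥Spor.M22) : permHom24 (Subgroup.inclusion M22_le σ) ∈ co2G :=
  LeechCount.mem_co2G.2 (funext fun i => by
    show ap (permCo σ.1 (M22_le σ.2)) Spor.vecU i = _
    rw [ap_permCo _ vecU_mem]
    have h0 : σ.1.symm i = none ↔ i = none := by
      rw [Equiv.symm_apply_eq, show σ.1 none = none from σ.2.1.2]
    have h1 : σ.1.symm i = some 0 ↔ i = some 0 := by
      rw [Equiv.symm_apply_eq, show σ.1 (some 0) = some 0 from σ.2.2]
    simp [Spor.vecU, h0, h1])

/-- The point stabiliser as automorphisms. -/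
def j22 : ↥Spor.M22 →* ↥co2G := (permHom24.comp (Subgroup.inclusion M22_le)).codRestrict co2G perm22_fix

theorem j22_val (σ : ↥Spor.M22) : (j22 σ : ↥Co0) = permCo σ.1 (M22_le σ.2) := rfl

theorem j22_injective : Function.Injective j22 := fun σ τ h =>
  Subgroup.inclusion_injective M22_le (permHom24_injective (congrArg Subtype.val h))

/-- A sign set avoiding both chosen points. -/
def okM (m : ℕ) : Bool :=
  inCode (maskOf (Golay24.setOf m)) && !(m.testBit 0) && !(m.testBit 23)

/-- The sign change. -/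
def sgM (m : ℕ) : ↥co2G := El.g ⟨[], m, idP, idP⟩

theorem okM_spec {m : ℕ} (h : okM m = true) :
    Leech.InC (Golay24.setOf m) ∧ ptP ∉ Golay24.setOf m ∧ ptQ ∉ Golay24.setOf m := by
  simp only [okM, Bool.and_eq_true, Bool.not_eq_true'] at h
  refine ⟨inC_of h.1.1, ?_, ?_⟩
  · rw [mem_setOf, idx_twentyThree, h.2]; simp
  · rw [mem_setOf, idx_zero, h.1.2]; simp

theorem co_mono {s p q : ℕ} (h1 : inCode (maskOf (Golay24.setOf s)) = true) (h2 : inM24 p = true) :
    El.co ⟨[], s, p, q⟩ = signCo (Golay24.setOf s) (inC_of h1) * permCo (toPerm p) (toPerm_mem_M24 h2) := by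
  simp only [El.co, dif_pos (And.intro h1 h2), List.map_nil, List.prod_nil, one_mul]

theorem permCo_one {p : ℕ} (h : inM24 p = true) (h1 : toPerm p = 1) : permCo (toPerm p) (toPerm_mem_M24 h) = 1 :=
  ext_ap fun x hx => funext fun i => by
    rw [ap_permCo _ hx, ap_one, h1]; rfl

theorem co_sign {s p q : ℕ} (h1 : inCode (maskOf (Golay24.setOf s)) = true) (h2 : inM24 p = true)
    (h3 : toPerm p = 1) : El.co ⟨[], s, p, q⟩ = signCo (Golay24.setOf s) (inC_of h1) := by
  rw [co_mono h1 h2, permCo_one h2 h3, mul_one]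

theorem idP_inM24 : inM24 idP = true := by decide +kernel

theorem sgM_val {m : ℕ} (h : okM m = true) :
    (sgM m : ↥Co0) = signCo (Golay24.setOf m) (okM_spec h).1 := by
  obtain ⟨hC, hP, hQ⟩ := okM_spec h
  have h' : inCode (maskOf (Golay24.setOf m)) = true := by
    simp only [okM, Bool.and_eq_true] at h; exact h.1.1
  have hco := co_sign (q := idP) h' idP_inM24 toPerm_idP
  rw [sgM, El.g_val (hco ▸ signCo_mem_co2G hC hP hQ), hco]

theorem setOf_xor (a b : ℕ) : Golay24.setOf (a ^^^ b) = Golay24.setOf a ∆ Golay24.setOf b := by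
  ext x
  simp only [mem_setOf, Finset.mem_symmDiff, Nat.testBit_xor]
  cases a.testBit (idx x) <;> cases b.testBit (idx x) <;> simp

theorem sgM_mul {a b : ℕ} (ha : okM a = true) (hb : okM b = true) :
    okM (a ^^^ b) = true ∧ sgM a * sgM b = sgM (a ^^^ b) := by
  obtain ⟨hA, hPa, hQa⟩ := okM_spec ha
  obtain ⟨hB, hPb, hQb⟩ := okM_spec hb
  have hC : Leech.InC (Golay24.setOf (a ^^^ b)) := setOf_xor a b ▸ InC_symmDiff hA hB
  have hok : okM (a ^^^ b) = true := by
    simp only [okM, Bool.and_eq_true, Bool.not_eq_true', Nat.testBit_xor] at ha hb ⊢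
    refine ⟨⟨mem_supports_iff_inCode.1 hC, ?_⟩, ?_⟩
    · rw [ha.1.2, hb.1.2]; rfl
    · rw [ha.2, hb.2]; rfl
  refine ⟨hok, Subtype.ext ?_⟩
  rw [Subgroup.coe_mul, sgM_val ha, sgM_val hb, sgM_val hok]
  refine ext_ap fun x hx => funext fun i => ?_
  rw [ap_mul _ _ hx, ap_signCo hA (ap_mem _ hx), ap_signCo hB hx, ap_signCo hC hx, setOf_xor]
  by_cases h1 : i ∈ Golay24.setOf a <;> by_cases h2 : i ∈ Golay24.setOf b <;> simp [Finset.mem_symmDiff, h1, h2]

theorem sgM_zero : okM 0 = true ∧ sgM 0 = 1 := by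
  have h : okM 0 = true := by decide +kernel
  refine ⟨h, Subtype.ext ?_⟩
  rw [sgM_val h, OneMemClass.coe_one]
  refine ext_ap fun x hx => funext fun i => ?_
  rw [ap_signCo _ hx, ap_one, if_neg (by simp)]

/-- The packed permutation fixes both chosen points. -/
def inH22 (g : ℕ) : Bool := inM24 g && app g 23 == 23 && app g 0 == 0

/-- An element of the point stabiliser from a packed permutation. -/
def m22El (g : ℕ) (h : inH22 g = true) : ↥Spor.M22 := ⟨toPerm g, m22OutHyp.mem g h⟩

theorem sgM_conj {m g : ℕ} (hm : okM m = true) (hg : inH22 g = true) :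
    okM (img g m) = true ∧ j22 (m22El g hg) * sgM m = sgM (img g m) * j22 (m22El g hg) := by
  have hg' := hg
  simp only [inH22, Bool.and_eq_true, beq_iff_eq] at hg'
  obtain ⟨⟨hM, h23⟩, h0⟩ := hg'
  have hv := valid_of_inM24 hM
  obtain ⟨hC, hP, hQ⟩ := okM_spec hm
  have himg : Golay24.setOf (img g m) = (Golay24.setOf m).image (toPerm g) := by
    rw [← smul_setOf hv m]; rfl
  have hC' : Leech.InC (Golay24.setOf (img g m)) := by
    rw [himg, M24_map (toPerm_mem_M24 hM)]; exact hC
  have hfix : ∀ y : GolayPt, (y = none ∨ y = some 0) → toPerm g y = y := by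
    rintro y (rfl | rfl) <;> apply idx_inj.1 <;> apply Fin.ext <;> rw [idx_toPerm hv]
    · rw [idx_twentyThree, h23]
    · rw [idx_zero, h0]
  have hnot : ∀ y : GolayPt, (y = none ∨ y = some 0) → y ∉ Golay24.setOf m →
      (img g m).testBit (idx y).val = false := by
    intro y hy hn
    rw [Bool.eq_false_iff]
    intro hb
    have : y ∈ Golay24.setOf (img g m) := mem_setOf.2 hb
    rw [himg, Finset.mem_image] at this
    obtain ⟨z, hz, hzy⟩ := this
    rw [← (toPerm g).injective ((hfix y hy).trans hzy.symm)] at hz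
    exact hn hz
  have hok : okM (img g m) = true := by
    simp only [okM, Bool.and_eq_true, Bool.not_eq_true']
    refine ⟨⟨mem_supports_iff_inCode.1 hC', ?_⟩, ?_⟩
    · rw [← idx_zero]; exact hnot _ (Or.inr rfl) hQ
    · rw [← idx_twentyThree]; exact hnot _ (Or.inl rfl) hP
  refine ⟨hok, Subtype.ext ?_⟩
  rw [Subgroup.coe_mul, Subgroup.coe_mul, sgM_val hm, sgM_val hok, j22_val]
  refine ext_ap fun x hx => funext fun i => ?_
  rw [ap_mul _ _ hx, ap_mul _ _ hx, ap_permCo _ (ap_mem _ hx), ap_signCo hC hx,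
    ap_signCo hC' (ap_mem _ hx), ap_permCo _ hx, himg]
  have e : i ∈ (Golay24.setOf m).image (toPerm g) ↔ (toPerm g).symm i ∈ Golay24.setOf m := by
    constructor
    · intro h
      obtain ⟨z, hz, rfl⟩ := Finset.mem_image.1 h
      rwa [Equiv.symm_apply_apply]
    · intro h
      exact Finset.mem_image.2 ⟨_, h, Equiv.apply_symm_apply _ i⟩
  simp only [m22El]
  by_cases h : (toPerm g).symm i ∈ Golay24.setOf m
  · simp [h, e.2 h]
  · have h' := mt e.1 h
    simp [h, h']

end

end Cfsg.Agent.LeechCount.Co2Mult
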