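import Cfsg.Agent.Lib.LeechCount.Co2Mult.Facts
import Cfsg.Agent.Lib.LeechCount.Co2Mult.Sub
import Cfsg.Agent.Lib.LeechCount.Co2Mult.TwoData
import Cfsg.Agent.Lib.LeechCount.Co2Mult.Lift
import Cfsg.Agent.Lib.SchurSplit.MainM23

/-!
The subgroups used for the prime two: the point stabiliser, its conjugate inside a Mathieu group of
degree 23, the group of sign changes, and the involution swapping the two points.
-/

set_option autoImplicit false
set_option maxRecDepth 20000

namespace Cfsg.Agent.LeechCount.Co2Mult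

open Cfsg Cfsg.Agent.Leech Cfsg.Agent.Golay24 Cfsg.Agent.SchurSplit MulAction
open Cfsg.Agent.LeechCount.Co3Out (permHom24 permHom24_injective)

noncomputable section

attribute [local irreducible] normFS

theorem oddMin_mem : oddMin ∈ leechLattice := (mem_leech_iff _).2 ⟨1, oddMin_latM.1⟩

/-- The odd minimal vector as a list. -/
def oddL : List ℤ := (List.range 24).map fun k => if k = 23 then -3 else 1

theorem oddL_eq : vecOf oddL = oddMin := by rw [oddL, vecOf_range]; decide +kernel

theorem kC_swap : ap kE.co Spor.vecU = oddMin ∧ ap kE.co oddMin = Spor.vecU := by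
  rw [← vUL_eq, ← oddL_eq]
  refine ⟨app_spec rep_kE (by decide +kernel) vUL_mem (by rw [vUL_eq]; decide +kernel),
    app_spec rep_kE (by decide +kernel) (by rw [oddL_eq]; exact oddMin_mem)
      (by rw [oddL_eq, oddMin_latM.2.2]; norm_num)⟩

theorem M23_le : Spor.M23 ≤ M24 := inf_le_left

theorem perm23_conj_fix (σ : ↥Spor.M23) :
    MulAut.conj kE.co (permHom24 (Subgroup.inclusion M23_le σ)) ∈ co2G := by
  have hfix : ap (permHom24 (Subgroup.inclusion M23_le σ)) oddMin = oddMin := funext fun i => by
    show ap (permCo σ.1 (M23_le σ.2)) oddMin i = _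
    rw [ap_permCo _ oddMin_mem]
    have h0 : σ.1.symm i = none ↔ i = none := by
      rw [Equiv.symm_apply_eq, show σ.1 none = none from σ.2.2]
    simp [oddMin, h0]
  rw [MulAut.conj_apply, LeechCount.mem_co2G]
  have hinv : ap kE.co⁻¹ Spor.vecU = oddMin := by
    conv_lhs => rw [← kC_swap.2]
    exact ap_inv_ap _ oddMin_mem
  rw [ap_mul _ _ vecU_mem, hinv, ap_mul _ _ oddMin_mem, hfix, kC_swap.2]

/-- A Mathieu group of degree 23 in the stabiliser. -/
def th23 : ↥Spor.M23 →* ↥co2G :=
  ((MulAut.conj kE.co).toMonoidHom.comp (permHom24.comp (Subgroup.inclusion M23_le))).codRestrict co2G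
    perm23_conj_fix

theorem th23_injective : Function.Injective th23 := fun σ τ h =>
  Subgroup.inclusion_injective M23_le (permHom24_injective ((MulAut.conj kE.co).injective
    (congrArg Subtype.val h)))

/-- The point stabiliser. -/
abbrev P22 : Subgroup ↥co2G := j22.range

/-- Its conjugate. -/
abbrev P22' : Subgroup ↥co2G := (th23.comp (Subgroup.inclusion (inf_le_left : Spor.M22 ≤ Spor.M23))).range

/-- The stabiliser of the pair. -/
abbrev PM : Subgroup ↥co2G := (stabilizer ↥Co0 (⟨oddMin, oddMin_mem⟩ : ↥leechLattice)).subgroupOf co2G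

theorem mem_PM {g : ↥co2G} : g ∈ PM ↔ ap (g : ↥Co0) oddMin = oddMin :=
  Subgroup.mem_subgroupOf.trans (mem_stabilizer_iff.trans (smul_eq_iff_ap _ _ _))

theorem PM_facts : IsSimpleGroup ↥PM ∧ Nat.card ↥PM = 898128000 :=
  mcl_in_co2 (w := ⟨oddMin, oddMin_mem⟩) oddMin_latM.2.2 (by
    show dotInt Spor.vecU oddMin = -8; decide +kernel)

theorem P22_le_PM : P22 ≤ PM := by
  rintro _ ⟨σ, rfl⟩
  rw [mem_PM, j22_val]
  funext i
  rw [ap_permCo _ oddMin_mem]
  have h0 : σ.1.symm i = none ↔ i = none := by
    rw [Equiv.symm_apply_eq, show σ.1 none = none from σ.2.1.2]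
  simp [oddMin, h0]

theorem P22'_le_PM : P22' ≤ PM := by
  rintro _ ⟨σ, rfl⟩
  rw [mem_PM]
  show ap (kE.co * permHom24 (Subgroup.inclusion M22_le σ) * kE.co⁻¹) oddMin = oddMin
  have hinv : ap kE.co⁻¹ oddMin = Spor.vecU := by
    conv_lhs => rw [← kC_swap.1]
    exact ap_inv_ap _ vecU_mem
  rw [ap_mul _ _ oddMin_mem, hinv, ap_mul _ _ vecU_mem, LeechCount.mem_co2G.1 (perm22_fix σ), kC_swap.1]

theorem card_P22 : Nat.card ↥P22 = 443520 := by
  rw [← Nat.card_congr (MonoidHom.ofInjective j22_injective).toEquiv, card_M22]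

theorem P22_perfect : ⁅P22, P22⁆ = P22 := by
  haveI := M22_simple
  haveI : IsSimpleGroup ↥P22 := (MonoidHom.ofInjective j22_injective).symm.isSimpleGroup
  exact sub_perfect _ (perfect_of_simple (by rw [card_P22]; norm_num))

theorem card_P22' : Nat.card ↥P22' = 443520 := by
  have hinj : Function.Injective
      (th23.comp (Subgroup.inclusion (inf_le_left : Spor.M22 ≤ Spor.M23))) :=
    fun _ _ h => Subgroup.inclusion_injective _ (th23_injective h)
  exact (Nat.card_congr (MonoidHom.ofInjective hinj).toEquiv).symm.trans card_M22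

theorem PM_perfect : ⁅PM, PM⁆ = PM := by
  haveI := PM_facts.1
  exact sub_perfect _ (perfect_of_simple (by rw [PM_facts.2]; norm_num))

theorem M23_range_perfect : ⁅th23.range, th23.range⁆ = th23.range := by
  haveI := M23_simple
  haveI : IsSimpleGroup ↥th23.range := (MonoidHom.ofInjective th23_injective).symm.isSimpleGroup
  refine sub_perfect _ (perfect_of_simple ?_)
  rw [← Nat.card_congr (MonoidHom.ofInjective th23_injective).toEquiv, Golay24.card_M23]
  norm_num

/-- In a double cover the point stabiliser lifts to its derived preimage. -/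
theorem P22_split {E : Type} [Group E] [Finite E] {π : E →* ↥co2G} (hs : Function.Surjective π)
    (hc : π.ker ≤ Subgroup.center E) (hcard : Nat.card π.ker = 2) :
    (⁅P22.comap π, P22.comap π⁆).map π = P22 ∧
      ∀ x ∈ ⁅P22.comap π, P22.comap π⁆, π x = 1 → x = 1 := by
  have hp : (2 : ℕ).Prime := Nat.prime_two
  have h23 : Splits π th23.range := by
    refine ⟨_, perfect_split hs hp hcard M23_range_perfect fun hd => ?_⟩
    obtain ⟨f1, f2, f3⟩ := res_facts hs hc th23.range
    exact noExt_congr (MonoidHom.ofInjective th23_injective) (m23_noExt 2 hp) _ (res π th23.range) f1 f2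
      (f3.trans hcard) hd
  have h22' : Splits π P22' := h23.mono (by rintro _ ⟨σ, rfl⟩; exact ⟨_, rfl⟩)
  have hidx : P22'.relIndex PM = 2025 := by
    have h := (P22'.subgroupOf PM).card_mul_index
    rw [Nat.card_congr (Subgroup.subgroupOfEquivOfLe P22'_le_PM).toEquiv, card_P22', PM_facts.2] at h
    show (P22'.subgroupOf PM).index = 2025
    omega
  have hPM : Splits π PM :=
    ⟨_, perfect_split hs hp hcard PM_perfect
      (not_le_of_sub hs hc hp hcard P22'_le_PM h22' (by rw [hidx]; decide +kernel))⟩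
  have h22 : Splits π P22 := hPM.mono P22_le_PM
  exact perfect_split hs hp hcard P22_perfect
    (not_le_of_sub hs hc hp hcard le_rfl h22 (by rw [Subgroup.relIndex_self]; exact Nat.coprime_one_right 2))

end

end Cfsg.Agent.LeechCount.Co2Mult
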