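import Cfsg.Agent.Lib.LeechCount.Co3Out.Word
import Cfsg.Agent.Lib.LeechCount.Co2Group

/-!
Automorphisms given by sextet maps, a sign set and a point permutation, evaluated on coordinate lists.
-/

set_option autoImplicit false

namespace Cfsg.Agent.LeechCount.Co2Mult

open Cfsg Cfsg.Agent.Leech Cfsg.Agent.Golay24 Cfsg.Agent.LeechCount.Co3Rank MulAction
open Cfsg.Agent.LeechCount.Co3Out (ext_e8 ap_perm_inv pL xiL sgnL tsum_vecOf xi_vecOf pL_vecOf e8L e8L_eq e8L_mem)

noncomputable section

attribute [local irreducible] normFS dotFS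

/-- Sextet maps after a sign set after a permutation with its inverse. -/
structure El where
  labs : List (List (Fin 6))
  sg : ℕ
  p : ℕ
  q : ℕ

/-- The label test as a Boolean. -/
def sxB (l : List (Fin 6)) : Bool :=
  haveI : Decidable (sxOk l) := by unfold sxOk; infer_instance
  decide (sxOk l)

theorem inC_of {m : ℕ} (h : inCode (maskOf (Golay24.setOf m)) = true) : Leech.InC (Golay24.setOf m) :=
  mem_supports_iff_inCode.2 h

theorem sxB_ok {l : List (Fin 6)} (h : sxB l = true) : sxOk l := by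
  unfold sxB at h
  exact @of_decide_eq_true _ (_) h

/-- All parts are well formed. -/
def El.ok (e : El) : Bool :=
  e.labs.all sxB && inCode (maskOf (Golay24.setOf e.sg)) && inM24 e.p &&
    (List.range 24).all fun k => app e.p (app e.q k) % 24 == k && Nat.blt (app e.q k) 24

/-- A sextet map or the identity. -/
def xiEl (l : List (Fin 6)) : ↥Co0 :=
  if h : sxB l = true then (sxOfList l (sxB_ok h)).xiCo else 1

/-- The automorphism. -/
def El.co (e : El) : ↥Co0 :=
  if h : inCode (maskOf (Golay24.setOf e.sg)) = true ∧ inM24 e.p = true then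
    (e.labs.map xiEl).prod * signCo (Golay24.setOf e.sg) (inC_of h.1) *
      permCo (toPerm e.p) (toPerm_mem_M24 h.2)
  else 1

/-- The automorphism on lists. -/
def El.onL (e : El) (l : List ℤ) : List ℤ := e.labs.foldr xiL (sgnL e.sg (pL e.q l))

theorem ap_xiProd : ∀ (L : List (List (Fin 6))), L.all sxB = true → ∀ {l : List ℤ}, vecOf l ∈ leechLattice →
    ap ((L.map xiEl).prod) (vecOf l) = vecOf (L.foldr xiL l)
  | [], _, l, _ => ap_one _
  | a :: L, h, l, hl => by
    rw [List.all_cons, Bool.and_eq_true] at h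
    rw [List.map_cons, List.prod_cons, ap_mul _ _ hl, ap_xiProd L h.2 hl, List.foldr_cons,
      xiEl, dif_pos h.1, Sx.ap_xiCo _ (ap_xiProd L h.2 hl ▸ ap_mem _ hl), xi_vecOf]

theorem El.ap_co {e : El} (he : e.ok = true) {l : List ℤ} (hl : vecOf l ∈ leechLattice) :
    ap e.co (vecOf l) = vecOf (e.onL l) := by
  simp only [El.ok, Bool.and_eq_true] at he
  obtain ⟨⟨⟨hlab, hsg⟩, hp⟩, hpq⟩ := he
  simp only [List.all_eq_true, List.mem_range, Bool.and_eq_true, beq_iff_eq, Nat.blt_eq] at hpq
  have hlt : ∀ k < 24, app e.q k < 24 := fun k hk => (hpq k hk).2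
  have hinv : ∀ i, appPt e.p (appPt e.q i) = i := fun i => by
    apply idx_inj.1
    apply Fin.ext
    simp only [appPt, idx_pt, Nat.mod_eq_of_lt (hlt _ (idx i).isLt)]
    exact (hpq _ (idx i).isLt).1
  rw [El.co, dif_pos ⟨hsg, hp⟩]
  have h1 : ap (permCo (toPerm e.p) (toPerm_mem_M24 hp)) (vecOf l) = vecOf (pL e.q l) := by
    rw [ap_perm_inv hp hinv hl, pL_vecOf hlt]
  have h1m : vecOf (pL e.q l) ∈ leechLattice := h1 ▸ ap_mem _ hl
  have h2 : ap (signCo (Golay24.setOf e.sg) (inC_of hsg)) (vecOf (pL e.q l)) =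
      vecOf (sgnL e.sg (pL e.q l)) := by
    funext i
    rw [ap_signCo _ h1m, sgnL, vecOf_range]
    simp only [mem_setOf, vecOf]
  rw [ap_mul _ _ hl, h1, ap_mul _ _ h1m, h2, ap_xiProd _ hlab (h2 ▸ ap_mem _ h1m)]
  rfl

/-- The automorphism fixes the short vector. -/
def vUL : List ℤ := (List.range 24).map fun k => if k = 0 ∨ k = 23 then 4 else 0

theorem vUL_eq : vecOf vUL = Spor.vecU := by rw [vUL, vecOf_range]; decide +kernel

theorem vUL_mem : vecOf vUL ∈ leechLattice := vUL_eq ▸ vecU_mem

/-- The element of the stabiliser. -/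
def El.g (e : El) : ↥co2G :=
  haveI := Classical.dec (e.co ∈ co2G)
  if h : e.co ∈ co2G then ⟨e.co, h⟩ else 1

theorem El.g_val {e : El} (h : e.co ∈ co2G) : (e.g : ↥Co0) = e.co := by rw [El.g, dif_pos h]

/-- The value of a word. -/
def gp (w : List El) : ↥co2G := (w.map El.g).prod

theorem gp_cons (e : El) (w : List El) : gp (e :: w) = e.g * gp w := List.prod_cons

theorem gp_nil : gp [] = 1 := rfl

theorem gp_replicate (e : El) (n : ℕ) : gp (List.replicate n e) = e.g ^ n := by simp [gp]

/-- A sign set as an element. -/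
def sE (m : ℕ) : El := ⟨[], m, idP, idP⟩

/-- A permutation as an element. -/
def pE (p q : ℕ) : El := ⟨[], 0, p, q⟩

end

end Cfsg.Agent.LeechCount.Co2Mult
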