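import Cfsg.Agent.Lib.LeechCount.Co2Mult.Tab

/-! Tables of automorphisms (produced by an offline script). -/

set_option autoImplicit false
set_option maxRecDepth 100000

namespace Cfsg.Agent.LeechCount.Co2Mult

open Cfsg Cfsg.Agent.Leech Cfsg.Agent.Golay24

noncomputable section

attribute [local irreducible] normFS

/-- Data. -/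
def T1 : List (List ℤ) := [[0, 0, -8, 0, 0, 0, 0, 0, 0, 0, 0, 0, 0, 0, 0, 0, 0, 0, 0, 0, 0, 0, 0, 0],
  [0, 0, 0, 0, 0, 0, 0, 8, 0, 0, 0, 0, 0, 0, 0, 0, 0, 0, 0, 0, 0, 0, 0, 0],
  [0, 0, 0, 0, 0, 0, 0, 0, 0, 0, 0, 0, 0, 0, 0, 0, 0, 0, -8, 0, 0, 0, 0, 0],
  [0, 0, 0, 0, 0, 0, 0, 0, 0, 0, 0, 0, 0, 0, 0, 0, 0, 0, 0, 0, 0, 0, 0, 8],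
  [0, -8, 0, 0, 0, 0, 0, 0, 0, 0, 0, 0, 0, 0, 0, 0, 0, 0, 0, 0, 0, 0, 0, 0],
  [0, 0, 0, 0, 0, 0, 0, 0, 0, 0, 0, 0, 0, 0, 0, 0, 0, 0, 0, 0, 8, 0, 0, 0],
  [0, 0, 0, 8, 0, 0, 0, 0, 0, 0, 0, 0, 0, 0, 0, 0, 0, 0, 0, 0, 0, 0, 0, 0],
  [0, 0, 0, 0, 0, -8, 0, 0, 0, 0, 0, 0, 0, 0, 0, 0, 0, 0, 0, 0, 0, 0, 0, 0],
  [0, 0, 0, 0, 0, 0, 0, 0, 0, 0, 0, -8, 0, 0, 0, 0, 0, 0, 0, 0, 0, 0, 0, 0],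
  [0, 0, 0, 0, 0, 0, 0, 0, 0, 0, 0, 0, -8, 0, 0, 0, 0, 0, 0, 0, 0, 0, 0, 0],
  [0, 0, 0, 0, 0, 0, 0, 0, 0, 0, 0, 0, 0, 8, 0, 0, 0, 0, 0, 0, 0, 0, 0, 0],
  [0, 0, 0, 0, 0, 0, 0, 0, 0, 0, 0, 0, 0, 0, 0, 0, 0, 0, 0, 0, 0, -8, 0, 0],
  [0, 0, 0, 0, 0, 0, 0, 0, 0, 0, 8, 0, 0, 0, 0, 0, 0, 0, 0, 0, 0, 0, 0, 0],
  [0, 0, 0, 0, 0, 0, 0, 0, 0, 0, 0, 0, 0, 0, 0, 8, 0, 0, 0, 0, 0, 0, 0, 0],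
  [0, 0, 0, 0, 0, 0, 0, 0, 0, 0, 0, 0, 0, 0, 0, 0, 0, -8, 0, 0, 0, 0, 0, 0],
  [0, 0, 0, 0, 0, 0, 0, 0, 0, 0, 0, 0, 0, 0, 0, 0, 8, 0, 0, 0, 0, 0, 0, 0],
  [0, 0, 0, 0, 0, 0, 0, 0, 0, 0, 0, 0, 0, 0, 0, 0, 0, 0, 0, 0, 0, 0, -8, 0],
  [0, 0, 0, 0, -8, 0, 0, 0, 0, 0, 0, 0, 0, 0, 0, 0, 0, 0, 0, 0, 0, 0, 0, 0],
  [0, 0, 0, 0, 0, 0, 0, 0, 0, 8, 0, 0, 0, 0, 0, 0, 0, 0, 0, 0, 0, 0, 0, 0],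
  [0, 0, 0, 0, 0, 0, 8, 0, 0, 0, 0, 0, 0, 0, 0, 0, 0, 0, 0, 0, 0, 0, 0, 0],
  [0, 0, 0, 0, 0, 0, 0, 0, 0, 0, 0, 0, 0, 0, 0, 0, 0, 0, 0, -8, 0, 0, 0, 0],
  [0, 0, 0, 0, 0, 0, 0, 0, -8, 0, 0, 0, 0, 0, 0, 0, 0, 0, 0, 0, 0, 0, 0, 0],
  [0, 0, 0, 0, 0, 0, 0, 0, 0, 0, 0, 0, 0, 0, 8, 0, 0, 0, 0, 0, 0, 0, 0, 0],
  [8, 0, 0, 0, 0, 0, 0, 0, 0, 0, 0, 0, 0, 0, 0, 0, 0, 0, 0, 0, 0, 0, 0, 0]]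

/-- Data. -/
def T2 : List (List ℤ) := [[-4, 0, 0, 0, 0, 0, 0, 0, 0, 0, 0, 0, 0, 0, 0, 0, 4, 0, 0, 0, 4, 0, 0, 4],
  [0, 4, 0, 0, 0, 0, 0, 0, -4, 0, 0, 0, 0, 0, 0, 0, 0, -4, 0, 0, 0, -4, 0, 0],
  [0, 0, 4, -4, 0, 0, -4, 0, 0, 0, 0, 0, -4, 0, 0, 0, 0, 0, 0, 0, 0, 0, 0, 0],
  [0, 0, -4, 4, 0, 0, -4, 0, 0, 0, 0, 0, -4, 0, 0, 0, 0, 0, 0, 0, 0, 0, 0, 0],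
  [0, 0, 0, 0, 4, -4, 0, 0, 0, -4, 0, 0, 0, 0, -4, 0, 0, 0, 0, 0, 0, 0, 0, 0],
  [0, 0, 0, 0, -4, 4, 0, 0, 0, -4, 0, 0, 0, 0, -4, 0, 0, 0, 0, 0, 0, 0, 0, 0],
  [0, 0, -4, -4, 0, 0, 4, 0, 0, 0, 0, 0, -4, 0, 0, 0, 0, 0, 0, 0, 0, 0, 0, 0],
  [0, 0, 0, 0, 0, 0, 0, 4, 0, 0, 0, 0, 0, 0, 0, -4, 0, 0, 0, -4, 0, 0, -4, 0],
  [0, -4, 0, 0, 0, 0, 0, 0, 4, 0, 0, 0, 0, 0, 0, 0, 0, -4, 0, 0, 0, -4, 0, 0],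
  [0, 0, 0, 0, -4, -4, 0, 0, 0, 4, 0, 0, 0, 0, -4, 0, 0, 0, 0, 0, 0, 0, 0, 0],
  [0, 0, 0, 0, 0, 0, 0, 0, 0, 0, 4, -4, 0, -4, 0, 0, 0, 0, -4, 0, 0, 0, 0, 0],
  [0, 0, 0, 0, 0, 0, 0, 0, 0, 0, -4, 4, 0, -4, 0, 0, 0, 0, -4, 0, 0, 0, 0, 0],
  [0, 0, -4, -4, 0, 0, -4, 0, 0, 0, 0, 0, 4, 0, 0, 0, 0, 0, 0, 0, 0, 0, 0, 0],
  [0, 0, 0, 0, 0, 0, 0, 0, 0, 0, -4, -4, 0, 4, 0, 0, 0, 0, -4, 0, 0, 0, 0, 0],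
  [0, 0, 0, 0, -4, -4, 0, 0, 0, -4, 0, 0, 0, 0, 4, 0, 0, 0, 0, 0, 0, 0, 0, 0],
  [0, 0, 0, 0, 0, 0, 0, -4, 0, 0, 0, 0, 0, 0, 0, 4, 0, 0, 0, -4, 0, 0, -4, 0],
  [4, 0, 0, 0, 0, 0, 0, 0, 0, 0, 0, 0, 0, 0, 0, 0, -4, 0, 0, 0, 4, 0, 0, 4],
  [0, -4, 0, 0, 0, 0, 0, 0, -4, 0, 0, 0, 0, 0, 0, 0, 0, 4, 0, 0, 0, -4, 0, 0],
  [0, 0, 0, 0, 0, 0, 0, 0, 0, 0, -4, -4, 0, -4, 0, 0, 0, 0, 4, 0, 0, 0, 0, 0],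
  [0, 0, 0, 0, 0, 0, 0, -4, 0, 0, 0, 0, 0, 0, 0, -4, 0, 0, 0, 4, 0, 0, -4, 0],
  [4, 0, 0, 0, 0, 0, 0, 0, 0, 0, 0, 0, 0, 0, 0, 0, 4, 0, 0, 0, -4, 0, 0, 4],
  [0, -4, 0, 0, 0, 0, 0, 0, -4, 0, 0, 0, 0, 0, 0, 0, 0, -4, 0, 0, 0, 4, 0, 0],
  [0, 0, 0, 0, 0, 0, 0, -4, 0, 0, 0, 0, 0, 0, 0, -4, 0, 0, 0, -4, 0, 0, 4, 0],
  [4, 0, 0, 0, 0, 0, 0, 0, 0, 0, 0, 0, 0, 0, 0, 0, 4, 0, 0, 0, 4, 0, 0, -4]]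

/-- Data. -/
def T3 : List (List ℤ) := [[0, 0, -4, 4, 0, 0, 4, 0, 0, 0, 0, 0, 4, 0, 0, 0, 0, 0, 0, 0, 0, 0, 0, 0],
  [0, 0, 0, 0, 0, 0, 0, 4, 0, 0, 0, 0, 0, 0, 0, -4, 0, 0, 0, -4, 0, 0, -4, 0],
  [0, 0, 0, 0, 0, 0, 0, 0, 0, 0, 4, 4, 0, 4, 0, 0, 0, 0, -4, 0, 0, 0, 0, 0],
  [4, 0, 0, 0, 0, 0, 0, 0, 0, 0, 0, 0, 0, 0, 0, 0, 4, 0, 0, 0, 4, 0, 0, -4],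
  [0, -4, 0, 0, 0, 0, 0, 0, 4, 0, 0, 0, 0, 0, 0, 0, 0, 4, 0, 0, 0, 4, 0, 0],
  [4, 0, 0, 0, 0, 0, 0, 0, 0, 0, 0, 0, 0, 0, 0, 0, 4, 0, 0, 0, -4, 0, 0, 4],
  [0, 0, -4, 4, 0, 0, -4, 0, 0, 0, 0, 0, -4, 0, 0, 0, 0, 0, 0, 0, 0, 0, 0, 0],
  [0, 0, 0, 0, 4, -4, 0, 0, 0, 4, 0, 0, 0, 0, 4, 0, 0, 0, 0, 0, 0, 0, 0, 0],
  [0, 0, 0, 0, 0, 0, 0, 0, 0, 0, 4, -4, 0, 4, 0, 0, 0, 0, 4, 0, 0, 0, 0, 0],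
  [0, 0, 4, 4, 0, 0, 4, 0, 0, 0, 0, 0, -4, 0, 0, 0, 0, 0, 0, 0, 0, 0, 0, 0],
  [0, 0, 0, 0, 0, 0, 0, 0, 0, 0, -4, -4, 0, 4, 0, 0, 0, 0, -4, 0, 0, 0, 0, 0],
  [0, 4, 0, 0, 0, 0, 0, 0, 4, 0, 0, 0, 0, 0, 0, 0, 0, 4, 0, 0, 0, -4, 0, 0],
  [0, 0, 0, 0, 0, 0, 0, 0, 0, 0, 4, -4, 0, -4, 0, 0, 0, 0, -4, 0, 0, 0, 0, 0],
  [0, 0, 0, 0, 0, 0, 0, -4, 0, 0, 0, 0, 0, 0, 0, 4, 0, 0, 0, -4, 0, 0, -4, 0],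
  [0, 4, 0, 0, 0, 0, 0, 0, 4, 0, 0, 0, 0, 0, 0, 0, 0, -4, 0, 0, 0, 4, 0, 0],
  [4, 0, 0, 0, 0, 0, 0, 0, 0, 0, 0, 0, 0, 0, 0, 0, -4, 0, 0, 0, 4, 0, 0, 4],
  [0, 0, 0, 0, 0, 0, 0, 4, 0, 0, 0, 0, 0, 0, 0, 4, 0, 0, 0, 4, 0, 0, -4, 0],
  [0, 0, 0, 0, -4, 4, 0, 0, 0, 4, 0, 0, 0, 0, 4, 0, 0, 0, 0, 0, 0, 0, 0, 0],
  [0, 0, 0, 0, -4, -4, 0, 0, 0, 4, 0, 0, 0, 0, -4, 0, 0, 0, 0, 0, 0, 0, 0, 0],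
  [0, 0, -4, -4, 0, 0, 4, 0, 0, 0, 0, 0, -4, 0, 0, 0, 0, 0, 0, 0, 0, 0, 0, 0],
  [0, 0, 0, 0, 0, 0, 0, 4, 0, 0, 0, 0, 0, 0, 0, 4, 0, 0, 0, -4, 0, 0, 4, 0],
  [0, 4, 0, 0, 0, 0, 0, 0, -4, 0, 0, 0, 0, 0, 0, 0, 0, 4, 0, 0, 0, 4, 0, 0],
  [0, 0, 0, 0, -4, -4, 0, 0, 0, -4, 0, 0, 0, 0, 4, 0, 0, 0, 0, 0, 0, 0, 0, 0],
  [-4, 0, 0, 0, 0, 0, 0, 0, 0, 0, 0, 0, 0, 0, 0, 0, 4, 0, 0, 0, 4, 0, 0, 4]]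

/-- Data. -/
def T4 : List (List ℤ) := [[-4, 0, 4, 0, 0, 0, 0, 0, 0, 0, 4, 0, 0, 0, 0, 0, 0, 0, 0, 0, 0, 0, 0, 4],
  [0, 4, 0, 0, 0, 0, 0, 0, 0, -4, 0, 0, 0, 0, 0, -4, 0, 0, 0, 0, -4, 0, 0, 0],
  [4, 0, -4, 0, 0, 0, 0, 0, 0, 0, 4, 0, 0, 0, 0, 0, 0, 0, 0, 0, 0, 0, 0, 4],
  [0, 0, 0, 4, 0, 0, 0, 0, 0, 0, 0, 0, 0, 0, 0, 0, 0, 0, -4, -4, 0, 0, -4, 0],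
  [0, 0, 0, 0, 4, -4, -4, 0, 0, 0, 0, -4, 0, 0, 0, 0, 0, 0, 0, 0, 0, 0, 0, 0],
  [0, 0, 0, 0, -4, 4, -4, 0, 0, 0, 0, -4, 0, 0, 0, 0, 0, 0, 0, 0, 0, 0, 0, 0],
  [0, 0, 0, 0, -4, -4, 4, 0, 0, 0, 0, -4, 0, 0, 0, 0, 0, 0, 0, 0, 0, 0, 0, 0],
  [0, 0, 0, 0, 0, 0, 0, 4, -4, 0, 0, 0, 0, 0, -4, 0, -4, 0, 0, 0, 0, 0, 0, 0],
  [0, 0, 0, 0, 0, 0, 0, -4, 4, 0, 0, 0, 0, 0, -4, 0, -4, 0, 0, 0, 0, 0, 0, 0],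
  [0, -4, 0, 0, 0, 0, 0, 0, 0, 4, 0, 0, 0, 0, 0, -4, 0, 0, 0, 0, -4, 0, 0, 0],
  [4, 0, 4, 0, 0, 0, 0, 0, 0, 0, -4, 0, 0, 0, 0, 0, 0, 0, 0, 0, 0, 0, 0, 4],
  [0, 0, 0, 0, -4, -4, -4, 0, 0, 0, 0, 4, 0, 0, 0, 0, 0, 0, 0, 0, 0, 0, 0, 0],
  [0, 0, 0, 0, 0, 0, 0, 0, 0, 0, 0, 0, 4, -4, 0, 0, 0, -4, 0, 0, 0, -4, 0, 0],
  [0, 0, 0, 0, 0, 0, 0, 0, 0, 0, 0, 0, -4, 4, 0, 0, 0, -4, 0, 0, 0, -4, 0, 0],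
  [0, 0, 0, 0, 0, 0, 0, -4, -4, 0, 0, 0, 0, 0, 4, 0, -4, 0, 0, 0, 0, 0, 0, 0],
  [0, -4, 0, 0, 0, 0, 0, 0, 0, -4, 0, 0, 0, 0, 0, 4, 0, 0, 0, 0, -4, 0, 0, 0],
  [0, 0, 0, 0, 0, 0, 0, -4, -4, 0, 0, 0, 0, 0, -4, 0, 4, 0, 0, 0, 0, 0, 0, 0],
  [0, 0, 0, 0, 0, 0, 0, 0, 0, 0, 0, 0, -4, -4, 0, 0, 0, 4, 0, 0, 0, -4, 0, 0],
  [0, 0, 0, -4, 0, 0, 0, 0, 0, 0, 0, 0, 0, 0, 0, 0, 0, 0, 4, -4, 0, 0, -4, 0],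
  [0, 0, 0, -4, 0, 0, 0, 0, 0, 0, 0, 0, 0, 0, 0, 0, 0, 0, -4, 4, 0, 0, -4, 0],
  [0, -4, 0, 0, 0, 0, 0, 0, 0, -4, 0, 0, 0, 0, 0, -4, 0, 0, 0, 0, 4, 0, 0, 0],
  [0, 0, 0, 0, 0, 0, 0, 0, 0, 0, 0, 0, -4, -4, 0, 0, 0, -4, 0, 0, 0, 4, 0, 0],
  [0, 0, 0, -4, 0, 0, 0, 0, 0, 0, 0, 0, 0, 0, 0, 0, 0, 0, -4, -4, 0, 0, 4, 0],
  [4, 0, 4, 0, 0, 0, 0, 0, 0, 0, 4, 0, 0, 0, 0, 0, 0, 0, 0, 0, 0, 0, 0, -4]]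

/-- Data. -/
def T5 : List (List ℤ) := [[-2, 0, 2, 2, -2, -2, 2, 0, 0, 0, -2, -2, 2, -2, 0, 0, 0, -2, -2, -2, 0, -2, -2, -2],
  [0, 2, 0, 4, 0, 0, 0, 2, -2, 2, 0, 0, 0, 0, -2, -2, -2, 0, 4, 0, 2, 0, 0, 0],
  [2, 0, 2, 2, -2, -2, -2, 0, 0, 0, -2, 2, -2, 2, 0, 0, 0, -2, -2, 2, 0, -2, 2, 2],
  [-4, -2, 0, 0, 0, 0, 0, -2, -2, -2, 0, 0, 0, 0, -2, -2, 2, 0, 0, 0, 2, 0, 0, 4],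
  [0, -2, 0, 0, 0, 0, 0, -2, 2, 2, 0, 0, -4, -4, -2, 2, -2, 0, 0, 0, 2, 0, 0, 0],
  [0, 2, 4, 0, 0, 0, 0, -2, -2, 2, 4, 0, 0, 0, -2, 2, 2, 0, 0, 0, -2, 0, 0, 0],
  [-2, 0, 2, 2, 2, 2, -2, 0, 0, 0, -2, 2, -2, 2, 0, 0, 0, 2, -2, -2, 0, 2, -2, -2],
  [0, -2, 0, 0, 4, -4, 0, -2, -2, 2, 0, 0, 0, 0, 2, -2, -2, 0, 0, 0, -2, 0, 0, 0],
  [2, 0, 2, -2, 2, 2, 2, 0, 0, 0, -2, -2, -2, 2, 0, 0, 0, -2, 2, -2, 0, -2, -2, 2],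
  [2, 0, -2, 2, -2, -2, 2, 0, 0, 0, 2, -2, -2, 2, 0, 0, 0, 2, -2, -2, 0, 2, -2, 2],
  [-2, 0, -2, 2, 2, 2, 2, 0, 0, 0, 2, -2, -2, 2, 0, 0, 0, -2, -2, 2, 0, -2, 2, -2],
  [0, 2, 0, 0, 0, 0, 0, -2, 2, -2, 0, 0, 0, 0, -2, -2, -2, 4, 0, 0, -2, -4, 0, 0],
  [2, 0, 2, 2, 2, 2, 2, 0, 0, 0, -2, -2, 2, -2, 0, 0, 0, 2, -2, 2, 0, 2, 2, 2],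
  [0, -2, 0, 4, 0, 0, 0, -2, 2, -2, 0, 0, 0, 0, 2, 2, 2, 0, 4, 0, -2, 0, 0, 0],
  [0, 2, 0, 0, 0, 0, 0, -2, 2, -2, 0, 0, 0, 0, -2, -2, -2, -4, 0, 0, -2, 4, 0, 0],
  [0, -2, 4, 0, 0, 0, 0, 2, 2, -2, 4, 0, 0, 0, 2, -2, -2, 0, 0, 0, 2, 0, 0, 0],
  [0, -2, 0, 0, 0, 0, 0, 2, -2, -2, 0, 0, 0, 0, -2, 2, -2, 0, 0, 4, -2, 0, -4, 0],
  [0, -2, 0, 0, -4, 4, 0, -2, -2, 2, 0, 0, 0, 0, 2, -2, -2, 0, 0, 0, -2, 0, 0, 0],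
  [0, -2, 0, 0, 0, 0, 4, 2, 2, 2, 0, 4, 0, 0, -2, -2, 2, 0, 0, 0, -2, 0, 0, 0],
  [-2, 0, 2, -2, -2, -2, 2, 0, 0, 0, -2, -2, -2, 2, 0, 0, 0, 2, 2, 2, 0, 2, 2, -2],
  [0, -2, 0, 0, 0, 0, 0, 2, -2, -2, 0, 0, 0, 0, -2, 2, -2, 0, 0, -4, -2, 0, 4, 0],
  [0, 2, 0, 0, 0, 0, 0, 2, -2, -2, 0, 0, -4, -4, 2, -2, 2, 0, 0, 0, -2, 0, 0, 0],
  [0, 2, 0, 0, 0, 0, 4, -2, -2, -2, 0, 4, 0, 0, 2, 2, -2, 0, 0, 0, 2, 0, 0, 0],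
  [4, -2, 0, 0, 0, 0, 0, -2, -2, -2, 0, 0, 0, 0, -2, -2, 2, 0, 0, 0, 2, 0, 0, -4]]

/-- Data. -/
def T6 : List (List ℤ) := [[-4, 0, 4, 4, 0, 0, 4, 0, 0, 0, 0, 0, 0, 0, 0, 0, 0, 0, 0, 0, 0, 0, 0, 0],
  [0, 4, 0, 0, 0, 0, 0, 0, 0, -4, 0, -4, 0, 0, 0, 0, 0, 0, 0, 0, 0, 0, -4, 0],
  [4, 0, -4, 4, 0, 0, 4, 0, 0, 0, 0, 0, 0, 0, 0, 0, 0, 0, 0, 0, 0, 0, 0, 0],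
  [4, 0, 4, -4, 0, 0, 4, 0, 0, 0, 0, 0, 0, 0, 0, 0, 0, 0, 0, 0, 0, 0, 0, 0],
  [0, 0, 0, 0, 4, 0, 0, 0, 0, 0, 0, 0, 0, -4, 0, 0, 0, -4, 0, -4, 0, 0, 0, 0],
  [0, 0, 0, 0, 0, 4, 0, -4, -4, 0, 0, 0, 0, 0, 0, 0, 0, 0, -4, 0, 0, 0, 0, 0],
  [4, 0, 4, 4, 0, 0, -4, 0, 0, 0, 0, 0, 0, 0, 0, 0, 0, 0, 0, 0, 0, 0, 0, 0],
  [0, 0, 0, 0, 0, -4, 0, 4, -4, 0, 0, 0, 0, 0, 0, 0, 0, 0, -4, 0, 0, 0, 0, 0],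
  [0, 0, 0, 0, 0, -4, 0, -4, 4, 0, 0, 0, 0, 0, 0, 0, 0, 0, -4, 0, 0, 0, 0, 0],
  [0, -4, 0, 0, 0, 0, 0, 0, 0, 4, 0, -4, 0, 0, 0, 0, 0, 0, 0, 0, 0, 0, -4, 0],
  [0, 0, 0, 0, 0, 0, 0, 0, 0, 0, 4, 0, 0, 0, -4, -4, 0, 0, 0, 0, 0, -4, 0, 0],
  [0, -4, 0, 0, 0, 0, 0, 0, 0, -4, 0, 4, 0, 0, 0, 0, 0, 0, 0, 0, 0, 0, -4, 0],
  [0, 0, 0, 0, 0, 0, 0, 0, 0, 0, 0, 0, 4, 0, 0, 0, -4, 0, 0, 0, -4, 0, 0, -4],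
  [0, 0, 0, 0, -4, 0, 0, 0, 0, 0, 0, 0, 0, 4, 0, 0, 0, -4, 0, -4, 0, 0, 0, 0],
  [0, 0, 0, 0, 0, 0, 0, 0, 0, 0, -4, 0, 0, 0, 4, -4, 0, 0, 0, 0, 0, -4, 0, 0],
  [0, 0, 0, 0, 0, 0, 0, 0, 0, 0, -4, 0, 0, 0, -4, 4, 0, 0, 0, 0, 0, -4, 0, 0],
  [0, 0, 0, 0, 0, 0, 0, 0, 0, 0, 0, 0, -4, 0, 0, 0, 4, 0, 0, 0, -4, 0, 0, -4],
  [0, 0, 0, 0, -4, 0, 0, 0, 0, 0, 0, 0, 0, -4, 0, 0, 0, 4, 0, -4, 0, 0, 0, 0],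
  [0, 0, 0, 0, 0, -4, 0, -4, -4, 0, 0, 0, 0, 0, 0, 0, 0, 0, 4, 0, 0, 0, 0, 0],
  [0, 0, 0, 0, -4, 0, 0, 0, 0, 0, 0, 0, 0, -4, 0, 0, 0, -4, 0, 4, 0, 0, 0, 0],
  [0, 0, 0, 0, 0, 0, 0, 0, 0, 0, 0, 0, -4, 0, 0, 0, -4, 0, 0, 0, 4, 0, 0, -4],
  [0, 0, 0, 0, 0, 0, 0, 0, 0, 0, -4, 0, 0, 0, -4, -4, 0, 0, 0, 0, 0, 4, 0, 0],
  [0, -4, 0, 0, 0, 0, 0, 0, 0, -4, 0, -4, 0, 0, 0, 0, 0, 0, 0, 0, 0, 0, 4, 0],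
  [0, 0, 0, 0, 0, 0, 0, 0, 0, 0, 0, 0, -4, 0, 0, 0, -4, 0, 0, 0, -4, 0, 0, 4]]

/-- Data. -/
def T7 : List (List ℤ) := [[4, 2, 0, 0, 2, 0, 0, 2, 2, 2, 0, 0, 2, 2, 2, 2, 0, 2, 0, 2, 0, 0, 0, -2],
  [2, 0, 2, -2, 0, -2, 2, 0, -4, 0, 2, -2, 0, 0, 0, 0, -2, 0, 2, 0, 2, 2, -2, 0],
  [0, -2, 0, 0, -2, 0, 4, 2, 2, -2, 0, 0, -2, 2, 2, 2, 0, -2, 0, 2, 0, 0, 0, 2],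
  [2, 0, -2, -2, 0, 2, -2, 0, 0, 0, 2, 2, -4, 0, 0, 0, -2, 0, 2, 0, -2, 2, 2, 0],
  [0, -2, 0, 0, 2, 0, 0, -2, 2, 2, 0, 0, -2, -2, -2, 2, 0, 2, 0, 2, 4, 0, 0, 2],
  [2, 0, -2, 2, 0, 2, 2, 0, 0, 0, 2, -2, 0, 0, -4, 0, 2, 0, 2, 0, -2, -2, -2, 0],
  [2, 0, -2, -2, 0, 2, 2, 0, 0, 0, -2, 2, 0, 0, 0, 0, 2, 0, -2, -4, 2, 2, -2, 0],
  [0, -2, 0, 0, 2, 0, 0, 2, 2, 2, 0, 0, 2, -2, 2, -2, 0, -2, 4, -2, 0, 0, 0, 2],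
  [0, 2, 0, 4, 2, 0, 0, -2, -2, 2, 0, 0, -2, 2, 2, 2, 0, -2, 0, -2, 0, 0, 0, 2],
  [0, 2, 4, 0, -2, 0, 0, 2, 2, 2, 0, 0, -2, 2, -2, -2, 0, 2, 0, -2, 0, 0, 0, 2],
  [2, 0, 2, -2, 0, 2, -2, 0, 0, 0, 2, -2, 0, 0, 0, 0, 2, -4, -2, 0, 2, -2, 2, 0],
  [0, 2, 0, 0, -2, 0, 0, -2, 2, -2, 4, 0, 2, -2, 2, 2, 0, 2, 0, -2, 0, 0, 0, 2],
  [2, 0, 2, 2, 0, 2, 2, 0, 0, 0, -2, -2, 0, -4, 0, 0, -2, 0, -2, 0, -2, 2, 2, 0],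
  [2, 0, 2, -2, 0, -2, 2, -4, 0, 0, -2, 2, 0, 0, 0, 0, 2, 0, 2, 0, -2, -2, 2, 0],
  [0, 2, 0, 0, 2, 0, 0, -2, 2, -2, 0, 0, 2, 2, -2, -2, 0, -2, 0, 2, 0, 4, 0, 2],
  [2, 0, -2, 2, 0, -2, 2, 0, 0, 0, 2, 2, 0, 0, 0, -4, -2, 0, -2, 0, 2, -2, 2, 0],
  [0, 2, 0, 0, -2, 0, 0, 2, -2, 2, 0, 4, 2, -2, -2, 2, 0, -2, 0, 2, 0, 0, 0, 2],
  [0, -2, 0, 0, -2, 4, 0, -2, -2, 2, 0, 0, 2, 2, 2, -2, 0, 2, 0, 2, 0, 0, 0, 2],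
  [2, -4, 2, 2, 0, -2, -2, 0, 0, 0, 2, 2, 0, 0, 0, 0, 2, 0, -2, 0, -2, 2, -2, 0],
  [2, 0, -2, 2, -4, -2, -2, 0, 0, 0, -2, -2, 0, 0, 0, 0, 2, 0, 2, 0, 2, 2, 2, 0],
  [0, -2, 0, 0, 2, 0, 0, 2, -2, -2, 0, 0, 2, 2, -2, 2, 0, 2, 0, -2, 0, 0, 4, 2],
  [0, 2, 0, 0, 2, 0, 0, 2, -2, -2, 0, 0, -2, -2, 2, -2, 4, 2, 0, 2, 0, 0, 0, 2],
  [2, 0, 2, 2, 0, 2, -2, 0, 0, -4, -2, 2, 0, 0, 0, 0, -2, 0, 2, 0, 2, -2, -2, 0],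
  [-2, 0, 2, 2, 0, 2, 2, 0, 0, 0, 2, 2, 0, 0, 0, 0, 2, 0, 2, 0, 2, 2, 2, -4]]

/-- Data. -/
def T8 : List (List ℤ) := [[0, 0, 0, 0, 0, 0, 0, 0, 0, 8, 0, 0, 0, 0, 0, 0, 0, 0, 0, 0, 0, 0, 0, 0],
  [0, 0, 0, 0, 0, 0, 0, 0, 0, 0, 0, -8, 0, 0, 0, 0, 0, 0, 0, 0, 0, 0, 0, 0],
  [0, 0, 0, 0, 0, 0, 0, 0, 0, 0, 0, 0, 0, 0, 0, 0, -8, 0, 0, 0, 0, 0, 0, 0],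
  [0, 0, 0, 0, 0, 0, 0, 0, 0, 0, 0, 0, 0, 0, 0, 0, 0, 0, 0, 0, 0, -8, 0, 0],
  [0, 0, 0, 0, 0, 0, 0, 0, 0, 0, 0, 0, 0, 0, 0, -8, 0, 0, 0, 0, 0, 0, 0, 0],
  [0, 0, 0, 0, 0, 0, 0, 8, 0, 0, 0, 0, 0, 0, 0, 0, 0, 0, 0, 0, 0, 0, 0, 0],
  [0, 0, 0, 0, 0, 0, 0, 0, 8, 0, 0, 0, 0, 0, 0, 0, 0, 0, 0, 0, 0, 0, 0, 0],
  [8, 0, 0, 0, 0, 0, 0, 0, 0, 0, 0, 0, 0, 0, 0, 0, 0, 0, 0, 0, 0, 0, 0, 0],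
  [0, 0, 0, 0, 0, 0, 0, 0, 0, 0, 0, 0, 0, 0, 0, 0, 0, 0, 0, -8, 0, 0, 0, 0],
  [0, 0, 0, 0, 0, 0, 0, 0, 0, 0, 0, 0, 0, 0, 0, 0, 0, 0, 0, 0, 0, 0, 0, 8],
  [0, 0, 0, 0, 0, 0, 0, 0, 0, 0, 0, 0, 0, 0, 0, 0, 0, 0, 0, 0, 8, 0, 0, 0],
  [0, 0, 0, 0, 0, 0, 0, 0, 0, 0, 0, 0, 0, 0, 8, 0, 0, 0, 0, 0, 0, 0, 0, 0],
  [0, 0, 0, 8, 0, 0, 0, 0, 0, 0, 0, 0, 0, 0, 0, 0, 0, 0, 0, 0, 0, 0, 0, 0],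
  [0, 0, -8, 0, 0, 0, 0, 0, 0, 0, 0, 0, 0, 0, 0, 0, 0, 0, 0, 0, 0, 0, 0, 0],
  [0, 0, 0, 0, 0, 0, -8, 0, 0, 0, 0, 0, 0, 0, 0, 0, 0, 0, 0, 0, 0, 0, 0, 0],
  [0, 0, 0, 0, 0, 0, 0, 0, 0, 0, 0, 0, -8, 0, 0, 0, 0, 0, 0, 0, 0, 0, 0, 0],
  [0, 0, 0, 0, 0, 0, 0, 0, 0, 0, 0, 0, 0, -8, 0, 0, 0, 0, 0, 0, 0, 0, 0, 0],
  [0, 0, 0, 0, 0, 0, 0, 0, 0, 0, 0, 0, 0, 0, 0, 0, 0, 8, 0, 0, 0, 0, 0, 0],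
  [0, 0, 0, 0, 0, -8, 0, 0, 0, 0, 0, 0, 0, 0, 0, 0, 0, 0, 0, 0, 0, 0, 0, 0],
  [0, 0, 0, 0, 0, 0, 0, 0, 0, 0, 8, 0, 0, 0, 0, 0, 0, 0, 0, 0, 0, 0, 0, 0],
  [0, 0, 0, 0, 0, 0, 0, 0, 0, 0, 0, 0, 0, 0, 0, 0, 0, 0, 0, 0, 0, 0, -8, 0],
  [0, 0, 0, 0, 8, 0, 0, 0, 0, 0, 0, 0, 0, 0, 0, 0, 0, 0, 0, 0, 0, 0, 0, 0],
  [0, 0, 0, 0, 0, 0, 0, 0, 0, 0, 0, 0, 0, 0, 0, 0, 0, 0, -8, 0, 0, 0, 0, 0],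
  [0, 8, 0, 0, 0, 0, 0, 0, 0, 0, 0, 0, 0, 0, 0, 0, 0, 0, 0, 0, 0, 0, 0, 0]]

/-- Data. -/
def T9 : List (List ℤ) := [[-4, 0, 0, 4, 0, 0, 0, 0, 0, 0, 0, 0, 0, 0, 4, 4, 0, 0, 0, 0, 0, 0, 0, 0],
  [0, 4, 0, 0, -4, 0, 0, 0, 0, -4, 0, 0, 0, -4, 0, 0, 0, 0, 0, 0, 0, 0, 0, 0],
  [0, 0, 4, 0, 0, 0, -4, 0, 0, 0, -4, 0, 0, 0, 0, 0, 0, 0, 0, 0, 0, -4, 0, 0],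
  [4, 0, 0, -4, 0, 0, 0, 0, 0, 0, 0, 0, 0, 0, 4, 4, 0, 0, 0, 0, 0, 0, 0, 0],
  [0, -4, 0, 0, 4, 0, 0, 0, 0, -4, 0, 0, 0, -4, 0, 0, 0, 0, 0, 0, 0, 0, 0, 0],
  [0, 0, 0, 0, 0, 4, 0, -4, 0, 0, 0, 0, -4, 0, 0, 0, -4, 0, 0, 0, 0, 0, 0, 0],
  [0, 0, -4, 0, 0, 0, 4, 0, 0, 0, -4, 0, 0, 0, 0, 0, 0, 0, 0, 0, 0, -4, 0, 0],
  [0, 0, 0, 0, 0, -4, 0, 4, 0, 0, 0, 0, -4, 0, 0, 0, -4, 0, 0, 0, 0, 0, 0, 0],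
  [0, 0, 0, 0, 0, 0, 0, 0, 4, 0, 0, 0, 0, 0, 0, 0, 0, 0, -4, 0, -4, 0, 0, -4],
  [0, -4, 0, 0, -4, 0, 0, 0, 0, 4, 0, 0, 0, -4, 0, 0, 0, 0, 0, 0, 0, 0, 0, 0],
  [0, 0, -4, 0, 0, 0, -4, 0, 0, 0, 4, 0, 0, 0, 0, 0, 0, 0, 0, 0, 0, -4, 0, 0],
  [0, 0, 0, 0, 0, 0, 0, 0, 0, 0, 0, 4, 0, 0, 0, 0, 0, -4, 0, -4, 0, 0, -4, 0],
  [0, 0, 0, 0, 0, -4, 0, -4, 0, 0, 0, 0, 4, 0, 0, 0, -4, 0, 0, 0, 0, 0, 0, 0],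
  [0, -4, 0, 0, -4, 0, 0, 0, 0, -4, 0, 0, 0, 4, 0, 0, 0, 0, 0, 0, 0, 0, 0, 0],
  [4, 0, 0, 4, 0, 0, 0, 0, 0, 0, 0, 0, 0, 0, -4, 4, 0, 0, 0, 0, 0, 0, 0, 0],
  [4, 0, 0, 4, 0, 0, 0, 0, 0, 0, 0, 0, 0, 0, 4, -4, 0, 0, 0, 0, 0, 0, 0, 0],
  [0, 0, 0, 0, 0, -4, 0, -4, 0, 0, 0, 0, -4, 0, 0, 0, 4, 0, 0, 0, 0, 0, 0, 0],
  [0, 0, 0, 0, 0, 0, 0, 0, 0, 0, 0, -4, 0, 0, 0, 0, 0, 4, 0, -4, 0, 0, -4, 0],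
  [0, 0, 0, 0, 0, 0, 0, 0, -4, 0, 0, 0, 0, 0, 0, 0, 0, 0, 4, 0, -4, 0, 0, -4],
  [0, 0, 0, 0, 0, 0, 0, 0, 0, 0, 0, -4, 0, 0, 0, 0, 0, -4, 0, 4, 0, 0, -4, 0],
  [0, 0, 0, 0, 0, 0, 0, 0, -4, 0, 0, 0, 0, 0, 0, 0, 0, 0, -4, 0, 4, 0, 0, -4],
  [0, 0, -4, 0, 0, 0, -4, 0, 0, 0, -4, 0, 0, 0, 0, 0, 0, 0, 0, 0, 0, 4, 0, 0],
  [0, 0, 0, 0, 0, 0, 0, 0, 0, 0, 0, -4, 0, 0, 0, 0, 0, -4, 0, -4, 0, 0, 4, 0],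
  [0, 0, 0, 0, 0, 0, 0, 0, -4, 0, 0, 0, 0, 0, 0, 0, 0, 0, -4, 0, -4, 0, 0, 4]]

/-- Data. -/
def T10 : List (List ℤ) := [[0, -4, 0, 0, -4, 0, 0, 0, 0, 4, 0, 0, 0, -4, 0, 0, 0, 0, 0, 0, 0, 0, 0, 0],
  [0, 0, 0, 0, 0, 0, 0, 0, 0, 0, 0, -4, 0, 0, 0, 0, 0, 4, 0, 4, 0, 0, 4, 0],
  [0, 0, 0, 0, 0, 4, 0, 4, 0, 0, 0, 0, 4, 0, 0, 0, -4, 0, 0, 0, 0, 0, 0, 0],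
  [0, 0, 4, 0, 0, 0, 4, 0, 0, 0, 4, 0, 0, 0, 0, 0, 0, 0, 0, 0, 0, -4, 0, 0],
  [-4, 0, 0, -4, 0, 0, 0, 0, 0, 0, 0, 0, 0, 0, -4, 4, 0, 0, 0, 0, 0, 0, 0, 0],
  [0, 0, 0, 0, 0, -4, 0, 4, 0, 0, 0, 0, -4, 0, 0, 0, -4, 0, 0, 0, 0, 0, 0, 0],
  [0, 0, 0, 0, 0, 0, 0, 0, 4, 0, 0, 0, 0, 0, 0, 0, 0, 0, -4, 0, -4, 0, 0, -4],
  [-4, 0, 0, 4, 0, 0, 0, 0, 0, 0, 0, 0, 0, 0, 4, 4, 0, 0, 0, 0, 0, 0, 0, 0],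
  [0, 0, 0, 0, 0, 0, 0, 0, 0, 0, 0, 4, 0, 0, 0, 0, 0, 4, 0, -4, 0, 0, 4, 0],
  [0, 0, 0, 0, 0, 0, 0, 0, -4, 0, 0, 0, 0, 0, 0, 0, 0, 0, -4, 0, -4, 0, 0, 4],
  [0, 0, 0, 0, 0, 0, 0, 0, -4, 0, 0, 0, 0, 0, 0, 0, 0, 0, -4, 0, 4, 0, 0, -4],
  [4, 0, 0, 4, 0, 0, 0, 0, 0, 0, 0, 0, 0, 0, -4, 4, 0, 0, 0, 0, 0, 0, 0, 0],
  [4, 0, 0, -4, 0, 0, 0, 0, 0, 0, 0, 0, 0, 0, 4, 4, 0, 0, 0, 0, 0, 0, 0, 0],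
  [0, 0, -4, 0, 0, 0, 4, 0, 0, 0, 4, 0, 0, 0, 0, 0, 0, 0, 0, 0, 0, 4, 0, 0],
  [0, 0, 4, 0, 0, 0, -4, 0, 0, 0, 4, 0, 0, 0, 0, 0, 0, 0, 0, 0, 0, 4, 0, 0],
  [0, 0, 0, 0, 0, 4, 0, 4, 0, 0, 0, 0, -4, 0, 0, 0, 4, 0, 0, 0, 0, 0, 0, 0],
  [0, 4, 0, 0, 4, 0, 0, 0, 0, 4, 0, 0, 0, -4, 0, 0, 0, 0, 0, 0, 0, 0, 0, 0],
  [0, 0, 0, 0, 0, 0, 0, 0, 0, 0, 0, -4, 0, 0, 0, 0, 0, 4, 0, -4, 0, 0, -4, 0],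
  [0, 0, 0, 0, 0, -4, 0, 4, 0, 0, 0, 0, 4, 0, 0, 0, 4, 0, 0, 0, 0, 0, 0, 0],
  [0, 0, -4, 0, 0, 0, -4, 0, 0, 0, 4, 0, 0, 0, 0, 0, 0, 0, 0, 0, 0, -4, 0, 0],
  [0, 0, 0, 0, 0, 0, 0, 0, 0, 0, 0, 4, 0, 0, 0, 0, 0, 4, 0, 4, 0, 0, -4, 0],
  [0, -4, 0, 0, 4, 0, 0, 0, 0, -4, 0, 0, 0, -4, 0, 0, 0, 0, 0, 0, 0, 0, 0, 0],
  [0, 0, 0, 0, 0, 0, 0, 0, 4, 0, 0, 0, 0, 0, 0, 0, 0, 0, -4, 0, 4, 0, 0, 4],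
  [0, 4, 0, 0, -4, 0, 0, 0, 0, -4, 0, 0, 0, -4, 0, 0, 0, 0, 0, 0, 0, 0, 0, 0]]

/-- Data. -/
def T11 : List (List ℤ) := [[4, 0, 0, 0, -4, 0, 0, 0, 0, 0, 0, 0, 0, -4, 0, 0, 0, 0, 0, 0, 0, 0, 0, -4],
  [0, -4, 4, 0, 0, 0, 0, 0, 0, 0, 0, 0, 0, 0, 0, 0, 4, 0, 0, 0, 0, 0, 4, 0],
  [0, 4, -4, 0, 0, 0, 0, 0, 0, 0, 0, 0, 0, 0, 0, 0, 4, 0, 0, 0, 0, 0, 4, 0],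
  [0, 0, 0, 4, 0, -4, 0, 0, 0, 0, 0, 0, -4, 0, 0, 0, 0, 0, -4, 0, 0, 0, 0, 0],
  [-4, 0, 0, 0, 4, 0, 0, 0, 0, 0, 0, 0, 0, -4, 0, 0, 0, 0, 0, 0, 0, 0, 0, -4],
  [0, 0, 0, -4, 0, 4, 0, 0, 0, 0, 0, 0, -4, 0, 0, 0, 0, 0, -4, 0, 0, 0, 0, 0],
  [0, 0, 0, 0, 0, 0, 4, 0, 0, 0, 0, 0, 0, 0, 0, -4, 0, 0, 0, 0, -4, -4, 0, 0],
  [0, 0, 0, 0, 0, 0, 0, 4, 0, -4, -4, 0, 0, 0, 0, 0, 0, 0, 0, -4, 0, 0, 0, 0],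
  [0, 0, 0, 0, 0, 0, 0, 0, 4, 0, 0, -4, 0, 0, -4, 0, 0, -4, 0, 0, 0, 0, 0, 0],
  [0, 0, 0, 0, 0, 0, 0, -4, 0, 4, -4, 0, 0, 0, 0, 0, 0, 0, 0, -4, 0, 0, 0, 0],
  [0, 0, 0, 0, 0, 0, 0, -4, 0, -4, 4, 0, 0, 0, 0, 0, 0, 0, 0, -4, 0, 0, 0, 0],
  [0, 0, 0, 0, 0, 0, 0, 0, -4, 0, 0, 4, 0, 0, -4, 0, 0, -4, 0, 0, 0, 0, 0, 0],
  [0, 0, 0, -4, 0, -4, 0, 0, 0, 0, 0, 0, 4, 0, 0, 0, 0, 0, -4, 0, 0, 0, 0, 0],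
  [-4, 0, 0, 0, -4, 0, 0, 0, 0, 0, 0, 0, 0, 4, 0, 0, 0, 0, 0, 0, 0, 0, 0, -4],
  [0, 0, 0, 0, 0, 0, 0, 0, -4, 0, 0, -4, 0, 0, 4, 0, 0, -4, 0, 0, 0, 0, 0, 0],
  [0, 0, 0, 0, 0, 0, -4, 0, 0, 0, 0, 0, 0, 0, 0, 4, 0, 0, 0, 0, -4, -4, 0, 0],
  [0, 4, 4, 0, 0, 0, 0, 0, 0, 0, 0, 0, 0, 0, 0, 0, -4, 0, 0, 0, 0, 0, 4, 0],
  [0, 0, 0, 0, 0, 0, 0, 0, -4, 0, 0, -4, 0, 0, -4, 0, 0, 4, 0, 0, 0, 0, 0, 0],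
  [0, 0, 0, -4, 0, -4, 0, 0, 0, 0, 0, 0, -4, 0, 0, 0, 0, 0, 4, 0, 0, 0, 0, 0],
  [0, 0, 0, 0, 0, 0, 0, -4, 0, -4, -4, 0, 0, 0, 0, 0, 0, 0, 0, 4, 0, 0, 0, 0],
  [0, 0, 0, 0, 0, 0, -4, 0, 0, 0, 0, 0, 0, 0, 0, -4, 0, 0, 0, 0, 4, -4, 0, 0],
  [0, 0, 0, 0, 0, 0, -4, 0, 0, 0, 0, 0, 0, 0, 0, -4, 0, 0, 0, 0, -4, 4, 0, 0],
  [0, 4, 4, 0, 0, 0, 0, 0, 0, 0, 0, 0, 0, 0, 0, 0, 4, 0, 0, 0, 0, 0, -4, 0],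
  [-4, 0, 0, 0, -4, 0, 0, 0, 0, 0, 0, 0, 0, -4, 0, 0, 0, 0, 0, 0, 0, 0, 0, 4]]

/-- Data. -/
def T12 : List (List ℤ) := [[4, 2, -2, 0, 0, 0, 0, -2, 0, 2, -2, 0, 0, 0, 0, 0, -2, 0, 0, -2, 0, 0, -2, 4],
  [0, 2, 2, 0, 0, 0, 0, -2, 0, -2, -2, -4, 0, 0, 0, 0, 2, 4, 0, 2, 0, 0, -2, 0],
  [0, -2, -2, -4, 0, 0, 0, 2, 0, -2, -2, 0, 0, 0, 0, 0, 2, 0, -4, -2, 0, 0, -2, 0],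
  [0, 2, -2, 0, 0, 0, 4, -2, 0, -2, 2, 0, 0, 0, 0, 0, 2, 0, 0, -2, 0, -4, 2, 0],
  [-2, 0, 0, -2, 2, 2, -2, 0, 2, 0, 0, 2, 2, 2, -2, 2, 0, 2, 2, 0, -2, -2, 0, 2],
  [0, -2, -2, 4, 0, 0, 0, 2, 0, -2, -2, 0, 0, 0, 0, 0, 2, 0, 4, -2, 0, 0, -2, 0],
  [2, 0, 0, 2, 2, 2, 2, 0, 2, 0, 0, -2, 2, 2, -2, 2, 0, -2, -2, 0, -2, 2, 0, -2],
  [-2, 0, 0, 2, 2, -2, -2, 0, -2, 0, 0, -2, -2, 2, 2, 2, 0, -2, -2, 0, -2, -2, 0, 2],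
  [0, 2, 2, 0, 0, 0, 0, 2, -4, 2, 2, 0, 0, 0, -4, 0, 2, 0, 0, -2, 0, 0, -2, 0],
  [-2, 0, 0, 2, -2, 2, 2, 0, -2, 0, 0, 2, 2, -2, 2, 2, 0, 2, -2, 0, -2, 2, 0, 2],
  [2, 0, 0, 2, 2, 2, -2, 0, -2, 0, 0, 2, 2, 2, 2, -2, 0, 2, -2, 0, 2, -2, 0, -2],
  [2, 0, 0, 2, -2, -2, -2, 0, 2, 0, 0, 2, -2, -2, -2, 2, 0, 2, -2, 0, -2, -2, 0, -2],
  [2, 0, 0, -2, -2, 2, -2, 0, -2, 0, 0, -2, 2, -2, 2, 2, 0, -2, 2, 0, -2, -2, 0, -2],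
  [0, -2, 2, 0, 0, 0, 0, -2, 0, -2, 2, 0, 0, 0, 0, -4, -2, 0, 0, -2, -4, 0, -2, 0],
  [0, 2, -2, 0, 0, 0, -4, -2, 0, -2, 2, 0, 0, 0, 0, 0, 2, 0, 0, -2, 0, 4, 2, 0],
  [0, 2, 2, 0, 0, 4, 0, 2, 0, -2, -2, 0, -4, 0, 0, 0, -2, 0, 0, -2, 0, 0, 2, 0],
  [0, -2, 2, 0, 4, 0, 0, -2, 0, 2, -2, 0, 0, -4, 0, 0, 2, 0, 0, -2, 0, 0, 2, 0],
  [0, -2, -2, 0, 0, 0, 0, 2, 0, 2, 2, -4, 0, 0, 0, 0, -2, 4, 0, -2, 0, 0, 2, 0],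
  [0, 2, 2, 0, 0, -4, 0, 2, 0, -2, -2, 0, 4, 0, 0, 0, -2, 0, 0, -2, 0, 0, 2, 0],
  [0, -2, 2, 0, 0, 0, 0, -2, 0, -2, 2, 0, 0, 0, 0, 4, -2, 0, 0, -2, 4, 0, -2, 0],
  [0, -2, -2, 0, 0, 0, 0, -2, -4, -2, -2, 0, 0, 0, -4, 0, -2, 0, 0, 2, 0, 0, 2, 0],
  [0, 2, -2, 0, 4, 0, 0, 2, 0, -2, 2, 0, 0, -4, 0, 0, -2, 0, 0, 2, 0, 0, -2, 0],
  [-2, 0, 0, 2, -2, 2, -2, 0, 2, 0, 0, -2, 2, -2, -2, -2, 0, -2, -2, 0, 2, -2, 0, 2],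
  [4, -2, 2, 0, 0, 0, 0, 2, 0, -2, 2, 0, 0, 0, 0, 0, 2, 0, 0, 2, 0, 0, 2, 4]]

/-- Data. -/
def T13 : List (List ℤ) := [[0, 0, 0, 0, 8, 0, 0, 0, 0, 0, 0, 0, 0, 0, 0, 0, 0, 0, 0, 0, 0, 0, 0, 0],
  [0, 0, 0, 0, 0, 0, 0, 0, 0, 0, 0, 0, 0, 0, 0, 0, 0, 0, 0, 0, 0, 8, 0, 0],
  [8, 0, 0, 0, 0, 0, 0, 0, 0, 0, 0, 0, 0, 0, 0, 0, 0, 0, 0, 0, 0, 0, 0, 0],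
  [0, 0, 0, 0, 0, 0, 0, 0, 8, 0, 0, 0, 0, 0, 0, 0, 0, 0, 0, 0, 0, 0, 0, 0],
  [0, 0, -8, 0, 0, 0, 0, 0, 0, 0, 0, 0, 0, 0, 0, 0, 0, 0, 0, 0, 0, 0, 0, 0],
  [0, 0, 0, 0, 0, 0, 0, 0, 0, 0, 0, 0, 0, 0, 0, 0, 0, 0, -8, 0, 0, 0, 0, 0],
  [0, 0, 0, 0, 0, 0, 0, 0, 0, 0, 0, 0, 0, 0, 0, 0, 8, 0, 0, 0, 0, 0, 0, 0],
  [0, 0, 0, 0, 0, 0, 0, 0, 0, 0, 0, 0, 0, 0, 0, 0, 0, 0, 0, 0, 0, 0, 0, -8],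
  [0, 0, 0, 0, 0, 0, 0, 0, 0, 0, 0, 0, 0, 0, 0, 0, 0, 0, 0, 8, 0, 0, 0, 0],
  [0, 0, 0, 0, 0, 0, 0, 0, 0, 0, 0, 0, 0, 0, 0, 0, 0, 0, 0, 0, 0, 0, 8, 0],
  [0, 0, 0, 8, 0, 0, 0, 0, 0, 0, 0, 0, 0, 0, 0, 0, 0, 0, 0, 0, 0, 0, 0, 0],
  [0, 0, 0, 0, 0, 0, 0, 0, 0, 0, 0, 0, 0, 0, 8, 0, 0, 0, 0, 0, 0, 0, 0, 0],
  [0, 0, 0, 0, 0, 0, 0, 0, 0, 8, 0, 0, 0, 0, 0, 0, 0, 0, 0, 0, 0, 0, 0, 0],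
  [0, 0, 0, 0, 0, 0, 0, 0, 0, 0, 0, 0, 0, 0, 0, 0, 0, 8, 0, 0, 0, 0, 0, 0],
  [0, 0, 0, 0, 0, 0, 0, 0, 0, 0, 0, 0, 0, 0, 0, 0, 0, 0, 0, 0, 8, 0, 0, 0],
  [0, 0, 0, 0, 0, 0, 0, 0, 0, 0, 0, 0, 0, -8, 0, 0, 0, 0, 0, 0, 0, 0, 0, 0],
  [0, -8, 0, 0, 0, 0, 0, 0, 0, 0, 0, 0, 0, 0, 0, 0, 0, 0, 0, 0, 0, 0, 0, 0],
  [0, 0, 0, 0, 0, -8, 0, 0, 0, 0, 0, 0, 0, 0, 0, 0, 0, 0, 0, 0, 0, 0, 0, 0],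
  [0, 0, 0, 0, 0, 0, 8, 0, 0, 0, 0, 0, 0, 0, 0, 0, 0, 0, 0, 0, 0, 0, 0, 0],
  [0, 0, 0, 0, 0, 0, 0, 0, 0, 0, 0, 0, 8, 0, 0, 0, 0, 0, 0, 0, 0, 0, 0, 0],
  [0, 0, 0, 0, 0, 0, 0, 0, 0, 0, -8, 0, 0, 0, 0, 0, 0, 0, 0, 0, 0, 0, 0, 0],
  [0, 0, 0, 0, 0, 0, 0, -8, 0, 0, 0, 0, 0, 0, 0, 0, 0, 0, 0, 0, 0, 0, 0, 0],
  [0, 0, 0, 0, 0, 0, 0, 0, 0, 0, 0, 0, 0, 0, 0, 8, 0, 0, 0, 0, 0, 0, 0, 0],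
  [0, 0, 0, 0, 0, 0, 0, 0, 0, 0, 0, 8, 0, 0, 0, 0, 0, 0, 0, 0, 0, 0, 0, 0]]

/-- Data. -/
def T14 : List (List ℤ) := [[-4, 0, 0, 4, 0, 4, 0, 0, 0, 0, 0, 0, 0, 0, 0, 0, 0, 4, 0, 0, 0, 0, 0, 0],
  [0, 4, -4, 0, 0, 0, 0, 0, 0, 0, 0, 0, 0, 0, -4, 0, 0, 0, 0, 0, 0, 0, 0, -4],
  [0, -4, 4, 0, 0, 0, 0, 0, 0, 0, 0, 0, 0, 0, -4, 0, 0, 0, 0, 0, 0, 0, 0, -4],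
  [4, 0, 0, -4, 0, 4, 0, 0, 0, 0, 0, 0, 0, 0, 0, 0, 0, 4, 0, 0, 0, 0, 0, 0],
  [0, 0, 0, 0, 4, 0, 0, -4, 0, -4, 0, -4, 0, 0, 0, 0, 0, 0, 0, 0, 0, 0, 0, 0],
  [4, 0, 0, 4, 0, -4, 0, 0, 0, 0, 0, 0, 0, 0, 0, 0, 0, 4, 0, 0, 0, 0, 0, 0],
  [0, 0, 0, 0, 0, 0, 4, 0, 0, 0, -4, 0, -4, 0, 0, 0, 0, 0, 0, 0, 0, 0, -4, 0],
  [0, 0, 0, 0, -4, 0, 0, 4, 0, -4, 0, -4, 0, 0, 0, 0, 0, 0, 0, 0, 0, 0, 0, 0],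
  [0, 0, 0, 0, 0, 0, 0, 0, 4, 0, 0, 0, 0, -4, 0, -4, 0, 0, 0, 0, 0, -4, 0, 0],
  [0, 0, 0, 0, -4, 0, 0, -4, 0, 4, 0, -4, 0, 0, 0, 0, 0, 0, 0, 0, 0, 0, 0, 0],
  [0, 0, 0, 0, 0, 0, -4, 0, 0, 0, 4, 0, -4, 0, 0, 0, 0, 0, 0, 0, 0, 0, -4, 0],
  [0, 0, 0, 0, -4, 0, 0, -4, 0, -4, 0, 4, 0, 0, 0, 0, 0, 0, 0, 0, 0, 0, 0, 0],
  [0, 0, 0, 0, 0, 0, -4, 0, 0, 0, -4, 0, 4, 0, 0, 0, 0, 0, 0, 0, 0, 0, -4, 0],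
  [0, 0, 0, 0, 0, 0, 0, 0, -4, 0, 0, 0, 0, 4, 0, -4, 0, 0, 0, 0, 0, -4, 0, 0],
  [0, -4, -4, 0, 0, 0, 0, 0, 0, 0, 0, 0, 0, 0, 4, 0, 0, 0, 0, 0, 0, 0, 0, -4],
  [0, 0, 0, 0, 0, 0, 0, 0, -4, 0, 0, 0, 0, -4, 0, 4, 0, 0, 0, 0, 0, -4, 0, 0],
  [0, 0, 0, 0, 0, 0, 0, 0, 0, 0, 0, 0, 0, 0, 0, 0, 4, 0, -4, -4, -4, 0, 0, 0],
  [4, 0, 0, 4, 0, 4, 0, 0, 0, 0, 0, 0, 0, 0, 0, 0, 0, -4, 0, 0, 0, 0, 0, 0],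
  [0, 0, 0, 0, 0, 0, 0, 0, 0, 0, 0, 0, 0, 0, 0, 0, -4, 0, 4, -4, -4, 0, 0, 0],
  [0, 0, 0, 0, 0, 0, 0, 0, 0, 0, 0, 0, 0, 0, 0, 0, -4, 0, -4, 4, -4, 0, 0, 0],
  [0, 0, 0, 0, 0, 0, 0, 0, 0, 0, 0, 0, 0, 0, 0, 0, -4, 0, -4, -4, 4, 0, 0, 0],
  [0, 0, 0, 0, 0, 0, 0, 0, -4, 0, 0, 0, 0, -4, 0, -4, 0, 0, 0, 0, 0, 4, 0, 0],
  [0, 0, 0, 0, 0, 0, -4, 0, 0, 0, -4, 0, -4, 0, 0, 0, 0, 0, 0, 0, 0, 0, 4, 0],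
  [0, -4, -4, 0, 0, 0, 0, 0, 0, 0, 0, 0, 0, 0, -4, 0, 0, 0, 0, 0, 0, 0, 0, 4]]

/-- Data. -/
def T15 : List (List ℤ) := [[0, 0, 0, 0, 4, 0, 0, -4, 0, -4, 0, -4, 0, 0, 0, 0, 0, 0, 0, 0, 0, 0, 0, 0],
  [0, 0, 0, 0, 0, 0, 0, 0, -4, 0, 0, 0, 0, -4, 0, -4, 0, 0, 0, 0, 0, 4, 0, 0],
  [-4, 0, 0, 4, 0, 4, 0, 0, 0, 0, 0, 0, 0, 0, 0, 0, 0, 4, 0, 0, 0, 0, 0, 0],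
  [0, 0, 0, 0, 0, 0, 0, 0, 4, 0, 0, 0, 0, -4, 0, -4, 0, 0, 0, 0, 0, -4, 0, 0],
  [0, 4, -4, 0, 0, 0, 0, 0, 0, 0, 0, 0, 0, 0, 4, 0, 0, 0, 0, 0, 0, 0, 0, 4],
  [0, 0, 0, 0, 0, 0, 0, 0, 0, 0, 0, 0, 0, 0, 0, 0, 4, 0, -4, 4, 4, 0, 0, 0],
  [0, 0, 0, 0, 0, 0, 0, 0, 0, 0, 0, 0, 0, 0, 0, 0, 4, 0, -4, -4, -4, 0, 0, 0],
  [0, 4, 4, 0, 0, 0, 0, 0, 0, 0, 0, 0, 0, 0, 4, 0, 0, 0, 0, 0, 0, 0, 0, -4],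
  [0, 0, 0, 0, 0, 0, 0, 0, 0, 0, 0, 0, 0, 0, 0, 0, -4, 0, -4, 4, -4, 0, 0, 0],
  [0, 0, 0, 0, 0, 0, -4, 0, 0, 0, -4, 0, -4, 0, 0, 0, 0, 0, 0, 0, 0, 0, 4, 0],
  [4, 0, 0, -4, 0, 4, 0, 0, 0, 0, 0, 0, 0, 0, 0, 0, 0, 4, 0, 0, 0, 0, 0, 0],
  [0, -4, -4, 0, 0, 0, 0, 0, 0, 0, 0, 0, 0, 0, 4, 0, 0, 0, 0, 0, 0, 0, 0, -4],
  [0, 0, 0, 0, -4, 0, 0, -4, 0, 4, 0, -4, 0, 0, 0, 0, 0, 0, 0, 0, 0, 0, 0, 0],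
  [4, 0, 0, 4, 0, 4, 0, 0, 0, 0, 0, 0, 0, 0, 0, 0, 0, -4, 0, 0, 0, 0, 0, 0],
  [0, 0, 0, 0, 0, 0, 0, 0, 0, 0, 0, 0, 0, 0, 0, 0, -4, 0, -4, -4, 4, 0, 0, 0],
  [0, 0, 0, 0, 0, 0, 0, 0, 4, 0, 0, 0, 0, -4, 0, 4, 0, 0, 0, 0, 0, 4, 0, 0],
  [0, -4, 4, 0, 0, 0, 0, 0, 0, 0, 0, 0, 0, 0, 4, 0, 0, 0, 0, 0, 0, 0, 0, 4],
  [-4, 0, 0, -4, 0, 4, 0, 0, 0, 0, 0, 0, 0, 0, 0, 0, 0, -4, 0, 0, 0, 0, 0, 0],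
  [0, 0, 0, 0, 0, 0, 4, 0, 0, 0, -4, 0, -4, 0, 0, 0, 0, 0, 0, 0, 0, 0, -4, 0],
  [0, 0, 0, 0, 0, 0, -4, 0, 0, 0, -4, 0, 4, 0, 0, 0, 0, 0, 0, 0, 0, 0, -4, 0],
  [0, 0, 0, 0, 0, 0, 4, 0, 0, 0, -4, 0, 4, 0, 0, 0, 0, 0, 0, 0, 0, 0, 4, 0],
  [0, 0, 0, 0, 4, 0, 0, -4, 0, 4, 0, 4, 0, 0, 0, 0, 0, 0, 0, 0, 0, 0, 0, 0],
  [0, 0, 0, 0, 0, 0, 0, 0, -4, 0, 0, 0, 0, -4, 0, 4, 0, 0, 0, 0, 0, -4, 0, 0],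
  [0, 0, 0, 0, -4, 0, 0, -4, 0, -4, 0, 4, 0, 0, 0, 0, 0, 0, 0, 0, 0, 0, 0, 0]]

/-- Data. -/
def T16 : List (List ℤ) := [[4, 0, 0, 0, 0, 0, 0, -4, 0, -4, 0, 0, 0, 0, 0, 0, 0, 0, 0, 0, 0, 0, 0, -4],
  [0, 4, 0, -4, 0, 0, 0, 0, 0, 0, 0, 0, 0, 0, 0, 0, -4, 0, -4, 0, 0, 0, 0, 0],
  [0, 0, 4, 0, 0, -4, 0, 0, 0, 0, 0, 0, -4, 0, 0, 0, 0, 0, 0, 0, 0, 0, -4, 0],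
  [0, -4, 0, 4, 0, 0, 0, 0, 0, 0, 0, 0, 0, 0, 0, 0, -4, 0, -4, 0, 0, 0, 0, 0],
  [0, 0, 0, 0, -4, 0, 0, 0, 0, 0, 4, 0, 0, 4, 0, 0, 0, 0, 0, 4, 0, 0, 0, 0],
  [0, 0, -4, 0, 0, 4, 0, 0, 0, 0, 0, 0, -4, 0, 0, 0, 0, 0, 0, 0, 0, 0, -4, 0],
  [0, 0, 0, 0, 0, 0, 4, 0, -4, 0, 0, -4, 0, 0, 0, 0, 0, 0, 0, 0, -4, 0, 0, 0],
  [-4, 0, 0, 0, 0, 0, 0, 4, 0, -4, 0, 0, 0, 0, 0, 0, 0, 0, 0, 0, 0, 0, 0, -4],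
  [0, 0, 0, 0, 0, 0, -4, 0, 4, 0, 0, -4, 0, 0, 0, 0, 0, 0, 0, 0, -4, 0, 0, 0],
  [-4, 0, 0, 0, 0, 0, 0, -4, 0, 4, 0, 0, 0, 0, 0, 0, 0, 0, 0, 0, 0, 0, 0, -4],
  [0, 0, 0, 0, 4, 0, 0, 0, 0, 0, -4, 0, 0, 4, 0, 0, 0, 0, 0, 4, 0, 0, 0, 0],
  [0, 0, 0, 0, 0, 0, -4, 0, -4, 0, 0, 4, 0, 0, 0, 0, 0, 0, 0, 0, -4, 0, 0, 0],
  [0, 0, -4, 0, 0, -4, 0, 0, 0, 0, 0, 0, 4, 0, 0, 0, 0, 0, 0, 0, 0, 0, -4, 0],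
  [0, 0, 0, 0, 4, 0, 0, 0, 0, 0, 4, 0, 0, -4, 0, 0, 0, 0, 0, 4, 0, 0, 0, 0],
  [0, 0, 0, 0, 0, 0, 0, 0, 0, 0, 0, 0, 0, 0, 4, -4, 0, -4, 0, 0, 0, -4, 0, 0],
  [0, 0, 0, 0, 0, 0, 0, 0, 0, 0, 0, 0, 0, 0, -4, 4, 0, -4, 0, 0, 0, -4, 0, 0],
  [0, -4, 0, -4, 0, 0, 0, 0, 0, 0, 0, 0, 0, 0, 0, 0, 4, 0, -4, 0, 0, 0, 0, 0],
  [0, 0, 0, 0, 0, 0, 0, 0, 0, 0, 0, 0, 0, 0, -4, -4, 0, 4, 0, 0, 0, -4, 0, 0],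
  [0, -4, 0, -4, 0, 0, 0, 0, 0, 0, 0, 0, 0, 0, 0, 0, -4, 0, 4, 0, 0, 0, 0, 0],
  [0, 0, 0, 0, 4, 0, 0, 0, 0, 0, 4, 0, 0, 4, 0, 0, 0, 0, 0, -4, 0, 0, 0, 0],
  [0, 0, 0, 0, 0, 0, -4, 0, -4, 0, 0, -4, 0, 0, 0, 0, 0, 0, 0, 0, 4, 0, 0, 0],
  [0, 0, 0, 0, 0, 0, 0, 0, 0, 0, 0, 0, 0, 0, -4, -4, 0, -4, 0, 0, 0, 4, 0, 0],
  [0, 0, -4, 0, 0, -4, 0, 0, 0, 0, 0, 0, -4, 0, 0, 0, 0, 0, 0, 0, 0, 0, 4, 0],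
  [-4, 0, 0, 0, 0, 0, 0, -4, 0, -4, 0, 0, 0, 0, 0, 0, 0, 0, 0, 0, 0, 0, 0, 4]]

/-- Data. -/
def T17 : List (List ℤ) := [[4, 0, 0, 0, -2, 0, 2, 0, 2, 0, 2, -2, 0, 2, 0, 0, 0, 0, 0, 2, 2, 0, 0, 4],
  [0, 0, 0, 0, -2, 0, 2, 0, -2, 0, -2, 2, 0, 2, 0, -4, 0, 0, 0, -2, 2, 4, 0, 0],
  [-2, -2, -2, 2, 0, 2, 0, 2, 0, 2, 0, 0, -2, 0, -2, -2, -2, 2, -2, 0, 0, -2, -2, 2],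
  [0, 0, 0, 0, -2, 0, -2, 0, 2, 0, -2, -2, 0, 2, 4, 0, 0, 4, 0, -2, -2, 0, 0, 0],
  [-2, 2, -2, -2, 0, 2, 0, -2, 0, -2, 0, 0, 2, 0, 2, -2, -2, -2, -2, 0, 0, -2, 2, 2],
  [0, 0, 0, 0, 2, 0, -2, 0, -2, 0, 2, -2, 0, 2, 0, 0, 4, 0, -4, -2, 2, 0, 0, 0],
  [0, 0, 0, 0, -2, 0, 2, 0, 2, 0, -2, 2, 0, -2, 0, 0, 4, 0, -4, 2, -2, 0, 0, 0],
  [2, 2, 2, -2, 0, -2, 0, 2, 0, 2, 0, 0, -2, 0, 2, -2, -2, -2, -2, 0, 0, -2, -2, -2],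
  [0, 4, 0, 4, 2, 0, 2, 0, 2, 0, 2, 2, 0, 2, 0, 0, 0, 0, 0, -2, -2, 0, 0, 0],
  [0, 0, 0, 0, -2, 0, -2, 0, 2, 0, 2, 2, -4, -2, 0, 0, 0, 0, 0, -2, 2, 0, 4, 0],
  [2, 2, -2, -2, 0, 2, 0, -2, 0, -2, 0, 0, -2, 0, -2, -2, 2, 2, 2, 0, 0, -2, -2, -2],
  [2, -2, -2, 2, 0, 2, 0, 2, 0, 2, 0, 0, 2, 0, 2, -2, 2, -2, 2, 0, 0, -2, 2, -2],
  [0, 0, 0, 0, 2, 0, 2, -4, 2, 4, -2, -2, 0, -2, 0, 0, 0, 0, 0, -2, 2, 0, 0, 0],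
  [2, -2, -2, 2, 0, 2, 0, -2, 0, -2, 0, 0, -2, 0, 2, 2, -2, -2, -2, 0, 0, 2, -2, -2],
  [0, 4, 0, 4, -2, 0, -2, 0, -2, 0, -2, -2, 0, -2, 0, 0, 0, 0, 0, 2, 2, 0, 0, 0],
  [0, 0, 0, 0, -2, 0, -2, 0, 2, 0, -2, -2, 0, 2, -4, 0, 0, -4, 0, -2, -2, 0, 0, 0],
  [-2, -2, 2, 2, 0, -2, 0, -2, 0, -2, 0, 0, -2, 0, 2, -2, 2, -2, 2, 0, 0, -2, -2, 2],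
  [-2, 2, -2, -2, 0, 2, 0, 2, 0, 2, 0, 0, -2, 0, 2, 2, 2, -2, 2, 0, 0, 2, -2, 2],
  [0, 0, 4, 0, -2, 4, 2, 0, -2, 0, 2, -2, 0, -2, 0, 0, 0, 0, 0, -2, -2, 0, 0, 0],
  [0, 0, 0, 0, -2, 0, -2, 0, 2, 0, 2, 2, 4, -2, 0, 0, 0, 0, 0, -2, 2, 0, -4, 0],
  [0, 0, -4, 0, -2, -4, 2, 0, -2, 0, 2, -2, 0, -2, 0, 0, 0, 0, 0, -2, -2, 0, 0, 0],
  [0, 0, 0, 0, -2, 0, -2, -4, -2, 4, 2, 2, 0, 2, 0, 0, 0, 0, 0, 2, -2, 0, 0, 0],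
  [0, 0, 0, 0, -2, 0, 2, 0, -2, 0, -2, 2, 0, 2, 0, 4, 0, 0, 0, -2, 2, -4, 0, 0],
  [4, 0, 0, 0, 2, 0, -2, 0, -2, 0, -2, 2, 0, -2, 0, 0, 0, 0, 0, -2, -2, 0, 0, 4]]

/-- Data. -/
def T18 : List (List ℤ) := [[0, 0, -8, 0, 0, 0, 0, 0, 0, 0, 0, 0, 0, 0, 0, 0, 0, 0, 0, 0, 0, 0, 0, 0],
  [0, 0, 0, 0, -8, 0, 0, 0, 0, 0, 0, 0, 0, 0, 0, 0, 0, 0, 0, 0, 0, 0, 0, 0],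
  [0, -8, 0, 0, 0, 0, 0, 0, 0, 0, 0, 0, 0, 0, 0, 0, 0, 0, 0, 0, 0, 0, 0, 0],
  [0, 0, 0, 0, 0, -8, 0, 0, 0, 0, 0, 0, 0, 0, 0, 0, 0, 0, 0, 0, 0, 0, 0, 0],
  [0, 0, 0, 0, 0, 0, 0, 0, 0, 0, 0, 0, 0, 0, 0, 0, 0, 0, 0, 0, 0, 0, -8, 0],
  [0, 0, 0, 0, 0, 0, 0, 0, 0, 0, 0, 0, 0, 0, 0, 0, 0, 0, 0, 0, 0, -8, 0, 0],
  [0, 0, 0, 0, 0, 0, 0, 0, 0, 8, 0, 0, 0, 0, 0, 0, 0, 0, 0, 0, 0, 0, 0, 0],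
  [0, 0, 0, 0, 0, 0, 0, 8, 0, 0, 0, 0, 0, 0, 0, 0, 0, 0, 0, 0, 0, 0, 0, 0],
  [0, 0, 0, 0, 0, 0, 0, 0, 0, 0, 0, 0, 0, 0, 0, -8, 0, 0, 0, 0, 0, 0, 0, 0],
  [0, 0, 0, 0, 0, 0, 0, 0, 0, 0, 0, 0, 0, 0, 0, 0, 0, 0, 0, -8, 0, 0, 0, 0],
  [0, 0, 0, 0, 0, 0, 0, 0, 0, 0, 0, 0, 0, 0, 0, 0, 0, 8, 0, 0, 0, 0, 0, 0],
  [0, 0, 0, 0, 0, 0, 0, 0, 0, 0, 0, 0, 0, 0, 0, 0, 0, 0, -8, 0, 0, 0, 0, 0],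
  [0, 0, 0, 0, 0, 0, -8, 0, 0, 0, 0, 0, 0, 0, 0, 0, 0, 0, 0, 0, 0, 0, 0, 0],
  [0, 0, 0, 0, 0, 0, 0, 0, 0, 0, 0, 0, 0, -8, 0, 0, 0, 0, 0, 0, 0, 0, 0, 0],
  [0, 0, 0, 0, 0, 0, 0, 0, 0, 0, 0, 0, 8, 0, 0, 0, 0, 0, 0, 0, 0, 0, 0, 0],
  [0, 0, 0, 0, 0, 0, 0, 0, 0, 0, 8, 0, 0, 0, 0, 0, 0, 0, 0, 0, 0, 0, 0, 0],
  [0, 0, 0, 0, 0, 0, 0, 0, 0, 0, 0, 0, 0, 0, 0, 0, 8, 0, 0, 0, 0, 0, 0, 0],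
  [0, 0, 0, 0, 0, 0, 0, 0, 0, 0, 0, 0, 0, 0, 0, 0, 0, 0, 0, 0, 8, 0, 0, 0],
  [0, 0, 0, -8, 0, 0, 0, 0, 0, 0, 0, 0, 0, 0, 0, 0, 0, 0, 0, 0, 0, 0, 0, 0],
  [0, 0, 0, 0, 0, 0, 0, 0, 0, 0, 0, 0, 0, 0, -8, 0, 0, 0, 0, 0, 0, 0, 0, 0],
  [0, 0, 0, 0, 0, 0, 0, 0, -8, 0, 0, 0, 0, 0, 0, 0, 0, 0, 0, 0, 0, 0, 0, 0],
  [0, 0, 0, 0, 0, 0, 0, 0, 0, 0, 0, -8, 0, 0, 0, 0, 0, 0, 0, 0, 0, 0, 0, 0],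
  [8, 0, 0, 0, 0, 0, 0, 0, 0, 0, 0, 0, 0, 0, 0, 0, 0, 0, 0, 0, 0, 0, 0, 0],
  [0, 0, 0, 0, 0, 0, 0, 0, 0, 0, 0, 0, 0, 0, 0, 0, 0, 0, 0, 0, 0, 0, 0, -8]]

/-- Data. -/
def T19 : List (List ℤ) := [[-4, 0, 0, 0, 0, 0, 0, 0, 0, 0, 4, 0, 4, 0, 0, 0, 0, 4, 0, 0, 0, 0, 0, 0],
  [0, 4, 0, 0, 0, 0, 0, 0, -4, 0, 0, 0, 0, 0, -4, -4, 0, 0, 0, 0, 0, 0, 0, 0],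
  [0, 0, 4, 0, 0, 0, 0, 0, 0, 0, 0, 0, 0, -4, 0, 0, 0, 0, 0, 0, 0, -4, 0, -4],
  [0, 0, 0, 4, 0, -4, -4, 0, 0, 0, 0, 0, 0, 0, 0, 0, 0, 0, 0, 0, 0, 0, -4, 0],
  [0, 0, 0, 0, 4, 0, 0, 0, 0, 0, 0, -4, 0, 0, 0, 0, 0, 0, -4, -4, 0, 0, 0, 0],
  [0, 0, 0, -4, 0, 4, -4, 0, 0, 0, 0, 0, 0, 0, 0, 0, 0, 0, 0, 0, 0, 0, -4, 0],
  [0, 0, 0, -4, 0, -4, 4, 0, 0, 0, 0, 0, 0, 0, 0, 0, 0, 0, 0, 0, 0, 0, -4, 0],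
  [0, 0, 0, 0, 0, 0, 0, 4, 0, -4, 0, 0, 0, 0, 0, 0, -4, 0, 0, 0, -4, 0, 0, 0],
  [0, -4, 0, 0, 0, 0, 0, 0, 4, 0, 0, 0, 0, 0, -4, -4, 0, 0, 0, 0, 0, 0, 0, 0],
  [0, 0, 0, 0, 0, 0, 0, -4, 0, 4, 0, 0, 0, 0, 0, 0, -4, 0, 0, 0, -4, 0, 0, 0],
  [4, 0, 0, 0, 0, 0, 0, 0, 0, 0, -4, 0, 4, 0, 0, 0, 0, 4, 0, 0, 0, 0, 0, 0],
  [0, 0, 0, 0, -4, 0, 0, 0, 0, 0, 0, 4, 0, 0, 0, 0, 0, 0, -4, -4, 0, 0, 0, 0],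
  [4, 0, 0, 0, 0, 0, 0, 0, 0, 0, 4, 0, -4, 0, 0, 0, 0, 4, 0, 0, 0, 0, 0, 0],
  [0, 0, -4, 0, 0, 0, 0, 0, 0, 0, 0, 0, 0, 4, 0, 0, 0, 0, 0, 0, 0, -4, 0, -4],
  [0, -4, 0, 0, 0, 0, 0, 0, -4, 0, 0, 0, 0, 0, 4, -4, 0, 0, 0, 0, 0, 0, 0, 0],
  [0, -4, 0, 0, 0, 0, 0, 0, -4, 0, 0, 0, 0, 0, -4, 4, 0, 0, 0, 0, 0, 0, 0, 0],
  [0, 0, 0, 0, 0, 0, 0, -4, 0, -4, 0, 0, 0, 0, 0, 0, 4, 0, 0, 0, -4, 0, 0, 0],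
  [4, 0, 0, 0, 0, 0, 0, 0, 0, 0, 4, 0, 4, 0, 0, 0, 0, -4, 0, 0, 0, 0, 0, 0],
  [0, 0, 0, 0, -4, 0, 0, 0, 0, 0, 0, -4, 0, 0, 0, 0, 0, 0, 4, -4, 0, 0, 0, 0],
  [0, 0, 0, 0, -4, 0, 0, 0, 0, 0, 0, -4, 0, 0, 0, 0, 0, 0, -4, 4, 0, 0, 0, 0],
  [0, 0, 0, 0, 0, 0, 0, -4, 0, -4, 0, 0, 0, 0, 0, 0, -4, 0, 0, 0, 4, 0, 0, 0],
  [0, 0, -4, 0, 0, 0, 0, 0, 0, 0, 0, 0, 0, -4, 0, 0, 0, 0, 0, 0, 0, 4, 0, -4],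
  [0, 0, 0, -4, 0, -4, -4, 0, 0, 0, 0, 0, 0, 0, 0, 0, 0, 0, 0, 0, 0, 0, 4, 0],
  [0, 0, -4, 0, 0, 0, 0, 0, 0, 0, 0, 0, 0, -4, 0, 0, 0, 0, 0, 0, 0, -4, 0, 4]]

/-- Data. -/
def T20 : List (List ℤ) := [[0, 0, -4, 0, 0, 0, 0, 0, 0, 0, 0, 0, 0, 4, 0, 0, 0, 0, 0, 0, 0, 4, 0, 4],
  [0, 0, 0, 0, -4, 0, 0, 0, 0, 0, 0, 4, 0, 0, 0, 0, 0, 0, 4, 4, 0, 0, 0, 0],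
  [0, -4, 0, 0, 0, 0, 0, 0, 4, 0, 0, 0, 0, 0, 4, 4, 0, 0, 0, 0, 0, 0, 0, 0],
  [0, 0, 0, 4, 0, -4, 4, 0, 0, 0, 0, 0, 0, 0, 0, 0, 0, 0, 0, 0, 0, 0, 4, 0],
  [0, 0, 0, 4, 0, 4, 4, 0, 0, 0, 0, 0, 0, 0, 0, 0, 0, 0, 0, 0, 0, 0, -4, 0],
  [0, 0, 4, 0, 0, 0, 0, 0, 0, 0, 0, 0, 0, 4, 0, 0, 0, 0, 0, 0, 0, -4, 0, 4],
  [0, 0, 0, 0, 0, 0, 0, -4, 0, 4, 0, 0, 0, 0, 0, 0, -4, 0, 0, 0, -4, 0, 0, 0],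
  [0, 0, 0, 0, 0, 0, 0, 4, 0, -4, 0, 0, 0, 0, 0, 0, -4, 0, 0, 0, -4, 0, 0, 0],
  [0, 4, 0, 0, 0, 0, 0, 0, 4, 0, 0, 0, 0, 0, 4, -4, 0, 0, 0, 0, 0, 0, 0, 0],
  [0, 0, 0, 0, 4, 0, 0, 0, 0, 0, 0, 4, 0, 0, 0, 0, 0, 0, 4, -4, 0, 0, 0, 0],
  [4, 0, 0, 0, 0, 0, 0, 0, 0, 0, 4, 0, 4, 0, 0, 0, 0, -4, 0, 0, 0, 0, 0, 0],
  [0, 0, 0, 0, 4, 0, 0, 0, 0, 0, 0, 4, 0, 0, 0, 0, 0, 0, -4, 4, 0, 0, 0, 0],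
  [0, 0, 0, 4, 0, 4, -4, 0, 0, 0, 0, 0, 0, 0, 0, 0, 0, 0, 0, 0, 0, 0, 4, 0],
  [0, 0, 4, 0, 0, 0, 0, 0, 0, 0, 0, 0, 0, -4, 0, 0, 0, 0, 0, 0, 0, 4, 0, 4],
  [4, 0, 0, 0, 0, 0, 0, 0, 0, 0, 4, 0, -4, 0, 0, 0, 0, 4, 0, 0, 0, 0, 0, 0],
  [4, 0, 0, 0, 0, 0, 0, 0, 0, 0, -4, 0, 4, 0, 0, 0, 0, 4, 0, 0, 0, 0, 0, 0],
  [0, 0, 0, 0, 0, 0, 0, -4, 0, -4, 0, 0, 0, 0, 0, 0, 4, 0, 0, 0, -4, 0, 0, 0],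
  [0, 0, 0, 0, 0, 0, 0, -4, 0, -4, 0, 0, 0, 0, 0, 0, -4, 0, 0, 0, 4, 0, 0, 0],
  [0, 0, 0, -4, 0, 4, 4, 0, 0, 0, 0, 0, 0, 0, 0, 0, 0, 0, 0, 0, 0, 0, 4, 0],
  [0, 4, 0, 0, 0, 0, 0, 0, 4, 0, 0, 0, 0, 0, -4, 4, 0, 0, 0, 0, 0, 0, 0, 0],
  [0, 4, 0, 0, 0, 0, 0, 0, -4, 0, 0, 0, 0, 0, 4, 4, 0, 0, 0, 0, 0, 0, 0, 0],
  [0, 0, 0, 0, 4, 0, 0, 0, 0, 0, 0, -4, 0, 0, 0, 0, 0, 0, 4, 4, 0, 0, 0, 0],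
  [-4, 0, 0, 0, 0, 0, 0, 0, 0, 0, 4, 0, 4, 0, 0, 0, 0, 4, 0, 0, 0, 0, 0, 0],
  [0, 0, 4, 0, 0, 0, 0, 0, 0, 0, 0, 0, 0, 4, 0, 0, 0, 0, 0, 0, 0, 4, 0, -4]]

/-- Data. -/
def T21 : List (List ℤ) := [[4, -4, 0, -4, 0, 0, 0, 0, 0, 0, 0, 0, 0, 0, 0, 0, 0, 0, -4, 0, 0, 0, 0, 0],
  [-4, 4, 0, -4, 0, 0, 0, 0, 0, 0, 0, 0, 0, 0, 0, 0, 0, 0, -4, 0, 0, 0, 0, 0],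
  [0, 0, -4, 0, 0, 0, 0, 0, 0, 0, 0, 0, 0, 4, 0, 0, 0, 0, 0, 0, 4, 4, 0, 0],
  [-4, -4, 0, 4, 0, 0, 0, 0, 0, 0, 0, 0, 0, 0, 0, 0, 0, 0, -4, 0, 0, 0, 0, 0],
  [0, 0, 0, 0, 4, 0, 0, 0, -4, 0, 0, 0, 0, 0, 0, 0, 0, -4, 0, 0, 0, 0, -4, 0],
  [0, 0, 0, 0, 0, 4, 0, 0, 0, 0, -4, -4, 0, 0, 0, -4, 0, 0, 0, 0, 0, 0, 0, 0],
  [0, 0, 0, 0, 0, 0, 4, 0, 0, 0, 0, 0, -4, 0, -4, 0, 0, 0, 0, -4, 0, 0, 0, 0],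
  [0, 0, 0, 0, 0, 0, 0, 4, 0, -4, 0, 0, 0, 0, 0, 0, -4, 0, 0, 0, 0, 0, 0, -4],
  [0, 0, 0, 0, -4, 0, 0, 0, 4, 0, 0, 0, 0, 0, 0, 0, 0, -4, 0, 0, 0, 0, -4, 0],
  [0, 0, 0, 0, 0, 0, 0, -4, 0, 4, 0, 0, 0, 0, 0, 0, -4, 0, 0, 0, 0, 0, 0, -4],
  [0, 0, 0, 0, 0, -4, 0, 0, 0, 0, 4, -4, 0, 0, 0, -4, 0, 0, 0, 0, 0, 0, 0, 0],
  [0, 0, 0, 0, 0, -4, 0, 0, 0, 0, -4, 4, 0, 0, 0, -4, 0, 0, 0, 0, 0, 0, 0, 0],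
  [0, 0, 0, 0, 0, 0, -4, 0, 0, 0, 0, 0, 4, 0, -4, 0, 0, 0, 0, -4, 0, 0, 0, 0],
  [0, 0, 4, 0, 0, 0, 0, 0, 0, 0, 0, 0, 0, -4, 0, 0, 0, 0, 0, 0, 4, 4, 0, 0],
  [0, 0, 0, 0, 0, 0, -4, 0, 0, 0, 0, 0, -4, 0, 4, 0, 0, 0, 0, -4, 0, 0, 0, 0],
  [0, 0, 0, 0, 0, -4, 0, 0, 0, 0, -4, -4, 0, 0, 0, 4, 0, 0, 0, 0, 0, 0, 0, 0],
  [0, 0, 0, 0, 0, 0, 0, -4, 0, -4, 0, 0, 0, 0, 0, 0, 4, 0, 0, 0, 0, 0, 0, -4],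
  [0, 0, 0, 0, -4, 0, 0, 0, -4, 0, 0, 0, 0, 0, 0, 0, 0, 4, 0, 0, 0, 0, -4, 0],
  [-4, -4, 0, -4, 0, 0, 0, 0, 0, 0, 0, 0, 0, 0, 0, 0, 0, 0, 4, 0, 0, 0, 0, 0],
  [0, 0, 0, 0, 0, 0, -4, 0, 0, 0, 0, 0, -4, 0, -4, 0, 0, 0, 0, 4, 0, 0, 0, 0],
  [0, 0, 4, 0, 0, 0, 0, 0, 0, 0, 0, 0, 0, 4, 0, 0, 0, 0, 0, 0, -4, 4, 0, 0],
  [0, 0, 4, 0, 0, 0, 0, 0, 0, 0, 0, 0, 0, 4, 0, 0, 0, 0, 0, 0, 4, -4, 0, 0],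
  [0, 0, 0, 0, -4, 0, 0, 0, -4, 0, 0, 0, 0, 0, 0, 0, 0, -4, 0, 0, 0, 0, 4, 0],
  [0, 0, 0, 0, 0, 0, 0, -4, 0, -4, 0, 0, 0, 0, 0, 0, -4, 0, 0, 0, 0, 0, 0, 4]]

/-- Data. -/
def T22 : List (List ℤ) := [[0, 0, 6, 0, 0, 0, 0, -2, 0, -2, 0, 0, 0, -2, 0, 0, -2, 0, 0, 0, 2, -2, 0, 2],
  [-2, -2, 0, -2, -2, -2, -2, 0, 2, 0, -2, 2, -2, 0, -2, -2, 0, 2, 2, 2, 0, 0, 2, 0],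
  [2, -2, 0, 2, -2, -2, -2, 0, 2, 0, -2, -2, -2, 0, 2, 2, 0, -2, 2, -2, 0, 0, -2, 0],
  [-2, -2, 0, 2, -2, -2, 2, 0, -2, 0, 2, 2, -2, 0, -2, 2, 0, -2, -2, -2, 0, 0, 2, 0],
  [-2, -2, 0, 2, 2, 2, 2, 0, 2, 0, -2, -2, -2, 0, -2, -2, 0, 2, -2, -2, 0, 0, -2, 0],
  [0, 0, -2, 0, 0, 0, 0, -2, 0, -2, 0, 0, 0, -2, 0, 0, -2, 0, 0, 0, 2, 6, 0, 2],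
  [0, 0, -2, 0, 0, 0, 0, -2, 0, 6, 0, 0, 0, -2, 0, 0, -2, 0, 0, 0, 2, -2, 0, 2],
  [0, 0, -2, 0, 0, 0, 0, 6, 0, -2, 0, 0, 0, -2, 0, 0, -2, 0, 0, 0, 2, -2, 0, 2],
  [-2, 2, 0, -2, -2, 2, -2, 0, 2, 0, 2, 2, -2, 0, 2, -2, 0, -2, -2, -2, 0, 0, -2, 0],
  [-2, -2, 0, -2, 2, -2, 2, 0, -2, 0, -2, 2, 2, 0, 2, -2, 0, -2, 2, -2, 0, 0, -2, 0],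
  [2, -2, 0, -2, 2, -2, -2, 0, 2, 0, 2, -2, 2, 0, -2, -2, 0, -2, -2, -2, 0, 0, 2, 0],
  [2, 2, 0, 2, 2, -2, -2, 0, -2, 0, -2, 2, -2, 0, -2, -2, 0, -2, -2, 2, 0, 0, -2, 0],
  [-2, -2, 0, 2, -2, 2, -2, 0, -2, 0, -2, -2, 2, 0, 2, -2, 0, -2, -2, 2, 0, 0, 2, 0],
  [0, 0, -2, 0, 0, 0, 0, -2, 0, -2, 0, 0, 0, 6, 0, 0, -2, 0, 0, 0, 2, -2, 0, 2],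
  [2, -2, 0, -2, -2, -2, 2, 0, -2, 0, 2, -2, -2, 0, 2, -2, 0, 2, -2, 2, 0, 0, -2, 0],
  [2, -2, 0, -2, -2, 2, -2, 0, -2, 0, -2, 2, 2, 0, -2, 2, 0, 2, -2, -2, 0, 0, -2, 0],
  [0, 0, -2, 0, 0, 0, 0, -2, 0, -2, 0, 0, 0, -2, 0, 0, 6, 0, 0, 0, 2, -2, 0, 2],
  [0, 0, 2, 0, 0, 0, 0, 2, 0, 2, 0, 0, 0, 2, 0, 0, 2, 0, 0, 0, -2, 2, 0, 6],
  [2, 2, 0, -2, -2, 2, 2, 0, -2, 0, -2, -2, -2, 0, -2, -2, 0, -2, 2, -2, 0, 0, 2, 0],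
  [-2, 2, 0, -2, -2, -2, 2, 0, 2, 0, -2, -2, 2, 0, -2, 2, 0, -2, -2, 2, 0, 0, -2, 0],
  [-2, 2, 0, -2, 2, -2, -2, 0, -2, 0, -2, -2, -2, 0, 2, 2, 0, 2, -2, -2, 0, 0, 2, 0],
  [-2, -2, 0, -2, 2, 2, -2, 0, -2, 0, 2, -2, -2, 0, -2, 2, 0, -2, 2, 2, 0, 0, -2, 0],
  [-2, 2, 0, 2, -2, -2, -2, 0, -2, 0, 2, -2, 2, 0, -2, -2, 0, 2, 2, -2, 0, 0, -2, 0],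
  [0, 0, 2, 0, 0, 0, 0, 2, 0, 2, 0, 0, 0, 2, 0, 0, 2, 0, 0, 0, 6, 2, 0, -2]]

/-- Data. -/
def T23 : List (List ℤ) := [[-4, 0, 4, 0, 0, 0, 0, 0, 0, 0, 0, 0, 0, 0, 0, 0, 0, 0, 0, 0, 4, 0, 0, 4],
  [0, 4, 0, 0, 0, 0, 0, 0, 0, -4, -4, 0, 0, 0, 0, -4, 0, 0, 0, 0, 0, 0, 0, 0],
  [4, 0, -4, 0, 0, 0, 0, 0, 0, 0, 0, 0, 0, 0, 0, 0, 0, 0, 0, 0, 4, 0, 0, 4],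
  [0, 0, 0, 4, 0, 0, -4, 0, 0, 0, 0, 0, -4, 0, 0, 0, -4, 0, 0, 0, 0, 0, 0, 0],
  [0, 0, 0, 0, 4, 0, 0, -4, 0, 0, 0, 0, 0, 0, 0, 0, 0, -4, -4, 0, 0, 0, 0, 0],
  [0, 0, 0, 0, 0, 4, 0, 0, -4, 0, 0, 0, 0, -4, 0, 0, 0, 0, 0, -4, 0, 0, 0, 0],
  [0, 0, 0, -4, 0, 0, 4, 0, 0, 0, 0, 0, -4, 0, 0, 0, -4, 0, 0, 0, 0, 0, 0, 0],
  [0, 0, 0, 0, -4, 0, 0, 4, 0, 0, 0, 0, 0, 0, 0, 0, 0, -4, -4, 0, 0, 0, 0, 0],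
  [0, 0, 0, 0, 0, -4, 0, 0, 4, 0, 0, 0, 0, -4, 0, 0, 0, 0, 0, -4, 0, 0, 0, 0],
  [0, -4, 0, 0, 0, 0, 0, 0, 0, 4, -4, 0, 0, 0, 0, -4, 0, 0, 0, 0, 0, 0, 0, 0],
  [0, -4, 0, 0, 0, 0, 0, 0, 0, -4, 4, 0, 0, 0, 0, -4, 0, 0, 0, 0, 0, 0, 0, 0],
  [0, 0, 0, 0, 0, 0, 0, 0, 0, 0, 0, 4, 0, 0, -4, 0, 0, 0, 0, 0, 0, -4, -4, 0],
  [0, 0, 0, -4, 0, 0, -4, 0, 0, 0, 0, 0, 4, 0, 0, 0, -4, 0, 0, 0, 0, 0, 0, 0],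
  [0, 0, 0, 0, 0, -4, 0, 0, -4, 0, 0, 0, 0, 4, 0, 0, 0, 0, 0, -4, 0, 0, 0, 0],
  [0, 0, 0, 0, 0, 0, 0, 0, 0, 0, 0, -4, 0, 0, 4, 0, 0, 0, 0, 0, 0, -4, -4, 0],
  [0, -4, 0, 0, 0, 0, 0, 0, 0, -4, -4, 0, 0, 0, 0, 4, 0, 0, 0, 0, 0, 0, 0, 0],
  [0, 0, 0, -4, 0, 0, -4, 0, 0, 0, 0, 0, -4, 0, 0, 0, 4, 0, 0, 0, 0, 0, 0, 0],
  [0, 0, 0, 0, -4, 0, 0, -4, 0, 0, 0, 0, 0, 0, 0, 0, 0, 4, -4, 0, 0, 0, 0, 0],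
  [0, 0, 0, 0, -4, 0, 0, -4, 0, 0, 0, 0, 0, 0, 0, 0, 0, -4, 4, 0, 0, 0, 0, 0],
  [0, 0, 0, 0, 0, -4, 0, 0, -4, 0, 0, 0, 0, -4, 0, 0, 0, 0, 0, 4, 0, 0, 0, 0],
  [4, 0, 4, 0, 0, 0, 0, 0, 0, 0, 0, 0, 0, 0, 0, 0, 0, 0, 0, 0, -4, 0, 0, 4],
  [0, 0, 0, 0, 0, 0, 0, 0, 0, 0, 0, -4, 0, 0, -4, 0, 0, 0, 0, 0, 0, 4, -4, 0],
  [0, 0, 0, 0, 0, 0, 0, 0, 0, 0, 0, -4, 0, 0, -4, 0, 0, 0, 0, 0, 0, -4, 4, 0],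
  [4, 0, 4, 0, 0, 0, 0, 0, 0, 0, 0, 0, 0, 0, 0, 0, 0, 0, 0, 0, 4, 0, 0, -4]]

/-- Data. -/
def T24 : List (List ℤ) := [[5, 1, -1, 1, 1, 1, 1, -1, 1, -1, 1, 1, 1, -1, 1, 1, -1, 1, 1, 1, 3, -1, 1, 3],
  [1, 1, -1, 1, -3, -3, 1, -1, 1, 3, 1, 1, 1, -1, -3, 1, 3, 1, 1, 1, -1, -1, 1, -1],
  [-1, -1, 1, 3, -1, -1, -1, 1, 3, 1, -1, -1, -1, 1, 3, 3, 1, -1, 3, -1, 1, 1, -1, 1],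
  [1, -3, -1, 1, 1, 1, 1, 3, 1, -1, 1, 1, -3, 3, -3, 1, -1, 1, 1, 1, -1, -1, 1, -1],
  [1, 1, -1, 1, 1, 1, 1, -1, 1, 3, 1, 1, -3, -1, 1, 1, -1, 1, -3, -3, -1, 3, 1, -1],
  [1, 1, 3, 1, 1, 1, 1, -1, 1, -1, 1, -3, 1, -1, -3, 1, -1, 1, 1, 1, -1, 3, -3, -1],
  [1, -3, 3, 1, 1, 1, 1, -1, 1, 3, -3, 1, 1, -1, 1, -3, -1, 1, 1, 1, -1, -1, 1, -1],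
  [1, 1, 3, 1, -3, 1, 1, 3, 1, -1, 1, 1, 1, -1, 1, 1, -1, -3, -3, 1, -1, -1, 1, -1],
  [1, 1, -1, 1, 1, 1, 1, 3, 1, -1, 1, 1, 1, -1, 1, -3, 3, 1, 1, -3, -1, -1, -3, -1],
  [1, 1, -1, -3, 1, 1, 1, -1, 1, 3, 1, 1, 1, 3, 1, 1, -1, -3, 1, 1, -1, -1, -3, -1],
  [-1, -1, 1, -1, 3, -1, -1, 1, 3, 1, 3, -1, 3, 1, -1, -1, 1, -1, -1, -1, 1, 1, 3, 1],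
  [-1, 3, 1, 3, 3, -1, -1, 1, -1, 1, -1, 3, -1, 1, -1, -1, 1, -1, -1, 3, 1, 1, -1, 1],
  [1, 1, -1, 1, 1, 1, -3, 3, -3, 3, 1, -3, 1, -1, 1, 1, -1, 1, 1, 1, -1, -1, 1, -1],
  [1, 1, 3, 1, 1, -3, 1, -1, -3, -1, 1, 1, 1, 3, 1, 1, -1, 1, 1, -3, -1, -1, 1, -1],
  [-1, -1, 1, -1, -1, -1, 3, 1, -1, 1, 3, -1, -1, 1, 3, -1, 1, 3, -1, 3, 1, 1, -1, 1],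
  [-1, -1, 1, -1, -1, 3, -1, 1, -1, 1, -1, 3, 3, 1, -1, 3, 1, 3, -1, -1, 1, 1, -1, 1],
  [1, 1, 3, -3, 1, 1, -3, -1, 1, -1, 1, 1, -3, -1, 1, 1, 3, 1, 1, 1, -1, -1, 1, -1],
  [3, -1, 1, -1, -1, -1, -1, 1, -1, 1, -1, -1, -1, 1, -1, -1, 1, -1, -1, -1, 5, 1, -1, -3],
  [-1, 3, 1, -1, -1, 3, 3, 1, -1, 1, -1, -1, -1, 1, -1, -1, 1, -1, 3, -1, 1, 1, 3, 1],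
  [1, 1, -1, -3, 1, -3, 1, 3, 1, -1, -3, 1, 1, -1, 1, 1, -1, 1, 1, 1, -1, 3, 1, -1],
  [1, 1, -1, 1, 1, 1, 1, -1, 1, -1, -3, -3, 1, 3, 1, 1, 3, 1, -3, 1, -1, -1, 1, -1],
  [1, -3, -1, 1, 1, 1, 1, -1, -3, -1, 1, 1, 1, -1, 1, 1, 3, -3, 1, 1, -1, 3, 1, -1],
  [1, 1, -1, 1, -3, 1, -3, -1, 1, -1, 1, 1, 1, 3, 1, -3, -1, 1, 1, 1, -1, 3, 1, -1],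
  [3, -1, 1, -1, -1, -1, -1, 1, -1, 1, -1, -1, -1, 1, -1, -1, 1, -1, -1, -1, -3, 1, -1, 5]]

/-- Data. -/
def T25 : List (List ℤ) := [[0, 0, -8, 0, 0, 0, 0, 0, 0, 0, 0, 0, 0, 0, 0, 0, 0, 0, 0, 0, 0, 0, 0, 0],
  [0, 0, 0, 0, 0, 0, 0, -8, 0, 0, 0, 0, 0, 0, 0, 0, 0, 0, 0, 0, 0, 0, 0, 0],
  [0, 0, 0, 0, 0, 0, 0, 0, 0, 0, 0, 0, 0, 0, -8, 0, 0, 0, 0, 0, 0, 0, 0, 0],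
  [0, 0, 0, 0, 0, 0, 0, 0, -8, 0, 0, 0, 0, 0, 0, 0, 0, 0, 0, 0, 0, 0, 0, 0],
  [0, 0, 0, 0, 0, 0, -8, 0, 0, 0, 0, 0, 0, 0, 0, 0, 0, 0, 0, 0, 0, 0, 0, 0],
  [0, 0, 0, 0, 0, 0, 0, 0, 0, 0, 8, 0, 0, 0, 0, 0, 0, 0, 0, 0, 0, 0, 0, 0],
  [0, -8, 0, 0, 0, 0, 0, 0, 0, 0, 0, 0, 0, 0, 0, 0, 0, 0, 0, 0, 0, 0, 0, 0],
  [0, 0, 0, 0, 0, 0, 0, 0, 0, -8, 0, 0, 0, 0, 0, 0, 0, 0, 0, 0, 0, 0, 0, 0],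
  [0, 0, 0, -8, 0, 0, 0, 0, 0, 0, 0, 0, 0, 0, 0, 0, 0, 0, 0, 0, 0, 0, 0, 0],
  [0, 0, 0, 0, 0, 0, 0, 0, 0, 0, 0, 0, 0, 0, 0, 0, 0, 0, 0, -8, 0, 0, 0, 0],
  [0, 0, 0, 0, 0, 0, 0, 0, 0, 0, 0, 0, 0, 0, 0, 0, 0, 0, 0, 0, 0, 0, -8, 0],
  [0, 0, 0, 0, 0, 0, 0, 0, 0, 0, 0, 0, -8, 0, 0, 0, 0, 0, 0, 0, 0, 0, 0, 0],
  [0, 0, 0, 0, 0, 0, 0, 0, 0, 0, 0, 0, 0, 0, 0, 0, 0, 0, 0, 0, 0, -8, 0, 0],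
  [0, 0, 0, 0, 0, 0, 0, 0, 0, 0, 0, 0, 0, 0, 0, 0, 0, 0, 0, 0, 8, 0, 0, 0],
  [0, 0, 0, 0, 0, 0, 0, 0, 0, 0, 0, 0, 0, 0, 0, 0, 8, 0, 0, 0, 0, 0, 0, 0],
  [0, 0, 0, 0, 0, 0, 0, 0, 0, 0, 0, 0, 0, 0, 0, 0, 0, -8, 0, 0, 0, 0, 0, 0],
  [0, 0, 0, 0, 0, 0, 0, 0, 0, 0, 0, 0, 0, 0, 0, -8, 0, 0, 0, 0, 0, 0, 0, 0],
  [8, 0, 0, 0, 0, 0, 0, 0, 0, 0, 0, 0, 0, 0, 0, 0, 0, 0, 0, 0, 0, 0, 0, 0],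
  [0, 0, 0, 0, 0, 0, 0, 0, 0, 0, 0, 0, 0, 0, 0, 0, 0, 0, 8, 0, 0, 0, 0, 0],
  [0, 0, 0, 0, -8, 0, 0, 0, 0, 0, 0, 0, 0, 0, 0, 0, 0, 0, 0, 0, 0, 0, 0, 0],
  [0, 0, 0, 0, 0, 0, 0, 0, 0, 0, 0, 0, 0, 8, 0, 0, 0, 0, 0, 0, 0, 0, 0, 0],
  [0, 0, 0, 0, 0, 0, 0, 0, 0, 0, 0, 8, 0, 0, 0, 0, 0, 0, 0, 0, 0, 0, 0, 0],
  [0, 0, 0, 0, 0, -8, 0, 0, 0, 0, 0, 0, 0, 0, 0, 0, 0, 0, 0, 0, 0, 0, 0, 0],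
  [0, 0, 0, 0, 0, 0, 0, 0, 0, 0, 0, 0, 0, 0, 0, 0, 0, 0, 0, 0, 0, 0, 0, 8]]

/-- Data. -/
def T26 : List (List ℤ) := [[-4, 0, 0, 0, 0, 0, 0, 0, 0, 0, 0, 0, 0, 4, 0, 0, 4, 0, 0, 0, 4, 0, 0, 0],
  [0, 4, 0, 0, 0, 0, -4, 0, 0, -4, 0, 0, 0, 0, 0, 0, 0, 0, 0, -4, 0, 0, 0, 0],
  [0, 0, 4, 0, 0, 0, 0, 0, 0, 0, 0, 0, 0, 0, -4, -4, 0, -4, 0, 0, 0, 0, 0, 0],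
  [0, 0, 0, 4, -4, 0, 0, -4, -4, 0, 0, 0, 0, 0, 0, 0, 0, 0, 0, 0, 0, 0, 0, 0],
  [0, 0, 0, -4, 4, 0, 0, -4, -4, 0, 0, 0, 0, 0, 0, 0, 0, 0, 0, 0, 0, 0, 0, 0],
  [0, 0, 0, 0, 0, 4, 0, 0, 0, 0, 0, 0, -4, 0, 0, 0, 0, 0, 0, 0, 0, -4, -4, 0],
  [0, -4, 0, 0, 0, 0, 4, 0, 0, -4, 0, 0, 0, 0, 0, 0, 0, 0, 0, -4, 0, 0, 0, 0],
  [0, 0, 0, -4, -4, 0, 0, 4, -4, 0, 0, 0, 0, 0, 0, 0, 0, 0, 0, 0, 0, 0, 0, 0],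
  [0, 0, 0, -4, -4, 0, 0, -4, 4, 0, 0, 0, 0, 0, 0, 0, 0, 0, 0, 0, 0, 0, 0, 0],
  [0, -4, 0, 0, 0, 0, -4, 0, 0, 4, 0, 0, 0, 0, 0, 0, 0, 0, 0, -4, 0, 0, 0, 0],
  [0, 0, 0, 0, 0, 0, 0, 0, 0, 0, 4, -4, 0, 0, 0, 0, 0, 0, -4, 0, 0, 0, 0, -4],
  [0, 0, 0, 0, 0, 0, 0, 0, 0, 0, -4, 4, 0, 0, 0, 0, 0, 0, -4, 0, 0, 0, 0, -4],
  [0, 0, 0, 0, 0, -4, 0, 0, 0, 0, 0, 0, 4, 0, 0, 0, 0, 0, 0, 0, 0, -4, -4, 0],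
  [4, 0, 0, 0, 0, 0, 0, 0, 0, 0, 0, 0, 0, -4, 0, 0, 4, 0, 0, 0, 4, 0, 0, 0],
  [0, 0, -4, 0, 0, 0, 0, 0, 0, 0, 0, 0, 0, 0, 4, -4, 0, -4, 0, 0, 0, 0, 0, 0],
  [0, 0, -4, 0, 0, 0, 0, 0, 0, 0, 0, 0, 0, 0, -4, 4, 0, -4, 0, 0, 0, 0, 0, 0],
  [4, 0, 0, 0, 0, 0, 0, 0, 0, 0, 0, 0, 0, 4, 0, 0, -4, 0, 0, 0, 4, 0, 0, 0],
  [0, 0, -4, 0, 0, 0, 0, 0, 0, 0, 0, 0, 0, 0, -4, -4, 0, 4, 0, 0, 0, 0, 0, 0],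
  [0, 0, 0, 0, 0, 0, 0, 0, 0, 0, -4, -4, 0, 0, 0, 0, 0, 0, 4, 0, 0, 0, 0, -4],
  [0, -4, 0, 0, 0, 0, -4, 0, 0, -4, 0, 0, 0, 0, 0, 0, 0, 0, 0, 4, 0, 0, 0, 0],
  [4, 0, 0, 0, 0, 0, 0, 0, 0, 0, 0, 0, 0, 4, 0, 0, 4, 0, 0, 0, -4, 0, 0, 0],
  [0, 0, 0, 0, 0, -4, 0, 0, 0, 0, 0, 0, -4, 0, 0, 0, 0, 0, 0, 0, 0, 4, -4, 0],
  [0, 0, 0, 0, 0, -4, 0, 0, 0, 0, 0, 0, -4, 0, 0, 0, 0, 0, 0, 0, 0, -4, 4, 0],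
  [0, 0, 0, 0, 0, 0, 0, 0, 0, 0, -4, -4, 0, 0, 0, 0, 0, 0, -4, 0, 0, 0, 0, 4]]

/-- Data. -/
def T27 : List (List ℤ) := [[0, 0, -4, 0, 0, 0, 0, 0, 0, 0, 0, 0, 0, 0, 4, 4, 0, 4, 0, 0, 0, 0, 0, 0],
  [0, 0, 0, 4, 4, 0, 0, -4, 4, 0, 0, 0, 0, 0, 0, 0, 0, 0, 0, 0, 0, 0, 0, 0],
  [0, 0, 4, 0, 0, 0, 0, 0, 0, 0, 0, 0, 0, 0, -4, 4, 0, 4, 0, 0, 0, 0, 0, 0],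
  [0, 0, 0, 4, 4, 0, 0, 4, -4, 0, 0, 0, 0, 0, 0, 0, 0, 0, 0, 0, 0, 0, 0, 0],
  [0, 4, 0, 0, 0, 0, -4, 0, 0, 4, 0, 0, 0, 0, 0, 0, 0, 0, 0, 4, 0, 0, 0, 0],
  [0, 0, 0, 0, 0, 0, 0, 0, 0, 0, 4, -4, 0, 0, 0, 0, 0, 0, -4, 0, 0, 0, 0, -4],
  [0, -4, 0, 0, 0, 0, 4, 0, 0, 4, 0, 0, 0, 0, 0, 0, 0, 0, 0, 4, 0, 0, 0, 0],
  [0, 4, 0, 0, 0, 0, 4, 0, 0, -4, 0, 0, 0, 0, 0, 0, 0, 0, 0, 4, 0, 0, 0, 0],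
  [0, 0, 0, -4, 4, 0, 0, 4, 4, 0, 0, 0, 0, 0, 0, 0, 0, 0, 0, 0, 0, 0, 0, 0],
  [0, 4, 0, 0, 0, 0, 4, 0, 0, 4, 0, 0, 0, 0, 0, 0, 0, 0, 0, -4, 0, 0, 0, 0],
  [0, 0, 0, 0, 0, 4, 0, 0, 0, 0, 0, 0, 4, 0, 0, 0, 0, 0, 0, 0, 0, 4, -4, 0],
  [0, 0, 0, 0, 0, 4, 0, 0, 0, 0, 0, 0, -4, 0, 0, 0, 0, 0, 0, 0, 0, 4, 4, 0],
  [0, 0, 0, 0, 0, 4, 0, 0, 0, 0, 0, 0, 4, 0, 0, 0, 0, 0, 0, 0, 0, -4, 4, 0],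
  [4, 0, 0, 0, 0, 0, 0, 0, 0, 0, 0, 0, 0, 4, 0, 0, 4, 0, 0, 0, -4, 0, 0, 0],
  [4, 0, 0, 0, 0, 0, 0, 0, 0, 0, 0, 0, 0, 4, 0, 0, -4, 0, 0, 0, 4, 0, 0, 0],
  [0, 0, 4, 0, 0, 0, 0, 0, 0, 0, 0, 0, 0, 0, 4, 4, 0, -4, 0, 0, 0, 0, 0, 0],
  [0, 0, 4, 0, 0, 0, 0, 0, 0, 0, 0, 0, 0, 0, 4, -4, 0, 4, 0, 0, 0, 0, 0, 0],
  [-4, 0, 0, 0, 0, 0, 0, 0, 0, 0, 0, 0, 0, 4, 0, 0, 4, 0, 0, 0, 4, 0, 0, 0],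
  [0, 0, 0, 0, 0, 0, 0, 0, 0, 0, -4, -4, 0, 0, 0, 0, 0, 0, 4, 0, 0, 0, 0, -4],
  [0, 0, 0, 4, -4, 0, 0, 4, 4, 0, 0, 0, 0, 0, 0, 0, 0, 0, 0, 0, 0, 0, 0, 0],
  [4, 0, 0, 0, 0, 0, 0, 0, 0, 0, 0, 0, 0, -4, 0, 0, 4, 0, 0, 0, 4, 0, 0, 0],
  [0, 0, 0, 0, 0, 0, 0, 0, 0, 0, -4, 4, 0, 0, 0, 0, 0, 0, -4, 0, 0, 0, 0, -4],
  [0, 0, 0, 0, 0, -4, 0, 0, 0, 0, 0, 0, 4, 0, 0, 0, 0, 0, 0, 0, 0, 4, 4, 0],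
  [0, 0, 0, 0, 0, 0, 0, 0, 0, 0, -4, -4, 0, 0, 0, 0, 0, 0, -4, 0, 0, 0, 0, 4]]

/-- Data. -/
def T28 : List (List ℤ) := [[4, -4, 0, -4, 0, -4, 0, 0, 0, 0, 0, 0, 0, 0, 0, 0, 0, 0, 0, 0, 0, 0, 0, 0],
  [-4, 4, 0, -4, 0, -4, 0, 0, 0, 0, 0, 0, 0, 0, 0, 0, 0, 0, 0, 0, 0, 0, 0, 0],
  [0, 0, -4, 0, 0, 0, 0, 0, 0, 0, 0, 0, 0, 0, 4, 0, 0, 4, 0, 0, 0, 0, 0, 4],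
  [-4, -4, 0, 4, 0, -4, 0, 0, 0, 0, 0, 0, 0, 0, 0, 0, 0, 0, 0, 0, 0, 0, 0, 0],
  [0, 0, 0, 0, 4, 0, -4, 0, 0, 0, 0, 0, 0, 0, 0, 0, -4, 0, 0, 0, 0, -4, 0, 0],
  [-4, -4, 0, -4, 0, 4, 0, 0, 0, 0, 0, 0, 0, 0, 0, 0, 0, 0, 0, 0, 0, 0, 0, 0],
  [0, 0, 0, 0, -4, 0, 4, 0, 0, 0, 0, 0, 0, 0, 0, 0, -4, 0, 0, 0, 0, -4, 0, 0],
  [0, 0, 0, 0, 0, 0, 0, 4, 0, 0, 0, 0, 0, -4, 0, 0, 0, 0, 0, -4, 0, 0, -4, 0],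
  [0, 0, 0, 0, 0, 0, 0, 0, 4, -4, 0, 0, -4, 0, 0, 0, 0, 0, 0, 0, -4, 0, 0, 0],
  [0, 0, 0, 0, 0, 0, 0, 0, -4, 4, 0, 0, -4, 0, 0, 0, 0, 0, 0, 0, -4, 0, 0, 0],
  [0, 0, 0, 0, 0, 0, 0, 0, 0, 0, 4, -4, 0, 0, 0, -4, 0, 0, -4, 0, 0, 0, 0, 0],
  [0, 0, 0, 0, 0, 0, 0, 0, 0, 0, -4, 4, 0, 0, 0, -4, 0, 0, -4, 0, 0, 0, 0, 0],
  [0, 0, 0, 0, 0, 0, 0, 0, -4, -4, 0, 0, 4, 0, 0, 0, 0, 0, 0, 0, -4, 0, 0, 0],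
  [0, 0, 0, 0, 0, 0, 0, -4, 0, 0, 0, 0, 0, 4, 0, 0, 0, 0, 0, -4, 0, 0, -4, 0],
  [0, 0, 4, 0, 0, 0, 0, 0, 0, 0, 0, 0, 0, 0, -4, 0, 0, 4, 0, 0, 0, 0, 0, 4],
  [0, 0, 0, 0, 0, 0, 0, 0, 0, 0, -4, -4, 0, 0, 0, 4, 0, 0, -4, 0, 0, 0, 0, 0],
  [0, 0, 0, 0, -4, 0, -4, 0, 0, 0, 0, 0, 0, 0, 0, 0, 4, 0, 0, 0, 0, -4, 0, 0],
  [0, 0, 4, 0, 0, 0, 0, 0, 0, 0, 0, 0, 0, 0, 4, 0, 0, -4, 0, 0, 0, 0, 0, 4],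
  [0, 0, 0, 0, 0, 0, 0, 0, 0, 0, -4, -4, 0, 0, 0, -4, 0, 0, 4, 0, 0, 0, 0, 0],
  [0, 0, 0, 0, 0, 0, 0, -4, 0, 0, 0, 0, 0, -4, 0, 0, 0, 0, 0, 4, 0, 0, -4, 0],
  [0, 0, 0, 0, 0, 0, 0, 0, -4, -4, 0, 0, -4, 0, 0, 0, 0, 0, 0, 0, 4, 0, 0, 0],
  [0, 0, 0, 0, -4, 0, -4, 0, 0, 0, 0, 0, 0, 0, 0, 0, -4, 0, 0, 0, 0, 4, 0, 0],
  [0, 0, 0, 0, 0, 0, 0, -4, 0, 0, 0, 0, 0, -4, 0, 0, 0, 0, 0, -4, 0, 0, 4, 0],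
  [0, 0, 4, 0, 0, 0, 0, 0, 0, 0, 0, 0, 0, 0, 4, 0, 0, 4, 0, 0, 0, 0, 0, -4]]

/-- Data. -/
def T29 : List (List ℤ) := [[0, 0, 6, 0, 0, 0, 0, 0, 0, 0, -2, -2, 0, 0, -2, 2, 0, -2, -2, 0, 0, 0, 0, 2],
  [-2, -2, 0, 2, 2, -2, -2, -2, 2, -2, 0, 0, -2, 2, 0, 0, -2, 0, 0, 2, -2, -2, 2, 0],
  [0, 0, -2, 0, 0, 0, 0, 0, 0, 0, -2, -2, 0, 0, 6, 2, 0, -2, -2, 0, 0, 0, 0, 2],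
  [-2, -2, 0, 2, 2, -2, -2, 2, -2, 2, 0, 0, 2, -2, 0, 0, -2, 0, 0, -2, 2, -2, -2, 0],
  [-2, 2, 0, -2, 2, -2, -2, -2, -2, 2, 0, 0, -2, -2, 0, 0, 2, 0, 0, 2, -2, 2, -2, 0],
  [0, 0, -2, 0, 0, 0, 0, 0, 0, 0, 6, -2, 0, 0, -2, 2, 0, -2, -2, 0, 0, 0, 0, 2],
  [2, -2, 0, 2, -2, 2, 2, -2, -2, 2, 0, 0, -2, -2, 0, 0, -2, 0, 0, 2, -2, -2, -2, 0],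
  [-2, 2, 0, -2, -2, -2, 2, -2, 2, -2, 0, 0, 2, -2, 0, 0, -2, 0, 0, 2, 2, -2, -2, 0],
  [2, 2, 0, -2, 2, 2, -2, 2, 2, -2, 0, 0, -2, -2, 0, 0, -2, 0, 0, -2, -2, -2, -2, 0],
  [-2, 2, 0, -2, -2, -2, 2, 2, -2, 2, 0, 0, -2, 2, 0, 0, -2, 0, 0, -2, -2, -2, 2, 0],
  [-2, -2, 0, -2, -2, 2, -2, 2, -2, -2, 0, 0, 2, 2, 0, 0, -2, 0, 0, 2, -2, 2, -2, 0],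
  [-2, -2, 0, -2, -2, 2, -2, -2, 2, 2, 0, 0, -2, -2, 0, 0, -2, 0, 0, -2, 2, 2, 2, 0],
  [-2, -2, 0, -2, 2, 2, 2, -2, -2, -2, 0, 0, 2, -2, 0, 0, 2, 0, 0, -2, -2, -2, 2, 0],
  [2, -2, 0, -2, -2, -2, -2, -2, 2, 2, 0, 0, 2, 2, 0, 0, 2, 0, 0, -2, -2, -2, -2, 0],
  [2, -2, 0, -2, 2, -2, 2, -2, -2, -2, 0, 0, -2, 2, 0, 0, -2, 0, 0, -2, 2, 2, -2, 0],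
  [0, 0, -2, 0, 0, 0, 0, 0, 0, 0, -2, -2, 0, 0, -2, 2, 0, 6, -2, 0, 0, 0, 0, 2],
  [0, 0, 2, 0, 0, 0, 0, 0, 0, 0, 2, 2, 0, 0, 2, -2, 0, 2, 2, 0, 0, 0, 0, 6],
  [-2, 2, 0, 2, -2, 2, -2, -2, -2, -2, 0, 0, -2, 2, 0, 0, 2, 0, 0, -2, 2, -2, -2, 0],
  [0, 0, -2, 0, 0, 0, 0, 0, 0, 0, -2, -2, 0, 0, -2, 2, 0, -2, 6, 0, 0, 0, 0, 2],
  [-2, -2, 0, 2, -2, -2, 2, 2, 2, -2, 0, 0, -2, -2, 0, 0, 2, 0, 0, -2, -2, 2, -2, 0],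
  [2, -2, 0, -2, -2, -2, -2, 2, -2, -2, 0, 0, -2, -2, 0, 0, 2, 0, 0, 2, 2, -2, 2, 0],
  [0, 0, -2, 0, 0, 0, 0, 0, 0, 0, -2, 6, 0, 0, -2, 2, 0, -2, -2, 0, 0, 0, 0, 2],
  [2, 2, 0, 2, -2, -2, -2, -2, -2, -2, 0, 0, 2, -2, 0, 0, -2, 0, 0, -2, -2, 2, 2, 0],
  [0, 0, 2, 0, 0, 0, 0, 0, 0, 0, 2, 2, 0, 0, 2, 6, 0, 2, 2, 0, 0, 0, 0, -2]]

/-- Data. -/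
def T30 : List (List ℤ) := [[-4, 0, 4, 0, 0, 0, 0, 0, 0, 0, 0, 0, 0, 0, 0, 4, 0, 0, 0, 0, 0, 0, 0, 4],
  [0, 4, 0, 0, 0, 0, 0, 0, 0, -4, -4, 0, 0, 0, 0, 0, 0, 0, 0, 0, -4, 0, 0, 0],
  [4, 0, -4, 0, 0, 0, 0, 0, 0, 0, 0, 0, 0, 0, 0, 4, 0, 0, 0, 0, 0, 0, 0, 4],
  [0, 0, 0, 4, 0, 0, 0, -4, 0, 0, 0, -4, 0, -4, 0, 0, 0, 0, 0, 0, 0, 0, 0, 0],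
  [0, 0, 0, 0, 4, 0, 0, 0, 0, 0, 0, 0, -4, 0, -4, 0, 0, 0, 0, -4, 0, 0, 0, 0],
  [0, 0, 0, 0, 0, 4, 0, 0, 0, 0, 0, 0, 0, 0, 0, 0, -4, 0, -4, 0, 0, -4, 0, 0],
  [0, 0, 0, 0, 0, 0, 4, 0, -4, 0, 0, 0, 0, 0, 0, 0, 0, -4, 0, 0, 0, 0, -4, 0],
  [0, 0, 0, -4, 0, 0, 0, 4, 0, 0, 0, -4, 0, -4, 0, 0, 0, 0, 0, 0, 0, 0, 0, 0],
  [0, 0, 0, 0, 0, 0, -4, 0, 4, 0, 0, 0, 0, 0, 0, 0, 0, -4, 0, 0, 0, 0, -4, 0],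
  [0, -4, 0, 0, 0, 0, 0, 0, 0, 4, -4, 0, 0, 0, 0, 0, 0, 0, 0, 0, -4, 0, 0, 0],
  [0, -4, 0, 0, 0, 0, 0, 0, 0, -4, 4, 0, 0, 0, 0, 0, 0, 0, 0, 0, -4, 0, 0, 0],
  [0, 0, 0, -4, 0, 0, 0, -4, 0, 0, 0, 4, 0, -4, 0, 0, 0, 0, 0, 0, 0, 0, 0, 0],
  [0, 0, 0, 0, -4, 0, 0, 0, 0, 0, 0, 0, 4, 0, -4, 0, 0, 0, 0, -4, 0, 0, 0, 0],
  [0, 0, 0, -4, 0, 0, 0, -4, 0, 0, 0, -4, 0, 4, 0, 0, 0, 0, 0, 0, 0, 0, 0, 0],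
  [0, 0, 0, 0, -4, 0, 0, 0, 0, 0, 0, 0, -4, 0, 4, 0, 0, 0, 0, -4, 0, 0, 0, 0],
  [4, 0, 4, 0, 0, 0, 0, 0, 0, 0, 0, 0, 0, 0, 0, -4, 0, 0, 0, 0, 0, 0, 0, 4],
  [0, 0, 0, 0, 0, -4, 0, 0, 0, 0, 0, 0, 0, 0, 0, 0, 4, 0, -4, 0, 0, -4, 0, 0],
  [0, 0, 0, 0, 0, 0, -4, 0, -4, 0, 0, 0, 0, 0, 0, 0, 0, 4, 0, 0, 0, 0, -4, 0],
  [0, 0, 0, 0, 0, -4, 0, 0, 0, 0, 0, 0, 0, 0, 0, 0, -4, 0, 4, 0, 0, -4, 0, 0],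
  [0, 0, 0, 0, -4, 0, 0, 0, 0, 0, 0, 0, -4, 0, -4, 0, 0, 0, 0, 4, 0, 0, 0, 0],
  [0, -4, 0, 0, 0, 0, 0, 0, 0, -4, -4, 0, 0, 0, 0, 0, 0, 0, 0, 0, 4, 0, 0, 0],
  [0, 0, 0, 0, 0, -4, 0, 0, 0, 0, 0, 0, 0, 0, 0, 0, -4, 0, -4, 0, 0, 4, 0, 0],
  [0, 0, 0, 0, 0, 0, -4, 0, -4, 0, 0, 0, 0, 0, 0, 0, 0, -4, 0, 0, 0, 0, 4, 0],
  [4, 0, 4, 0, 0, 0, 0, 0, 0, 0, 0, 0, 0, 0, 0, 4, 0, 0, 0, 0, 0, 0, 0, -4]]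

/-- Data. -/
def T31 : List (List ℤ) := [[5, 1, -1, 1, 1, 1, 1, 1, 1, 1, -1, -1, 1, 1, -1, 3, 1, -1, -1, 1, 1, 1, 1, 3],
  [1, 1, -1, 1, 1, 1, -3, -3, 1, 1, 3, -1, -3, 1, -1, -1, 1, -1, 3, 1, 1, 1, 1, -1],
  [1, 1, 3, 1, -3, 1, 1, 1, 1, 1, -1, -1, -3, 1, 3, -1, 1, -1, -1, -3, 1, 1, 1, -1],
  [1, -3, -1, 1, 1, 1, 1, 1, 1, 1, -1, -1, 1, -3, -1, -1, 1, 3, 3, -3, 1, 1, 1, -1],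
  [1, 1, -1, 1, 1, -3, 1, 1, 1, 1, -1, 3, -3, 1, -1, -1, 1, 3, -1, 1, -3, 1, 1, -1],
  [1, -3, 3, 1, 1, 1, 1, 1, 1, -3, 3, -1, 1, 1, -1, -1, 1, -1, -1, 1, -3, 1, 1, -1],
  [-1, -1, 1, 3, -1, 3, 3, -1, -1, 3, 1, 1, -1, -1, 1, 1, -1, 1, 1, 3, -1, -1, -1, 1],
  [1, 1, -1, 1, -3, 1, 1, 1, 1, -3, -1, 3, 1, 1, -1, -1, 1, -1, 3, 1, 1, 1, -3, -1],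
  [-1, 3, 1, -1, 3, 3, -1, 3, 3, -1, 1, 1, -1, -1, 1, 1, -1, 1, 1, -1, -1, -1, -1, 1],
  [1, 1, -1, -3, 1, 1, 1, 1, -3, 1, -1, -1, 1, 1, 3, -1, 1, -1, 3, 1, -3, 1, 1, -1],
  [1, 1, -1, -3, -3, 1, 1, 1, 1, 1, 3, -1, 1, 1, -1, -1, -3, 3, -1, 1, 1, 1, 1, -1],
  [1, -3, -1, 1, 1, 1, -3, 1, 1, 1, -1, 3, 1, 1, 3, -1, -3, -1, -1, 1, 1, 1, 1, -1],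
  [1, 1, -1, 1, 1, 1, 1, 1, -3, 1, 3, 3, 1, 1, -1, -1, 1, -1, -1, -3, 1, -3, 1, -1],
  [-1, -1, 1, -1, -1, -1, -1, -1, 3, 3, 1, 1, 3, 3, 1, 1, 3, 1, 1, -1, -1, -1, -1, 1],
  [-1, -1, 1, -1, 3, -1, 3, -1, -1, -1, 1, 1, -1, 3, 1, 1, -1, 1, 1, -1, 3, 3, -1, 1],
  [1, 1, 3, 1, 1, 1, -3, 1, -3, 1, -1, -1, 1, 1, -1, -1, 1, 3, -1, 1, 1, 1, -3, -1],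
  [3, -1, 1, -1, -1, -1, -1, -1, -1, -1, 1, 1, -1, -1, 1, 5, -1, 1, 1, -1, -1, -1, -1, -3],
  [1, 1, -1, 1, 1, 1, 1, -3, 1, -3, -1, -1, 1, 1, 3, -1, 1, 3, -1, 1, 1, -3, 1, -1],
  [1, 1, 3, 1, 1, -3, 1, 1, 1, 1, -1, -1, 1, 1, -1, -1, -3, -1, 3, 1, 1, -3, 1, -1],
  [1, 1, -1, 1, 1, -3, 1, 1, 1, 1, 3, -1, 1, -3, 3, -1, 1, -1, -1, 1, 1, 1, -3, -1],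
  [-1, -1, 1, -1, -1, -1, -1, 3, -1, -1, 1, 1, -1, -1, 1, 1, 3, 1, 1, 3, 3, -1, 3, 1],
  [1, 1, 3, -3, 1, 1, 1, -3, 1, 1, -1, 3, 1, -3, -1, -1, 1, -1, -1, 1, 1, 1, 1, -1],
  [-1, 3, 1, 3, -1, -1, -1, -1, -1, -1, 1, 1, 3, -1, 1, 1, -1, 1, 1, -1, -1, 3, 3, 1],
  [3, -1, 1, -1, -1, -1, -1, -1, -1, -1, 1, 1, -1, -1, 1, -3, -1, 1, 1, -1, -1, -1, -1, 5]]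

/-- Data. -/
def T32 : List (List ℤ) := [[0, 0, 0, 0, 0, 0, 0, 0, 0, 0, 0, 0, 0, 0, 0, -8, 0, 0, 0, 0, 0, 0, 0, 0],
  [0, 0, 0, 0, 0, 0, 0, 0, 0, 0, 0, 0, -8, 0, 0, 0, 0, 0, 0, 0, 0, 0, 0, 0],
  [0, 0, 0, 0, 0, 0, 0, 0, 0, 0, 0, 0, 0, 0, 8, 0, 0, 0, 0, 0, 0, 0, 0, 0],
  [0, 0, 0, 8, 0, 0, 0, 0, 0, 0, 0, 0, 0, 0, 0, 0, 0, 0, 0, 0, 0, 0, 0, 0],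
  [0, 0, 0, 0, 8, 0, 0, 0, 0, 0, 0, 0, 0, 0, 0, 0, 0, 0, 0, 0, 0, 0, 0, 0],
  [0, 0, 0, 0, 0, 0, 8, 0, 0, 0, 0, 0, 0, 0, 0, 0, 0, 0, 0, 0, 0, 0, 0, 0],
  [0, 0, 0, 0, 0, 0, 0, 0, 8, 0, 0, 0, 0, 0, 0, 0, 0, 0, 0, 0, 0, 0, 0, 0],
  [0, 0, 0, 0, 0, 0, 0, 0, 0, 0, 0, 0, 0, 0, 0, 0, 0, 0, 0, 0, 0, 0, 8, 0],
  [0, 0, 0, 0, 0, -8, 0, 0, 0, 0, 0, 0, 0, 0, 0, 0, 0, 0, 0, 0, 0, 0, 0, 0],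
  [0, 0, 0, 0, 0, 0, 0, 0, 0, 0, 0, 0, 0, 0, 0, 0, 0, 0, 0, 0, 0, 8, 0, 0],
  [0, 0, 0, 0, 0, 0, 0, 0, 0, 0, 8, 0, 0, 0, 0, 0, 0, 0, 0, 0, 0, 0, 0, 0],
  [0, 0, 0, 0, 0, 0, 0, 0, 0, 8, 0, 0, 0, 0, 0, 0, 0, 0, 0, 0, 0, 0, 0, 0],
  [0, 0, 0, 0, 0, 0, 0, 0, 0, 0, 0, 0, 0, 0, 0, 0, 0, 0, 8, 0, 0, 0, 0, 0],
  [0, 0, 8, 0, 0, 0, 0, 0, 0, 0, 0, 0, 0, 0, 0, 0, 0, 0, 0, 0, 0, 0, 0, 0],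
  [0, 0, 0, 0, 0, 0, 0, 0, 0, 0, 0, 0, 0, 8, 0, 0, 0, 0, 0, 0, 0, 0, 0, 0],
  [0, 0, 0, 0, 0, 0, 0, 0, 0, 0, 0, 0, 0, 0, 0, 0, 8, 0, 0, 0, 0, 0, 0, 0],
  [-8, 0, 0, 0, 0, 0, 0, 0, 0, 0, 0, 0, 0, 0, 0, 0, 0, 0, 0, 0, 0, 0, 0, 0],
  [0, 0, 0, 0, 0, 0, 0, 0, 0, 0, 0, 0, 0, 0, 0, 0, 0, -8, 0, 0, 0, 0, 0, 0],
  [0, 8, 0, 0, 0, 0, 0, 0, 0, 0, 0, 0, 0, 0, 0, 0, 0, 0, 0, 0, 0, 0, 0, 0],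
  [0, 0, 0, 0, 0, 0, 0, 8, 0, 0, 0, 0, 0, 0, 0, 0, 0, 0, 0, 0, 0, 0, 0, 0],
  [0, 0, 0, 0, 0, 0, 0, 0, 0, 0, 0, 0, 0, 0, 0, 0, 0, 0, 0, 0, -8, 0, 0, 0],
  [0, 0, 0, 0, 0, 0, 0, 0, 0, 0, 0, -8, 0, 0, 0, 0, 0, 0, 0, 0, 0, 0, 0, 0],
  [0, 0, 0, 0, 0, 0, 0, 0, 0, 0, 0, 0, 0, 0, 0, 0, 0, 0, 0, 8, 0, 0, 0, 0],
  [0, 0, 0, 0, 0, 0, 0, 0, 0, 0, 0, 0, 0, 0, 0, 0, 0, 0, 0, 0, 0, 0, 0, -8]]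

/-- Data. -/
def T33 : List (List ℤ) := [[-4, 0, 0, 0, 0, 0, 0, 0, 0, 0, 0, 0, 0, 0, 0, 0, 0, 4, 0, 0, 4, 0, 0, 4],
  [0, 4, 0, 0, 0, 0, 0, 0, -4, 0, 0, 0, 0, 0, 0, 0, -4, 0, 0, 0, 0, -4, 0, 0],
  [0, 0, 4, 0, -4, 0, 0, -4, 0, 0, 0, 0, 0, 0, 0, 0, 0, 0, -4, 0, 0, 0, 0, 0],
  [0, 0, 0, 4, 0, 0, 0, 0, 0, -4, 0, 0, 0, -4, 0, 0, 0, 0, 0, 0, 0, 0, -4, 0],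
  [0, 0, -4, 0, 4, 0, 0, -4, 0, 0, 0, 0, 0, 0, 0, 0, 0, 0, -4, 0, 0, 0, 0, 0],
  [0, 0, 0, 0, 0, 4, 0, 0, 0, 0, 0, -4, -4, 0, 0, -4, 0, 0, 0, 0, 0, 0, 0, 0],
  [0, 0, 0, 0, 0, 0, 4, 0, 0, 0, -4, 0, 0, 0, -4, 0, 0, 0, 0, -4, 0, 0, 0, 0],
  [0, 0, -4, 0, -4, 0, 0, 4, 0, 0, 0, 0, 0, 0, 0, 0, 0, 0, -4, 0, 0, 0, 0, 0],
  [0, -4, 0, 0, 0, 0, 0, 0, 4, 0, 0, 0, 0, 0, 0, 0, -4, 0, 0, 0, 0, -4, 0, 0],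
  [0, 0, 0, -4, 0, 0, 0, 0, 0, 4, 0, 0, 0, -4, 0, 0, 0, 0, 0, 0, 0, 0, -4, 0],
  [0, 0, 0, 0, 0, 0, -4, 0, 0, 0, 4, 0, 0, 0, -4, 0, 0, 0, 0, -4, 0, 0, 0, 0],
  [0, 0, 0, 0, 0, -4, 0, 0, 0, 0, 0, 4, -4, 0, 0, -4, 0, 0, 0, 0, 0, 0, 0, 0],
  [0, 0, 0, 0, 0, -4, 0, 0, 0, 0, 0, -4, 4, 0, 0, -4, 0, 0, 0, 0, 0, 0, 0, 0],
  [0, 0, 0, -4, 0, 0, 0, 0, 0, -4, 0, 0, 0, 4, 0, 0, 0, 0, 0, 0, 0, 0, -4, 0],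
  [0, 0, 0, 0, 0, 0, -4, 0, 0, 0, -4, 0, 0, 0, 4, 0, 0, 0, 0, -4, 0, 0, 0, 0],
  [0, 0, 0, 0, 0, -4, 0, 0, 0, 0, 0, -4, -4, 0, 0, 4, 0, 0, 0, 0, 0, 0, 0, 0],
  [0, -4, 0, 0, 0, 0, 0, 0, -4, 0, 0, 0, 0, 0, 0, 0, 4, 0, 0, 0, 0, -4, 0, 0],
  [4, 0, 0, 0, 0, 0, 0, 0, 0, 0, 0, 0, 0, 0, 0, 0, 0, -4, 0, 0, 4, 0, 0, 4],
  [0, 0, -4, 0, -4, 0, 0, -4, 0, 0, 0, 0, 0, 0, 0, 0, 0, 0, 4, 0, 0, 0, 0, 0],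
  [0, 0, 0, 0, 0, 0, -4, 0, 0, 0, -4, 0, 0, 0, -4, 0, 0, 0, 0, 4, 0, 0, 0, 0],
  [4, 0, 0, 0, 0, 0, 0, 0, 0, 0, 0, 0, 0, 0, 0, 0, 0, 4, 0, 0, -4, 0, 0, 4],
  [0, -4, 0, 0, 0, 0, 0, 0, -4, 0, 0, 0, 0, 0, 0, 0, -4, 0, 0, 0, 0, 4, 0, 0],
  [0, 0, 0, -4, 0, 0, 0, 0, 0, -4, 0, 0, 0, -4, 0, 0, 0, 0, 0, 0, 0, 0, 4, 0],
  [4, 0, 0, 0, 0, 0, 0, 0, 0, 0, 0, 0, 0, 0, 0, 0, 0, 4, 0, 0, 4, 0, 0, -4]]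

/-- Data. -/
def T34 : List (List ℤ) := [[0, 0, 0, 0, 0, 4, 0, 0, 0, 0, 0, 4, 4, 0, 0, -4, 0, 0, 0, 0, 0, 0, 0, 0],
  [0, 0, 0, 0, 0, 4, 0, 0, 0, 0, 0, 4, -4, 0, 0, 4, 0, 0, 0, 0, 0, 0, 0, 0],
  [0, 0, 0, 0, 0, 0, -4, 0, 0, 0, -4, 0, 0, 0, 4, 0, 0, 0, 0, -4, 0, 0, 0, 0],
  [0, 0, 0, 4, 0, 0, 0, 0, 0, -4, 0, 0, 0, -4, 0, 0, 0, 0, 0, 0, 0, 0, -4, 0],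
  [0, 0, -4, 0, 4, 0, 0, -4, 0, 0, 0, 0, 0, 0, 0, 0, 0, 0, -4, 0, 0, 0, 0, 0],
  [0, 0, 0, 0, 0, 0, 4, 0, 0, 0, -4, 0, 0, 0, -4, 0, 0, 0, 0, -4, 0, 0, 0, 0],
  [0, -4, 0, 0, 0, 0, 0, 0, 4, 0, 0, 0, 0, 0, 0, 0, -4, 0, 0, 0, 0, -4, 0, 0],
  [0, 0, 0, -4, 0, 0, 0, 0, 0, -4, 0, 0, 0, -4, 0, 0, 0, 0, 0, 0, 0, 0, 4, 0],
  [0, 0, 0, 0, 0, -4, 0, 0, 0, 0, 0, 4, 4, 0, 0, 4, 0, 0, 0, 0, 0, 0, 0, 0],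
  [0, -4, 0, 0, 0, 0, 0, 0, -4, 0, 0, 0, 0, 0, 0, 0, -4, 0, 0, 0, 0, 4, 0, 0],
  [0, 0, 0, 0, 0, 0, -4, 0, 0, 0, 4, 0, 0, 0, -4, 0, 0, 0, 0, -4, 0, 0, 0, 0],
  [0, 0, 0, -4, 0, 0, 0, 0, 0, 4, 0, 0, 0, -4, 0, 0, 0, 0, 0, 0, 0, 0, -4, 0],
  [0, 0, -4, 0, -4, 0, 0, -4, 0, 0, 0, 0, 0, 0, 0, 0, 0, 0, 4, 0, 0, 0, 0, 0],
  [0, 0, 4, 0, -4, 0, 0, -4, 0, 0, 0, 0, 0, 0, 0, 0, 0, 0, -4, 0, 0, 0, 0, 0],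
  [0, 0, 0, -4, 0, 0, 0, 0, 0, -4, 0, 0, 0, 4, 0, 0, 0, 0, 0, 0, 0, 0, -4, 0],
  [0, -4, 0, 0, 0, 0, 0, 0, -4, 0, 0, 0, 0, 0, 0, 0, 4, 0, 0, 0, 0, -4, 0, 0],
  [4, 0, 0, 0, 0, 0, 0, 0, 0, 0, 0, 0, 0, 0, 0, 0, 0, -4, 0, 0, -4, 0, 0, -4],
  [-4, 0, 0, 0, 0, 0, 0, 0, 0, 0, 0, 0, 0, 0, 0, 0, 0, 4, 0, 0, -4, 0, 0, -4],
  [0, 4, 0, 0, 0, 0, 0, 0, -4, 0, 0, 0, 0, 0, 0, 0, -4, 0, 0, 0, 0, -4, 0, 0],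
  [0, 0, -4, 0, -4, 0, 0, 4, 0, 0, 0, 0, 0, 0, 0, 0, 0, 0, -4, 0, 0, 0, 0, 0],
  [-4, 0, 0, 0, 0, 0, 0, 0, 0, 0, 0, 0, 0, 0, 0, 0, 0, -4, 0, 0, 4, 0, 0, -4],
  [0, 0, 0, 0, 0, 4, 0, 0, 0, 0, 0, -4, 4, 0, 0, 4, 0, 0, 0, 0, 0, 0, 0, 0],
  [0, 0, 0, 0, 0, 0, -4, 0, 0, 0, -4, 0, 0, 0, -4, 0, 0, 0, 0, 4, 0, 0, 0, 0],
  [-4, 0, 0, 0, 0, 0, 0, 0, 0, 0, 0, 0, 0, 0, 0, 0, 0, -4, 0, 0, -4, 0, 0, 4]]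

/-- Data. -/
def T35 : List (List ℤ) := [[-4, 0, 0, 0, 0, 4, 0, 0, 0, 0, 0, 4, 4, 0, 0, 0, 0, 0, 0, 0, 0, 0, 0, 0],
  [0, 4, 0, 0, -4, 0, 0, 0, 0, 0, 0, 0, 0, 0, -4, 0, 0, 0, 0, 0, 0, 0, -4, 0],
  [0, 0, 4, -4, 0, 0, 0, 0, 0, 0, 0, 0, 0, 0, 0, 0, 0, 0, 0, -4, 0, -4, 0, 0],
  [0, 0, -4, 4, 0, 0, 0, 0, 0, 0, 0, 0, 0, 0, 0, 0, 0, 0, 0, -4, 0, -4, 0, 0],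
  [0, -4, 0, 0, 4, 0, 0, 0, 0, 0, 0, 0, 0, 0, -4, 0, 0, 0, 0, 0, 0, 0, -4, 0],
  [4, 0, 0, 0, 0, -4, 0, 0, 0, 0, 0, 4, 4, 0, 0, 0, 0, 0, 0, 0, 0, 0, 0, 0],
  [0, 0, 0, 0, 0, 0, 4, 0, 0, -4, 0, 0, 0, 0, 0, 0, -4, 0, -4, 0, 0, 0, 0, 0],
  [0, 0, 0, 0, 0, 0, 0, 4, -4, 0, -4, 0, 0, -4, 0, 0, 0, 0, 0, 0, 0, 0, 0, 0],
  [0, 0, 0, 0, 0, 0, 0, -4, 4, 0, -4, 0, 0, -4, 0, 0, 0, 0, 0, 0, 0, 0, 0, 0],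
  [0, 0, 0, 0, 0, 0, -4, 0, 0, 4, 0, 0, 0, 0, 0, 0, -4, 0, -4, 0, 0, 0, 0, 0],
  [0, 0, 0, 0, 0, 0, 0, -4, -4, 0, 4, 0, 0, -4, 0, 0, 0, 0, 0, 0, 0, 0, 0, 0],
  [4, 0, 0, 0, 0, 4, 0, 0, 0, 0, 0, -4, 4, 0, 0, 0, 0, 0, 0, 0, 0, 0, 0, 0],
  [4, 0, 0, 0, 0, 4, 0, 0, 0, 0, 0, 4, -4, 0, 0, 0, 0, 0, 0, 0, 0, 0, 0, 0],
  [0, 0, 0, 0, 0, 0, 0, -4, -4, 0, -4, 0, 0, 4, 0, 0, 0, 0, 0, 0, 0, 0, 0, 0],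
  [0, -4, 0, 0, -4, 0, 0, 0, 0, 0, 0, 0, 0, 0, 4, 0, 0, 0, 0, 0, 0, 0, -4, 0],
  [0, 0, 0, 0, 0, 0, 0, 0, 0, 0, 0, 0, 0, 0, 0, 4, 0, -4, 0, 0, -4, 0, 0, -4],
  [0, 0, 0, 0, 0, 0, -4, 0, 0, -4, 0, 0, 0, 0, 0, 0, 4, 0, -4, 0, 0, 0, 0, 0],
  [0, 0, 0, 0, 0, 0, 0, 0, 0, 0, 0, 0, 0, 0, 0, -4, 0, 4, 0, 0, -4, 0, 0, -4],
  [0, 0, 0, 0, 0, 0, -4, 0, 0, -4, 0, 0, 0, 0, 0, 0, -4, 0, 4, 0, 0, 0, 0, 0],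
  [0, 0, -4, -4, 0, 0, 0, 0, 0, 0, 0, 0, 0, 0, 0, 0, 0, 0, 0, 4, 0, -4, 0, 0],
  [0, 0, 0, 0, 0, 0, 0, 0, 0, 0, 0, 0, 0, 0, 0, -4, 0, -4, 0, 0, 4, 0, 0, -4],
  [0, 0, -4, -4, 0, 0, 0, 0, 0, 0, 0, 0, 0, 0, 0, 0, 0, 0, 0, -4, 0, 4, 0, 0],
  [0, -4, 0, 0, -4, 0, 0, 0, 0, 0, 0, 0, 0, 0, -4, 0, 0, 0, 0, 0, 0, 0, 4, 0],
  [0, 0, 0, 0, 0, 0, 0, 0, 0, 0, 0, 0, 0, 0, 0, -4, 0, -4, 0, 0, -4, 0, 0, 4]]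

/-- Data. -/
def T36 : List (List ℤ) := [[6, 0, 0, 0, 0, 2, 0, 0, 0, 0, 0, 2, 2, 0, 0, -2, 0, 2, 0, 0, 2, 0, 0, 2],
  [2, 0, 0, 0, 0, -2, 0, 0, 0, 0, 0, -2, 6, 0, 0, 2, 0, -2, 0, 0, -2, 0, 0, -2],
  [0, -2, 2, 2, -2, 0, -2, 2, 2, 2, -2, 0, 0, 2, 2, 0, 2, 0, 2, -2, 0, 2, -2, 0],
  [0, 2, -2, 2, 2, 0, 2, 2, 2, -2, 2, 0, 0, -2, 2, 0, 2, 0, 2, -2, 0, -2, -2, 0],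
  [0, -2, -2, 2, 2, 0, 2, -2, 2, 2, 2, 0, 0, 2, -2, 0, 2, 0, -2, 2, 0, 2, -2, 0],
  [0, 2, 2, 2, 2, 0, 2, 2, 2, -2, -2, 0, 0, 2, -2, 0, -2, 0, -2, -2, 0, 2, 2, 0],
  [0, -2, 2, 2, 2, 0, 2, -2, 2, 2, -2, 0, 0, -2, 2, 0, -2, 0, 2, 2, 0, -2, 2, 0],
  [0, -2, 2, -2, -2, 0, 2, 2, 2, -2, 2, 0, 0, -2, -2, 0, 2, 0, 2, 2, 0, 2, 2, 0],
  [2, 0, 0, 0, 0, 6, 0, 0, 0, 0, 0, -2, -2, 0, 0, 2, 0, -2, 0, 0, -2, 0, 0, -2],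
  [0, -2, -2, -2, 2, 0, 2, 2, -2, 2, 2, 0, 0, 2, 2, 0, -2, 0, 2, -2, 0, 2, 2, 0],
  [0, 2, 2, 2, 2, 0, -2, -2, -2, 2, 2, 0, 0, -2, -2, 0, 2, 0, 2, -2, 0, 2, 2, 0],
  [0, 2, 2, -2, 2, 0, -2, 2, 2, 2, 2, 0, 0, -2, 2, 0, -2, 0, -2, 2, 0, 2, -2, 0],
  [0, 2, -2, 2, -2, 0, -2, -2, 2, -2, 2, 0, 0, 2, 2, 0, -2, 0, 2, 2, 0, 2, 2, 0],
  [0, 2, 2, -2, -2, 0, 2, -2, 2, 2, 2, 0, 0, 2, 2, 0, 2, 0, -2, -2, 0, -2, 2, 0],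
  [0, 2, 2, -2, 2, 0, 2, -2, -2, -2, -2, 0, 0, 2, 2, 0, 2, 0, 2, 2, 0, 2, -2, 0],
  [0, -2, 2, 2, 2, 0, -2, 2, -2, -2, 2, 0, 0, 2, 2, 0, 2, 0, -2, 2, 0, -2, 2, 0],
  [-2, 0, 0, 0, 0, 2, 0, 0, 0, 0, 0, 2, 2, 0, 0, 6, 0, 2, 0, 0, 2, 0, 0, 2],
  [2, 0, 0, 0, 0, -2, 0, 0, 0, 0, 0, -2, -2, 0, 0, 2, 0, 6, 0, 0, -2, 0, 0, -2],
  [0, 2, 2, 2, -2, 0, 2, 2, -2, 2, 2, 0, 0, 2, -2, 0, -2, 0, 2, 2, 0, -2, -2, 0],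
  [0, 2, -2, 2, -2, 0, 2, 2, -2, 2, -2, 0, 0, -2, 2, 0, 2, 0, -2, 2, 0, 2, 2, 0],
  [2, 0, 0, 0, 0, -2, 0, 0, 0, 0, 0, -2, -2, 0, 0, 2, 0, -2, 0, 0, 6, 0, 0, -2],
  [2, 0, 0, 0, 0, -2, 0, 0, 0, 0, 0, 6, -2, 0, 0, 2, 0, -2, 0, 0, -2, 0, 0, -2],
  [0, 2, -2, -2, 2, 0, -2, 2, 2, 2, -2, 0, 0, 2, -2, 0, 2, 0, 2, 2, 0, -2, 2, 0],
  [2, 0, 0, 0, 0, -2, 0, 0, 0, 0, 0, -2, -2, 0, 0, 2, 0, -2, 0, 0, -2, 0, 0, 6]]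

/-- Data. -/
def T37 : List (List ℤ) := [[0, 0, 0, 0, 0, 8, 0, 0, 0, 0, 0, 0, 0, 0, 0, 0, 0, 0, 0, 0, 0, 0, 0, 0],
  [0, 0, 0, 0, 0, 0, 0, 0, 0, 0, 0, 0, 0, 8, 0, 0, 0, 0, 0, 0, 0, 0, 0, 0],
  [0, 0, 0, 0, 0, 0, 0, 0, 0, 0, 0, 0, 0, 0, 0, 0, 0, 0, 0, 8, 0, 0, 0, 0],
  [0, 0, 8, 0, 0, 0, 0, 0, 0, 0, 0, 0, 0, 0, 0, 0, 0, 0, 0, 0, 0, 0, 0, 0],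
  [0, 0, 0, 0, 0, 0, 0, 0, 0, 0, 0, 0, 0, 0, -8, 0, 0, 0, 0, 0, 0, 0, 0, 0],
  [0, 0, 0, 0, 0, 0, 0, 0, 0, 0, 0, 0, 0, 0, 0, 0, 0, 0, 0, 0, 8, 0, 0, 0],
  [0, 0, 0, 0, 0, 0, 0, 0, 0, 0, 0, 0, 0, 0, 0, 0, 0, 0, 0, 0, 0, 0, -8, 0],
  [0, 0, 0, 0, 0, 0, 0, 0, 0, 0, 0, 0, 0, 0, 0, 0, 0, 0, -8, 0, 0, 0, 0, 0],
  [0, 0, 0, 0, 0, 0, 0, 0, 0, 0, 0, 0, 0, 0, 0, 0, 0, 0, 0, 0, 0, -8, 0, 0],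
  [0, 0, 0, 0, 0, 0, 0, 0, 0, 0, -8, 0, 0, 0, 0, 0, 0, 0, 0, 0, 0, 0, 0, 0],
  [0, 0, 0, -8, 0, 0, 0, 0, 0, 0, 0, 0, 0, 0, 0, 0, 0, 0, 0, 0, 0, 0, 0, 0],
  [0, 0, 0, 0, 0, 0, 0, 0, 0, 0, 0, 0, -8, 0, 0, 0, 0, 0, 0, 0, 0, 0, 0, 0],
  [0, 0, 0, 0, 0, 0, 0, 0, 0, 0, 0, 0, 0, 0, 0, -8, 0, 0, 0, 0, 0, 0, 0, 0],
  [0, 0, 0, 0, 0, 0, -8, 0, 0, 0, 0, 0, 0, 0, 0, 0, 0, 0, 0, 0, 0, 0, 0, 0],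
  [0, 0, 0, 0, 0, 0, 0, 0, 8, 0, 0, 0, 0, 0, 0, 0, 0, 0, 0, 0, 0, 0, 0, 0],
  [0, 0, 0, 0, 0, 0, 0, 0, 0, 0, 0, 0, 0, 0, 0, 0, 0, -8, 0, 0, 0, 0, 0, 0],
  [0, -8, 0, 0, 0, 0, 0, 0, 0, 0, 0, 0, 0, 0, 0, 0, 0, 0, 0, 0, 0, 0, 0, 0],
  [8, 0, 0, 0, 0, 0, 0, 0, 0, 0, 0, 0, 0, 0, 0, 0, 0, 0, 0, 0, 0, 0, 0, 0],
  [0, 0, 0, 0, 0, 0, 0, -8, 0, 0, 0, 0, 0, 0, 0, 0, 0, 0, 0, 0, 0, 0, 0, 0],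
  [0, 0, 0, 0, 0, 0, 0, 0, 0, 0, 0, 0, 0, 0, 0, 0, -8, 0, 0, 0, 0, 0, 0, 0],
  [0, 0, 0, 0, 0, 0, 0, 0, 0, 0, 0, -8, 0, 0, 0, 0, 0, 0, 0, 0, 0, 0, 0, 0],
  [0, 0, 0, 0, 0, 0, 0, 0, 0, -8, 0, 0, 0, 0, 0, 0, 0, 0, 0, 0, 0, 0, 0, 0],
  [0, 0, 0, 0, -8, 0, 0, 0, 0, 0, 0, 0, 0, 0, 0, 0, 0, 0, 0, 0, 0, 0, 0, 0],
  [0, 0, 0, 0, 0, 0, 0, 0, 0, 0, 0, 0, 0, 0, 0, 0, 0, 0, 0, 0, 0, 0, 0, 8]]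

/-- Data. -/
def T38 : List (List ℤ) := [[-4, 0, 4, 0, 0, 0, 0, 0, 4, 0, 0, 0, 0, 0, 0, 0, 0, 0, 0, 4, 0, 0, 0, 0],
  [0, 4, 0, -4, 0, 0, 0, 0, 0, 0, 0, 0, 0, 0, 0, -4, -4, 0, 0, 0, 0, 0, 0, 0],
  [4, 0, -4, 0, 0, 0, 0, 0, 4, 0, 0, 0, 0, 0, 0, 0, 0, 0, 0, 4, 0, 0, 0, 0],
  [0, -4, 0, 4, 0, 0, 0, 0, 0, 0, 0, 0, 0, 0, 0, -4, -4, 0, 0, 0, 0, 0, 0, 0],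
  [0, 0, 0, 0, 4, 0, 0, -4, 0, 0, 0, -4, 0, 0, 0, 0, 0, 0, 0, 0, 0, 0, -4, 0],
  [0, 0, 0, 0, 0, 4, 0, 0, 0, 0, 0, 0, 0, -4, 0, 0, 0, 0, 0, 0, -4, 0, 0, -4],
  [0, 0, 0, 0, 0, 0, 4, 0, 0, -4, -4, 0, -4, 0, 0, 0, 0, 0, 0, 0, 0, 0, 0, 0],
  [0, 0, 0, 0, -4, 0, 0, 4, 0, 0, 0, -4, 0, 0, 0, 0, 0, 0, 0, 0, 0, 0, -4, 0],
  [4, 0, 4, 0, 0, 0, 0, 0, -4, 0, 0, 0, 0, 0, 0, 0, 0, 0, 0, 4, 0, 0, 0, 0],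
  [0, 0, 0, 0, 0, 0, -4, 0, 0, 4, -4, 0, -4, 0, 0, 0, 0, 0, 0, 0, 0, 0, 0, 0],
  [0, 0, 0, 0, 0, 0, -4, 0, 0, -4, 4, 0, -4, 0, 0, 0, 0, 0, 0, 0, 0, 0, 0, 0],
  [0, 0, 0, 0, -4, 0, 0, -4, 0, 0, 0, 4, 0, 0, 0, 0, 0, 0, 0, 0, 0, 0, -4, 0],
  [0, 0, 0, 0, 0, 0, -4, 0, 0, -4, -4, 0, 4, 0, 0, 0, 0, 0, 0, 0, 0, 0, 0, 0],
  [0, 0, 0, 0, 0, -4, 0, 0, 0, 0, 0, 0, 0, 4, 0, 0, 0, 0, 0, 0, -4, 0, 0, -4],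
  [0, 0, 0, 0, 0, 0, 0, 0, 0, 0, 0, 0, 0, 0, 4, 0, 0, -4, -4, 0, 0, -4, 0, 0],
  [0, -4, 0, -4, 0, 0, 0, 0, 0, 0, 0, 0, 0, 0, 0, 4, -4, 0, 0, 0, 0, 0, 0, 0],
  [0, -4, 0, -4, 0, 0, 0, 0, 0, 0, 0, 0, 0, 0, 0, -4, 4, 0, 0, 0, 0, 0, 0, 0],
  [0, 0, 0, 0, 0, 0, 0, 0, 0, 0, 0, 0, 0, 0, -4, 0, 0, 4, -4, 0, 0, -4, 0, 0],
  [0, 0, 0, 0, 0, 0, 0, 0, 0, 0, 0, 0, 0, 0, -4, 0, 0, -4, 4, 0, 0, -4, 0, 0],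
  [4, 0, 4, 0, 0, 0, 0, 0, 4, 0, 0, 0, 0, 0, 0, 0, 0, 0, 0, -4, 0, 0, 0, 0],
  [0, 0, 0, 0, 0, -4, 0, 0, 0, 0, 0, 0, 0, -4, 0, 0, 0, 0, 0, 0, 4, 0, 0, -4],
  [0, 0, 0, 0, 0, 0, 0, 0, 0, 0, 0, 0, 0, 0, -4, 0, 0, -4, -4, 0, 0, 4, 0, 0],
  [0, 0, 0, 0, -4, 0, 0, -4, 0, 0, 0, -4, 0, 0, 0, 0, 0, 0, 0, 0, 0, 0, 4, 0],
  [0, 0, 0, 0, 0, -4, 0, 0, 0, 0, 0, 0, 0, -4, 0, 0, 0, 0, 0, 0, -4, 0, 0, 4]]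

/-- Data. -/
def T39 : List (List ℤ) := [[0, 0, 0, 0, 0, 4, 0, 0, 0, 0, 0, 0, 0, -4, 0, 0, 0, 0, 0, 0, -4, 0, 0, -4],
  [0, 0, 0, 0, 0, -4, 0, 0, 0, 0, 0, 0, 0, 4, 0, 0, 0, 0, 0, 0, -4, 0, 0, -4],
  [4, 0, 4, 0, 0, 0, 0, 0, 4, 0, 0, 0, 0, 0, 0, 0, 0, 0, 0, -4, 0, 0, 0, 0],
  [4, 0, -4, 0, 0, 0, 0, 0, 4, 0, 0, 0, 0, 0, 0, 0, 0, 0, 0, 4, 0, 0, 0, 0],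
  [0, 0, 0, 0, 0, 0, 0, 0, 0, 0, 0, 0, 0, 0, -4, 0, 0, 4, 4, 0, 0, 4, 0, 0],
  [0, 0, 0, 0, 0, -4, 0, 0, 0, 0, 0, 0, 0, -4, 0, 0, 0, 0, 0, 0, 4, 0, 0, -4],
  [0, 0, 0, 0, 4, 0, 0, 4, 0, 0, 0, 4, 0, 0, 0, 0, 0, 0, 0, 0, 0, 0, -4, 0],
  [0, 0, 0, 0, 0, 0, 0, 0, 0, 0, 0, 0, 0, 0, 4, 0, 0, 4, -4, 0, 0, 4, 0, 0],
  [0, 0, 0, 0, 0, 0, 0, 0, 0, 0, 0, 0, 0, 0, 4, 0, 0, 4, 4, 0, 0, -4, 0, 0],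
  [0, 0, 0, 0, 0, 0, 4, 0, 0, 4, -4, 0, 4, 0, 0, 0, 0, 0, 0, 0, 0, 0, 0, 0],
  [0, 4, 0, -4, 0, 0, 0, 0, 0, 0, 0, 0, 0, 0, 0, 4, 4, 0, 0, 0, 0, 0, 0, 0],
  [0, 0, 0, 0, 0, 0, 4, 0, 0, 4, 4, 0, -4, 0, 0, 0, 0, 0, 0, 0, 0, 0, 0, 0],
  [0, 4, 0, 4, 0, 0, 0, 0, 0, 0, 0, 0, 0, 0, 0, -4, 4, 0, 0, 0, 0, 0, 0, 0],
  [0, 0, 0, 0, 0, 0, -4, 0, 0, 4, 4, 0, 4, 0, 0, 0, 0, 0, 0, 0, 0, 0, 0, 0],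
  [4, 0, 4, 0, 0, 0, 0, 0, -4, 0, 0, 0, 0, 0, 0, 0, 0, 0, 0, 4, 0, 0, 0, 0],
  [0, 0, 0, 0, 0, 0, 0, 0, 0, 0, 0, 0, 0, 0, 4, 0, 0, -4, 4, 0, 0, 4, 0, 0],
  [0, -4, 0, 4, 0, 0, 0, 0, 0, 0, 0, 0, 0, 0, 0, 4, 4, 0, 0, 0, 0, 0, 0, 0],
  [-4, 0, 4, 0, 0, 0, 0, 0, 4, 0, 0, 0, 0, 0, 0, 0, 0, 0, 0, 4, 0, 0, 0, 0],
  [0, 0, 0, 0, 4, 0, 0, -4, 0, 0, 0, 4, 0, 0, 0, 0, 0, 0, 0, 0, 0, 0, 4, 0],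
  [0, 4, 0, 4, 0, 0, 0, 0, 0, 0, 0, 0, 0, 0, 0, 4, -4, 0, 0, 0, 0, 0, 0, 0],
  [0, 0, 0, 0, 4, 0, 0, 4, 0, 0, 0, -4, 0, 0, 0, 0, 0, 0, 0, 0, 0, 0, 4, 0],
  [0, 0, 0, 0, 0, 0, 4, 0, 0, -4, 4, 0, 4, 0, 0, 0, 0, 0, 0, 0, 0, 0, 0, 0],
  [0, 0, 0, 0, -4, 0, 0, 4, 0, 0, 0, 4, 0, 0, 0, 0, 0, 0, 0, 0, 0, 0, 4, 0],
  [0, 0, 0, 0, 0, -4, 0, 0, 0, 0, 0, 0, 0, -4, 0, 0, 0, 0, 0, 0, -4, 0, 0, 4]]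

/-- Data. -/
def T40 : List (List ℤ) := [[4, -4, 0, 0, -4, 0, 0, 0, 0, 0, -4, 0, 0, 0, 0, 0, 0, 0, 0, 0, 0, 0, 0, 0],
  [-4, 4, 0, 0, -4, 0, 0, 0, 0, 0, -4, 0, 0, 0, 0, 0, 0, 0, 0, 0, 0, 0, 0, 0],
  [0, 0, 4, -4, 0, 0, 0, -4, 0, 0, 0, 0, -4, 0, 0, 0, 0, 0, 0, 0, 0, 0, 0, 0],
  [0, 0, -4, 4, 0, 0, 0, -4, 0, 0, 0, 0, -4, 0, 0, 0, 0, 0, 0, 0, 0, 0, 0, 0],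
  [-4, -4, 0, 0, 4, 0, 0, 0, 0, 0, -4, 0, 0, 0, 0, 0, 0, 0, 0, 0, 0, 0, 0, 0],
  [0, 0, 0, 0, 0, 4, 0, 0, 0, 0, 0, 0, 0, -4, 0, 0, 0, -4, 0, 0, -4, 0, 0, 0],
  [0, 0, 0, 0, 0, 0, 4, 0, 0, 0, 0, 0, 0, 0, 0, -4, 0, 0, 0, -4, 0, 0, -4, 0],
  [0, 0, -4, -4, 0, 0, 0, 4, 0, 0, 0, 0, -4, 0, 0, 0, 0, 0, 0, 0, 0, 0, 0, 0],
  [0, 0, 0, 0, 0, 0, 0, 0, 4, -4, 0, -4, 0, 0, 0, 0, -4, 0, 0, 0, 0, 0, 0, 0],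
  [0, 0, 0, 0, 0, 0, 0, 0, -4, 4, 0, -4, 0, 0, 0, 0, -4, 0, 0, 0, 0, 0, 0, 0],
  [-4, -4, 0, 0, -4, 0, 0, 0, 0, 0, 4, 0, 0, 0, 0, 0, 0, 0, 0, 0, 0, 0, 0, 0],
  [0, 0, 0, 0, 0, 0, 0, 0, -4, -4, 0, 4, 0, 0, 0, 0, -4, 0, 0, 0, 0, 0, 0, 0],
  [0, 0, -4, -4, 0, 0, 0, -4, 0, 0, 0, 0, 4, 0, 0, 0, 0, 0, 0, 0, 0, 0, 0, 0],
  [0, 0, 0, 0, 0, -4, 0, 0, 0, 0, 0, 0, 0, 4, 0, 0, 0, -4, 0, 0, -4, 0, 0, 0],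
  [0, 0, 0, 0, 0, 0, 0, 0, 0, 0, 0, 0, 0, 0, -4, 0, 0, 0, 4, 0, 0, 4, 0, 4],
  [0, 0, 0, 0, 0, 0, -4, 0, 0, 0, 0, 0, 0, 0, 0, 4, 0, 0, 0, -4, 0, 0, -4, 0],
  [0, 0, 0, 0, 0, 0, 0, 0, -4, -4, 0, -4, 0, 0, 0, 0, 4, 0, 0, 0, 0, 0, 0, 0],
  [0, 0, 0, 0, 0, -4, 0, 0, 0, 0, 0, 0, 0, -4, 0, 0, 0, 4, 0, 0, -4, 0, 0, 0],
  [0, 0, 0, 0, 0, 0, 0, 0, 0, 0, 0, 0, 0, 0, 4, 0, 0, 0, -4, 0, 0, 4, 0, 4],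
  [0, 0, 0, 0, 0, 0, -4, 0, 0, 0, 0, 0, 0, 0, 0, -4, 0, 0, 0, 4, 0, 0, -4, 0],
  [0, 0, 0, 0, 0, -4, 0, 0, 0, 0, 0, 0, 0, -4, 0, 0, 0, -4, 0, 0, 4, 0, 0, 0],
  [0, 0, 0, 0, 0, 0, 0, 0, 0, 0, 0, 0, 0, 0, 4, 0, 0, 0, 4, 0, 0, -4, 0, 4],
  [0, 0, 0, 0, 0, 0, -4, 0, 0, 0, 0, 0, 0, 0, 0, -4, 0, 0, 0, -4, 0, 0, 4, 0],
  [0, 0, 0, 0, 0, 0, 0, 0, 0, 0, 0, 0, 0, 0, 4, 0, 0, 0, 4, 0, 0, 4, 0, -4]]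

/-- Data. -/
def T41 : List (List ℤ) := [[0, 0, 0, 0, 0, 6, 0, 0, 0, 0, 0, 0, 0, -2, -2, 0, 0, 2, -2, 0, -2, -2, 0, 2],
  [0, 0, 0, 0, 0, -2, 0, 0, 0, 0, 0, 0, 0, 6, -2, 0, 0, 2, -2, 0, -2, -2, 0, 2],
  [2, -2, 2, -2, -2, 0, 2, -2, 2, -2, -2, -2, -2, 0, 0, 2, -2, 0, 0, -2, 0, 0, 2, 0],
  [2, -2, -2, 2, -2, 0, -2, 2, 2, -2, -2, -2, 2, 0, 0, -2, -2, 0, 0, 2, 0, 0, -2, 0],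
  [0, 0, 0, 0, 0, -2, 0, 0, 0, 0, 0, 0, 0, -2, 6, 0, 0, 2, -2, 0, -2, -2, 0, 2],
  [0, 0, 0, 0, 0, -2, 0, 0, 0, 0, 0, 0, 0, -2, -2, 0, 0, 2, -2, 0, 6, -2, 0, 2],
  [-2, -2, -2, -2, 2, 0, 2, 2, -2, -2, -2, 2, -2, 0, 0, 2, -2, 0, 0, 2, 0, 0, -2, 0],
  [0, 0, 0, 0, 0, -2, 0, 0, 0, 0, 0, 0, 0, -2, -2, 0, 0, 2, 6, 0, -2, -2, 0, 2],
  [0, 0, 0, 0, 0, -2, 0, 0, 0, 0, 0, 0, 0, -2, -2, 0, 0, 2, -2, 0, -2, 6, 0, 2],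
  [2, 2, -2, -2, 2, 0, 2, -2, -2, 2, -2, -2, 2, 0, 0, -2, -2, 0, 0, -2, 0, 0, -2, 0],
  [-2, 2, 2, -2, -2, 0, -2, 2, -2, -2, -2, -2, 2, 0, 0, 2, 2, 0, 0, -2, 0, 0, -2, 0],
  [-2, -2, 2, 2, -2, 0, 2, 2, -2, 2, 2, -2, -2, 0, 0, -2, -2, 0, 0, -2, 0, 0, -2, 0],
  [-2, 2, -2, 2, -2, 0, 2, -2, -2, -2, -2, -2, -2, 0, 0, -2, 2, 0, 0, 2, 0, 0, 2, 0],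
  [-2, -2, -2, -2, -2, 0, -2, -2, -2, 2, 2, -2, 2, 0, 0, 2, -2, 0, 0, 2, 0, 0, 2, 0],
  [2, -2, 2, -2, -2, 0, -2, -2, -2, 2, -2, 2, -2, 0, 0, -2, 2, 0, 0, 2, 0, 0, -2, 0],
  [0, 0, 0, 0, 0, 2, 0, 0, 0, 0, 0, 0, 0, 2, 2, 0, 0, -2, 2, 0, 2, 2, 0, 6],
  [2, -2, -2, 2, 2, 0, -2, -2, -2, -2, 2, -2, -2, 0, 0, 2, 2, 0, 0, -2, 0, 0, -2, 0],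
  [-2, 2, 2, -2, 2, 0, -2, -2, 2, -2, 2, -2, -2, 0, 0, -2, -2, 0, 0, 2, 0, 0, -2, 0],
  [-2, -2, 2, 2, 2, 0, -2, -2, -2, -2, -2, 2, 2, 0, 0, -2, -2, 0, 0, -2, 0, 0, 2, 0],
  [-2, 2, -2, 2, -2, 0, -2, -2, 2, 2, -2, 2, -2, 0, 0, 2, -2, 0, 0, -2, 0, 0, -2, 0],
  [-2, -2, -2, -2, 2, 0, -2, 2, 2, 2, -2, -2, -2, 0, 0, -2, 2, 0, 0, -2, 0, 0, 2, 0],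
  [-2, -2, -2, -2, -2, 0, 2, -2, 2, -2, 2, 2, 2, 0, 0, -2, 2, 0, 0, -2, 0, 0, -2, 0],
  [2, 2, -2, -2, -2, 0, -2, 2, -2, -2, 2, 2, -2, 0, 0, -2, -2, 0, 0, -2, 0, 0, 2, 0],
  [0, 0, 0, 0, 0, 2, 0, 0, 0, 0, 0, 0, 0, 2, 2, 0, 0, 6, 2, 0, 2, 2, 0, -2]]

/-- Data. -/
def T42 : List (List ℤ) := [[-4, 0, 0, 0, 0, 4, 0, 0, 0, 0, 0, 0, 0, 0, 0, 0, 0, 4, 0, 0, 0, 0, 0, 4],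
  [0, 4, -4, -4, 0, 0, 0, 0, 0, 0, 0, 0, 0, 0, -4, 0, 0, 0, 0, 0, 0, 0, 0, 0],
  [0, -4, 4, -4, 0, 0, 0, 0, 0, 0, 0, 0, 0, 0, -4, 0, 0, 0, 0, 0, 0, 0, 0, 0],
  [0, -4, -4, 4, 0, 0, 0, 0, 0, 0, 0, 0, 0, 0, -4, 0, 0, 0, 0, 0, 0, 0, 0, 0],
  [0, 0, 0, 0, 4, 0, 0, 0, 0, 0, 0, 0, 0, 0, 0, 0, 0, 0, 0, -4, 0, -4, -4, 0],
  [4, 0, 0, 0, 0, -4, 0, 0, 0, 0, 0, 0, 0, 0, 0, 0, 0, 4, 0, 0, 0, 0, 0, 4],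
  [0, 0, 0, 0, 0, 0, 4, -4, 0, 0, 0, 0, 0, -4, 0, 0, -4, 0, 0, 0, 0, 0, 0, 0],
  [0, 0, 0, 0, 0, 0, -4, 4, 0, 0, 0, 0, 0, -4, 0, 0, -4, 0, 0, 0, 0, 0, 0, 0],
  [0, 0, 0, 0, 0, 0, 0, 0, 4, -4, -4, 0, 0, 0, 0, 0, 0, 0, -4, 0, 0, 0, 0, 0],
  [0, 0, 0, 0, 0, 0, 0, 0, -4, 4, -4, 0, 0, 0, 0, 0, 0, 0, -4, 0, 0, 0, 0, 0],
  [0, 0, 0, 0, 0, 0, 0, 0, -4, -4, 4, 0, 0, 0, 0, 0, 0, 0, -4, 0, 0, 0, 0, 0],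
  [0, 0, 0, 0, 0, 0, 0, 0, 0, 0, 0, 4, -4, 0, 0, -4, 0, 0, 0, 0, -4, 0, 0, 0],
  [0, 0, 0, 0, 0, 0, 0, 0, 0, 0, 0, -4, 4, 0, 0, -4, 0, 0, 0, 0, -4, 0, 0, 0],
  [0, 0, 0, 0, 0, 0, -4, -4, 0, 0, 0, 0, 0, 4, 0, 0, -4, 0, 0, 0, 0, 0, 0, 0],
  [0, -4, -4, -4, 0, 0, 0, 0, 0, 0, 0, 0, 0, 0, 4, 0, 0, 0, 0, 0, 0, 0, 0, 0],
  [0, 0, 0, 0, 0, 0, 0, 0, 0, 0, 0, -4, -4, 0, 0, 4, 0, 0, 0, 0, -4, 0, 0, 0],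
  [0, 0, 0, 0, 0, 0, -4, -4, 0, 0, 0, 0, 0, -4, 0, 0, 4, 0, 0, 0, 0, 0, 0, 0],
  [4, 0, 0, 0, 0, 4, 0, 0, 0, 0, 0, 0, 0, 0, 0, 0, 0, -4, 0, 0, 0, 0, 0, 4],
  [0, 0, 0, 0, 0, 0, 0, 0, -4, -4, -4, 0, 0, 0, 0, 0, 0, 0, 4, 0, 0, 0, 0, 0],
  [0, 0, 0, 0, -4, 0, 0, 0, 0, 0, 0, 0, 0, 0, 0, 0, 0, 0, 0, 4, 0, -4, -4, 0],
  [0, 0, 0, 0, 0, 0, 0, 0, 0, 0, 0, -4, -4, 0, 0, -4, 0, 0, 0, 0, 4, 0, 0, 0],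
  [0, 0, 0, 0, -4, 0, 0, 0, 0, 0, 0, 0, 0, 0, 0, 0, 0, 0, 0, -4, 0, 4, -4, 0],
  [0, 0, 0, 0, -4, 0, 0, 0, 0, 0, 0, 0, 0, 0, 0, 0, 0, 0, 0, -4, 0, -4, 4, 0],
  [4, 0, 0, 0, 0, 4, 0, 0, 0, 0, 0, 0, 0, 0, 0, 0, 0, 4, 0, 0, 0, 0, 0, -4]]

/-- Data. -/
def T43 : List (List ℤ) := [[5, 1, 1, 1, 1, -1, 1, 1, 1, 1, 1, 1, 1, -1, -1, 1, 1, 3, -1, 1, -1, -1, 1, 3],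
  [1, 1, 1, 1, 1, 3, -3, -3, 1, 1, 1, 1, 1, 3, -1, 1, -3, -1, -1, 1, -1, -1, 1, -1],
  [-1, -1, 3, -1, -1, 1, 3, -1, 3, -1, -1, -1, -1, 1, 1, 3, -1, 1, 1, -1, 1, 1, 3, 1],
  [-1, -1, -1, 3, -1, 1, -1, 3, 3, -1, -1, -1, 3, 1, 1, -1, -1, 1, 1, 3, 1, 1, -1, 1],
  [1, -3, -3, -3, 1, 3, 1, 1, 1, 1, 1, 1, 1, -1, 3, 1, 1, -1, -1, 1, -1, -1, 1, -1],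
  [1, 1, 1, 1, 1, 3, 1, 1, 1, 1, 1, -3, -3, -1, -1, -3, 1, -1, -1, 1, 3, -1, 1, -1],
  [1, 1, 1, 1, 1, -1, 1, 1, 1, 1, 1, 1, -3, -1, 3, 1, -3, -1, 3, 1, -1, -1, -3, -1],
  [1, 1, 1, 1, 1, 3, 1, 1, -3, -3, -3, 1, 1, -1, -1, 1, 1, -1, 3, 1, -1, -1, 1, -1],
  [1, 1, 1, 1, -3, 3, 1, 1, 1, 1, 1, 1, 1, -1, -1, 1, 1, -1, -1, -3, -1, 3, -3, -1],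
  [-1, 3, -1, -1, 3, 1, 3, -1, -1, 3, -1, -1, 3, 1, 1, -1, -1, 1, 1, -1, 1, 1, -1, 1],
  [1, 1, 1, -3, 1, -1, -3, 1, 1, 1, 1, -3, 1, -1, -1, 1, 1, -1, 3, 1, -1, 3, 1, -1],
  [1, -3, 1, 1, 1, -1, 1, 1, -3, 1, 1, 1, 1, -1, -1, 1, -3, -1, -1, 1, 3, 3, 1, -1],
  [1, 1, -3, 1, -3, -1, 1, -3, 1, 1, 1, 1, 1, -1, -1, 1, 1, -1, 3, 1, 3, -1, 1, -1],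
  [1, 1, 1, 1, -3, -1, 1, 1, -3, 1, 1, -3, 1, 3, 3, 1, 1, -1, -1, 1, -1, -1, 1, -1],
  [-1, -1, 3, -1, -1, 1, -1, -1, -1, 3, -1, 3, -1, 1, 1, -1, 3, 1, 1, 3, 1, 1, -1, 1],
  [3, -1, -1, -1, -1, 1, -1, -1, -1, -1, -1, -1, -1, 1, 1, -1, -1, 5, 1, -1, 1, 1, -1, -3],
  [-1, -1, -1, 3, 3, 1, -1, -1, -1, -1, 3, -1, -1, 1, 1, 3, 3, 1, 1, -1, 1, 1, -1, 1],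
  [1, 1, 1, -3, 1, -1, 1, 1, 1, -3, 1, 1, 1, 3, -1, 1, 1, -1, -1, 1, 3, -1, -3, -1],
  [1, -3, 1, 1, 1, -1, 1, 1, 1, 1, 1, 1, 1, 3, -1, -3, 1, -1, 3, -3, -1, -1, 1, -1],
  [1, 1, -3, 1, 1, -1, 1, 1, 1, 1, -3, 1, -3, 3, -1, 1, 1, -1, -1, 1, -1, 3, 1, -1],
  [1, 1, 1, 1, 1, -1, -3, 1, 1, 1, -3, 1, 1, -1, 3, 1, 1, -1, -1, -3, 3, -1, 1, -1],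
  [1, 1, 1, 1, 1, -1, 1, -3, 1, -3, 1, 1, 1, -1, 3, -3, 1, -1, -1, 1, -1, 3, 1, -1],
  [-1, 3, -1, -1, -1, 1, -1, 3, -1, -1, 3, 3, -1, 1, 1, -1, -1, 1, 1, -1, 1, 1, 3, 1],
  [3, -1, -1, -1, -1, 1, -1, -1, -1, -1, -1, -1, -1, 1, 1, -1, -1, -3, 1, -1, 1, 1, -1, 5]]

/-- Data. -/
def T44 : List (List ℤ) := [[0, 0, 0, 0, 0, 0, 0, 0, 0, 0, 0, 0, 0, 8, 0, 0, 0, 0, 0, 0, 0, 0, 0, 0],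
  [0, 0, 0, 0, 0, 0, 0, 0, 0, 0, 0, 0, 0, 0, 0, 0, 0, 0, 0, 0, 8, 0, 0, 0],
  [0, 0, 0, 0, 0, 0, 0, 0, 0, 0, 0, 0, 0, 0, 0, 0, 0, 0, 0, 0, 0, 0, 8, 0],
  [0, -8, 0, 0, 0, 0, 0, 0, 0, 0, 0, 0, 0, 0, 0, 0, 0, 0, 0, 0, 0, 0, 0, 0],
  [0, 0, -8, 0, 0, 0, 0, 0, 0, 0, 0, 0, 0, 0, 0, 0, 0, 0, 0, 0, 0, 0, 0, 0],
  [0, 0, 0, -8, 0, 0, 0, 0, 0, 0, 0, 0, 0, 0, 0, 0, 0, 0, 0, 0, 0, 0, 0, 0],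
  [0, 0, 0, 0, 0, 0, 0, 0, 0, 0, 0, 0, 0, 0, 0, 0, 0, 0, -8, 0, 0, 0, 0, 0],
  [0, 0, 0, 0, 0, 0, 0, 0, 0, 0, 0, 0, 0, 0, -8, 0, 0, 0, 0, 0, 0, 0, 0, 0],
  [0, 0, 0, 0, 0, 0, 0, 0, 0, 0, 0, 0, 0, 0, 0, 0, 0, 0, 0, 0, 0, 0, 0, -8],
  [0, 0, 0, 0, 0, 0, 0, 0, 0, 0, 0, 0, 0, 0, 0, 0, 8, 0, 0, 0, 0, 0, 0, 0],
  [0, 0, 0, 0, 0, 0, 0, 0, 0, 8, 0, 0, 0, 0, 0, 0, 0, 0, 0, 0, 0, 0, 0, 0],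
  [0, 0, 0, 0, 0, 0, 0, -8, 0, 0, 0, 0, 0, 0, 0, 0, 0, 0, 0, 0, 0, 0, 0, 0],
  [0, 0, 0, 0, 0, -8, 0, 0, 0, 0, 0, 0, 0, 0, 0, 0, 0, 0, 0, 0, 0, 0, 0, 0],
  [0, 0, 0, 0, 0, 0, 0, 0, -8, 0, 0, 0, 0, 0, 0, 0, 0, 0, 0, 0, 0, 0, 0, 0],
  [0, 0, 0, 0, 0, 0, 0, 0, 0, 0, 0, 0, -8, 0, 0, 0, 0, 0, 0, 0, 0, 0, 0, 0],
  [0, 0, 0, 0, 0, 0, 0, 0, 0, 0, 8, 0, 0, 0, 0, 0, 0, 0, 0, 0, 0, 0, 0, 0],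
  [0, 0, 0, 0, 0, 0, 0, 0, 0, 0, 0, 0, 0, 0, 0, 0, 0, 0, 0, 0, 0, -8, 0, 0],
  [0, 0, 0, 0, 0, 0, -8, 0, 0, 0, 0, 0, 0, 0, 0, 0, 0, 0, 0, 0, 0, 0, 0, 0],
  [0, 0, 0, 0, 0, 0, 0, 0, 0, 0, 0, -8, 0, 0, 0, 0, 0, 0, 0, 0, 0, 0, 0, 0],
  [0, 0, 0, 0, 0, 0, 0, 0, 0, 0, 0, 0, 0, 0, 0, 0, 0, 0, 0, -8, 0, 0, 0, 0],
  [0, 0, 0, 0, 0, 0, 0, 0, 0, 0, 0, 0, 0, 0, 0, 8, 0, 0, 0, 0, 0, 0, 0, 0],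
  [-8, 0, 0, 0, 0, 0, 0, 0, 0, 0, 0, 0, 0, 0, 0, 0, 0, 0, 0, 0, 0, 0, 0, 0],
  [0, 0, 0, 0, 0, 0, 0, 0, 0, 0, 0, 0, 0, 0, 0, 0, 0, -8, 0, 0, 0, 0, 0, 0],
  [0, 0, 0, 0, 8, 0, 0, 0, 0, 0, 0, 0, 0, 0, 0, 0, 0, 0, 0, 0, 0, 0, 0, 0]]

/-- Data. -/
def T45 : List (List ℤ) := [[-4, 0, 0, 0, 4, 0, 0, 0, 0, 0, 0, 0, 0, 4, 0, 0, 0, 0, 0, 0, 4, 0, 0, 0],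
  [0, 4, 0, 0, 0, -4, 0, 0, 0, 0, -4, 0, 0, 0, 0, 0, 0, -4, 0, 0, 0, 0, 0, 0],
  [0, 0, 4, 0, 0, 0, 0, 0, 0, -4, 0, -4, -4, 0, 0, 0, 0, 0, 0, 0, 0, 0, 0, 0],
  [0, 0, 0, 4, 0, 0, 0, -4, -4, 0, 0, 0, 0, 0, 0, 0, -4, 0, 0, 0, 0, 0, 0, 0],
  [4, 0, 0, 0, -4, 0, 0, 0, 0, 0, 0, 0, 0, 4, 0, 0, 0, 0, 0, 0, 4, 0, 0, 0],
  [0, -4, 0, 0, 0, 4, 0, 0, 0, 0, -4, 0, 0, 0, 0, 0, 0, -4, 0, 0, 0, 0, 0, 0],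
  [0, 0, 0, 0, 0, 0, 4, 0, 0, 0, 0, 0, 0, 0, 0, -4, 0, 0, 0, 0, 0, -4, 0, -4],
  [0, 0, 0, -4, 0, 0, 0, 4, -4, 0, 0, 0, 0, 0, 0, 0, -4, 0, 0, 0, 0, 0, 0, 0],
  [0, 0, 0, -4, 0, 0, 0, -4, 4, 0, 0, 0, 0, 0, 0, 0, -4, 0, 0, 0, 0, 0, 0, 0],
  [0, 0, -4, 0, 0, 0, 0, 0, 0, 4, 0, -4, -4, 0, 0, 0, 0, 0, 0, 0, 0, 0, 0, 0],
  [0, -4, 0, 0, 0, -4, 0, 0, 0, 0, 4, 0, 0, 0, 0, 0, 0, -4, 0, 0, 0, 0, 0, 0],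
  [0, 0, -4, 0, 0, 0, 0, 0, 0, -4, 0, 4, -4, 0, 0, 0, 0, 0, 0, 0, 0, 0, 0, 0],
  [0, 0, -4, 0, 0, 0, 0, 0, 0, -4, 0, -4, 4, 0, 0, 0, 0, 0, 0, 0, 0, 0, 0, 0],
  [4, 0, 0, 0, 4, 0, 0, 0, 0, 0, 0, 0, 0, -4, 0, 0, 0, 0, 0, 0, 4, 0, 0, 0],
  [0, 0, 0, 0, 0, 0, 0, 0, 0, 0, 0, 0, 0, 0, 4, 0, 0, 0, -4, -4, 0, 0, -4, 0],
  [0, 0, 0, 0, 0, 0, -4, 0, 0, 0, 0, 0, 0, 0, 0, 4, 0, 0, 0, 0, 0, -4, 0, -4],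
  [0, 0, 0, -4, 0, 0, 0, -4, -4, 0, 0, 0, 0, 0, 0, 0, 4, 0, 0, 0, 0, 0, 0, 0],
  [0, -4, 0, 0, 0, -4, 0, 0, 0, 0, -4, 0, 0, 0, 0, 0, 0, 4, 0, 0, 0, 0, 0, 0],
  [0, 0, 0, 0, 0, 0, 0, 0, 0, 0, 0, 0, 0, 0, -4, 0, 0, 0, 4, -4, 0, 0, -4, 0],
  [0, 0, 0, 0, 0, 0, 0, 0, 0, 0, 0, 0, 0, 0, -4, 0, 0, 0, -4, 4, 0, 0, -4, 0],
  [4, 0, 0, 0, 4, 0, 0, 0, 0, 0, 0, 0, 0, 4, 0, 0, 0, 0, 0, 0, -4, 0, 0, 0],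
  [0, 0, 0, 0, 0, 0, -4, 0, 0, 0, 0, 0, 0, 0, 0, -4, 0, 0, 0, 0, 0, 4, 0, -4],
  [0, 0, 0, 0, 0, 0, 0, 0, 0, 0, 0, 0, 0, 0, -4, 0, 0, 0, -4, -4, 0, 0, 4, 0],
  [0, 0, 0, 0, 0, 0, -4, 0, 0, 0, 0, 0, 0, 0, 0, -4, 0, 0, 0, 0, 0, -4, 0, 4]]

/-- Data. -/
def T46 : List (List ℤ) := [[4, 0, 0, 0, 4, 0, 0, 0, 0, 0, 0, 0, 0, -4, 0, 0, 0, 0, 0, 0, 4, 0, 0, 0],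
  [4, 0, 0, 0, 4, 0, 0, 0, 0, 0, 0, 0, 0, 4, 0, 0, 0, 0, 0, 0, -4, 0, 0, 0],
  [0, 0, 0, 0, 0, 0, 0, 0, 0, 0, 0, 0, 0, 0, -4, 0, 0, 0, -4, -4, 0, 0, 4, 0],
  [0, -4, 0, 0, 0, 4, 0, 0, 0, 0, 4, 0, 0, 0, 0, 0, 0, 4, 0, 0, 0, 0, 0, 0],
  [0, 0, -4, 0, 0, 0, 0, 0, 0, 4, 0, 4, 4, 0, 0, 0, 0, 0, 0, 0, 0, 0, 0, 0],
  [0, 0, 0, -4, 0, 0, 0, 4, 4, 0, 0, 0, 0, 0, 0, 0, 4, 0, 0, 0, 0, 0, 0, 0],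
  [0, 0, 0, 0, 0, 0, 0, 0, 0, 0, 0, 0, 0, 0, 4, 0, 0, 0, -4, 4, 0, 0, 4, 0],
  [0, 0, 0, 0, 0, 0, 0, 0, 0, 0, 0, 0, 0, 0, -4, 0, 0, 0, 4, 4, 0, 0, 4, 0],
  [0, 0, 0, 0, 0, 0, 4, 0, 0, 0, 0, 0, 0, 0, 0, 4, 0, 0, 0, 0, 0, 4, 0, -4],
  [0, 0, 0, -4, 0, 0, 0, -4, -4, 0, 0, 0, 0, 0, 0, 0, 4, 0, 0, 0, 0, 0, 0, 0],
  [0, 0, -4, 0, 0, 0, 0, 0, 0, 4, 0, -4, -4, 0, 0, 0, 0, 0, 0, 0, 0, 0, 0, 0],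
  [0, 0, 0, 4, 0, 0, 0, -4, 4, 0, 0, 0, 0, 0, 0, 0, 4, 0, 0, 0, 0, 0, 0, 0],
  [0, 4, 0, 0, 0, -4, 0, 0, 0, 0, 4, 0, 0, 0, 0, 0, 0, 4, 0, 0, 0, 0, 0, 0],
  [0, 0, 0, 4, 0, 0, 0, 4, -4, 0, 0, 0, 0, 0, 0, 0, 4, 0, 0, 0, 0, 0, 0, 0],
  [0, 0, 4, 0, 0, 0, 0, 0, 0, 4, 0, 4, -4, 0, 0, 0, 0, 0, 0, 0, 0, 0, 0, 0],
  [0, -4, 0, 0, 0, -4, 0, 0, 0, 0, 4, 0, 0, 0, 0, 0, 0, -4, 0, 0, 0, 0, 0, 0],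
  [0, 0, 0, 0, 0, 0, 4, 0, 0, 0, 0, 0, 0, 0, 0, 4, 0, 0, 0, 0, 0, -4, 0, 4],
  [0, 0, 0, 0, 0, 0, -4, 0, 0, 0, 0, 0, 0, 0, 0, 4, 0, 0, 0, 0, 0, 4, 0, 4],
  [0, 0, 4, 0, 0, 0, 0, 0, 0, 4, 0, -4, 4, 0, 0, 0, 0, 0, 0, 0, 0, 0, 0, 0],
  [0, 0, 0, 0, 0, 0, 0, 0, 0, 0, 0, 0, 0, 0, 4, 0, 0, 0, 4, -4, 0, 0, 4, 0],
  [0, 0, 0, 0, 0, 0, -4, 0, 0, 0, 0, 0, 0, 0, 0, 4, 0, 0, 0, 0, 0, -4, 0, -4],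
  [4, 0, 0, 0, -4, 0, 0, 0, 0, 0, 0, 0, 0, -4, 0, 0, 0, 0, 0, 0, -4, 0, 0, 0],
  [0, 4, 0, 0, 0, 4, 0, 0, 0, 0, 4, 0, 0, 0, 0, 0, 0, -4, 0, 0, 0, 0, 0, 0],
  [4, 0, 0, 0, -4, 0, 0, 0, 0, 0, 0, 0, 0, 4, 0, 0, 0, 0, 0, 0, 4, 0, 0, 0]]

/-- Data. -/
def T47 : List (List ℤ) := [[4, -4, -4, 0, 0, 0, 0, 0, 0, 0, 0, 0, 0, 0, 0, 0, 0, 0, 0, 0, -4, 0, 0, 0],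
  [-4, 4, -4, 0, 0, 0, 0, 0, 0, 0, 0, 0, 0, 0, 0, 0, 0, 0, 0, 0, -4, 0, 0, 0],
  [-4, -4, 4, 0, 0, 0, 0, 0, 0, 0, 0, 0, 0, 0, 0, 0, 0, 0, 0, 0, -4, 0, 0, 0],
  [0, 0, 0, -4, 0, 0, 0, 0, 0, 0, 0, 0, 0, 4, 0, 0, 0, 0, 4, 0, 0, 4, 0, 0],
  [0, 0, 0, 0, 4, 0, -4, 0, -4, 0, 0, 0, 0, 0, -4, 0, 0, 0, 0, 0, 0, 0, 0, 0],
  [0, 0, 0, 0, 0, 4, 0, -4, 0, 0, 0, -4, 0, 0, 0, 0, -4, 0, 0, 0, 0, 0, 0, 0],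
  [0, 0, 0, 0, -4, 0, 4, 0, -4, 0, 0, 0, 0, 0, -4, 0, 0, 0, 0, 0, 0, 0, 0, 0],
  [0, 0, 0, 0, 0, -4, 0, 4, 0, 0, 0, -4, 0, 0, 0, 0, -4, 0, 0, 0, 0, 0, 0, 0],
  [0, 0, 0, 0, -4, 0, -4, 0, 4, 0, 0, 0, 0, 0, -4, 0, 0, 0, 0, 0, 0, 0, 0, 0],
  [0, 0, 0, 0, 0, 0, 0, 0, 0, 4, -4, 0, 0, 0, 0, -4, 0, 0, 0, 0, 0, 0, 0, -4],
  [0, 0, 0, 0, 0, 0, 0, 0, 0, -4, 4, 0, 0, 0, 0, -4, 0, 0, 0, 0, 0, 0, 0, -4],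
  [0, 0, 0, 0, 0, -4, 0, -4, 0, 0, 0, 4, 0, 0, 0, 0, -4, 0, 0, 0, 0, 0, 0, 0],
  [0, 0, 0, 0, 0, 0, 0, 0, 0, 0, 0, 0, 4, 0, 0, 0, 0, -4, 0, -4, 0, 0, -4, 0],
  [0, 0, 0, 4, 0, 0, 0, 0, 0, 0, 0, 0, 0, -4, 0, 0, 0, 0, 4, 0, 0, 4, 0, 0],
  [0, 0, 0, 0, -4, 0, -4, 0, -4, 0, 0, 0, 0, 0, 4, 0, 0, 0, 0, 0, 0, 0, 0, 0],
  [0, 0, 0, 0, 0, 0, 0, 0, 0, -4, -4, 0, 0, 0, 0, 4, 0, 0, 0, 0, 0, 0, 0, -4],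
  [0, 0, 0, 0, 0, -4, 0, -4, 0, 0, 0, -4, 0, 0, 0, 0, 4, 0, 0, 0, 0, 0, 0, 0],
  [0, 0, 0, 0, 0, 0, 0, 0, 0, 0, 0, 0, -4, 0, 0, 0, 0, 4, 0, -4, 0, 0, -4, 0],
  [0, 0, 0, 4, 0, 0, 0, 0, 0, 0, 0, 0, 0, 4, 0, 0, 0, 0, -4, 0, 0, 4, 0, 0],
  [0, 0, 0, 0, 0, 0, 0, 0, 0, 0, 0, 0, -4, 0, 0, 0, 0, -4, 0, 4, 0, 0, -4, 0],
  [-4, -4, -4, 0, 0, 0, 0, 0, 0, 0, 0, 0, 0, 0, 0, 0, 0, 0, 0, 0, 4, 0, 0, 0],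
  [0, 0, 0, 4, 0, 0, 0, 0, 0, 0, 0, 0, 0, 4, 0, 0, 0, 0, 4, 0, 0, -4, 0, 0],
  [0, 0, 0, 0, 0, 0, 0, 0, 0, 0, 0, 0, -4, 0, 0, 0, 0, -4, 0, -4, 0, 0, 4, 0],
  [0, 0, 0, 0, 0, 0, 0, 0, 0, -4, -4, 0, 0, 0, 0, -4, 0, 0, 0, 0, 0, 0, 0, 4]]

/-- Data. -/
def T48 : List (List ℤ) := [[0, -4, -4, -2, 2, 0, -2, 0, -2, 0, 0, 0, 0, 2, -2, 0, 0, 0, -2, 0, 0, -2, 0, 0],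
  [4, 0, 0, 2, 2, 0, -2, 0, -2, 0, 0, 0, 0, -2, -2, 0, 0, 0, 2, 0, -4, 2, 0, 0],
  [0, 0, 0, -2, 2, 0, 2, 0, 2, 0, 0, 0, 0, -2, -2, 0, 0, 0, 2, -4, 0, -2, 4, 0],
  [2, -2, 2, 0, 0, 2, 0, -2, 0, -2, 2, -2, -2, 0, 0, -2, -2, 2, 0, -2, 2, 0, -2, -2],
  [2, 2, -2, 0, 0, -2, 0, -2, 0, 2, -2, 2, 2, 0, 0, -2, -2, -2, 0, -2, 2, 0, -2, -2],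
  [0, 0, 0, 2, -2, -4, -2, 0, 2, 0, 0, -4, 0, -2, -2, 0, 0, 0, -2, 0, 0, -2, 0, 0],
  [0, 0, 0, -2, -2, 0, -2, 0, -2, 0, 0, 0, -4, -2, 2, 0, 0, -4, 2, 0, 0, -2, 0, 0],
  [0, 0, 0, 2, 2, 0, 2, 0, 2, 0, 0, 0, -4, 2, -2, 0, 0, -4, -2, 0, 0, 2, 0, 0],
  [0, 0, 0, 2, -2, 0, 2, 0, -2, 0, 0, 0, 0, 2, -2, 4, 0, 0, 2, 0, 0, -2, 0, -4],
  [0, 0, 0, 2, 2, 0, 2, -4, -2, 0, 0, 0, 0, -2, 2, 0, 4, 0, -2, 0, 0, -2, 0, 0],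
  [2, 2, -2, 0, 0, 2, 0, 2, 0, 2, -2, -2, -2, 0, 0, -2, 2, 2, 0, 2, 2, 0, 2, -2],
  [0, 0, 0, -2, -2, 0, -2, -4, 2, 0, 0, 0, 0, 2, -2, 0, 4, 0, 2, 0, 0, 2, 0, 0],
  [-2, 2, -2, 0, 0, -2, 0, 2, 0, -2, 2, 2, -2, 0, 0, -2, 2, 2, 0, -2, -2, 0, -2, -2],
  [0, 0, 0, -2, 2, -4, 2, 0, -2, 0, 0, -4, 0, 2, 2, 0, 0, 0, 2, 0, 0, 2, 0, 0],
  [-2, -2, 2, 0, 0, -2, 0, -2, 0, 2, -2, 2, -2, 0, 0, -2, -2, 2, 0, 2, -2, 0, 2, -2],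
  [2, -2, 2, 0, 0, -2, 0, 2, 0, -2, 2, 2, 2, 0, 0, -2, 2, -2, 0, 2, 2, 0, 2, -2],
  [0, 0, 0, -2, -2, 0, 2, 0, -2, -4, -4, 0, 0, -2, -2, 0, 0, 0, -2, 0, 0, 2, 0, 0],
  [0, 0, 0, 2, 2, 0, -2, 0, 2, -4, -4, 0, 0, 2, 2, 0, 0, 0, 2, 0, 0, -2, 0, 0],
  [-2, -2, 2, 0, 0, 2, 0, 2, 0, 2, -2, -2, 2, 0, 0, -2, 2, -2, 0, -2, -2, 0, -2, -2],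
  [0, 0, 0, 2, -2, 0, -2, 0, -2, 0, 0, 0, 0, 2, 2, 0, 0, 0, -2, -4, 0, 2, 4, 0],
  [0, 0, 0, -2, 2, 0, -2, 0, 2, 0, 0, 0, 0, -2, 2, 4, 0, 0, -2, 0, 0, 2, 0, -4],
  [4, 0, 0, -2, -2, 0, 2, 0, 2, 0, 0, 0, 0, 2, 2, 0, 0, 0, -2, 0, -4, -2, 0, 0],
  [-2, 2, -2, 0, 0, 2, 0, -2, 0, -2, 2, -2, 2, 0, 0, -2, -2, -2, 0, 2, -2, 0, 2, -2],
  [0, -4, -4, 2, -2, 0, 2, 0, 2, 0, 0, 0, 0, -2, 2, 0, 0, 0, 2, 0, 0, 2, 0, 0]]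

/-- Data. -/
def T49 : List (List ℤ) := [[4, -4, -4, 0, 0, 0, 0, 0, 0, 0, 0, 0, 0, 0, 0, 0, 0, 0, 0, 0, 0, 0, 0, -4],
  [-4, 4, -4, 0, 0, 0, 0, 0, 0, 0, 0, 0, 0, 0, 0, 0, 0, 0, 0, 0, 0, 0, 0, -4],
  [-4, -4, 4, 0, 0, 0, 0, 0, 0, 0, 0, 0, 0, 0, 0, 0, 0, 0, 0, 0, 0, 0, 0, -4],
  [0, 0, 0, 4, 0, -4, 0, 0, 0, 0, 0, 0, 0, 0, -4, 0, 0, -4, 0, 0, 0, 0, 0, 0],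
  [0, 0, 0, 0, -4, 0, 0, 0, 0, 0, 0, 0, 0, 4, 0, 0, 4, 0, 0, 0, 0, 0, 4, 0],
  [0, 0, 0, -4, 0, 4, 0, 0, 0, 0, 0, 0, 0, 0, -4, 0, 0, -4, 0, 0, 0, 0, 0, 0],
  [0, 0, 0, 0, 0, 0, 4, -4, 0, 0, 0, 0, 0, 0, 0, 0, 0, 0, 0, -4, 0, -4, 0, 0],
  [0, 0, 0, 0, 0, 0, -4, 4, 0, 0, 0, 0, 0, 0, 0, 0, 0, 0, 0, -4, 0, -4, 0, 0],
  [0, 0, 0, 0, 0, 0, 0, 0, 4, 0, 0, -4, -4, 0, 0, 0, 0, 0, -4, 0, 0, 0, 0, 0],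
  [0, 0, 0, 0, 0, 0, 0, 0, 0, 4, -4, 0, 0, 0, 0, -4, 0, 0, 0, 0, -4, 0, 0, 0],
  [0, 0, 0, 0, 0, 0, 0, 0, 0, -4, 4, 0, 0, 0, 0, -4, 0, 0, 0, 0, -4, 0, 0, 0],
  [0, 0, 0, 0, 0, 0, 0, 0, -4, 0, 0, 4, -4, 0, 0, 0, 0, 0, -4, 0, 0, 0, 0, 0],
  [0, 0, 0, 0, 0, 0, 0, 0, -4, 0, 0, -4, 4, 0, 0, 0, 0, 0, -4, 0, 0, 0, 0, 0],
  [0, 0, 0, 0, 4, 0, 0, 0, 0, 0, 0, 0, 0, -4, 0, 0, 4, 0, 0, 0, 0, 0, 4, 0],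
  [0, 0, 0, -4, 0, -4, 0, 0, 0, 0, 0, 0, 0, 0, 4, 0, 0, -4, 0, 0, 0, 0, 0, 0],
  [0, 0, 0, 0, 0, 0, 0, 0, 0, -4, -4, 0, 0, 0, 0, 4, 0, 0, 0, 0, -4, 0, 0, 0],
  [0, 0, 0, 0, 4, 0, 0, 0, 0, 0, 0, 0, 0, 4, 0, 0, -4, 0, 0, 0, 0, 0, 4, 0],
  [0, 0, 0, -4, 0, -4, 0, 0, 0, 0, 0, 0, 0, 0, -4, 0, 0, 4, 0, 0, 0, 0, 0, 0],
  [0, 0, 0, 0, 0, 0, 0, 0, -4, 0, 0, -4, -4, 0, 0, 0, 0, 0, 4, 0, 0, 0, 0, 0],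
  [0, 0, 0, 0, 0, 0, -4, -4, 0, 0, 0, 0, 0, 0, 0, 0, 0, 0, 0, 4, 0, -4, 0, 0],
  [0, 0, 0, 0, 0, 0, 0, 0, 0, -4, -4, 0, 0, 0, 0, -4, 0, 0, 0, 0, 4, 0, 0, 0],
  [0, 0, 0, 0, 0, 0, -4, -4, 0, 0, 0, 0, 0, 0, 0, 0, 0, 0, 0, -4, 0, 4, 0, 0],
  [0, 0, 0, 0, 4, 0, 0, 0, 0, 0, 0, 0, 0, 4, 0, 0, 4, 0, 0, 0, 0, 0, -4, 0],
  [-4, -4, -4, 0, 0, 0, 0, 0, 0, 0, 0, 0, 0, 0, 0, 0, 0, 0, 0, 0, 0, 0, 0, 4]]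

/-- Data. -/
def T50 : List (List ℤ) := [[4, 0, 0, 0, 0, 2, 0, 2, 0, 0, 0, 2, 2, 0, 0, 0, 2, 2, 0, 2, 0, 0, 2, 4],
  [2, -2, -2, 2, -2, 0, -2, 0, -2, 2, 2, 0, 0, 2, -2, 2, 0, 0, 2, 0, -2, 2, 0, -2],
  [0, 0, 0, 0, 0, 2, 4, 2, 0, 0, 0, -2, -2, 4, 0, 0, 2, 2, 0, -2, 0, 0, -2, 0],
  [2, -2, 2, -2, -2, 0, 2, 0, 2, -2, 2, 0, 0, -2, -2, -2, 0, 0, 2, 0, 2, 2, 0, -2],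
  [2, 2, -2, 2, -2, 0, 2, 0, -2, 2, -2, 0, 0, -2, 2, -2, 0, 0, -2, 0, 2, 2, 0, -2],
  [0, 0, 0, 4, 0, -2, 0, 2, 4, 0, 0, -2, 2, 0, 0, 0, -2, 2, 0, 2, 0, 0, -2, 0],
  [0, 0, 0, 0, 0, 2, 0, 2, 0, 0, 0, 2, -2, 0, 4, 0, -2, -2, 4, 2, 0, 0, -2, 0],
  [0, 0, 0, 4, 0, 2, 0, -2, 4, 0, 0, 2, -2, 0, 0, 0, 2, -2, 0, -2, 0, 0, 2, 0],
  [2, 2, 2, 2, 2, 0, 2, 0, -2, -2, -2, 0, 0, -2, -2, 2, 0, 0, 2, 0, -2, -2, 0, -2],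
  [0, 0, 0, 0, 0, -2, 4, -2, 0, 0, 0, 2, 2, 4, 0, 0, -2, -2, 0, 2, 0, 0, 2, 0],
  [2, 2, -2, -2, 2, 0, -2, 0, 2, 2, -2, 0, 0, 2, -2, -2, 0, 0, 2, 0, 2, -2, 0, -2],
  [0, 0, 0, 0, 4, 2, 0, -2, 0, 0, 0, -2, -2, 0, 0, 0, -2, 2, 0, 2, 0, 4, 2, 0],
  [0, 4, 0, 0, 0, -2, 0, 2, 0, 0, 4, 2, -2, 0, 0, 0, -2, 2, 0, -2, 0, 0, 2, 0],
  [0, 0, 0, 0, 0, -2, 0, -2, 0, 0, 0, -2, 2, 0, 4, 0, 2, 2, 4, -2, 0, 0, 2, 0],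
  [0, 0, 4, 0, 0, -2, 0, -2, 0, 4, 0, 2, -2, 0, 0, 0, 2, 2, 0, 2, 0, 0, -2, 0],
  [2, -2, 2, 2, 2, 0, -2, 0, -2, -2, 2, 0, 0, 2, 2, -2, 0, 0, -2, 0, 2, -2, 0, -2],
  [0, 0, 0, 0, 0, 2, 0, -2, 0, 0, 0, 2, 2, 0, 0, 4, -2, 2, 0, -2, 4, 0, -2, 0],
  [0, 0, 0, 0, 0, -2, 0, 2, 0, 0, 0, -2, -2, 0, 0, 4, 2, -2, 0, 2, 4, 0, 2, 0],
  [0, 0, 4, 0, 0, 2, 0, 2, 0, 4, 0, -2, 2, 0, 0, 0, -2, -2, 0, -2, 0, 0, 2, 0],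
  [0, 0, 0, 0, 4, -2, 0, 2, 0, 0, 0, 2, 2, 0, 0, 0, 2, -2, 0, -2, 0, 4, -2, 0],
  [2, 2, 2, -2, -2, 0, -2, 0, 2, -2, -2, 0, 0, 2, 2, 2, 0, 0, -2, 0, -2, 2, 0, -2],
  [2, -2, -2, -2, 2, 0, 2, 0, 2, 2, 2, 0, 0, -2, 2, 2, 0, 0, -2, 0, -2, -2, 0, -2],
  [0, 4, 0, 0, 0, 2, 0, -2, 0, 0, 4, -2, 2, 0, 0, 0, 2, -2, 0, 2, 0, 0, -2, 0],
  [4, 0, 0, 0, 0, -2, 0, -2, 0, 0, 0, -2, -2, 0, 0, 0, -2, -2, 0, -2, 0, 0, -2, 4]]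

/-- Data. -/
def T51 : List (List ℤ) := [[0, 0, -8, 0, 0, 0, 0, 0, 0, 0, 0, 0, 0, 0, 0, 0, 0, 0, 0, 0, 0, 0, 0, 0],
  [0, 8, 0, 0, 0, 0, 0, 0, 0, 0, 0, 0, 0, 0, 0, 0, 0, 0, 0, 0, 0, 0, 0, 0],
  [-8, 0, 0, 0, 0, 0, 0, 0, 0, 0, 0, 0, 0, 0, 0, 0, 0, 0, 0, 0, 0, 0, 0, 0],
  [0, 0, 0, 0, 0, 0, 0, 0, 0, 0, 0, 0, 0, 0, 0, 0, 0, 0, 8, 0, 0, 0, 0, 0],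
  [0, 0, 0, 0, 0, 0, 0, 0, 0, 0, 0, 0, 0, 0, 0, 0, 8, 0, 0, 0, 0, 0, 0, 0],
  [0, 0, 0, 0, 0, 0, 0, 0, -8, 0, 0, 0, 0, 0, 0, 0, 0, 0, 0, 0, 0, 0, 0, 0],
  [0, 0, 0, 0, 0, 0, 0, 8, 0, 0, 0, 0, 0, 0, 0, 0, 0, 0, 0, 0, 0, 0, 0, 0],
  [0, 0, 0, 0, 0, 0, 8, 0, 0, 0, 0, 0, 0, 0, 0, 0, 0, 0, 0, 0, 0, 0, 0, 0],
  [0, 0, 0, 0, 0, -8, 0, 0, 0, 0, 0, 0, 0, 0, 0, 0, 0, 0, 0, 0, 0, 0, 0, 0],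
  [0, 0, 0, 0, 0, 0, 0, 0, 0, 0, 0, 0, 0, 0, 0, 8, 0, 0, 0, 0, 0, 0, 0, 0],
  [0, 0, 0, 0, 0, 0, 0, 0, 0, 0, 8, 0, 0, 0, 0, 0, 0, 0, 0, 0, 0, 0, 0, 0],
  [0, 0, 0, 0, 0, 0, 0, 0, 0, 0, 0, 0, 0, 0, 8, 0, 0, 0, 0, 0, 0, 0, 0, 0],
  [0, 0, 0, 0, 0, 0, 0, 0, 0, 0, 0, 0, 0, 0, 0, 0, 0, 8, 0, 0, 0, 0, 0, 0],
  [0, 0, 0, 0, 0, 0, 0, 0, 0, 0, 0, 0, 0, -8, 0, 0, 0, 0, 0, 0, 0, 0, 0, 0],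
  [0, 0, 0, 0, 0, 0, 0, 0, 0, 0, 0, 8, 0, 0, 0, 0, 0, 0, 0, 0, 0, 0, 0, 0],
  [0, 0, 0, 0, 0, 0, 0, 0, 0, 8, 0, 0, 0, 0, 0, 0, 0, 0, 0, 0, 0, 0, 0, 0],
  [0, 0, 0, 0, 8, 0, 0, 0, 0, 0, 0, 0, 0, 0, 0, 0, 0, 0, 0, 0, 0, 0, 0, 0],
  [0, 0, 0, 0, 0, 0, 0, 0, 0, 0, 0, 0, 8, 0, 0, 0, 0, 0, 0, 0, 0, 0, 0, 0],
  [0, 0, 0, 8, 0, 0, 0, 0, 0, 0, 0, 0, 0, 0, 0, 0, 0, 0, 0, 0, 0, 0, 0, 0],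
  [0, 0, 0, 0, 0, 0, 0, 0, 0, 0, 0, 0, 0, 0, 0, 0, 0, 0, 0, -8, 0, 0, 0, 0],
  [0, 0, 0, 0, 0, 0, 0, 0, 0, 0, 0, 0, 0, 0, 0, 0, 0, 0, 0, 0, -8, 0, 0, 0],
  [0, 0, 0, 0, 0, 0, 0, 0, 0, 0, 0, 0, 0, 0, 0, 0, 0, 0, 0, 0, 0, 8, 0, 0],
  [0, 0, 0, 0, 0, 0, 0, 0, 0, 0, 0, 0, 0, 0, 0, 0, 0, 0, 0, 0, 0, 0, 8, 0],
  [0, 0, 0, 0, 0, 0, 0, 0, 0, 0, 0, 0, 0, 0, 0, 0, 0, 0, 0, 0, 0, 0, 0, -8]]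

/-- Data. -/
def T52 : List (List ℤ) := [[-4, 0, 0, 0, 0, 0, 0, 0, 0, 0, 0, 0, 0, 0, 0, 0, 0, 0, 0, 4, 4, 0, 0, 4],
  [0, 4, 0, -4, -4, 0, 0, 0, 0, 0, 0, -4, 0, 0, 0, 0, 0, 0, 0, 0, 0, 0, 0, 0],
  [0, 0, 4, 0, 0, -4, 0, 0, -4, 0, 0, 0, 0, -4, 0, 0, 0, 0, 0, 0, 0, 0, 0, 0],
  [0, -4, 0, 4, -4, 0, 0, 0, 0, 0, 0, -4, 0, 0, 0, 0, 0, 0, 0, 0, 0, 0, 0, 0],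
  [0, -4, 0, -4, 4, 0, 0, 0, 0, 0, 0, -4, 0, 0, 0, 0, 0, 0, 0, 0, 0, 0, 0, 0],
  [0, 0, -4, 0, 0, 4, 0, 0, -4, 0, 0, 0, 0, -4, 0, 0, 0, 0, 0, 0, 0, 0, 0, 0],
  [0, 0, 0, 0, 0, 0, 4, 0, 0, 0, -4, 0, 0, 0, -4, 0, 0, -4, 0, 0, 0, 0, 0, 0],
  [0, 0, 0, 0, 0, 0, 0, 4, 0, 0, 0, 0, 0, 0, 0, -4, -4, 0, 0, 0, 0, 0, -4, 0],
  [0, 0, -4, 0, 0, -4, 0, 0, 4, 0, 0, 0, 0, -4, 0, 0, 0, 0, 0, 0, 0, 0, 0, 0],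
  [0, 0, 0, 0, 0, 0, 0, 0, 0, 4, 0, 0, -4, 0, 0, 0, 0, 0, -4, 0, 0, -4, 0, 0],
  [0, 0, 0, 0, 0, 0, -4, 0, 0, 0, 4, 0, 0, 0, -4, 0, 0, -4, 0, 0, 0, 0, 0, 0],
  [0, -4, 0, -4, -4, 0, 0, 0, 0, 0, 0, 4, 0, 0, 0, 0, 0, 0, 0, 0, 0, 0, 0, 0],
  [0, 0, 0, 0, 0, 0, 0, 0, 0, -4, 0, 0, 4, 0, 0, 0, 0, 0, -4, 0, 0, -4, 0, 0],
  [0, 0, -4, 0, 0, -4, 0, 0, -4, 0, 0, 0, 0, 4, 0, 0, 0, 0, 0, 0, 0, 0, 0, 0],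
  [0, 0, 0, 0, 0, 0, -4, 0, 0, 0, -4, 0, 0, 0, 4, 0, 0, -4, 0, 0, 0, 0, 0, 0],
  [0, 0, 0, 0, 0, 0, 0, -4, 0, 0, 0, 0, 0, 0, 0, 4, -4, 0, 0, 0, 0, 0, -4, 0],
  [0, 0, 0, 0, 0, 0, 0, -4, 0, 0, 0, 0, 0, 0, 0, -4, 4, 0, 0, 0, 0, 0, -4, 0],
  [0, 0, 0, 0, 0, 0, -4, 0, 0, 0, -4, 0, 0, 0, -4, 0, 0, 4, 0, 0, 0, 0, 0, 0],
  [0, 0, 0, 0, 0, 0, 0, 0, 0, -4, 0, 0, -4, 0, 0, 0, 0, 0, 4, 0, 0, -4, 0, 0],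
  [4, 0, 0, 0, 0, 0, 0, 0, 0, 0, 0, 0, 0, 0, 0, 0, 0, 0, 0, -4, 4, 0, 0, 4],
  [4, 0, 0, 0, 0, 0, 0, 0, 0, 0, 0, 0, 0, 0, 0, 0, 0, 0, 0, 4, -4, 0, 0, 4],
  [0, 0, 0, 0, 0, 0, 0, 0, 0, -4, 0, 0, -4, 0, 0, 0, 0, 0, -4, 0, 0, 4, 0, 0],
  [0, 0, 0, 0, 0, 0, 0, -4, 0, 0, 0, 0, 0, 0, 0, -4, -4, 0, 0, 0, 0, 0, 4, 0],
  [4, 0, 0, 0, 0, 0, 0, 0, 0, 0, 0, 0, 0, 0, 0, 0, 0, 0, 0, 4, 4, 0, 0, -4]]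

/-- Data. -/
def T53 : List (List ℤ) := [[0, 0, -4, 0, 0, 4, 0, 0, 4, 0, 0, 0, 0, 4, 0, 0, 0, 0, 0, 0, 0, 0, 0, 0],
  [0, 4, 0, -4, -4, 0, 0, 0, 0, 0, 0, -4, 0, 0, 0, 0, 0, 0, 0, 0, 0, 0, 0, 0],
  [4, 0, 0, 0, 0, 0, 0, 0, 0, 0, 0, 0, 0, 0, 0, 0, 0, 0, 0, -4, -4, 0, 0, -4],
  [0, 0, 0, 0, 0, 0, 0, 0, 0, -4, 0, 0, -4, 0, 0, 0, 0, 0, 4, 0, 0, -4, 0, 0],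
  [0, 0, 0, 0, 0, 0, 0, -4, 0, 0, 0, 0, 0, 0, 0, -4, 4, 0, 0, 0, 0, 0, -4, 0],
  [0, 0, 4, 0, 0, 4, 0, 0, -4, 0, 0, 0, 0, 4, 0, 0, 0, 0, 0, 0, 0, 0, 0, 0],
  [0, 0, 0, 0, 0, 0, 0, 4, 0, 0, 0, 0, 0, 0, 0, -4, -4, 0, 0, 0, 0, 0, -4, 0],
  [0, 0, 0, 0, 0, 0, 4, 0, 0, 0, -4, 0, 0, 0, -4, 0, 0, -4, 0, 0, 0, 0, 0, 0],
  [0, 0, 4, 0, 0, -4, 0, 0, 4, 0, 0, 0, 0, 4, 0, 0, 0, 0, 0, 0, 0, 0, 0, 0],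
  [0, 0, 0, 0, 0, 0, 0, -4, 0, 0, 0, 0, 0, 0, 0, 4, -4, 0, 0, 0, 0, 0, -4, 0],
  [0, 0, 0, 0, 0, 0, -4, 0, 0, 0, 4, 0, 0, 0, -4, 0, 0, -4, 0, 0, 0, 0, 0, 0],
  [0, 0, 0, 0, 0, 0, -4, 0, 0, 0, -4, 0, 0, 0, 4, 0, 0, -4, 0, 0, 0, 0, 0, 0],
  [0, 0, 0, 0, 0, 0, -4, 0, 0, 0, -4, 0, 0, 0, -4, 0, 0, 4, 0, 0, 0, 0, 0, 0],
  [0, 0, 4, 0, 0, 4, 0, 0, 4, 0, 0, 0, 0, -4, 0, 0, 0, 0, 0, 0, 0, 0, 0, 0],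
  [0, -4, 0, -4, -4, 0, 0, 0, 0, 0, 0, 4, 0, 0, 0, 0, 0, 0, 0, 0, 0, 0, 0, 0],
  [0, 0, 0, 0, 0, 0, 0, 0, 0, 4, 0, 0, -4, 0, 0, 0, 0, 0, -4, 0, 0, -4, 0, 0],
  [0, -4, 0, -4, 4, 0, 0, 0, 0, 0, 0, -4, 0, 0, 0, 0, 0, 0, 0, 0, 0, 0, 0, 0],
  [0, 0, 0, 0, 0, 0, 0, 0, 0, -4, 0, 0, 4, 0, 0, 0, 0, 0, -4, 0, 0, -4, 0, 0],
  [0, -4, 0, 4, -4, 0, 0, 0, 0, 0, 0, -4, 0, 0, 0, 0, 0, 0, 0, 0, 0, 0, 0, 0],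
  [-4, 0, 0, 0, 0, 0, 0, 0, 0, 0, 0, 0, 0, 0, 0, 0, 0, 0, 0, 4, -4, 0, 0, -4],
  [-4, 0, 0, 0, 0, 0, 0, 0, 0, 0, 0, 0, 0, 0, 0, 0, 0, 0, 0, -4, 4, 0, 0, -4],
  [0, 0, 0, 0, 0, 0, 0, 0, 0, -4, 0, 0, -4, 0, 0, 0, 0, 0, -4, 0, 0, 4, 0, 0],
  [0, 0, 0, 0, 0, 0, 0, -4, 0, 0, 0, 0, 0, 0, 0, -4, -4, 0, 0, 0, 0, 0, 4, 0],
  [-4, 0, 0, 0, 0, 0, 0, 0, 0, 0, 0, 0, 0, 0, 0, 0, 0, 0, 0, -4, -4, 0, 0, 4]]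

/-- Data. -/
def T54 : List (List ℤ) := [[-4, 0, 0, 0, 0, 4, 0, 0, 4, 0, 0, 0, 0, 4, 0, 0, 0, 0, 0, 0, 0, 0, 0, 0],
  [0, 4, 0, 0, 0, 0, 0, 0, 0, 0, 0, 0, 0, 0, -4, 0, -4, 0, -4, 0, 0, 0, 0, 0],
  [0, 0, 4, 0, 0, 0, 0, 0, 0, 0, 0, 0, 0, 0, 0, 0, 0, 0, 0, -4, -4, 0, 0, -4],
  [0, 0, 0, 4, 0, 0, 0, 0, 0, 0, 0, 0, 0, 0, 0, -4, 0, -4, 0, 0, 0, -4, 0, 0],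
  [0, 0, 0, 0, 4, 0, -4, 0, 0, -4, 0, 0, 0, 0, 0, 0, 0, 0, 0, 0, 0, 0, -4, 0],
  [4, 0, 0, 0, 0, -4, 0, 0, 4, 0, 0, 0, 0, 4, 0, 0, 0, 0, 0, 0, 0, 0, 0, 0],
  [0, 0, 0, 0, -4, 0, 4, 0, 0, -4, 0, 0, 0, 0, 0, 0, 0, 0, 0, 0, 0, 0, -4, 0],
  [0, 0, 0, 0, 0, 0, 0, 4, 0, 0, -4, -4, -4, 0, 0, 0, 0, 0, 0, 0, 0, 0, 0, 0],
  [4, 0, 0, 0, 0, 4, 0, 0, -4, 0, 0, 0, 0, 4, 0, 0, 0, 0, 0, 0, 0, 0, 0, 0],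
  [0, 0, 0, 0, -4, 0, -4, 0, 0, 4, 0, 0, 0, 0, 0, 0, 0, 0, 0, 0, 0, 0, -4, 0],
  [0, 0, 0, 0, 0, 0, 0, -4, 0, 0, 4, -4, -4, 0, 0, 0, 0, 0, 0, 0, 0, 0, 0, 0],
  [0, 0, 0, 0, 0, 0, 0, -4, 0, 0, -4, 4, -4, 0, 0, 0, 0, 0, 0, 0, 0, 0, 0, 0],
  [0, 0, 0, 0, 0, 0, 0, -4, 0, 0, -4, -4, 4, 0, 0, 0, 0, 0, 0, 0, 0, 0, 0, 0],
  [4, 0, 0, 0, 0, 4, 0, 0, 4, 0, 0, 0, 0, -4, 0, 0, 0, 0, 0, 0, 0, 0, 0, 0],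
  [0, -4, 0, 0, 0, 0, 0, 0, 0, 0, 0, 0, 0, 0, 4, 0, -4, 0, -4, 0, 0, 0, 0, 0],
  [0, 0, 0, -4, 0, 0, 0, 0, 0, 0, 0, 0, 0, 0, 0, 4, 0, -4, 0, 0, 0, -4, 0, 0],
  [0, -4, 0, 0, 0, 0, 0, 0, 0, 0, 0, 0, 0, 0, -4, 0, 4, 0, -4, 0, 0, 0, 0, 0],
  [0, 0, 0, -4, 0, 0, 0, 0, 0, 0, 0, 0, 0, 0, 0, -4, 0, 4, 0, 0, 0, -4, 0, 0],
  [0, -4, 0, 0, 0, 0, 0, 0, 0, 0, 0, 0, 0, 0, -4, 0, -4, 0, 4, 0, 0, 0, 0, 0],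
  [0, 0, -4, 0, 0, 0, 0, 0, 0, 0, 0, 0, 0, 0, 0, 0, 0, 0, 0, 4, -4, 0, 0, -4],
  [0, 0, -4, 0, 0, 0, 0, 0, 0, 0, 0, 0, 0, 0, 0, 0, 0, 0, 0, -4, 4, 0, 0, -4],
  [0, 0, 0, -4, 0, 0, 0, 0, 0, 0, 0, 0, 0, 0, 0, -4, 0, -4, 0, 0, 0, 4, 0, 0],
  [0, 0, 0, 0, -4, 0, -4, 0, 0, -4, 0, 0, 0, 0, 0, 0, 0, 0, 0, 0, 0, 0, 4, 0],
  [0, 0, -4, 0, 0, 0, 0, 0, 0, 0, 0, 0, 0, 0, 0, 0, 0, 0, 0, -4, -4, 0, 0, 4]]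

/-- Data. -/
def T55 : List (List ℤ) := [[6, 0, -2, 0, 0, 2, 0, 0, 2, 0, 0, 0, 0, 2, 0, 0, 0, 0, 0, 2, 2, 0, 0, 2],
  [0, 2, 0, -2, -2, 0, 2, 2, 0, 2, 2, -2, 2, 0, -2, 2, -2, 2, -2, 0, 0, 2, 2, 0],
  [-2, 0, 6, 0, 0, 2, 0, 0, 2, 0, 0, 0, 0, 2, 0, 0, 0, 0, 0, 2, 2, 0, 0, 2],
  [0, -2, 0, 2, 2, 0, 2, 2, 0, -2, 2, 2, -2, 0, -2, 2, -2, 2, 2, 0, 0, -2, 2, 0],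
  [0, -2, 0, 2, 2, 0, 2, -2, 0, 2, 2, 2, 2, 0, -2, -2, 2, 2, -2, 0, 0, 2, -2, 0],
  [2, 0, 2, 0, 0, -2, 0, 0, 6, 0, 0, 0, 0, -2, 0, 0, 0, 0, 0, -2, -2, 0, 0, -2],
  [0, 2, 0, 2, 2, 0, 2, 2, 0, 2, -2, -2, -2, 0, 2, -2, -2, 2, 2, 0, 0, 2, -2, 0],
  [0, 2, 0, 2, -2, 0, 2, 2, 0, -2, -2, 2, 2, 0, -2, 2, 2, -2, 2, 0, 0, 2, -2, 0],
  [2, 0, 2, 0, 0, 6, 0, 0, -2, 0, 0, 0, 0, -2, 0, 0, 0, 0, 0, -2, -2, 0, 0, -2],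
  [0, 2, 0, -2, 2, 0, 2, -2, 0, 2, 2, 2, 2, 0, 2, 2, -2, -2, 2, 0, 0, -2, -2, 0],
  [0, 2, 0, 2, 2, 0, -2, -2, 0, 2, 2, -2, -2, 0, -2, 2, 2, -2, 2, 0, 0, 2, 2, 0],
  [0, -2, 0, 2, 2, 0, -2, 2, 0, 2, -2, 2, 2, 0, 2, 2, -2, -2, -2, 0, 0, 2, 2, 0],
  [0, 2, 0, -2, 2, 0, -2, 2, 0, 2, -2, 2, 2, 0, -2, -2, 2, 2, 2, 0, 0, -2, 2, 0],
  [2, 0, 2, 0, 0, -2, 0, 0, -2, 0, 0, 0, 0, 6, 0, 0, 0, 0, 0, -2, -2, 0, 0, -2],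
  [0, -2, 0, -2, -2, 0, 2, -2, 0, 2, -2, 2, -2, 0, 2, 2, 2, 2, 2, 0, 0, 2, 2, 0],
  [0, 2, 0, 2, -2, 0, -2, 2, 0, 2, 2, 2, -2, 0, 2, 2, 2, 2, -2, 0, 0, -2, -2, 0],
  [0, -2, 0, -2, 2, 0, -2, 2, 0, -2, 2, -2, 2, 0, 2, 2, 2, 2, 2, 0, 0, 2, -2, 0],
  [0, 2, 0, 2, 2, 0, 2, -2, 0, -2, -2, -2, 2, 0, 2, 2, 2, 2, -2, 0, 0, -2, 2, 0],
  [0, -2, 0, 2, -2, 0, 2, 2, 0, 2, 2, -2, 2, 0, 2, -2, 2, -2, 2, 0, 0, -2, 2, 0],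
  [2, 0, 2, 0, 0, -2, 0, 0, -2, 0, 0, 0, 0, -2, 0, 0, 0, 0, 0, 6, -2, 0, 0, -2],
  [2, 0, 2, 0, 0, -2, 0, 0, -2, 0, 0, 0, 0, -2, 0, 0, 0, 0, 0, -2, 6, 0, 0, -2],
  [0, 2, 0, -2, 2, 0, 2, 2, 0, -2, 2, 2, -2, 0, 2, -2, 2, -2, -2, 0, 0, 2, 2, 0],
  [0, 2, 0, 2, -2, 0, -2, -2, 0, -2, 2, 2, 2, 0, 2, -2, -2, 2, 2, 0, 0, 2, 2, 0],
  [2, 0, 2, 0, 0, -2, 0, 0, -2, 0, 0, 0, 0, -2, 0, 0, 0, 0, 0, -2, -2, 0, 0, 6]]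

/-- Data. -/
def T56 : List (List ℤ) := [[0, 0, 0, 0, 0, 0, 0, 0, 0, 0, 0, 0, 0, 0, 0, 0, 0, 0, 0, 0, 0, 0, 0, 8],
  [0, 0, 0, 0, 0, 0, 0, 0, 0, 0, 0, 0, 0, 0, 0, 0, 8, 0, 0, 0, 0, 0, 0, 0],
  [0, 0, 0, 0, -8, 0, 0, 0, 0, 0, 0, 0, 0, 0, 0, 0, 0, 0, 0, 0, 0, 0, 0, 0],
  [0, 0, 0, 8, 0, 0, 0, 0, 0, 0, 0, 0, 0, 0, 0, 0, 0, 0, 0, 0, 0, 0, 0, 0],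
  [0, 0, 8, 0, 0, 0, 0, 0, 0, 0, 0, 0, 0, 0, 0, 0, 0, 0, 0, 0, 0, 0, 0, 0],
  [0, 0, 0, 0, 0, 0, 0, 0, 0, 0, 8, 0, 0, 0, 0, 0, 0, 0, 0, 0, 0, 0, 0, 0],
  [0, 0, 0, 0, 0, 0, 0, 0, 0, 0, 0, 8, 0, 0, 0, 0, 0, 0, 0, 0, 0, 0, 0, 0],
  [0, 0, 0, 0, 0, 0, 0, -8, 0, 0, 0, 0, 0, 0, 0, 0, 0, 0, 0, 0, 0, 0, 0, 0],
  [0, 0, 0, 0, 0, 0, 0, 0, -8, 0, 0, 0, 0, 0, 0, 0, 0, 0, 0, 0, 0, 0, 0, 0],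
  [0, 0, 0, 0, 0, 0, 0, 0, 0, 8, 0, 0, 0, 0, 0, 0, 0, 0, 0, 0, 0, 0, 0, 0],
  [0, 0, 0, 0, 0, 8, 0, 0, 0, 0, 0, 0, 0, 0, 0, 0, 0, 0, 0, 0, 0, 0, 0, 0],
  [0, 0, 0, 0, 0, 0, 8, 0, 0, 0, 0, 0, 0, 0, 0, 0, 0, 0, 0, 0, 0, 0, 0, 0],
  [0, 0, 0, 0, 0, 0, 0, 0, 0, 0, 0, 0, 0, 0, 0, 0, 0, 0, 0, 8, 0, 0, 0, 0],
  [0, 0, 0, 0, 0, 0, 0, 0, 0, 0, 0, 0, 0, 0, 0, 0, 0, 0, 0, 0, 0, 0, 8, 0],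
  [0, 0, 0, 0, 0, 0, 0, 0, 0, 0, 0, 0, 0, 0, 0, -8, 0, 0, 0, 0, 0, 0, 0, 0],
  [0, 0, 0, 0, 0, 0, 0, 0, 0, 0, 0, 0, 0, 0, -8, 0, 0, 0, 0, 0, 0, 0, 0, 0],
  [0, -8, 0, 0, 0, 0, 0, 0, 0, 0, 0, 0, 0, 0, 0, 0, 0, 0, 0, 0, 0, 0, 0, 0],
  [0, 0, 0, 0, 0, 0, 0, 0, 0, 0, 0, 0, 0, 0, 0, 0, 0, -8, 0, 0, 0, 0, 0, 0],
  [0, 0, 0, 0, 0, 0, 0, 0, 0, 0, 0, 0, 0, 0, 0, 0, 0, 0, -8, 0, 0, 0, 0, 0],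
  [0, 0, 0, 0, 0, 0, 0, 0, 0, 0, 0, 0, 8, 0, 0, 0, 0, 0, 0, 0, 0, 0, 0, 0],
  [0, 0, 0, 0, 0, 0, 0, 0, 0, 0, 0, 0, 0, 0, 0, 0, 0, 0, 0, 0, -8, 0, 0, 0],
  [0, 0, 0, 0, 0, 0, 0, 0, 0, 0, 0, 0, 0, 0, 0, 0, 0, 0, 0, 0, 0, -8, 0, 0],
  [0, 0, 0, 0, 0, 0, 0, 0, 0, 0, 0, 0, 0, -8, 0, 0, 0, 0, 0, 0, 0, 0, 0, 0],
  [-8, 0, 0, 0, 0, 0, 0, 0, 0, 0, 0, 0, 0, 0, 0, 0, 0, 0, 0, 0, 0, 0, 0, 0]]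

/-- Data. -/
def T57 : List (List ℤ) := [[-4, 0, 0, 4, 0, 0, 0, 0, 0, 4, 0, 0, 0, 0, 0, 0, 0, 0, 0, 0, 0, 0, 4, 0],
  [0, 4, -4, 0, 0, 0, -4, 0, 0, 0, 0, -4, 0, 0, 0, 0, 0, 0, 0, 0, 0, 0, 0, 0],
  [0, -4, 4, 0, 0, 0, -4, 0, 0, 0, 0, -4, 0, 0, 0, 0, 0, 0, 0, 0, 0, 0, 0, 0],
  [4, 0, 0, -4, 0, 0, 0, 0, 0, 4, 0, 0, 0, 0, 0, 0, 0, 0, 0, 0, 0, 0, 4, 0],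
  [0, 0, 0, 0, 4, 0, 0, 0, 0, 0, 0, 0, -4, 0, 0, 0, -4, 0, 0, -4, 0, 0, 0, 0],
  [0, 0, 0, 0, 0, 4, 0, 0, 0, 0, 0, 0, 0, 0, -4, 0, 0, 0, -4, 0, 0, -4, 0, 0],
  [0, -4, -4, 0, 0, 0, 4, 0, 0, 0, 0, -4, 0, 0, 0, 0, 0, 0, 0, 0, 0, 0, 0, 0],
  [0, 0, 0, 0, 0, 0, 0, 4, -4, 0, -4, 0, 0, 0, 0, -4, 0, 0, 0, 0, 0, 0, 0, 0],
  [0, 0, 0, 0, 0, 0, 0, -4, 4, 0, -4, 0, 0, 0, 0, -4, 0, 0, 0, 0, 0, 0, 0, 0],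
  [4, 0, 0, 4, 0, 0, 0, 0, 0, -4, 0, 0, 0, 0, 0, 0, 0, 0, 0, 0, 0, 0, 4, 0],
  [0, 0, 0, 0, 0, 0, 0, -4, -4, 0, 4, 0, 0, 0, 0, -4, 0, 0, 0, 0, 0, 0, 0, 0],
  [0, -4, -4, 0, 0, 0, -4, 0, 0, 0, 0, 4, 0, 0, 0, 0, 0, 0, 0, 0, 0, 0, 0, 0],
  [0, 0, 0, 0, -4, 0, 0, 0, 0, 0, 0, 0, 4, 0, 0, 0, -4, 0, 0, -4, 0, 0, 0, 0],
  [0, 0, 0, 0, 0, 0, 0, 0, 0, 0, 0, 0, 0, 4, 0, 0, 0, -4, 0, 0, -4, 0, 0, -4],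
  [0, 0, 0, 0, 0, -4, 0, 0, 0, 0, 0, 0, 0, 0, 4, 0, 0, 0, -4, 0, 0, -4, 0, 0],
  [0, 0, 0, 0, 0, 0, 0, -4, -4, 0, -4, 0, 0, 0, 0, 4, 0, 0, 0, 0, 0, 0, 0, 0],
  [0, 0, 0, 0, -4, 0, 0, 0, 0, 0, 0, 0, -4, 0, 0, 0, 4, 0, 0, -4, 0, 0, 0, 0],
  [0, 0, 0, 0, 0, 0, 0, 0, 0, 0, 0, 0, 0, -4, 0, 0, 0, 4, 0, 0, -4, 0, 0, -4],
  [0, 0, 0, 0, 0, -4, 0, 0, 0, 0, 0, 0, 0, 0, -4, 0, 0, 0, 4, 0, 0, -4, 0, 0],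
  [0, 0, 0, 0, -4, 0, 0, 0, 0, 0, 0, 0, -4, 0, 0, 0, -4, 0, 0, 4, 0, 0, 0, 0],
  [0, 0, 0, 0, 0, 0, 0, 0, 0, 0, 0, 0, 0, -4, 0, 0, 0, -4, 0, 0, 4, 0, 0, -4],
  [0, 0, 0, 0, 0, -4, 0, 0, 0, 0, 0, 0, 0, 0, -4, 0, 0, 0, -4, 0, 0, 4, 0, 0],
  [4, 0, 0, 4, 0, 0, 0, 0, 0, 4, 0, 0, 0, 0, 0, 0, 0, 0, 0, 0, 0, 0, -4, 0],
  [0, 0, 0, 0, 0, 0, 0, 0, 0, 0, 0, 0, 0, -4, 0, 0, 0, -4, 0, 0, -4, 0, 0, 4]]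

/-- Data. -/
def T58 : List (List ℤ) := [[0, 0, 0, 0, 0, 0, 0, 0, 0, 0, 0, 0, 0, -4, 0, 0, 0, -4, 0, 0, -4, 0, 0, 4],
  [0, 0, 0, 0, -4, 0, 0, 0, 0, 0, 0, 0, -4, 0, 0, 0, 4, 0, 0, -4, 0, 0, 0, 0],
  [0, 0, 0, 0, -4, 0, 0, 0, 0, 0, 0, 0, 4, 0, 0, 0, 4, 0, 0, 4, 0, 0, 0, 0],
  [4, 0, 0, -4, 0, 0, 0, 0, 0, 4, 0, 0, 0, 0, 0, 0, 0, 0, 0, 0, 0, 0, 4, 0],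
  [0, -4, 4, 0, 0, 0, -4, 0, 0, 0, 0, -4, 0, 0, 0, 0, 0, 0, 0, 0, 0, 0, 0, 0],
  [0, 0, 0, 0, 0, 0, 0, -4, -4, 0, 4, 0, 0, 0, 0, -4, 0, 0, 0, 0, 0, 0, 0, 0],
  [0, -4, -4, 0, 0, 0, -4, 0, 0, 0, 0, 4, 0, 0, 0, 0, 0, 0, 0, 0, 0, 0, 0, 0],
  [0, 0, 0, 0, 0, 0, 0, -4, 4, 0, 4, 0, 0, 0, 0, 4, 0, 0, 0, 0, 0, 0, 0, 0],
  [0, 0, 0, 0, 0, 0, 0, 4, -4, 0, 4, 0, 0, 0, 0, 4, 0, 0, 0, 0, 0, 0, 0, 0],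
  [4, 0, 0, 4, 0, 0, 0, 0, 0, -4, 0, 0, 0, 0, 0, 0, 0, 0, 0, 0, 0, 0, 4, 0],
  [0, 0, 0, 0, 0, 4, 0, 0, 0, 0, 0, 0, 0, 0, -4, 0, 0, 0, -4, 0, 0, -4, 0, 0],
  [0, -4, -4, 0, 0, 0, 4, 0, 0, 0, 0, -4, 0, 0, 0, 0, 0, 0, 0, 0, 0, 0, 0, 0],
  [0, 0, 0, 0, -4, 0, 0, 0, 0, 0, 0, 0, -4, 0, 0, 0, -4, 0, 0, 4, 0, 0, 0, 0],
  [4, 0, 0, 4, 0, 0, 0, 0, 0, 4, 0, 0, 0, 0, 0, 0, 0, 0, 0, 0, 0, 0, -4, 0],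
  [0, 0, 0, 0, 0, 0, 0, 4, 4, 0, 4, 0, 0, 0, 0, -4, 0, 0, 0, 0, 0, 0, 0, 0],
  [0, 0, 0, 0, 0, 4, 0, 0, 0, 0, 0, 0, 0, 0, -4, 0, 0, 0, 4, 0, 0, 4, 0, 0],
  [0, -4, 4, 0, 0, 0, 4, 0, 0, 0, 0, 4, 0, 0, 0, 0, 0, 0, 0, 0, 0, 0, 0, 0],
  [0, 0, 0, 0, 0, 0, 0, 0, 0, 0, 0, 0, 0, 4, 0, 0, 0, -4, 0, 0, 4, 0, 0, 4],
  [0, 0, 0, 0, 0, 4, 0, 0, 0, 0, 0, 0, 0, 0, 4, 0, 0, 0, -4, 0, 0, 4, 0, 0],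
  [0, 0, 0, 0, -4, 0, 0, 0, 0, 0, 0, 0, 4, 0, 0, 0, -4, 0, 0, -4, 0, 0, 0, 0],
  [0, 0, 0, 0, 0, 0, 0, 0, 0, 0, 0, 0, 0, 4, 0, 0, 0, 4, 0, 0, -4, 0, 0, 4],
  [0, 0, 0, 0, 0, 4, 0, 0, 0, 0, 0, 0, 0, 0, 4, 0, 0, 0, 4, 0, 0, -4, 0, 0],
  [0, 0, 0, 0, 0, 0, 0, 0, 0, 0, 0, 0, 0, -4, 0, 0, 0, 4, 0, 0, 4, 0, 0, 4],
  [4, 0, 0, -4, 0, 0, 0, 0, 0, -4, 0, 0, 0, 0, 0, 0, 0, 0, 0, 0, 0, 0, -4, 0]]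

/-- Data. -/
def T59 : List (List ℤ) := [[4, 0, 0, -4, 0, 0, 0, 0, 0, -4, 0, 0, 0, -4, 0, 0, 0, 0, 0, 0, 0, 0, 0, 0],
  [0, -4, 0, 0, 4, 0, 0, 0, 0, 0, 0, 0, 0, 0, 4, 4, 0, 0, 0, 0, 0, 0, 0, 0],
  [0, 0, 4, 0, 0, -4, 0, 0, 0, 0, -4, 0, 0, 0, 0, 0, -4, 0, 0, 0, 0, 0, 0, 0],
  [-4, 0, 0, 4, 0, 0, 0, 0, 0, -4, 0, 0, 0, -4, 0, 0, 0, 0, 0, 0, 0, 0, 0, 0],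
  [0, 4, 0, 0, -4, 0, 0, 0, 0, 0, 0, 0, 0, 0, 4, 4, 0, 0, 0, 0, 0, 0, 0, 0],
  [0, 0, -4, 0, 0, 4, 0, 0, 0, 0, -4, 0, 0, 0, 0, 0, -4, 0, 0, 0, 0, 0, 0, 0],
  [0, 0, 0, 0, 0, 0, 4, -4, 0, 0, 0, 0, -4, 0, 0, 0, 0, 0, 0, 0, 0, -4, 0, 0],
  [0, 0, 0, 0, 0, 0, -4, 4, 0, 0, 0, 0, -4, 0, 0, 0, 0, 0, 0, 0, 0, -4, 0, 0],
  [0, 0, 0, 0, 0, 0, 0, 0, 4, 0, 0, -4, 0, 0, 0, 0, 0, 0, -4, -4, 0, 0, 0, 0],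
  [-4, 0, 0, -4, 0, 0, 0, 0, 0, 4, 0, 0, 0, -4, 0, 0, 0, 0, 0, 0, 0, 0, 0, 0],
  [0, 0, -4, 0, 0, -4, 0, 0, 0, 0, 4, 0, 0, 0, 0, 0, -4, 0, 0, 0, 0, 0, 0, 0],
  [0, 0, 0, 0, 0, 0, 0, 0, -4, 0, 0, 4, 0, 0, 0, 0, 0, 0, -4, -4, 0, 0, 0, 0],
  [0, 0, 0, 0, 0, 0, -4, -4, 0, 0, 0, 0, 4, 0, 0, 0, 0, 0, 0, 0, 0, -4, 0, 0],
  [-4, 0, 0, -4, 0, 0, 0, 0, 0, -4, 0, 0, 0, 4, 0, 0, 0, 0, 0, 0, 0, 0, 0, 0],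
  [0, 4, 0, 0, 4, 0, 0, 0, 0, 0, 0, 0, 0, 0, -4, 4, 0, 0, 0, 0, 0, 0, 0, 0],
  [0, 4, 0, 0, 4, 0, 0, 0, 0, 0, 0, 0, 0, 0, 4, -4, 0, 0, 0, 0, 0, 0, 0, 0],
  [0, 0, -4, 0, 0, -4, 0, 0, 0, 0, -4, 0, 0, 0, 0, 0, 4, 0, 0, 0, 0, 0, 0, 0],
  [0, 0, 0, 0, 0, 0, 0, 0, 0, 0, 0, 0, 0, 0, 0, 0, 0, 4, 0, 0, -4, 0, -4, -4],
  [0, 0, 0, 0, 0, 0, 0, 0, -4, 0, 0, -4, 0, 0, 0, 0, 0, 0, 4, -4, 0, 0, 0, 0],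
  [0, 0, 0, 0, 0, 0, 0, 0, -4, 0, 0, -4, 0, 0, 0, 0, 0, 0, -4, 4, 0, 0, 0, 0],
  [0, 0, 0, 0, 0, 0, 0, 0, 0, 0, 0, 0, 0, 0, 0, 0, 0, -4, 0, 0, 4, 0, -4, -4],
  [0, 0, 0, 0, 0, 0, -4, -4, 0, 0, 0, 0, -4, 0, 0, 0, 0, 0, 0, 0, 0, 4, 0, 0],
  [0, 0, 0, 0, 0, 0, 0, 0, 0, 0, 0, 0, 0, 0, 0, 0, 0, -4, 0, 0, -4, 0, 4, -4],
  [0, 0, 0, 0, 0, 0, 0, 0, 0, 0, 0, 0, 0, 0, 0, 0, 0, -4, 0, 0, -4, 0, -4, 4]]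

/-- Data. -/
def T60 : List (List ℤ) := [[2, 0, 0, 2, 0, 0, 0, 0, 0, 2, 0, 0, 0, -2, 0, 0, 0, -2, 0, 0, -2, 0, 2, 6],
  [0, -2, -2, 0, 2, -2, 2, 2, 2, 0, -2, 2, -2, 0, -2, -2, 2, 0, 2, -2, 0, 2, 0, 0],
  [0, -2, -2, 0, 2, -2, -2, -2, -2, 0, -2, -2, 2, 0, -2, -2, 2, 0, -2, 2, 0, -2, 0, 0],
  [2, 0, 0, -6, 0, 0, 0, 0, 0, 2, 0, 0, 0, -2, 0, 0, 0, -2, 0, 0, -2, 0, 2, -2],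
  [0, 2, 2, 0, -2, -2, -2, 2, 2, 0, -2, -2, 2, 0, -2, -2, -2, 0, 2, 2, 0, 2, 0, 0],
  [0, -2, -2, 0, -2, -2, 2, -2, -2, 0, 2, 2, 2, 0, -2, 2, -2, 0, 2, 2, 0, 2, 0, 0],
  [0, 2, -2, 0, -2, 2, -2, 2, -2, 0, 2, 2, 2, 0, -2, -2, 2, 0, -2, -2, 0, 2, 0, 0],
  [0, 2, -2, 0, 2, -2, 2, -2, 2, 0, 2, -2, 2, 0, 2, -2, -2, 0, -2, -2, 0, 2, 0, 0],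
  [0, 2, -2, 0, 2, -2, -2, 2, -2, 0, 2, 2, -2, 0, 2, -2, -2, 0, 2, 2, 0, -2, 0, 0],
  [2, 0, 0, 2, 0, 0, 0, 0, 0, -6, 0, 0, 0, -2, 0, 0, 0, -2, 0, 0, -2, 0, 2, -2],
  [0, -2, -2, 0, -2, 2, 2, 2, 2, 0, -2, 2, 2, 0, 2, -2, -2, 0, -2, 2, 0, -2, 0, 0],
  [0, 2, -2, 0, -2, 2, 2, -2, 2, 0, 2, -2, -2, 0, -2, -2, 2, 0, 2, 2, 0, -2, 0, 0],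
  [0, -2, 2, 0, 2, 2, 2, 2, -2, 0, 2, -2, -2, 0, -2, -2, -2, 0, -2, 2, 0, 2, 0, 0],
  [-2, 0, 0, -2, 0, 0, 0, 0, 0, -2, 0, 0, 0, -6, 0, 0, 0, 2, 0, 0, 2, 0, -2, 2],
  [0, -2, -2, 0, -2, -2, -2, 2, 2, 0, 2, -2, -2, 0, -2, 2, -2, 0, -2, -2, 0, -2, 0, 0],
  [0, -2, -2, 0, -2, 2, -2, -2, -2, 0, -2, -2, -2, 0, 2, -2, -2, 0, 2, -2, 0, 2, 0, 0],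
  [0, 2, 2, 0, -2, -2, 2, -2, -2, 0, -2, 2, -2, 0, -2, -2, -2, 0, -2, -2, 0, -2, 0, 0],
  [-2, 0, 0, -2, 0, 0, 0, 0, 0, -2, 0, 0, 0, 2, 0, 0, 0, -6, 0, 0, 2, 0, -2, 2],
  [0, 2, -2, 0, 2, 2, -2, -2, 2, 0, -2, 2, -2, 0, -2, 2, -2, 0, -2, 2, 0, 2, 0, 0],
  [0, -2, 2, 0, 2, 2, -2, -2, 2, 0, 2, 2, 2, 0, -2, -2, -2, 0, 2, -2, 0, -2, 0, 0],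
  [-2, 0, 0, -2, 0, 0, 0, 0, 0, -2, 0, 0, 0, 2, 0, 0, 0, 2, 0, 0, -6, 0, -2, 2],
  [0, 2, -2, 0, 2, 2, 2, 2, -2, 0, -2, -2, 2, 0, -2, 2, -2, 0, 2, -2, 0, -2, 0, 0],
  [2, 0, 0, 2, 0, 0, 0, 0, 0, 2, 0, 0, 0, -2, 0, 0, 0, -2, 0, 0, -2, 0, -6, -2],
  [6, 0, 0, -2, 0, 0, 0, 0, 0, -2, 0, 0, 0, 2, 0, 0, 0, 2, 0, 0, 2, 0, -2, 2]]

/-- Data. -/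
def T61 : List (List ℤ) := [[0, 0, 0, 0, 0, 0, 0, 0, 8, 0, 0, 0, 0, 0, 0, 0, 0, 0, 0, 0, 0, 0, 0, 0],
  [-8, 0, 0, 0, 0, 0, 0, 0, 0, 0, 0, 0, 0, 0, 0, 0, 0, 0, 0, 0, 0, 0, 0, 0],
  [0, 0, 0, 0, 0, 0, 0, 0, 0, 0, 0, 8, 0, 0, 0, 0, 0, 0, 0, 0, 0, 0, 0, 0],
  [0, 0, 0, 0, 0, 8, 0, 0, 0, 0, 0, 0, 0, 0, 0, 0, 0, 0, 0, 0, 0, 0, 0, 0],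
  [0, 0, 0, 0, 0, 0, 0, 0, 0, 0, 0, 0, 0, 0, -8, 0, 0, 0, 0, 0, 0, 0, 0, 0],
  [0, 0, 0, 0, 0, 0, 0, 0, 0, 0, 0, 0, 0, 0, 0, 0, 0, -8, 0, 0, 0, 0, 0, 0],
  [0, 0, 0, 0, 0, 0, 0, 0, 0, 0, 0, 0, 0, 0, 0, 0, 0, 0, 0, 0, 0, 0, -8, 0],
  [0, 0, 0, 0, 0, 0, 0, 0, 0, 0, 0, 0, 0, 0, 0, 8, 0, 0, 0, 0, 0, 0, 0, 0],
  [0, 0, 0, 0, 0, 0, 0, 0, 0, 0, 8, 0, 0, 0, 0, 0, 0, 0, 0, 0, 0, 0, 0, 0],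
  [0, 0, 0, 0, 0, 0, 0, 0, 0, 0, 0, 0, 0, 0, 0, 0, 0, 0, 0, 0, 0, 0, 0, -8],
  [0, 0, 8, 0, 0, 0, 0, 0, 0, 0, 0, 0, 0, 0, 0, 0, 0, 0, 0, 0, 0, 0, 0, 0],
  [0, 0, 0, 0, 0, 0, 0, 0, 0, 0, 0, 0, 0, 0, 0, 0, -8, 0, 0, 0, 0, 0, 0, 0],
  [0, 0, 0, 0, 0, 0, 0, 0, 0, 8, 0, 0, 0, 0, 0, 0, 0, 0, 0, 0, 0, 0, 0, 0],
  [0, 0, 0, 0, 0, 0, 0, 0, 0, 0, 0, 0, 0, 0, 0, 0, 0, 0, 0, 0, 0, 8, 0, 0],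
  [0, 0, 0, 0, 0, 0, 8, 0, 0, 0, 0, 0, 0, 0, 0, 0, 0, 0, 0, 0, 0, 0, 0, 0],
  [0, 0, 0, 0, 0, 0, 0, 0, 0, 0, 0, 0, -8, 0, 0, 0, 0, 0, 0, 0, 0, 0, 0, 0],
  [0, 0, 0, 0, 0, 0, 0, 8, 0, 0, 0, 0, 0, 0, 0, 0, 0, 0, 0, 0, 0, 0, 0, 0],
  [0, 0, 0, 0, 0, 0, 0, 0, 0, 0, 0, 0, 0, 0, 0, 0, 0, 0, 0, 8, 0, 0, 0, 0],
  [0, 0, 0, 0, 8, 0, 0, 0, 0, 0, 0, 0, 0, 0, 0, 0, 0, 0, 0, 0, 0, 0, 0, 0],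
  [0, 0, 0, 0, 0, 0, 0, 0, 0, 0, 0, 0, 0, 8, 0, 0, 0, 0, 0, 0, 0, 0, 0, 0],
  [0, 0, 0, 0, 0, 0, 0, 0, 0, 0, 0, 0, 0, 0, 0, 0, 0, 0, -8, 0, 0, 0, 0, 0],
  [0, 0, 0, 0, 0, 0, 0, 0, 0, 0, 0, 0, 0, 0, 0, 0, 0, 0, 0, 0, 8, 0, 0, 0],
  [0, 0, 0, 8, 0, 0, 0, 0, 0, 0, 0, 0, 0, 0, 0, 0, 0, 0, 0, 0, 0, 0, 0, 0],
  [0, 8, 0, 0, 0, 0, 0, 0, 0, 0, 0, 0, 0, 0, 0, 0, 0, 0, 0, 0, 0, 0, 0, 0]]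

/-- Data. -/
def T62 : List (List ℤ) := [[-4, 0, 0, 0, 0, 4, 0, 0, 0, 0, 0, 0, 4, 0, 4, 0, 0, 0, 0, 0, 0, 0, 0, 0],
  [0, 4, 0, 0, -4, 0, 0, 0, 0, 0, 0, -4, 0, 0, 0, 0, 0, 0, 0, 0, 0, 0, -4, 0],
  [0, 0, 4, 0, 0, 0, 0, 0, 0, 0, -4, 0, 0, 0, 0, 0, 0, 0, -4, 0, -4, 0, 0, 0],
  [0, 0, 0, 4, 0, 0, 0, -4, 0, 0, 0, 0, 0, 0, 0, -4, -4, 0, 0, 0, 0, 0, 0, 0],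
  [0, -4, 0, 0, 4, 0, 0, 0, 0, 0, 0, -4, 0, 0, 0, 0, 0, 0, 0, 0, 0, 0, -4, 0],
  [4, 0, 0, 0, 0, -4, 0, 0, 0, 0, 0, 0, 4, 0, 4, 0, 0, 0, 0, 0, 0, 0, 0, 0],
  [0, 0, 0, 0, 0, 0, 4, 0, -4, 0, 0, 0, 0, 0, 0, 0, 0, 0, 0, 0, 0, -4, 0, -4],
  [0, 0, 0, -4, 0, 0, 0, 4, 0, 0, 0, 0, 0, 0, 0, -4, -4, 0, 0, 0, 0, 0, 0, 0],
  [0, 0, 0, 0, 0, 0, -4, 0, 4, 0, 0, 0, 0, 0, 0, 0, 0, 0, 0, 0, 0, -4, 0, -4],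
  [0, 0, 0, 0, 0, 0, 0, 0, 0, 4, 0, 0, 0, -4, 0, 0, 0, -4, 0, -4, 0, 0, 0, 0],
  [0, 0, -4, 0, 0, 0, 0, 0, 0, 0, 4, 0, 0, 0, 0, 0, 0, 0, -4, 0, -4, 0, 0, 0],
  [0, -4, 0, 0, -4, 0, 0, 0, 0, 0, 0, 4, 0, 0, 0, 0, 0, 0, 0, 0, 0, 0, -4, 0],
  [4, 0, 0, 0, 0, 4, 0, 0, 0, 0, 0, 0, -4, 0, 4, 0, 0, 0, 0, 0, 0, 0, 0, 0],
  [0, 0, 0, 0, 0, 0, 0, 0, 0, -4, 0, 0, 0, 4, 0, 0, 0, -4, 0, -4, 0, 0, 0, 0],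
  [4, 0, 0, 0, 0, 4, 0, 0, 0, 0, 0, 0, 4, 0, -4, 0, 0, 0, 0, 0, 0, 0, 0, 0],
  [0, 0, 0, -4, 0, 0, 0, -4, 0, 0, 0, 0, 0, 0, 0, 4, -4, 0, 0, 0, 0, 0, 0, 0],
  [0, 0, 0, -4, 0, 0, 0, -4, 0, 0, 0, 0, 0, 0, 0, -4, 4, 0, 0, 0, 0, 0, 0, 0],
  [0, 0, 0, 0, 0, 0, 0, 0, 0, -4, 0, 0, 0, -4, 0, 0, 0, 4, 0, -4, 0, 0, 0, 0],
  [0, 0, -4, 0, 0, 0, 0, 0, 0, 0, -4, 0, 0, 0, 0, 0, 0, 0, 4, 0, -4, 0, 0, 0],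
  [0, 0, 0, 0, 0, 0, 0, 0, 0, -4, 0, 0, 0, -4, 0, 0, 0, -4, 0, 4, 0, 0, 0, 0],
  [0, 0, -4, 0, 0, 0, 0, 0, 0, 0, -4, 0, 0, 0, 0, 0, 0, 0, -4, 0, 4, 0, 0, 0],
  [0, 0, 0, 0, 0, 0, -4, 0, -4, 0, 0, 0, 0, 0, 0, 0, 0, 0, 0, 0, 0, 4, 0, -4],
  [0, -4, 0, 0, -4, 0, 0, 0, 0, 0, 0, -4, 0, 0, 0, 0, 0, 0, 0, 0, 0, 0, 4, 0],
  [0, 0, 0, 0, 0, 0, -4, 0, -4, 0, 0, 0, 0, 0, 0, 0, 0, 0, 0, 0, 0, -4, 0, 4]]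

/-- Data. -/
def T63 : List (List ℤ) := [[0, 0, 0, 0, 0, 0, -4, 0, 4, 0, 0, 0, 0, 0, 0, 0, 0, 0, 0, 0, 0, -4, 0, -4],
  [4, 0, 0, 0, 0, -4, 0, 0, 0, 0, 0, 0, -4, 0, -4, 0, 0, 0, 0, 0, 0, 0, 0, 0],
  [0, -4, 0, 0, -4, 0, 0, 0, 0, 0, 0, 4, 0, 0, 0, 0, 0, 0, 0, 0, 0, 0, -4, 0],
  [4, 0, 0, 0, 0, -4, 0, 0, 0, 0, 0, 0, 4, 0, 4, 0, 0, 0, 0, 0, 0, 0, 0, 0],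
  [-4, 0, 0, 0, 0, -4, 0, 0, 0, 0, 0, 0, -4, 0, 4, 0, 0, 0, 0, 0, 0, 0, 0, 0],
  [0, 0, 0, 0, 0, 0, 0, 0, 0, 4, 0, 0, 0, 4, 0, 0, 0, -4, 0, 4, 0, 0, 0, 0],
  [0, 4, 0, 0, 4, 0, 0, 0, 0, 0, 0, 4, 0, 0, 0, 0, 0, 0, 0, 0, 0, 0, -4, 0],
  [0, 0, 0, -4, 0, 0, 0, -4, 0, 0, 0, 0, 0, 0, 0, 4, -4, 0, 0, 0, 0, 0, 0, 0],
  [0, 0, -4, 0, 0, 0, 0, 0, 0, 0, 4, 0, 0, 0, 0, 0, 0, 0, -4, 0, -4, 0, 0, 0],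
  [0, 0, 0, 0, 0, 0, 4, 0, 4, 0, 0, 0, 0, 0, 0, 0, 0, 0, 0, 0, 0, 4, 0, -4],
  [0, 0, 4, 0, 0, 0, 0, 0, 0, 0, -4, 0, 0, 0, 0, 0, 0, 0, -4, 0, -4, 0, 0, 0],
  [0, 0, 0, 4, 0, 0, 0, 4, 0, 0, 0, 0, 0, 0, 0, 4, -4, 0, 0, 0, 0, 0, 0, 0],
  [0, 0, 0, 0, 0, 0, 0, 0, 0, 4, 0, 0, 0, -4, 0, 0, 0, -4, 0, -4, 0, 0, 0, 0],
  [0, 0, 0, 0, 0, 0, -4, 0, -4, 0, 0, 0, 0, 0, 0, 0, 0, 0, 0, 0, 0, 4, 0, -4],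
  [0, 0, 0, 0, 0, 0, 4, 0, -4, 0, 0, 0, 0, 0, 0, 0, 0, 0, 0, 0, 0, -4, 0, -4],
  [-4, 0, 0, 0, 0, -4, 0, 0, 0, 0, 0, 0, 4, 0, -4, 0, 0, 0, 0, 0, 0, 0, 0, 0],
  [0, 0, 0, -4, 0, 0, 0, 4, 0, 0, 0, 0, 0, 0, 0, -4, -4, 0, 0, 0, 0, 0, 0, 0],
  [0, 0, 0, 0, 0, 0, 0, 0, 0, -4, 0, 0, 0, -4, 0, 0, 0, -4, 0, 4, 0, 0, 0, 0],
  [0, -4, 0, 0, 4, 0, 0, 0, 0, 0, 0, -4, 0, 0, 0, 0, 0, 0, 0, 0, 0, 0, -4, 0],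
  [0, 0, 0, 0, 0, 0, 0, 0, 0, -4, 0, 0, 0, 4, 0, 0, 0, -4, 0, -4, 0, 0, 0, 0],
  [0, 0, 4, 0, 0, 0, 0, 0, 0, 0, 4, 0, 0, 0, 0, 0, 0, 0, -4, 0, 4, 0, 0, 0],
  [0, 0, -4, 0, 0, 0, 0, 0, 0, 0, -4, 0, 0, 0, 0, 0, 0, 0, -4, 0, 4, 0, 0, 0],
  [0, 0, 0, 4, 0, 0, 0, -4, 0, 0, 0, 0, 0, 0, 0, -4, -4, 0, 0, 0, 0, 0, 0, 0],
  [0, 4, 0, 0, -4, 0, 0, 0, 0, 0, 0, -4, 0, 0, 0, 0, 0, 0, 0, 0, 0, 0, -4, 0]]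

/-- Data. -/
def T64 : List (List ℤ) := [[-4, 0, 4, 4, 0, 0, 0, 0, 0, 4, 0, 0, 0, 0, 0, 0, 0, 0, 0, 0, 0, 0, 0, 0],
  [0, 4, 0, 0, 0, 0, -4, 0, 0, 0, 0, -4, 0, 0, 0, 0, 0, 0, 0, 0, 0, 0, -4, 0],
  [4, 0, -4, 4, 0, 0, 0, 0, 0, 4, 0, 0, 0, 0, 0, 0, 0, 0, 0, 0, 0, 0, 0, 0],
  [4, 0, 4, -4, 0, 0, 0, 0, 0, 4, 0, 0, 0, 0, 0, 0, 0, 0, 0, 0, 0, 0, 0, 0],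
  [0, 0, 0, 0, 4, 0, 0, 0, -4, 0, 0, 0, 0, 0, 0, 0, 0, 0, 0, 0, 0, -4, 0, -4],
  [0, 0, 0, 0, 0, 4, 0, 0, 0, 0, -4, 0, 0, -4, 0, 0, -4, 0, 0, 0, 0, 0, 0, 0],
  [0, -4, 0, 0, 0, 0, 4, 0, 0, 0, 0, -4, 0, 0, 0, 0, 0, 0, 0, 0, 0, 0, -4, 0],
  [0, 0, 0, 0, 0, 0, 0, 4, 0, 0, 0, 0, 0, 0, -4, 0, 0, 0, 0, -4, -4, 0, 0, 0],
  [0, 0, 0, 0, -4, 0, 0, 0, 4, 0, 0, 0, 0, 0, 0, 0, 0, 0, 0, 0, 0, -4, 0, -4],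
  [4, 0, 4, 4, 0, 0, 0, 0, 0, -4, 0, 0, 0, 0, 0, 0, 0, 0, 0, 0, 0, 0, 0, 0],
  [0, 0, 0, 0, 0, -4, 0, 0, 0, 0, 4, 0, 0, -4, 0, 0, -4, 0, 0, 0, 0, 0, 0, 0],
  [0, -4, 0, 0, 0, 0, -4, 0, 0, 0, 0, 4, 0, 0, 0, 0, 0, 0, 0, 0, 0, 0, -4, 0],
  [0, 0, 0, 0, 0, 0, 0, 0, 0, 0, 0, 0, 4, 0, 0, -4, 0, -4, -4, 0, 0, 0, 0, 0],
  [0, 0, 0, 0, 0, -4, 0, 0, 0, 0, -4, 0, 0, 4, 0, 0, -4, 0, 0, 0, 0, 0, 0, 0],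
  [0, 0, 0, 0, 0, 0, 0, -4, 0, 0, 0, 0, 0, 0, 4, 0, 0, 0, 0, -4, -4, 0, 0, 0],
  [0, 0, 0, 0, 0, 0, 0, 0, 0, 0, 0, 0, -4, 0, 0, 4, 0, -4, -4, 0, 0, 0, 0, 0],
  [0, 0, 0, 0, 0, -4, 0, 0, 0, 0, -4, 0, 0, -4, 0, 0, 4, 0, 0, 0, 0, 0, 0, 0],
  [0, 0, 0, 0, 0, 0, 0, 0, 0, 0, 0, 0, -4, 0, 0, -4, 0, 4, -4, 0, 0, 0, 0, 0],
  [0, 0, 0, 0, 0, 0, 0, 0, 0, 0, 0, 0, -4, 0, 0, -4, 0, -4, 4, 0, 0, 0, 0, 0],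
  [0, 0, 0, 0, 0, 0, 0, -4, 0, 0, 0, 0, 0, 0, -4, 0, 0, 0, 0, 4, -4, 0, 0, 0],
  [0, 0, 0, 0, 0, 0, 0, -4, 0, 0, 0, 0, 0, 0, -4, 0, 0, 0, 0, -4, 4, 0, 0, 0],
  [0, 0, 0, 0, -4, 0, 0, 0, -4, 0, 0, 0, 0, 0, 0, 0, 0, 0, 0, 0, 0, 4, 0, -4],
  [0, -4, 0, 0, 0, 0, -4, 0, 0, 0, 0, -4, 0, 0, 0, 0, 0, 0, 0, 0, 0, 0, 4, 0],
  [0, 0, 0, 0, -4, 0, 0, 0, -4, 0, 0, 0, 0, 0, 0, 0, 0, 0, 0, 0, 0, -4, 0, 4]]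

/-- Data. -/
def T65 : List (List ℤ) := [[0, 2, 0, 0, 2, 0, -2, 0, 6, 0, 0, 2, 0, 0, 0, 0, 0, 0, 0, 0, 0, -2, 2, -2],
  [-2, 0, 2, 2, 0, -2, 0, 2, 0, 2, 2, 0, -2, 2, -2, 2, 2, 2, 2, 2, 2, 0, 0, 0],
  [0, -2, 0, 0, -2, 0, 2, 0, 2, 0, 0, 6, 0, 0, 0, 0, 0, 0, 0, 0, 0, 2, -2, 2],
  [-2, 0, 2, 2, 0, -2, 0, -2, 0, 2, 2, 0, 2, 2, 2, -2, 2, -2, -2, -2, -2, 0, 0, 0],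
  [2, 0, -2, -2, 0, -2, 0, -2, 0, -2, 2, 0, -2, 2, 2, 2, 2, 2, 2, -2, -2, 0, 0, 0],
  [2, 0, 2, 2, 0, -2, 0, -2, 0, -2, -2, 0, 2, 2, -2, 2, -2, -2, 2, 2, -2, 0, 0, 0],
  [0, 2, 0, 0, 2, 0, -2, 0, -2, 0, 0, 2, 0, 0, 0, 0, 0, 0, 0, 0, 0, -2, -6, -2],
  [-2, 0, -2, 2, 0, 2, 0, -2, 0, -2, 2, 0, -2, 2, 2, 2, -2, -2, -2, 2, 2, 0, 0, 0],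
  [-2, 0, 2, -2, 0, -2, 0, 2, 0, -2, 2, 0, 2, -2, 2, 2, -2, 2, -2, 2, -2, 0, 0, 0],
  [0, -2, 0, 0, -2, 0, 2, 0, 2, 0, 0, -2, 0, 0, 0, 0, 0, 0, 0, 0, 0, 2, -2, -6],
  [2, 0, -2, 2, 0, 2, 0, 2, 0, 2, -2, 0, 2, 2, 2, 2, 2, 2, -2, 2, -2, 0, 0, 0],
  [2, 0, 2, -2, 0, 2, 0, 2, 0, 2, 2, 0, -2, 2, -2, 2, -2, -2, -2, -2, -2, 0, 0, 0],
  [2, 0, 2, 2, 0, 2, 0, 2, 0, -2, 2, 0, 2, -2, 2, 2, 2, -2, 2, -2, 2, 0, 0, 0],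
  [0, 2, 0, 0, 2, 0, -2, 0, -2, 0, 0, 2, 0, 0, 0, 0, 0, 0, 0, 0, 0, 6, 2, -2],
  [0, -2, 0, 0, 6, 0, 2, 0, 2, 0, 0, -2, 0, 0, 0, 0, 0, 0, 0, 0, 0, 2, -2, 2],
  [2, 0, -2, -2, 0, -2, 0, 2, 0, -2, 2, 0, 2, 2, -2, -2, 2, -2, -2, 2, 2, 0, 0, 0],
  [-2, 0, -2, 2, 0, 2, 0, 2, 0, -2, 2, 0, 2, 2, -2, -2, -2, 2, 2, -2, -2, 0, 0, 0],
  [-2, 0, -2, -2, 0, 2, 0, -2, 0, 2, 2, 0, 2, -2, -2, 2, 2, -2, 2, 2, -2, 0, 0, 0],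
  [0, 2, 0, 0, 2, 0, 6, 0, -2, 0, 0, 2, 0, 0, 0, 0, 0, 0, 0, 0, 0, -2, 2, -2],
  [-2, 0, -2, -2, 0, -2, 0, 2, 0, 2, -2, 0, 2, 2, 2, 2, -2, -2, 2, -2, 2, 0, 0, 0],
  [2, 0, -2, 2, 0, -2, 0, -2, 0, 2, 2, 0, 2, -2, -2, 2, -2, 2, -2, -2, 2, 0, 0, 0],
  [-2, 0, 2, -2, 0, 2, 0, -2, 0, -2, -2, 0, 2, 2, -2, 2, 2, 2, -2, -2, 2, 0, 0, 0],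
  [2, 0, 2, -2, 0, 2, 0, -2, 0, 2, 2, 0, 2, 2, 2, -2, -2, 2, 2, 2, 2, 0, 0, 0],
  [0, 6, 0, 0, -2, 0, 2, 0, 2, 0, 0, -2, 0, 0, 0, 0, 0, 0, 0, 0, 0, 2, -2, 2]]

/-- Data. -/
def T66 : List (List ℤ) := [[-4, 4, 0, 0, 0, 0, 0, 0, 4, 0, 0, 0, 0, 0, 0, 0, 0, 0, 0, 0, 0, 0, 0, 4],
  [4, -4, 0, 0, 0, 0, 0, 0, 4, 0, 0, 0, 0, 0, 0, 0, 0, 0, 0, 0, 0, 0, 0, 4],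
  [0, 0, 4, 0, 0, 0, 0, 0, 0, 0, 0, -4, -4, 0, 0, 0, 0, 0, -4, 0, 0, 0, 0, 0],
  [0, 0, 0, 4, 0, 0, -4, 0, 0, 0, -4, 0, 0, -4, 0, 0, 0, 0, 0, 0, 0, 0, 0, 0],
  [0, 0, 0, 0, 4, -4, 0, -4, 0, 0, 0, 0, 0, 0, 0, -4, 0, 0, 0, 0, 0, 0, 0, 0],
  [0, 0, 0, 0, -4, 4, 0, -4, 0, 0, 0, 0, 0, 0, 0, -4, 0, 0, 0, 0, 0, 0, 0, 0],
  [0, 0, 0, -4, 0, 0, 4, 0, 0, 0, -4, 0, 0, -4, 0, 0, 0, 0, 0, 0, 0, 0, 0, 0],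
  [0, 0, 0, 0, -4, -4, 0, 4, 0, 0, 0, 0, 0, 0, 0, -4, 0, 0, 0, 0, 0, 0, 0, 0],
  [4, 4, 0, 0, 0, 0, 0, 0, -4, 0, 0, 0, 0, 0, 0, 0, 0, 0, 0, 0, 0, 0, 0, 4],
  [0, 0, 0, 0, 0, 0, 0, 0, 0, 4, 0, 0, 0, 0, -4, 0, 0, 0, 0, -4, 0, 0, -4, 0],
  [0, 0, 0, -4, 0, 0, -4, 0, 0, 0, 4, 0, 0, -4, 0, 0, 0, 0, 0, 0, 0, 0, 0, 0],
  [0, 0, -4, 0, 0, 0, 0, 0, 0, 0, 0, 4, -4, 0, 0, 0, 0, 0, -4, 0, 0, 0, 0, 0],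
  [0, 0, -4, 0, 0, 0, 0, 0, 0, 0, 0, -4, 4, 0, 0, 0, 0, 0, -4, 0, 0, 0, 0, 0],
  [0, 0, 0, -4, 0, 0, -4, 0, 0, 0, -4, 0, 0, 4, 0, 0, 0, 0, 0, 0, 0, 0, 0, 0],
  [0, 0, 0, 0, 0, 0, 0, 0, 0, -4, 0, 0, 0, 0, 4, 0, 0, 0, 0, -4, 0, 0, -4, 0],
  [0, 0, 0, 0, -4, -4, 0, -4, 0, 0, 0, 0, 0, 0, 0, 4, 0, 0, 0, 0, 0, 0, 0, 0],
  [0, 0, 0, 0, 0, 0, 0, 0, 0, 0, 0, 0, 0, 0, 0, 0, 4, -4, 0, 0, -4, -4, 0, 0],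
  [0, 0, 0, 0, 0, 0, 0, 0, 0, 0, 0, 0, 0, 0, 0, 0, -4, 4, 0, 0, -4, -4, 0, 0],
  [0, 0, -4, 0, 0, 0, 0, 0, 0, 0, 0, -4, -4, 0, 0, 0, 0, 0, 4, 0, 0, 0, 0, 0],
  [0, 0, 0, 0, 0, 0, 0, 0, 0, -4, 0, 0, 0, 0, -4, 0, 0, 0, 0, 4, 0, 0, -4, 0],
  [0, 0, 0, 0, 0, 0, 0, 0, 0, 0, 0, 0, 0, 0, 0, 0, -4, -4, 0, 0, 4, -4, 0, 0],
  [0, 0, 0, 0, 0, 0, 0, 0, 0, 0, 0, 0, 0, 0, 0, 0, -4, -4, 0, 0, -4, 4, 0, 0],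
  [0, 0, 0, 0, 0, 0, 0, 0, 0, -4, 0, 0, 0, 0, -4, 0, 0, 0, 0, -4, 0, 0, 4, 0],
  [4, 4, 0, 0, 0, 0, 0, 0, 4, 0, 0, 0, 0, 0, 0, 0, 0, 0, 0, 0, 0, 0, 0, -4]]

/-- Data. -/
def T67 : List (List ℤ) := [[3, 1, -1, 1, 1, -1, -1, -1, -3, -1, 1, 1, -1, 1, -1, -1, 1, 1, -1, -1, 1, -1, 1, 5],
  [1, -1, 1, -1, -1, -3, -3, 1, -1, 1, -1, -1, -3, -1, -3, 1, -1, -1, 1, 1, -1, -3, -1, -1],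
  [1, 3, -3, -1, -1, 1, 1, 1, -1, 1, -1, 3, -3, -1, 1, 1, -1, -1, -3, 1, -1, 1, -1, -1],
  [1, -1, 1, -1, 3, 1, -3, 1, -1, 1, -1, -1, 1, -1, 1, 1, 3, -1, -3, -3, -1, 1, -1, -1],
  [-1, 1, -1, -3, 1, -1, -1, -1, 1, -1, 1, 1, -1, 1, 3, 3, 1, 1, 3, -1, -3, -1, 1, 1],
  [-1, 1, -1, 1, 1, -1, -1, -1, 1, -1, -3, -3, -1, 1, -1, 3, 1, 1, -1, 3, 1, 3, 1, 1],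
  [-1, -3, -1, 1, 1, -1, -1, -1, 1, 3, 1, 1, -1, 1, 3, -1, 1, 1, -1, 3, 1, -1, -3, 1],
  [1, -1, 1, -1, -1, 1, -3, -3, -1, -3, -1, 3, 1, -1, 1, 1, -1, -1, 1, 1, 3, 1, -1, -1],
  [1, -1, 1, -1, -1, -3, 1, 1, -1, -3, 3, -1, 1, -1, 1, 1, -1, 3, -3, 1, -1, 1, -1, -1],
  [-3, -1, 1, -1, -1, 1, 1, 1, -5, 1, -1, -1, 1, -1, 1, 1, -1, -1, 1, 1, -1, 1, -1, 3],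
  [-1, 1, -1, 1, -3, -1, -1, -1, 1, -1, -3, 1, 3, 1, -1, -1, 1, 1, -1, -1, -3, -1, -3, 1],
  [-1, 1, 3, -3, -3, -1, -1, -1, 1, 3, 1, 1, -1, 1, -1, -1, 1, 1, -1, -1, 1, 3, 1, 1],
  [-1, 1, -1, 1, -3, -1, -1, -1, 1, -1, 1, -3, -1, -3, 3, -1, 1, -3, -1, -1, 1, -1, 1, 1],
  [-1, -3, -1, 1, 1, -1, -1, -1, 1, -1, 1, 1, -1, 1, -1, -1, -3, -3, -1, -1, -3, 3, 1, 1],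
  [1, 3, 1, -1, 3, -3, 1, -3, -1, 1, -1, -1, 1, -1, 1, -3, -1, -1, 1, 1, -1, 1, -1, -1],
  [-1, 1, -1, -3, 1, -1, -1, 3, 1, -1, 1, 1, 3, 1, -1, -1, 1, -3, -1, 3, 1, -1, 1, 1],
  [1, -1, -3, -1, -1, 1, -3, 1, -1, 1, -1, -1, 1, -1, 1, -3, -1, 3, 1, 1, -1, 1, 3, -1],
  [1, -1, -3, -1, -1, 1, 1, -3, -1, 1, 3, -1, 1, -1, -3, 1, 3, -1, 1, 1, -1, 1, -1, -1],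
  [-1, -3, -1, -3, 1, -1, 3, -1, 1, -1, -3, 1, -1, -3, -1, -1, 1, 1, -1, -1, 1, -1, 1, 1],
  [1, -1, -3, -1, -1, -3, 1, 1, -1, 1, -1, -1, 1, 3, 1, 1, -1, -1, 1, -3, 3, 1, -1, -1],
  [-1, 1, -1, 1, 1, -1, -1, -1, 1, 3, 1, 1, 3, -3, -1, 3, -3, 1, -1, -1, 1, -1, 1, 1],
  [1, -1, 1, -1, -1, 1, 1, -3, -1, 1, -1, -1, 1, 3, 1, 1, -1, -1, -3, 1, -1, -3, 3, -1],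
  [-1, 1, -1, -3, 1, 3, -1, -1, 1, -1, 1, -3, -1, 1, -1, -1, -3, 1, -1, -1, 1, -1, -3, 1],
  [5, -1, 1, -1, -1, 1, 1, 1, 3, 1, -1, -1, 1, -1, 1, 1, -1, -1, 1, 1, -1, 1, -1, 3]]

/-- Data. -/
def T68 : List (List ℤ) := [[0, 0, 0, 0, 0, 0, 0, 0, 0, 0, 0, 0, 0, 8, 0, 0, 0, 0, 0, 0, 0, 0, 0, 0],
  [-8, 0, 0, 0, 0, 0, 0, 0, 0, 0, 0, 0, 0, 0, 0, 0, 0, 0, 0, 0, 0, 0, 0, 0],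
  [0, 0, 0, 0, 0, 0, 0, 0, -8, 0, 0, 0, 0, 0, 0, 0, 0, 0, 0, 0, 0, 0, 0, 0],
  [0, 0, 0, 0, 0, 0, 0, 0, 0, 0, 0, 0, 0, 0, 0, 0, 8, 0, 0, 0, 0, 0, 0, 0],
  [0, 0, 0, 0, 0, 0, 0, 0, 0, 0, 0, 0, 0, 0, -8, 0, 0, 0, 0, 0, 0, 0, 0, 0],
  [0, 0, 0, 0, 0, 0, 0, 0, 0, 0, -8, 0, 0, 0, 0, 0, 0, 0, 0, 0, 0, 0, 0, 0],
  [0, 0, 0, 0, 8, 0, 0, 0, 0, 0, 0, 0, 0, 0, 0, 0, 0, 0, 0, 0, 0, 0, 0, 0],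
  [0, 0, 0, 0, 0, -8, 0, 0, 0, 0, 0, 0, 0, 0, 0, 0, 0, 0, 0, 0, 0, 0, 0, 0],
  [0, 0, 0, 0, 0, 0, 0, 0, 0, 0, 0, 0, 0, 0, 0, 0, 0, 0, 0, 0, 0, 0, 0, -8],
  [0, 0, 0, 0, 0, 0, 0, 0, 0, 0, 0, 0, 0, 0, 0, 0, 0, 0, 0, 0, -8, 0, 0, 0],
  [0, -8, 0, 0, 0, 0, 0, 0, 0, 0, 0, 0, 0, 0, 0, 0, 0, 0, 0, 0, 0, 0, 0, 0],
  [0, 0, 0, 0, 0, 0, 0, 8, 0, 0, 0, 0, 0, 0, 0, 0, 0, 0, 0, 0, 0, 0, 0, 0],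
  [0, 0, 0, 0, 0, 0, 0, 0, 0, 0, 0, 0, 0, 0, 0, 0, 0, 0, -8, 0, 0, 0, 0, 0],
  [0, 0, -8, 0, 0, 0, 0, 0, 0, 0, 0, 0, 0, 0, 0, 0, 0, 0, 0, 0, 0, 0, 0, 0],
  [0, 0, 0, 0, 0, 0, 0, 0, 0, 0, 0, 0, 0, 0, 0, 0, 0, -8, 0, 0, 0, 0, 0, 0],
  [0, 0, 0, 0, 0, 0, 0, 0, 0, 0, 0, 0, 0, 0, 0, -8, 0, 0, 0, 0, 0, 0, 0, 0],
  [0, 0, 0, 0, 0, 0, 0, 0, 0, 0, 0, 0, -8, 0, 0, 0, 0, 0, 0, 0, 0, 0, 0, 0],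
  [0, 0, 0, 0, 0, 0, 0, 0, 0, 0, 0, 0, 0, 0, 0, 0, 0, 0, 0, 8, 0, 0, 0, 0],
  [0, 0, 0, 0, 0, 0, 0, 0, 0, 0, 0, 0, 0, 0, 0, 0, 0, 0, 0, 0, 0, 8, 0, 0],
  [0, 0, 0, 0, 0, 0, 0, 0, 0, -8, 0, 0, 0, 0, 0, 0, 0, 0, 0, 0, 0, 0, 0, 0],
  [0, 0, 0, 0, 0, 0, 0, 0, 0, 0, 0, -8, 0, 0, 0, 0, 0, 0, 0, 0, 0, 0, 0, 0],
  [0, 0, 0, 0, 0, 0, 8, 0, 0, 0, 0, 0, 0, 0, 0, 0, 0, 0, 0, 0, 0, 0, 0, 0],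
  [0, 0, 0, -8, 0, 0, 0, 0, 0, 0, 0, 0, 0, 0, 0, 0, 0, 0, 0, 0, 0, 0, 0, 0],
  [0, 0, 0, 0, 0, 0, 0, 0, 0, 0, 0, 0, 0, 0, 0, 0, 0, 0, 0, 0, 0, 0, 8, 0]]

/-- Data. -/
def T69 : List (List ℤ) := [[-4, 0, 0, 0, 0, 0, 0, 0, 0, 0, 0, 0, 0, 4, 0, 0, 0, 0, 0, 4, 0, 0, 4, 0],
  [0, 4, 0, -4, 0, -4, 0, -4, 0, 0, 0, 0, 0, 0, 0, 0, 0, 0, 0, 0, 0, 0, 0, 0],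
  [0, 0, 4, 0, 0, 0, 0, 0, 0, -4, 0, 0, 0, 0, 0, -4, 0, 0, 0, 0, 0, -4, 0, 0],
  [0, -4, 0, 4, 0, -4, 0, -4, 0, 0, 0, 0, 0, 0, 0, 0, 0, 0, 0, 0, 0, 0, 0, 0],
  [0, 0, 0, 0, 4, 0, 0, 0, 0, 0, 0, 0, 0, 0, -4, 0, 0, 0, -4, 0, -4, 0, 0, 0],
  [0, -4, 0, -4, 0, 4, 0, -4, 0, 0, 0, 0, 0, 0, 0, 0, 0, 0, 0, 0, 0, 0, 0, 0],
  [0, 0, 0, 0, 0, 0, 4, 0, 0, 0, 0, -4, -4, 0, 0, 0, 0, 0, 0, 0, 0, 0, 0, -4],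
  [0, -4, 0, -4, 0, -4, 0, 4, 0, 0, 0, 0, 0, 0, 0, 0, 0, 0, 0, 0, 0, 0, 0, 0],
  [0, 0, 0, 0, 0, 0, 0, 0, 4, 0, -4, 0, 0, 0, 0, 0, -4, -4, 0, 0, 0, 0, 0, 0],
  [0, 0, -4, 0, 0, 0, 0, 0, 0, 4, 0, 0, 0, 0, 0, -4, 0, 0, 0, 0, 0, -4, 0, 0],
  [0, 0, 0, 0, 0, 0, 0, 0, -4, 0, 4, 0, 0, 0, 0, 0, -4, -4, 0, 0, 0, 0, 0, 0],
  [0, 0, 0, 0, 0, 0, -4, 0, 0, 0, 0, 4, -4, 0, 0, 0, 0, 0, 0, 0, 0, 0, 0, -4],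
  [0, 0, 0, 0, 0, 0, -4, 0, 0, 0, 0, -4, 4, 0, 0, 0, 0, 0, 0, 0, 0, 0, 0, -4],
  [4, 0, 0, 0, 0, 0, 0, 0, 0, 0, 0, 0, 0, -4, 0, 0, 0, 0, 0, 4, 0, 0, 4, 0],
  [0, 0, 0, 0, -4, 0, 0, 0, 0, 0, 0, 0, 0, 0, 4, 0, 0, 0, -4, 0, -4, 0, 0, 0],
  [0, 0, -4, 0, 0, 0, 0, 0, 0, -4, 0, 0, 0, 0, 0, 4, 0, 0, 0, 0, 0, -4, 0, 0],
  [0, 0, 0, 0, 0, 0, 0, 0, -4, 0, -4, 0, 0, 0, 0, 0, 4, -4, 0, 0, 0, 0, 0, 0],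
  [0, 0, 0, 0, 0, 0, 0, 0, -4, 0, -4, 0, 0, 0, 0, 0, -4, 4, 0, 0, 0, 0, 0, 0],
  [0, 0, 0, 0, -4, 0, 0, 0, 0, 0, 0, 0, 0, 0, -4, 0, 0, 0, 4, 0, -4, 0, 0, 0],
  [4, 0, 0, 0, 0, 0, 0, 0, 0, 0, 0, 0, 0, 4, 0, 0, 0, 0, 0, -4, 0, 0, 4, 0],
  [0, 0, 0, 0, -4, 0, 0, 0, 0, 0, 0, 0, 0, 0, -4, 0, 0, 0, -4, 0, 4, 0, 0, 0],
  [0, 0, -4, 0, 0, 0, 0, 0, 0, -4, 0, 0, 0, 0, 0, -4, 0, 0, 0, 0, 0, 4, 0, 0],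
  [4, 0, 0, 0, 0, 0, 0, 0, 0, 0, 0, 0, 0, 4, 0, 0, 0, 0, 0, 4, 0, 0, -4, 0],
  [0, 0, 0, 0, 0, 0, -4, 0, 0, 0, 0, -4, -4, 0, 0, 0, 0, 0, 0, 0, 0, 0, 0, 4]]

/-- Data. -/
def T70 : List (List ℤ) := [[4, 0, 0, 0, 0, 0, 0, 0, 0, 0, 0, 0, 0, -4, 0, 0, 0, 0, 0, 4, 0, 0, 4, 0],
  [4, 0, 0, 0, 0, 0, 0, 0, 0, 0, 0, 0, 0, -4, 0, 0, 0, 0, 0, -4, 0, 0, -4, 0],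
  [0, 0, 0, 0, 0, 0, 0, 0, -4, 0, 4, 0, 0, 0, 0, 0, 4, 4, 0, 0, 0, 0, 0, 0],
  [0, 0, 0, 0, 0, 0, 0, 0, -4, 0, -4, 0, 0, 0, 0, 0, 4, -4, 0, 0, 0, 0, 0, 0],
  [0, 0, 0, 0, 4, 0, 0, 0, 0, 0, 0, 0, 0, 0, -4, 0, 0, 0, 4, 0, 4, 0, 0, 0],
  [0, 0, 0, 0, 0, 0, 0, 0, 4, 0, -4, 0, 0, 0, 0, 0, 4, 4, 0, 0, 0, 0, 0, 0],
  [0, 0, 0, 0, 4, 0, 0, 0, 0, 0, 0, 0, 0, 0, -4, 0, 0, 0, -4, 0, -4, 0, 0, 0],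
  [0, 4, 0, 4, 0, -4, 0, 4, 0, 0, 0, 0, 0, 0, 0, 0, 0, 0, 0, 0, 0, 0, 0, 0],
  [0, 0, 0, 0, 0, 0, 4, 0, 0, 0, 0, 4, 4, 0, 0, 0, 0, 0, 0, 0, 0, 0, 0, -4],
  [0, 0, 0, 0, 4, 0, 0, 0, 0, 0, 0, 0, 0, 0, 4, 0, 0, 0, 4, 0, -4, 0, 0, 0],
  [0, -4, 0, 4, 0, 4, 0, 4, 0, 0, 0, 0, 0, 0, 0, 0, 0, 0, 0, 0, 0, 0, 0, 0],
  [0, -4, 0, -4, 0, -4, 0, 4, 0, 0, 0, 0, 0, 0, 0, 0, 0, 0, 0, 0, 0, 0, 0, 0],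
  [0, 0, 0, 0, 4, 0, 0, 0, 0, 0, 0, 0, 0, 0, 4, 0, 0, 0, -4, 0, 4, 0, 0, 0],
  [0, 0, -4, 0, 0, 0, 0, 0, 0, 4, 0, 0, 0, 0, 0, 4, 0, 0, 0, 0, 0, 4, 0, 0],
  [0, 0, 0, 0, 0, 0, 0, 0, 4, 0, 4, 0, 0, 0, 0, 0, 4, -4, 0, 0, 0, 0, 0, 0],
  [0, 0, 4, 0, 0, 0, 0, 0, 0, 4, 0, 0, 0, 0, 0, -4, 0, 0, 0, 0, 0, 4, 0, 0],
  [0, 0, 0, 0, 0, 0, 4, 0, 0, 0, 0, 4, -4, 0, 0, 0, 0, 0, 0, 0, 0, 0, 0, 4],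
  [4, 0, 0, 0, 0, 0, 0, 0, 0, 0, 0, 0, 0, 4, 0, 0, 0, 0, 0, -4, 0, 0, 4, 0],
  [0, 0, -4, 0, 0, 0, 0, 0, 0, -4, 0, 0, 0, 0, 0, -4, 0, 0, 0, 0, 0, 4, 0, 0],
  [0, 0, 4, 0, 0, 0, 0, 0, 0, -4, 0, 0, 0, 0, 0, 4, 0, 0, 0, 0, 0, 4, 0, 0],
  [0, 0, 0, 0, 0, 0, 4, 0, 0, 0, 0, -4, 4, 0, 0, 0, 0, 0, 0, 0, 0, 0, 0, 4],
  [0, 0, 0, 0, 0, 0, 4, 0, 0, 0, 0, -4, -4, 0, 0, 0, 0, 0, 0, 0, 0, 0, 0, -4],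
  [0, 4, 0, -4, 0, 4, 0, 4, 0, 0, 0, 0, 0, 0, 0, 0, 0, 0, 0, 0, 0, 0, 0, 0],
  [4, 0, 0, 0, 0, 0, 0, 0, 0, 0, 0, 0, 0, 4, 0, 0, 0, 0, 0, 4, 0, 0, -4, 0]]

/-- Data. -/
def T71 : List (List ℤ) := [[4, -4, -4, 0, 0, 0, 0, 0, 0, 0, 0, 0, 0, 0, 0, 0, 0, 0, 0, -4, 0, 0, 0, 0],
  [-4, 4, -4, 0, 0, 0, 0, 0, 0, 0, 0, 0, 0, 0, 0, 0, 0, 0, 0, -4, 0, 0, 0, 0],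
  [-4, -4, 4, 0, 0, 0, 0, 0, 0, 0, 0, 0, 0, 0, 0, 0, 0, 0, 0, -4, 0, 0, 0, 0],
  [0, 0, 0, 4, 0, 0, 0, 0, -4, 0, 0, 0, 0, 0, 0, -4, -4, 0, 0, 0, 0, 0, 0, 0],
  [0, 0, 0, 0, 4, -4, 0, 0, 0, -4, 0, 0, 0, 0, 0, 0, 0, 0, -4, 0, 0, 0, 0, 0],
  [0, 0, 0, 0, -4, 4, 0, 0, 0, -4, 0, 0, 0, 0, 0, 0, 0, 0, -4, 0, 0, 0, 0, 0],
  [0, 0, 0, 0, 0, 0, 4, -4, 0, 0, 0, 0, 0, 0, 0, 0, 0, 0, 0, 0, 0, -4, 0, -4],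
  [0, 0, 0, 0, 0, 0, -4, 4, 0, 0, 0, 0, 0, 0, 0, 0, 0, 0, 0, 0, 0, -4, 0, -4],
  [0, 0, 0, -4, 0, 0, 0, 0, 4, 0, 0, 0, 0, 0, 0, -4, -4, 0, 0, 0, 0, 0, 0, 0],
  [0, 0, 0, 0, -4, -4, 0, 0, 0, 4, 0, 0, 0, 0, 0, 0, 0, 0, -4, 0, 0, 0, 0, 0],
  [0, 0, 0, 0, 0, 0, 0, 0, 0, 0, -4, 4, 0, 4, 4, 0, 0, 0, 0, 0, 0, 0, 0, 0],
  [0, 0, 0, 0, 0, 0, 0, 0, 0, 0, 4, -4, 0, 4, 4, 0, 0, 0, 0, 0, 0, 0, 0, 0],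
  [0, 0, 0, 0, 0, 0, 0, 0, 0, 0, 0, 0, 4, 0, 0, 0, 0, -4, 0, 0, -4, 0, -4, 0],
  [0, 0, 0, 0, 0, 0, 0, 0, 0, 0, 4, 4, 0, -4, 4, 0, 0, 0, 0, 0, 0, 0, 0, 0],
  [0, 0, 0, 0, 0, 0, 0, 0, 0, 0, 4, 4, 0, 4, -4, 0, 0, 0, 0, 0, 0, 0, 0, 0],
  [0, 0, 0, -4, 0, 0, 0, 0, -4, 0, 0, 0, 0, 0, 0, 4, -4, 0, 0, 0, 0, 0, 0, 0],
  [0, 0, 0, -4, 0, 0, 0, 0, -4, 0, 0, 0, 0, 0, 0, -4, 4, 0, 0, 0, 0, 0, 0, 0],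
  [0, 0, 0, 0, 0, 0, 0, 0, 0, 0, 0, 0, -4, 0, 0, 0, 0, 4, 0, 0, -4, 0, -4, 0],
  [0, 0, 0, 0, -4, -4, 0, 0, 0, -4, 0, 0, 0, 0, 0, 0, 0, 0, 4, 0, 0, 0, 0, 0],
  [-4, -4, -4, 0, 0, 0, 0, 0, 0, 0, 0, 0, 0, 0, 0, 0, 0, 0, 0, 4, 0, 0, 0, 0],
  [0, 0, 0, 0, 0, 0, 0, 0, 0, 0, 0, 0, -4, 0, 0, 0, 0, -4, 0, 0, 4, 0, -4, 0],
  [0, 0, 0, 0, 0, 0, -4, -4, 0, 0, 0, 0, 0, 0, 0, 0, 0, 0, 0, 0, 0, 4, 0, -4],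
  [0, 0, 0, 0, 0, 0, 0, 0, 0, 0, 0, 0, -4, 0, 0, 0, 0, -4, 0, 0, -4, 0, 4, 0],
  [0, 0, 0, 0, 0, 0, -4, -4, 0, 0, 0, 0, 0, 0, 0, 0, 0, 0, 0, 0, 0, -4, 0, 4]]

/-- Data. -/
def T72 : List (List ℤ) := [[0, -4, -4, 0, 0, 0, 0, 0, 0, 0, -2, -2, -2, 2, -2, 0, 0, -2, 0, 0, -2, 0, 2, 0],
  [4, 0, 0, 0, 0, 0, 0, 0, 0, 0, -2, -2, 2, 2, -2, 0, 0, 2, 0, -4, 2, 0, -2, 0],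
  [0, 0, 0, 0, 0, 0, 0, 0, -4, 0, -2, 2, -2, 2, 2, 0, 4, 2, 0, 0, -2, 0, -2, 0],
  [0, 0, 0, 0, 0, 0, 0, 0, -4, 0, 2, -2, 2, -2, -2, 0, 4, -2, 0, 0, 2, 0, 2, 0],
  [0, 0, 0, 0, 0, -4, 0, 0, 0, -4, -2, -2, -2, -2, 2, 0, 0, -2, 0, 0, 2, 0, -2, 0],
  [0, 0, 0, -4, 0, 0, 0, 0, 0, 0, 2, -2, -2, -2, -2, -4, 0, 2, 0, 0, -2, 0, -2, 0],
  [0, 0, 0, 0, 4, 0, 0, 0, 0, 0, -2, -2, 2, -2, 2, 0, 0, 2, -4, 0, -2, 0, 2, 0],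
  [-2, 2, -2, 2, 2, -2, -2, 2, -2, 2, 0, 0, 0, 0, 0, -2, -2, 0, 2, -2, 0, -2, 0, -2],
  [0, 0, 0, 0, 0, 0, 4, 0, 0, 0, 2, -2, 2, 2, 2, 0, 0, -2, 0, 0, -2, 0, -2, -4],
  [0, 0, 0, 0, 0, -4, 0, 0, 0, -4, 2, 2, 2, 2, -2, 0, 0, 2, 0, 0, -2, 0, 2, 0],
  [2, -2, 2, 2, -2, 2, -2, 2, -2, -2, 0, 0, 0, 0, 0, -2, -2, 0, -2, 2, 0, -2, 0, -2],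
  [2, -2, 2, -2, 2, -2, -2, 2, 2, 2, 0, 0, 0, 0, 0, 2, 2, 0, 2, 2, 0, -2, 0, -2],
  [0, 0, 0, 0, 4, 0, 0, 0, 0, 0, 2, 2, -2, 2, -2, 0, 0, -2, -4, 0, 2, 0, -2, 0],
  [2, 2, -2, -2, -2, -2, -2, -2, -2, 2, 0, 0, 0, 0, 0, 2, -2, 0, -2, 2, 0, 2, 0, -2],
  [0, 0, 0, -4, 0, 0, 0, 0, 0, 0, -2, 2, 2, 2, 2, -4, 0, -2, 0, 0, 2, 0, 2, 0],
  [-2, -2, 2, 2, -2, -2, -2, -2, 2, 2, 0, 0, 0, 0, 0, -2, 2, 0, -2, -2, 0, 2, 0, -2],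
  [0, 0, 0, 0, 0, 0, 0, -4, 0, 0, 2, -2, -2, 2, 2, 0, 0, 2, 0, 0, 2, -4, 2, 0],
  [4, 0, 0, 0, 0, 0, 0, 0, 0, 0, 2, 2, -2, -2, 2, 0, 0, -2, 0, -4, -2, 0, 2, 0],
  [2, 2, -2, 2, 2, 2, -2, -2, 2, -2, 0, 0, 0, 0, 0, -2, 2, 0, 2, 2, 0, 2, 0, -2],
  [-2, -2, 2, -2, 2, 2, -2, -2, -2, -2, 0, 0, 0, 0, 0, 2, -2, 0, 2, -2, 0, 2, 0, -2],
  [0, 0, 0, 0, 0, 0, 0, -4, 0, 0, -2, 2, 2, -2, -2, 0, 0, -2, 0, 0, -2, -4, -2, 0],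
  [0, 0, 0, 0, 0, 0, 4, 0, 0, 0, -2, 2, -2, -2, -2, 0, 0, 2, 0, 0, 2, 0, 2, -4],
  [-2, 2, -2, -2, -2, 2, -2, 2, 2, -2, 0, 0, 0, 0, 0, 2, 2, 0, -2, -2, 0, -2, 0, -2],
  [0, -4, -4, 0, 0, 0, 0, 0, 0, 0, 2, 2, 2, -2, 2, 0, 0, 2, 0, 0, 2, 0, -2, 0]]

/-- Data. -/
def T73 : List (List ℤ) := [[4, 0, 0, 2, 2, 2, 0, 0, 2, 2, 0, 0, 0, 0, 0, 2, 2, 0, 2, 0, 0, 0, 0, 4],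
  [2, -2, -2, 0, 0, 0, 2, 2, 0, 0, -2, -2, 2, -2, -2, 0, 0, 2, 0, -2, 2, 2, 2, -2],
  [0, 0, 0, -2, 2, -2, 0, 0, -2, 2, 0, 4, 0, 0, 0, 2, -2, 0, 2, 0, 0, 0, 4, 0],
  [0, 0, 0, 2, 2, 2, 0, 0, -2, -2, 0, 0, 4, 4, 0, -2, -2, 0, 2, 0, 0, 0, 0, 0],
  [0, 0, 0, 2, -2, -2, 0, 0, 2, -2, 0, 0, 0, 0, 4, 2, -2, 0, 2, 0, 4, 0, 0, 0],
  [0, 0, 0, -2, -2, 2, 0, 0, 2, 2, 4, 0, 0, 0, 0, -2, -2, 4, 2, 0, 0, 0, 0, 0],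
  [0, 0, 0, -2, -2, -2, 0, 0, 2, 2, 0, 0, 4, 4, 0, 2, 2, 0, -2, 0, 0, 0, 0, 0],
  [0, 4, 0, 2, -2, -2, 0, 4, -2, 2, 0, 0, 0, 0, 0, -2, 2, 0, 2, 0, 0, 0, 0, 0],
  [2, 2, 2, 0, 0, 0, 2, -2, 0, 0, 2, -2, 2, -2, 2, 0, 0, -2, 0, -2, -2, -2, 2, -2],
  [0, 0, 0, 2, 2, -2, 0, 0, -2, -2, 4, 0, 0, 0, 0, 2, 2, 4, -2, 0, 0, 0, 0, 0],
  [2, -2, 2, 0, 0, 0, -2, 2, 0, 0, 2, 2, 2, -2, -2, 0, 0, -2, 0, 2, 2, -2, -2, -2],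
  [2, -2, 2, 0, 0, 0, -2, 2, 0, 0, -2, -2, -2, 2, 2, 0, 0, 2, 0, 2, -2, -2, 2, -2],
  [0, 0, 0, 2, -2, 2, 0, 0, 2, -2, 0, 4, 0, 0, 0, -2, 2, 0, -2, 0, 0, 0, 4, 0],
  [2, 2, -2, 0, 0, 0, -2, -2, 0, 0, -2, 2, 2, -2, 2, 0, 0, 2, 0, 2, -2, 2, -2, -2],
  [0, 0, 0, -2, 2, 2, 0, 0, -2, 2, 0, 0, 0, 0, 4, -2, 2, 0, -2, 0, 4, 0, 0, 0],
  [0, 0, 4, 2, 2, -2, 0, 0, 2, 2, 0, 0, 0, 0, 0, -2, -2, 0, -2, 0, 0, 4, 0, 0],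
  [0, 0, 0, -2, 2, -2, 4, 0, 2, -2, 0, 0, 0, 0, 0, -2, 2, 0, 2, 4, 0, 0, 0, 0],
  [2, -2, -2, 0, 0, 0, 2, 2, 0, 0, 2, 2, -2, 2, 2, 0, 0, -2, 0, -2, -2, 2, -2, -2],
  [2, 2, -2, 0, 0, 0, -2, -2, 0, 0, 2, -2, -2, 2, -2, 0, 0, -2, 0, 2, 2, 2, 2, -2],
  [0, 0, 4, -2, -2, 2, 0, 0, -2, -2, 0, 0, 0, 0, 0, 2, 2, 0, 2, 0, 0, 4, 0, 0],
  [0, 0, 0, 2, -2, 2, 4, 0, -2, 2, 0, 0, 0, 0, 0, 2, -2, 0, -2, 4, 0, 0, 0, 0],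
  [2, 2, 2, 0, 0, 0, 2, -2, 0, 0, -2, 2, -2, 2, -2, 0, 0, 2, 0, -2, 2, -2, -2, -2],
  [0, 4, 0, -2, 2, 2, 0, 4, 2, -2, 0, 0, 0, 0, 0, 2, -2, 0, -2, 0, 0, 0, 0, 0],
  [4, 0, 0, -2, -2, -2, 0, 0, -2, -2, 0, 0, 0, 0, 0, -2, -2, 0, -2, 0, 0, 0, 0, 4]]

/-- Data. -/
def T74 : List (List ℤ) := [[0, 0, -8, 0, 0, 0, 0, 0, 0, 0, 0, 0, 0, 0, 0, 0, 0, 0, 0, 0, 0, 0, 0, 0],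
  [0, 0, 0, 0, 0, 0, 0, 0, 0, 0, 0, 0, 0, 0, 0, 0, 0, 0, 0, 0, 0, -8, 0, 0],
  [0, 0, 0, 0, 0, 0, 0, 0, 0, 0, 0, 0, 0, 8, 0, 0, 0, 0, 0, 0, 0, 0, 0, 0],
  [0, 0, 0, 0, 0, 0, 0, 0, 0, 0, 0, 0, 0, 0, 0, 0, 0, 0, 0, 0, 0, 0, -8, 0],
  [8, 0, 0, 0, 0, 0, 0, 0, 0, 0, 0, 0, 0, 0, 0, 0, 0, 0, 0, 0, 0, 0, 0, 0],
  [0, 0, 0, 8, 0, 0, 0, 0, 0, 0, 0, 0, 0, 0, 0, 0, 0, 0, 0, 0, 0, 0, 0, 0],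
  [0, 0, 0, 0, 0, 0, 0, -8, 0, 0, 0, 0, 0, 0, 0, 0, 0, 0, 0, 0, 0, 0, 0, 0],
  [0, 0, 0, 0, 0, 0, 0, 0, 0, -8, 0, 0, 0, 0, 0, 0, 0, 0, 0, 0, 0, 0, 0, 0],
  [0, 0, 0, 0, 8, 0, 0, 0, 0, 0, 0, 0, 0, 0, 0, 0, 0, 0, 0, 0, 0, 0, 0, 0],
  [0, -8, 0, 0, 0, 0, 0, 0, 0, 0, 0, 0, 0, 0, 0, 0, 0, 0, 0, 0, 0, 0, 0, 0],
  [0, 0, 0, 0, 0, 0, 0, 0, 0, 0, 0, 0, 0, 0, 0, -8, 0, 0, 0, 0, 0, 0, 0, 0],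
  [0, 0, 0, 0, 0, 0, 0, 0, 0, 0, 0, -8, 0, 0, 0, 0, 0, 0, 0, 0, 0, 0, 0, 0],
  [0, 0, 0, 0, 0, 0, 0, 0, 0, 0, 0, 0, 0, 0, 0, 0, 0, 0, 0, -8, 0, 0, 0, 0],
  [0, 0, 0, 0, 0, 0, 0, 0, 0, 0, -8, 0, 0, 0, 0, 0, 0, 0, 0, 0, 0, 0, 0, 0],
  [0, 0, 0, 0, 0, 8, 0, 0, 0, 0, 0, 0, 0, 0, 0, 0, 0, 0, 0, 0, 0, 0, 0, 0],
  [0, 0, 0, 0, 0, 0, 0, 0, -8, 0, 0, 0, 0, 0, 0, 0, 0, 0, 0, 0, 0, 0, 0, 0],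
  [0, 0, 0, 0, 0, 0, 0, 0, 0, 0, 0, 0, 0, 0, 0, 0, 0, -8, 0, 0, 0, 0, 0, 0],
  [0, 0, 0, 0, 0, 0, -8, 0, 0, 0, 0, 0, 0, 0, 0, 0, 0, 0, 0, 0, 0, 0, 0, 0],
  [0, 0, 0, 0, 0, 0, 0, 0, 0, 0, 0, 0, 0, 0, 0, 0, 0, 0, 8, 0, 0, 0, 0, 0],
  [0, 0, 0, 0, 0, 0, 0, 0, 0, 0, 0, 0, 0, 0, 0, 0, 0, 0, 0, 0, -8, 0, 0, 0],
  [0, 0, 0, 0, 0, 0, 0, 0, 0, 0, 0, 0, 0, 0, -8, 0, 0, 0, 0, 0, 0, 0, 0, 0],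
  [0, 0, 0, 0, 0, 0, 0, 0, 0, 0, 0, 0, 0, 0, 0, 0, -8, 0, 0, 0, 0, 0, 0, 0],
  [0, 0, 0, 0, 0, 0, 0, 0, 0, 0, 0, 0, 8, 0, 0, 0, 0, 0, 0, 0, 0, 0, 0, 0],
  [0, 0, 0, 0, 0, 0, 0, 0, 0, 0, 0, 0, 0, 0, 0, 0, 0, 0, 0, 0, 0, 0, 0, 8]]

/-- Data. -/
def T75 : List (List ℤ) := [[-4, 0, 0, 4, 0, 4, 0, 0, 0, 0, 0, 0, 4, 0, 0, 0, 0, 0, 0, 0, 0, 0, 0, 0],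
  [0, 4, 0, 0, 0, 0, 0, 0, -4, -4, 0, 0, 0, 0, 0, 0, 0, 0, 0, 0, -4, 0, 0, 0],
  [0, 0, 4, 0, 0, 0, 0, 0, 0, 0, 0, -4, 0, 0, 0, 0, 0, 0, 0, -4, 0, -4, 0, 0],
  [4, 0, 0, -4, 0, 4, 0, 0, 0, 0, 0, 0, 4, 0, 0, 0, 0, 0, 0, 0, 0, 0, 0, 0],
  [0, 0, 0, 0, 4, 0, 0, 0, 0, 0, 0, 0, 0, -4, 0, 0, 0, 0, -4, 0, 0, 0, 0, -4],
  [4, 0, 0, 4, 0, -4, 0, 0, 0, 0, 0, 0, 4, 0, 0, 0, 0, 0, 0, 0, 0, 0, 0, 0],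
  [0, 0, 0, 0, 0, 0, 4, 0, 0, 0, -4, 0, 0, 0, 0, 0, 0, -4, 0, 0, 0, 0, -4, 0],
  [0, 0, 0, 0, 0, 0, 0, 4, 0, 0, 0, 0, 0, 0, -4, -4, -4, 0, 0, 0, 0, 0, 0, 0],
  [0, -4, 0, 0, 0, 0, 0, 0, 4, -4, 0, 0, 0, 0, 0, 0, 0, 0, 0, 0, -4, 0, 0, 0],
  [0, -4, 0, 0, 0, 0, 0, 0, -4, 4, 0, 0, 0, 0, 0, 0, 0, 0, 0, 0, -4, 0, 0, 0],
  [0, 0, 0, 0, 0, 0, -4, 0, 0, 0, 4, 0, 0, 0, 0, 0, 0, -4, 0, 0, 0, 0, -4, 0],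
  [0, 0, -4, 0, 0, 0, 0, 0, 0, 0, 0, 4, 0, 0, 0, 0, 0, 0, 0, -4, 0, -4, 0, 0],
  [4, 0, 0, 4, 0, 4, 0, 0, 0, 0, 0, 0, -4, 0, 0, 0, 0, 0, 0, 0, 0, 0, 0, 0],
  [0, 0, 0, 0, -4, 0, 0, 0, 0, 0, 0, 0, 0, 4, 0, 0, 0, 0, -4, 0, 0, 0, 0, -4],
  [0, 0, 0, 0, 0, 0, 0, -4, 0, 0, 0, 0, 0, 0, 4, -4, -4, 0, 0, 0, 0, 0, 0, 0],
  [0, 0, 0, 0, 0, 0, 0, -4, 0, 0, 0, 0, 0, 0, -4, 4, -4, 0, 0, 0, 0, 0, 0, 0],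
  [0, 0, 0, 0, 0, 0, 0, -4, 0, 0, 0, 0, 0, 0, -4, -4, 4, 0, 0, 0, 0, 0, 0, 0],
  [0, 0, 0, 0, 0, 0, -4, 0, 0, 0, -4, 0, 0, 0, 0, 0, 0, 4, 0, 0, 0, 0, -4, 0],
  [0, 0, 0, 0, -4, 0, 0, 0, 0, 0, 0, 0, 0, -4, 0, 0, 0, 0, 4, 0, 0, 0, 0, -4],
  [0, 0, -4, 0, 0, 0, 0, 0, 0, 0, 0, -4, 0, 0, 0, 0, 0, 0, 0, 4, 0, -4, 0, 0],
  [0, -4, 0, 0, 0, 0, 0, 0, -4, -4, 0, 0, 0, 0, 0, 0, 0, 0, 0, 0, 4, 0, 0, 0],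
  [0, 0, -4, 0, 0, 0, 0, 0, 0, 0, 0, -4, 0, 0, 0, 0, 0, 0, 0, -4, 0, 4, 0, 0],
  [0, 0, 0, 0, 0, 0, -4, 0, 0, 0, -4, 0, 0, 0, 0, 0, 0, -4, 0, 0, 0, 0, 4, 0],
  [0, 0, 0, 0, -4, 0, 0, 0, 0, 0, 0, 0, 0, -4, 0, 0, 0, 0, -4, 0, 0, 0, 0, 4]]

/-- Data. -/
def T76 : List (List ℤ) := [[0, 0, -4, 0, 0, 0, 0, 0, 0, 0, 0, 4, 0, 0, 0, 0, 0, 0, 0, 4, 0, 4, 0, 0],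
  [0, 0, 4, 0, 0, 0, 0, 0, 0, 0, 0, 4, 0, 0, 0, 0, 0, 0, 0, 4, 0, -4, 0, 0],
  [0, 0, 0, 0, -4, 0, 0, 0, 0, 0, 0, 0, 0, 4, 0, 0, 0, 0, -4, 0, 0, 0, 0, -4],
  [0, 0, 0, 0, 0, 0, 4, 0, 0, 0, 4, 0, 0, 0, 0, 0, 0, 4, 0, 0, 0, 0, -4, 0],
  [-4, 0, 0, 4, 0, 4, 0, 0, 0, 0, 0, 0, 4, 0, 0, 0, 0, 0, 0, 0, 0, 0, 0, 0],
  [4, 0, 0, -4, 0, 4, 0, 0, 0, 0, 0, 0, 4, 0, 0, 0, 0, 0, 0, 0, 0, 0, 0, 0],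
  [0, 0, 0, 0, 0, 0, 0, -4, 0, 0, 0, 0, 0, 0, 4, 4, 4, 0, 0, 0, 0, 0, 0, 0],
  [0, 4, 0, 0, 0, 0, 0, 0, 4, -4, 0, 0, 0, 0, 0, 0, 0, 0, 0, 0, 4, 0, 0, 0],
  [0, 0, 0, 0, 4, 0, 0, 0, 0, 0, 0, 0, 0, -4, 0, 0, 0, 0, -4, 0, 0, 0, 0, -4],
  [0, -4, 0, 0, 0, 0, 0, 0, 4, 4, 0, 0, 0, 0, 0, 0, 0, 0, 0, 0, 4, 0, 0, 0],
  [0, 0, 0, 0, 0, 0, 0, 4, 0, 0, 0, 0, 0, 0, 4, -4, 4, 0, 0, 0, 0, 0, 0, 0],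
  [0, 0, 4, 0, 0, 0, 0, 0, 0, 0, 0, -4, 0, 0, 0, 0, 0, 0, 0, 4, 0, 4, 0, 0],
  [0, 0, 4, 0, 0, 0, 0, 0, 0, 0, 0, 4, 0, 0, 0, 0, 0, 0, 0, -4, 0, 4, 0, 0],
  [0, 0, 0, 0, 0, 0, 4, 0, 0, 0, -4, 0, 0, 0, 0, 0, 0, 4, 0, 0, 0, 0, 4, 0],
  [4, 0, 0, 4, 0, -4, 0, 0, 0, 0, 0, 0, 4, 0, 0, 0, 0, 0, 0, 0, 0, 0, 0, 0],
  [0, 4, 0, 0, 0, 0, 0, 0, -4, 4, 0, 0, 0, 0, 0, 0, 0, 0, 0, 0, 4, 0, 0, 0],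
  [0, 0, 0, 0, 0, 0, 4, 0, 0, 0, 4, 0, 0, 0, 0, 0, 0, -4, 0, 0, 0, 0, 4, 0],
  [0, 0, 0, 0, 0, 0, -4, 0, 0, 0, 4, 0, 0, 0, 0, 0, 0, 4, 0, 0, 0, 0, 4, 0],
  [0, 0, 0, 0, -4, 0, 0, 0, 0, 0, 0, 0, 0, -4, 0, 0, 0, 0, 4, 0, 0, 0, 0, -4],
  [0, 4, 0, 0, 0, 0, 0, 0, 4, 4, 0, 0, 0, 0, 0, 0, 0, 0, 0, 0, -4, 0, 0, 0],
  [0, 0, 0, 0, 0, 0, 0, 4, 0, 0, 0, 0, 0, 0, -4, 4, 4, 0, 0, 0, 0, 0, 0, 0],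
  [0, 0, 0, 0, 0, 0, 0, 4, 0, 0, 0, 0, 0, 0, 4, 4, -4, 0, 0, 0, 0, 0, 0, 0],
  [4, 0, 0, 4, 0, 4, 0, 0, 0, 0, 0, 0, -4, 0, 0, 0, 0, 0, 0, 0, 0, 0, 0, 0],
  [0, 0, 0, 0, -4, 0, 0, 0, 0, 0, 0, 0, 0, -4, 0, 0, 0, 0, -4, 0, 0, 0, 0, 4]]

/-- Data. -/
def T77 : List (List ℤ) := [[4, -4, 0, 0, 0, 0, -4, -4, 0, 0, 0, 0, 0, 0, 0, 0, 0, 0, 0, 0, 0, 0, 0, 0],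
  [-4, 4, 0, 0, 0, 0, -4, -4, 0, 0, 0, 0, 0, 0, 0, 0, 0, 0, 0, 0, 0, 0, 0, 0],
  [0, 0, -4, 0, 0, 0, 0, 0, 0, 0, 0, 0, 0, 0, 0, 0, 0, 0, 0, 4, 0, 4, 0, 4],
  [0, 0, 0, 4, 0, 0, 0, 0, 0, 0, 0, 0, 0, 0, 0, -4, 0, -4, 0, 0, -4, 0, 0, 0],
  [0, 0, 0, 0, 4, 0, 0, 0, 0, 0, 0, -4, 0, -4, 0, 0, 0, 0, -4, 0, 0, 0, 0, 0],
  [0, 0, 0, 0, 0, 4, 0, 0, 0, -4, -4, 0, 0, 0, -4, 0, 0, 0, 0, 0, 0, 0, 0, 0],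
  [-4, -4, 0, 0, 0, 0, 4, -4, 0, 0, 0, 0, 0, 0, 0, 0, 0, 0, 0, 0, 0, 0, 0, 0],
  [-4, -4, 0, 0, 0, 0, -4, 4, 0, 0, 0, 0, 0, 0, 0, 0, 0, 0, 0, 0, 0, 0, 0, 0],
  [0, 0, 0, 0, 0, 0, 0, 0, 4, 0, 0, 0, -4, 0, 0, 0, -4, 0, 0, 0, 0, 0, -4, 0],
  [0, 0, 0, 0, 0, -4, 0, 0, 0, 4, -4, 0, 0, 0, -4, 0, 0, 0, 0, 0, 0, 0, 0, 0],
  [0, 0, 0, 0, 0, -4, 0, 0, 0, -4, 4, 0, 0, 0, -4, 0, 0, 0, 0, 0, 0, 0, 0, 0],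
  [0, 0, 0, 0, -4, 0, 0, 0, 0, 0, 0, 4, 0, -4, 0, 0, 0, 0, -4, 0, 0, 0, 0, 0],
  [0, 0, 0, 0, 0, 0, 0, 0, -4, 0, 0, 0, 4, 0, 0, 0, -4, 0, 0, 0, 0, 0, -4, 0],
  [0, 0, 0, 0, -4, 0, 0, 0, 0, 0, 0, -4, 0, 4, 0, 0, 0, 0, -4, 0, 0, 0, 0, 0],
  [0, 0, 0, 0, 0, -4, 0, 0, 0, -4, -4, 0, 0, 0, 4, 0, 0, 0, 0, 0, 0, 0, 0, 0],
  [0, 0, 0, -4, 0, 0, 0, 0, 0, 0, 0, 0, 0, 0, 0, 4, 0, -4, 0, 0, -4, 0, 0, 0],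
  [0, 0, 0, 0, 0, 0, 0, 0, -4, 0, 0, 0, -4, 0, 0, 0, 4, 0, 0, 0, 0, 0, -4, 0],
  [0, 0, 0, -4, 0, 0, 0, 0, 0, 0, 0, 0, 0, 0, 0, -4, 0, 4, 0, 0, -4, 0, 0, 0],
  [0, 0, 0, 0, -4, 0, 0, 0, 0, 0, 0, -4, 0, -4, 0, 0, 0, 0, 4, 0, 0, 0, 0, 0],
  [0, 0, 4, 0, 0, 0, 0, 0, 0, 0, 0, 0, 0, 0, 0, 0, 0, 0, 0, -4, 0, 4, 0, 4],
  [0, 0, 0, -4, 0, 0, 0, 0, 0, 0, 0, 0, 0, 0, 0, -4, 0, -4, 0, 0, 4, 0, 0, 0],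
  [0, 0, 4, 0, 0, 0, 0, 0, 0, 0, 0, 0, 0, 0, 0, 0, 0, 0, 0, 4, 0, -4, 0, 4],
  [0, 0, 0, 0, 0, 0, 0, 0, -4, 0, 0, 0, -4, 0, 0, 0, -4, 0, 0, 0, 0, 0, 4, 0],
  [0, 0, 4, 0, 0, 0, 0, 0, 0, 0, 0, 0, 0, 0, 0, 0, 0, 0, 0, 4, 0, 4, 0, -4]]

/-- Data. -/
def T78 : List (List ℤ) := [[0, 0, 6, 0, -2, 0, 0, 0, 0, 0, 0, 2, 0, -2, 0, 0, 0, 0, -2, -2, 0, -2, 0, 2],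
  [0, 0, -2, 0, -2, 0, 0, 0, 0, 0, 0, 2, 0, -2, 0, 0, 0, 0, -2, -2, 0, 6, 0, 2],
  [0, 0, -2, 0, -2, 0, 0, 0, 0, 0, 0, 2, 0, 6, 0, 0, 0, 0, -2, -2, 0, -2, 0, 2],
  [-2, -2, 0, -2, 0, -2, 2, -2, 2, -2, 2, 0, 2, 0, -2, -2, 2, 2, 0, 0, -2, 0, -2, 0],
  [-2, 2, 0, 2, 0, 2, 2, 2, -2, -2, -2, 0, 2, 0, -2, -2, -2, -2, 0, 0, -2, 0, -2, 0],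
  [2, -2, 0, -2, 0, 2, -2, -2, -2, -2, -2, 0, 2, 0, -2, 2, -2, 2, 0, 0, 2, 0, -2, 0],
  [2, 2, 0, -2, 0, -2, 2, -2, -2, -2, -2, 0, -2, 0, 2, 2, 2, -2, 0, 0, -2, 0, -2, 0],
  [-2, 2, 0, -2, 0, 2, -2, -2, 2, -2, 2, 0, -2, 0, 2, -2, -2, -2, 0, 0, 2, 0, -2, 0],
  [0, 0, -2, 0, 6, 0, 0, 0, 0, 0, 0, 2, 0, -2, 0, 0, 0, 0, -2, -2, 0, -2, 0, 2],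
  [2, -2, 0, -2, 0, -2, 2, 2, 2, 2, -2, 0, -2, 0, -2, -2, -2, -2, 0, 0, 2, 0, -2, 0],
  [-2, -2, 0, 2, 0, -2, -2, 2, -2, -2, -2, 0, -2, 0, 2, -2, 2, 2, 0, 0, 2, 0, -2, 0],
  [0, 0, 2, 0, 2, 0, 0, 0, 0, 0, 0, -2, 0, 2, 0, 0, 0, 0, 2, 2, 0, 2, 0, 6],
  [0, 0, -2, 0, -2, 0, 0, 0, 0, 0, 0, 2, 0, -2, 0, 0, 0, 0, -2, 6, 0, -2, 0, 2],
  [-2, -2, 0, -2, 0, 2, 2, -2, -2, 2, -2, 0, -2, 0, 2, -2, -2, 2, 0, 0, -2, 0, 2, 0],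
  [2, -2, 0, 2, 0, -2, -2, -2, -2, 2, 2, 0, 2, 0, 2, -2, -2, -2, 0, 0, -2, 0, -2, 0],
  [-2, 2, 0, -2, 0, -2, -2, -2, -2, 2, -2, 0, 2, 0, -2, -2, 2, -2, 0, 0, 2, 0, 2, 0],
  [-2, -2, 0, 2, 0, -2, 2, -2, -2, -2, 2, 0, -2, 0, -2, 2, -2, -2, 0, 0, 2, 0, 2, 0],
  [2, 2, 0, -2, 0, -2, -2, 2, -2, -2, 2, 0, -2, 0, -2, -2, -2, 2, 0, 0, -2, 0, 2, 0],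
  [0, 0, -2, 0, -2, 0, 0, 0, 0, 0, 0, 2, 0, -2, 0, 0, 0, 0, 6, -2, 0, -2, 0, 2],
  [-2, 2, 0, 2, 0, -2, -2, -2, 2, 2, -2, 0, -2, 0, -2, 2, -2, 2, 0, 0, -2, 0, -2, 0],
  [-2, -2, 0, -2, 0, 2, -2, 2, -2, 2, 2, 0, -2, 0, -2, 2, 2, -2, 0, 0, -2, 0, -2, 0],
  [-2, -2, 0, -2, 0, -2, -2, 2, 2, -2, -2, 0, 2, 0, 2, 2, -2, -2, 0, 0, -2, 0, 2, 0],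
  [2, -2, 0, 2, 0, 2, -2, -2, 2, -2, -2, 0, -2, 0, -2, -2, 2, -2, 0, 0, -2, 0, 2, 0],
  [0, 0, 2, 0, 2, 0, 0, 0, 0, 0, 0, 6, 0, 2, 0, 0, 0, 0, 2, 2, 0, 2, 0, -2]]

/-- Data. -/
def T79 : List (List ℤ) := [[-4, 0, 4, 0, 0, 0, 0, 0, 0, 0, 0, 4, 0, 0, 0, 0, 0, 0, 0, 0, 0, 0, 0, 4],
  [0, 4, 0, 0, 0, 0, 0, 0, -4, 0, 0, 0, -4, 0, 0, 0, 0, 0, -4, 0, 0, 0, 0, 0],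
  [4, 0, -4, 0, 0, 0, 0, 0, 0, 0, 0, 4, 0, 0, 0, 0, 0, 0, 0, 0, 0, 0, 0, 4],
  [0, 0, 0, 4, 0, 0, 0, -4, 0, 0, 0, 0, 0, -4, 0, -4, 0, 0, 0, 0, 0, 0, 0, 0],
  [0, 0, 0, 0, 4, -4, -4, 0, 0, 0, -4, 0, 0, 0, 0, 0, 0, 0, 0, 0, 0, 0, 0, 0],
  [0, 0, 0, 0, -4, 4, -4, 0, 0, 0, -4, 0, 0, 0, 0, 0, 0, 0, 0, 0, 0, 0, 0, 0],
  [0, 0, 0, 0, -4, -4, 4, 0, 0, 0, -4, 0, 0, 0, 0, 0, 0, 0, 0, 0, 0, 0, 0, 0],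
  [0, 0, 0, -4, 0, 0, 0, 4, 0, 0, 0, 0, 0, -4, 0, -4, 0, 0, 0, 0, 0, 0, 0, 0],
  [0, -4, 0, 0, 0, 0, 0, 0, 4, 0, 0, 0, -4, 0, 0, 0, 0, 0, -4, 0, 0, 0, 0, 0],
  [0, 0, 0, 0, 0, 0, 0, 0, 0, 4, 0, 0, 0, 0, 0, 0, -4, -4, 0, -4, 0, 0, 0, 0],
  [0, 0, 0, 0, -4, -4, -4, 0, 0, 0, 4, 0, 0, 0, 0, 0, 0, 0, 0, 0, 0, 0, 0, 0],
  [4, 0, 4, 0, 0, 0, 0, 0, 0, 0, 0, -4, 0, 0, 0, 0, 0, 0, 0, 0, 0, 0, 0, 4],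
  [0, -4, 0, 0, 0, 0, 0, 0, -4, 0, 0, 0, 4, 0, 0, 0, 0, 0, -4, 0, 0, 0, 0, 0],
  [0, 0, 0, -4, 0, 0, 0, -4, 0, 0, 0, 0, 0, 4, 0, -4, 0, 0, 0, 0, 0, 0, 0, 0],
  [0, 0, 0, 0, 0, 0, 0, 0, 0, 0, 0, 0, 0, 0, 4, 0, 0, 0, 0, 0, -4, -4, -4, 0],
  [0, 0, 0, -4, 0, 0, 0, -4, 0, 0, 0, 0, 0, -4, 0, 4, 0, 0, 0, 0, 0, 0, 0, 0],
  [0, 0, 0, 0, 0, 0, 0, 0, 0, -4, 0, 0, 0, 0, 0, 0, 4, -4, 0, -4, 0, 0, 0, 0],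
  [0, 0, 0, 0, 0, 0, 0, 0, 0, -4, 0, 0, 0, 0, 0, 0, -4, 4, 0, -4, 0, 0, 0, 0],
  [0, -4, 0, 0, 0, 0, 0, 0, -4, 0, 0, 0, -4, 0, 0, 0, 0, 0, 4, 0, 0, 0, 0, 0],
  [0, 0, 0, 0, 0, 0, 0, 0, 0, -4, 0, 0, 0, 0, 0, 0, -4, -4, 0, 4, 0, 0, 0, 0],
  [0, 0, 0, 0, 0, 0, 0, 0, 0, 0, 0, 0, 0, 0, -4, 0, 0, 0, 0, 0, 4, -4, -4, 0],
  [0, 0, 0, 0, 0, 0, 0, 0, 0, 0, 0, 0, 0, 0, -4, 0, 0, 0, 0, 0, -4, 4, -4, 0],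
  [0, 0, 0, 0, 0, 0, 0, 0, 0, 0, 0, 0, 0, 0, -4, 0, 0, 0, 0, 0, -4, -4, 4, 0],
  [4, 0, 4, 0, 0, 0, 0, 0, 0, 0, 0, 4, 0, 0, 0, 0, 0, 0, 0, 0, 0, 0, 0, -4]]

/-- Data. -/
def T80 : List (List ℤ) := [[5, 1, -1, 1, -1, 1, 1, 1, 1, 1, 1, 3, 1, -1, 1, 1, 1, 1, -1, -1, 1, -1, 1, 3],
  [1, 1, 3, 1, -1, 1, 1, 1, 1, 1, 1, -1, 1, -1, -3, 1, 1, 1, -1, -1, -3, 3, -3, -1],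
  [1, 1, 3, -3, -1, 1, 1, -3, 1, 1, 1, -1, 1, 3, 1, -3, 1, 1, -1, -1, 1, -1, 1, -1],
  [1, -3, -1, 1, -1, -3, 1, 1, 1, -3, 1, -1, 1, 3, 1, 1, 1, 1, -1, -1, 1, 3, 1, -1],
  [1, 1, -1, 1, -1, 1, 1, 1, -3, 1, -3, -1, 1, -1, 1, -3, 1, 1, -1, 3, 1, 3, 1, -1],
  [-1, -1, 1, -1, 1, 3, -1, -1, -1, -1, -1, 1, 3, 1, -1, 3, -1, 3, 1, 1, 3, 1, -1, 1],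
  [-1, 3, 1, -1, 1, -1, 3, -1, -1, -1, -1, 1, -1, 1, 3, 3, 3, -1, 1, 1, -1, 1, -1, 1],
  [1, 1, -1, 1, -1, 1, -3, 1, 1, 1, 1, -1, -3, 3, 1, 1, 1, 1, -1, 3, 1, -1, -3, -1],
  [1, 1, 3, 1, 3, -3, -3, 1, 1, 1, -3, -1, 1, -1, 1, 1, 1, 1, -1, -1, 1, -1, 1, -1],
  [-1, -1, 1, -1, 1, -1, 3, 3, 3, 3, -1, 1, -1, 1, -1, -1, -1, -1, 1, 1, 3, 1, -1, 1],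
  [1, 1, -1, 1, 3, 1, 1, 1, 1, -3, 1, -1, 1, -1, 1, -3, 1, 1, 3, -1, 1, -1, -3, -1],
  [3, -1, 1, -1, 1, -1, -1, -1, -1, -1, -1, 5, -1, 1, -1, -1, -1, -1, 1, 1, -1, 1, -1, -3],
  [1, 1, 3, 1, -1, 1, 1, 1, 1, -3, 1, -1, 1, -1, 1, 1, -3, -3, -1, 3, 1, -1, 1, -1],
  [1, 1, -1, 1, -1, 1, 1, 1, 1, 1, -3, -1, 1, 3, 1, 1, -3, 1, 3, -1, -3, -1, 1, -1],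
  [-1, -1, 1, 3, 1, -1, -1, -1, -1, 3, 3, 1, 3, 1, 3, -1, -1, -1, 1, 1, -1, 1, -1, 1],
  [1, 1, -1, 1, 3, 1, 1, 1, -3, 1, 1, -1, 1, 3, -3, 1, 1, -3, -1, -1, 1, -1, 1, -1],
  [1, 1, -1, 1, -1, -3, 1, -3, 1, 1, 1, -1, 1, -1, -3, 1, 1, 1, 3, 3, 1, -1, 1, -1],
  [-1, 3, 1, -1, 1, -1, -1, 3, -1, -1, 3, 1, -1, 1, -1, -1, -1, 3, 1, 1, -1, 1, 3, 1],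
  [1, -3, 3, 1, -1, 1, 1, 1, -3, 1, 1, -1, -3, -1, 1, 1, 1, 1, 3, -1, 1, -1, 1, -1],
  [1, 1, -1, 1, 3, 1, 1, -3, 1, 1, 1, -1, -3, -1, 1, 1, -3, 1, -1, -1, 1, 3, 1, -1],
  [1, 1, -1, -3, -1, 1, -3, 1, 1, 1, 1, -1, 1, -1, 1, 1, 1, -3, 3, -1, 1, 3, 1, -1],
  [1, -3, -1, -3, 3, 1, 1, 1, 1, 1, 1, -1, 1, -1, 1, 1, 1, 1, -1, 3, -3, -1, 1, -1],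
  [-1, -1, 1, 3, 1, 3, -1, -1, 3, -1, -1, 1, -1, 1, -1, -1, 3, -1, 1, 1, -1, 1, 3, 1],
  [3, -1, 1, -1, 1, -1, -1, -1, -1, -1, -1, -3, -1, 1, -1, -1, -1, -1, 1, 1, -1, 1, -1, 5]]

/-- Data. -/
def T81 : List (List ℤ) := [[0, 0, 0, 0, 0, 0, 0, 0, 0, 0, 0, 0, 0, 0, 8, 0, 0, 0, 0, 0, 0, 0, 0, 0],
  [0, 0, 0, 0, 0, 0, 0, 0, 0, 0, 0, 0, -8, 0, 0, 0, 0, 0, 0, 0, 0, 0, 0, 0],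
  [0, 0, 0, 0, 0, 0, 0, -8, 0, 0, 0, 0, 0, 0, 0, 0, 0, 0, 0, 0, 0, 0, 0, 0],
  [0, 0, 0, 0, 8, 0, 0, 0, 0, 0, 0, 0, 0, 0, 0, 0, 0, 0, 0, 0, 0, 0, 0, 0],
  [0, 0, 0, 0, 0, 0, 0, 0, 0, 0, 0, 0, 0, 0, 0, 0, 0, 0, 0, 0, -8, 0, 0, 0],
  [0, 0, 0, 0, 0, 0, 0, 0, 0, 0, -8, 0, 0, 0, 0, 0, 0, 0, 0, 0, 0, 0, 0, 0],
  [0, 0, 0, 0, 0, 0, 0, 0, 0, 0, 0, 0, 0, 0, 0, 0, 0, 0, 0, -8, 0, 0, 0, 0],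
  [0, 0, -8, 0, 0, 0, 0, 0, 0, 0, 0, 0, 0, 0, 0, 0, 0, 0, 0, 0, 0, 0, 0, 0],
  [0, 0, 0, 0, 0, 0, 0, 0, 0, 0, 0, 0, 0, 0, 0, 0, 0, 0, -8, 0, 0, 0, 0, 0],
  [0, 0, 0, 8, 0, 0, 0, 0, 0, 0, 0, 0, 0, 0, 0, 0, 0, 0, 0, 0, 0, 0, 0, 0],
  [0, 0, 0, 0, 0, 0, 0, 0, 0, 0, 0, 0, 0, 0, 0, 0, 8, 0, 0, 0, 0, 0, 0, 0],
  [0, 0, 0, 0, 0, 0, 0, 0, 0, 0, 0, 0, 0, 8, 0, 0, 0, 0, 0, 0, 0, 0, 0, 0],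
  [0, 0, 0, 0, 0, 0, 0, 0, 0, 0, 0, 0, 0, 0, 0, 0, 0, 0, 0, 0, 0, 0, 8, 0],
  [0, 0, 0, 0, 0, 0, 0, 0, 0, 0, 0, 0, 0, 0, 0, 0, 0, 0, 0, 0, 0, -8, 0, 0],
  [0, 0, 0, 0, 0, 0, 0, 0, 0, 0, 0, 0, 0, 0, 0, 0, 0, 8, 0, 0, 0, 0, 0, 0],
  [-8, 0, 0, 0, 0, 0, 0, 0, 0, 0, 0, 0, 0, 0, 0, 0, 0, 0, 0, 0, 0, 0, 0, 0],
  [0, 0, 0, 0, 0, 0, 0, 0, 0, -8, 0, 0, 0, 0, 0, 0, 0, 0, 0, 0, 0, 0, 0, 0],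
  [0, 0, 0, 0, 0, 0, 0, 0, 0, 0, 0, 0, 0, 0, 0, 0, 0, 0, 0, 0, 0, 0, 0, -8],
  [0, 0, 0, 0, 0, 0, -8, 0, 0, 0, 0, 0, 0, 0, 0, 0, 0, 0, 0, 0, 0, 0, 0, 0],
  [0, 0, 0, 0, 0, 0, 0, 0, -8, 0, 0, 0, 0, 0, 0, 0, 0, 0, 0, 0, 0, 0, 0, 0],
  [0, 0, 0, 0, 0, 0, 0, 0, 0, 0, 0, 0, 0, 0, 0, -8, 0, 0, 0, 0, 0, 0, 0, 0],
  [0, -8, 0, 0, 0, 0, 0, 0, 0, 0, 0, 0, 0, 0, 0, 0, 0, 0, 0, 0, 0, 0, 0, 0],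
  [0, 0, 0, 0, 0, 0, 0, 0, 0, 0, 0, -8, 0, 0, 0, 0, 0, 0, 0, 0, 0, 0, 0, 0],
  [0, 0, 0, 0, 0, 8, 0, 0, 0, 0, 0, 0, 0, 0, 0, 0, 0, 0, 0, 0, 0, 0, 0, 0]]

/-- Data. -/
def T82 : List (List ℤ) := [[-4, 0, 0, 0, 4, 4, 0, 0, 0, 0, 0, 0, 0, 0, 4, 0, 0, 0, 0, 0, 0, 0, 0, 0],
  [0, 4, 0, 0, 0, 0, 0, 0, 0, 0, 0, -4, -4, 0, 0, 0, 0, 0, 0, 0, 0, 0, -4, 0],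
  [0, 0, 4, 0, 0, 0, 0, -4, 0, 0, 0, 0, 0, -4, 0, 0, 0, 0, 0, 0, 0, -4, 0, 0],
  [0, 0, 0, 4, 0, 0, 0, 0, -4, 0, -4, 0, 0, 0, 0, 0, 0, 0, 0, -4, 0, 0, 0, 0],
  [4, 0, 0, 0, -4, 4, 0, 0, 0, 0, 0, 0, 0, 0, 4, 0, 0, 0, 0, 0, 0, 0, 0, 0],
  [4, 0, 0, 0, 4, -4, 0, 0, 0, 0, 0, 0, 0, 0, 4, 0, 0, 0, 0, 0, 0, 0, 0, 0],
  [0, 0, 0, 0, 0, 0, 4, 0, 0, 0, 0, 0, 0, 0, 0, -4, 0, -4, -4, 0, 0, 0, 0, 0],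
  [0, 0, -4, 0, 0, 0, 0, 4, 0, 0, 0, 0, 0, -4, 0, 0, 0, 0, 0, 0, 0, -4, 0, 0],
  [0, 0, 0, -4, 0, 0, 0, 0, 4, 0, -4, 0, 0, 0, 0, 0, 0, 0, 0, -4, 0, 0, 0, 0],
  [0, 0, 0, 0, 0, 0, 0, 0, 0, 4, 0, 0, 0, 0, 0, 0, -4, 0, 0, 0, -4, 0, 0, -4],
  [0, 0, 0, -4, 0, 0, 0, 0, -4, 0, 4, 0, 0, 0, 0, 0, 0, 0, 0, -4, 0, 0, 0, 0],
  [0, -4, 0, 0, 0, 0, 0, 0, 0, 0, 0, 4, -4, 0, 0, 0, 0, 0, 0, 0, 0, 0, -4, 0],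
  [0, -4, 0, 0, 0, 0, 0, 0, 0, 0, 0, -4, 4, 0, 0, 0, 0, 0, 0, 0, 0, 0, -4, 0],
  [0, 0, -4, 0, 0, 0, 0, -4, 0, 0, 0, 0, 0, 4, 0, 0, 0, 0, 0, 0, 0, -4, 0, 0],
  [4, 0, 0, 0, 4, 4, 0, 0, 0, 0, 0, 0, 0, 0, -4, 0, 0, 0, 0, 0, 0, 0, 0, 0],
  [0, 0, 0, 0, 0, 0, -4, 0, 0, 0, 0, 0, 0, 0, 0, 4, 0, -4, -4, 0, 0, 0, 0, 0],
  [0, 0, 0, 0, 0, 0, 0, 0, 0, -4, 0, 0, 0, 0, 0, 0, 4, 0, 0, 0, -4, 0, 0, -4],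
  [0, 0, 0, 0, 0, 0, -4, 0, 0, 0, 0, 0, 0, 0, 0, -4, 0, 4, -4, 0, 0, 0, 0, 0],
  [0, 0, 0, 0, 0, 0, -4, 0, 0, 0, 0, 0, 0, 0, 0, -4, 0, -4, 4, 0, 0, 0, 0, 0],
  [0, 0, 0, -4, 0, 0, 0, 0, -4, 0, -4, 0, 0, 0, 0, 0, 0, 0, 0, 4, 0, 0, 0, 0],
  [0, 0, 0, 0, 0, 0, 0, 0, 0, -4, 0, 0, 0, 0, 0, 0, -4, 0, 0, 0, 4, 0, 0, -4],
  [0, 0, -4, 0, 0, 0, 0, -4, 0, 0, 0, 0, 0, -4, 0, 0, 0, 0, 0, 0, 0, 4, 0, 0],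
  [0, -4, 0, 0, 0, 0, 0, 0, 0, 0, 0, -4, -4, 0, 0, 0, 0, 0, 0, 0, 0, 0, 4, 0],
  [0, 0, 0, 0, 0, 0, 0, 0, 0, -4, 0, 0, 0, 0, 0, 0, -4, 0, 0, 0, -4, 0, 0, 4]]

/-- Data. -/
def T83 : List (List ℤ) := [[4, 0, 0, 0, 4, 4, 0, 0, 0, 0, 0, 0, 0, 0, -4, 0, 0, 0, 0, 0, 0, 0, 0, 0],
  [0, 4, 0, 0, 0, 0, 0, 0, 0, 0, 0, 4, -4, 0, 0, 0, 0, 0, 0, 0, 0, 0, 4, 0],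
  [0, 0, 4, 0, 0, 0, 0, -4, 0, 0, 0, 0, 0, 4, 0, 0, 0, 0, 0, 0, 0, 4, 0, 0],
  [4, 0, 0, 0, -4, 4, 0, 0, 0, 0, 0, 0, 0, 0, 4, 0, 0, 0, 0, 0, 0, 0, 0, 0],
  [0, 0, 0, 0, 0, 0, 0, 0, 0, 4, 0, 0, 0, 0, 0, 0, 4, 0, 0, 0, -4, 0, 0, 4],
  [0, 0, 0, 4, 0, 0, 0, 0, 4, 0, -4, 0, 0, 0, 0, 0, 0, 0, 0, 4, 0, 0, 0, 0],
  [0, 0, 0, 4, 0, 0, 0, 0, 4, 0, 4, 0, 0, 0, 0, 0, 0, 0, 0, -4, 0, 0, 0, 0],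
  [0, 0, -4, 0, 0, 0, 0, 4, 0, 0, 0, 0, 0, 4, 0, 0, 0, 0, 0, 0, 0, 4, 0, 0],
  [0, 0, 0, 0, 0, 0, 4, 0, 0, 0, 0, 0, 0, 0, 0, 4, 0, 4, -4, 0, 0, 0, 0, 0],
  [0, 0, 0, 4, 0, 0, 0, 0, -4, 0, -4, 0, 0, 0, 0, 0, 0, 0, 0, -4, 0, 0, 0, 0],
  [0, 0, 0, 0, 0, 0, 0, 0, 0, -4, 0, 0, 0, 0, 0, 0, 4, 0, 0, 0, -4, 0, 0, -4],
  [0, 0, -4, 0, 0, 0, 0, -4, 0, 0, 0, 0, 0, 4, 0, 0, 0, 0, 0, 0, 0, -4, 0, 0],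
  [0, -4, 0, 0, 0, 0, 0, 0, 0, 0, 0, -4, -4, 0, 0, 0, 0, 0, 0, 0, 0, 0, 4, 0],
  [0, 0, 4, 0, 0, 0, 0, 4, 0, 0, 0, 0, 0, 4, 0, 0, 0, 0, 0, 0, 0, -4, 0, 0],
  [0, 0, 0, 0, 0, 0, -4, 0, 0, 0, 0, 0, 0, 0, 0, -4, 0, 4, -4, 0, 0, 0, 0, 0],
  [4, 0, 0, 0, -4, -4, 0, 0, 0, 0, 0, 0, 0, 0, -4, 0, 0, 0, 0, 0, 0, 0, 0, 0],
  [0, 0, 0, 0, 0, 0, 0, 0, 0, -4, 0, 0, 0, 0, 0, 0, 4, 0, 0, 0, 4, 0, 0, 4],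
  [0, 0, 0, 0, 0, 0, 0, 0, 0, 4, 0, 0, 0, 0, 0, 0, 4, 0, 0, 0, 4, 0, 0, -4],
  [0, 0, 0, 0, 0, 0, -4, 0, 0, 0, 0, 0, 0, 0, 0, 4, 0, 4, 4, 0, 0, 0, 0, 0],
  [0, 0, 0, 4, 0, 0, 0, 0, -4, 0, 4, 0, 0, 0, 0, 0, 0, 0, 0, 4, 0, 0, 0, 0],
  [0, 0, 0, 0, 0, 0, 4, 0, 0, 0, 0, 0, 0, 0, 0, -4, 0, 4, 4, 0, 0, 0, 0, 0],
  [0, -4, 0, 0, 0, 0, 0, 0, 0, 0, 0, 4, 4, 0, 0, 0, 0, 0, 0, 0, 0, 0, 4, 0],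
  [0, 4, 0, 0, 0, 0, 0, 0, 0, 0, 0, -4, 4, 0, 0, 0, 0, 0, 0, 0, 0, 0, 4, 0],
  [4, 0, 0, 0, 4, -4, 0, 0, 0, 0, 0, 0, 0, 0, 4, 0, 0, 0, 0, 0, 0, 0, 0, 0]]

/-- Data. -/
def T84 : List (List ℤ) := [[4, -4, -4, 0, -4, 0, 0, 0, 0, 0, 0, 0, 0, 0, 0, 0, 0, 0, 0, 0, 0, 0, 0, 0],
  [-4, 4, -4, 0, -4, 0, 0, 0, 0, 0, 0, 0, 0, 0, 0, 0, 0, 0, 0, 0, 0, 0, 0, 0],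
  [-4, -4, 4, 0, -4, 0, 0, 0, 0, 0, 0, 0, 0, 0, 0, 0, 0, 0, 0, 0, 0, 0, 0, 0],
  [0, 0, 0, 4, 0, 0, 0, -4, 0, 0, -4, 0, -4, 0, 0, 0, 0, 0, 0, 0, 0, 0, 0, 0],
  [-4, -4, -4, 0, 4, 0, 0, 0, 0, 0, 0, 0, 0, 0, 0, 0, 0, 0, 0, 0, 0, 0, 0, 0],
  [0, 0, 0, 0, 0, 4, 0, 0, 0, -4, 0, 0, 0, 0, 0, 0, 0, 0, -4, -4, 0, 0, 0, 0],
  [0, 0, 0, 0, 0, 0, -4, 0, 4, 0, 0, 0, 0, 0, 4, 0, 0, 0, 0, 0, 4, 0, 0, 0],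
  [0, 0, 0, -4, 0, 0, 0, 4, 0, 0, -4, 0, -4, 0, 0, 0, 0, 0, 0, 0, 0, 0, 0, 0],
  [0, 0, 0, 0, 0, 0, 4, 0, -4, 0, 0, 0, 0, 0, 4, 0, 0, 0, 0, 0, 4, 0, 0, 0],
  [0, 0, 0, 0, 0, -4, 0, 0, 0, 4, 0, 0, 0, 0, 0, 0, 0, 0, -4, -4, 0, 0, 0, 0],
  [0, 0, 0, -4, 0, 0, 0, -4, 0, 0, 4, 0, -4, 0, 0, 0, 0, 0, 0, 0, 0, 0, 0, 0],
  [0, 0, 0, 0, 0, 0, 0, 0, 0, 0, 0, 4, 0, 0, 0, -4, 0, -4, 0, 0, 0, -4, 0, 0],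
  [0, 0, 0, -4, 0, 0, 0, -4, 0, 0, -4, 0, 4, 0, 0, 0, 0, 0, 0, 0, 0, 0, 0, 0],
  [0, 0, 0, 0, 0, 0, 0, 0, 0, 0, 0, 0, 0, 4, 0, 0, -4, 0, 0, 0, 0, 0, -4, -4],
  [0, 0, 0, 0, 0, 0, 4, 0, 4, 0, 0, 0, 0, 0, -4, 0, 0, 0, 0, 0, 4, 0, 0, 0],
  [0, 0, 0, 0, 0, 0, 0, 0, 0, 0, 0, -4, 0, 0, 0, 4, 0, -4, 0, 0, 0, -4, 0, 0],
  [0, 0, 0, 0, 0, 0, 0, 0, 0, 0, 0, 0, 0, -4, 0, 0, 4, 0, 0, 0, 0, 0, -4, -4],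
  [0, 0, 0, 0, 0, 0, 0, 0, 0, 0, 0, -4, 0, 0, 0, -4, 0, 4, 0, 0, 0, -4, 0, 0],
  [0, 0, 0, 0, 0, -4, 0, 0, 0, -4, 0, 0, 0, 0, 0, 0, 0, 0, 4, -4, 0, 0, 0, 0],
  [0, 0, 0, 0, 0, -4, 0, 0, 0, -4, 0, 0, 0, 0, 0, 0, 0, 0, -4, 4, 0, 0, 0, 0],
  [0, 0, 0, 0, 0, 0, 4, 0, 4, 0, 0, 0, 0, 0, 4, 0, 0, 0, 0, 0, -4, 0, 0, 0],
  [0, 0, 0, 0, 0, 0, 0, 0, 0, 0, 0, -4, 0, 0, 0, -4, 0, -4, 0, 0, 0, 4, 0, 0],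
  [0, 0, 0, 0, 0, 0, 0, 0, 0, 0, 0, 0, 0, -4, 0, 0, -4, 0, 0, 0, 0, 0, 4, -4],
  [0, 0, 0, 0, 0, 0, 0, 0, 0, 0, 0, 0, 0, -4, 0, 0, -4, 0, 0, 0, 0, 0, -4, 4]]

/-- Data. -/
def T85 : List (List ℤ) := [[0, -4, -4, 0, 0, 2, -2, 0, -2, -2, 0, 0, 0, 0, 2, 0, 0, 0, -2, -2, -2, 0, 0, 0],
  [-2, 2, -2, 2, -2, 0, 0, 2, 0, 0, 2, 2, -2, -2, 0, -2, -2, -2, 0, 0, 0, -2, 2, -2],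
  [-2, -2, 2, 2, -2, 0, 0, -2, 0, 0, 2, -2, 2, 2, 0, -2, -2, -2, 0, 0, 0, 2, -2, -2],
  [4, 0, 0, 0, -4, 2, 2, 0, 2, -2, 0, 0, 0, 0, -2, 0, 0, 0, -2, -2, 2, 0, 0, 0],
  [0, 0, 0, 0, 0, -2, -2, 0, -2, 2, 0, 0, 0, -4, -2, 0, 0, 0, -2, -2, 2, 0, -4, 0],
  [0, 0, 0, 4, 0, -2, 2, 0, -2, -2, -4, 0, 0, 0, 2, 0, 0, 0, -2, 2, 2, 0, 0, 0],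
  [0, 0, 0, 0, 0, 2, 2, -4, -2, 2, 0, 0, -4, 0, 2, 0, 0, 0, 2, -2, 2, 0, 0, 0],
  [2, 2, -2, -2, 2, 0, 0, 2, 0, 0, -2, -2, -2, 2, 0, -2, -2, -2, 0, 0, 0, 2, -2, -2],
  [0, 0, 0, 0, 0, 2, -2, 0, 2, 2, 0, -4, 0, 0, 2, 0, 0, 0, -2, 2, 2, -4, 0, 0],
  [0, 0, 0, 4, 0, 2, -2, 0, 2, 2, -4, 0, 0, 0, -2, 0, 0, 0, 2, -2, -2, 0, 0, 0],
  [0, 0, 0, 0, 0, 2, -2, 0, -2, -2, 0, 0, 0, 0, -2, 0, 4, 0, 2, 2, 2, 0, 0, -4],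
  [2, 2, -2, 2, 2, 0, 0, -2, 0, 0, 2, 2, 2, 2, 0, 2, -2, 2, 0, 0, 0, -2, -2, -2],
  [2, -2, 2, 2, 2, 0, 0, 2, 0, 0, 2, -2, -2, -2, 0, 2, -2, 2, 0, 0, 0, 2, 2, -2],
  [-2, -2, 2, -2, -2, 0, 0, 2, 0, 0, -2, 2, -2, 2, 0, 2, -2, 2, 0, 0, 0, -2, -2, -2],
  [0, 0, 0, 0, 0, 2, 2, 0, -2, 2, 0, 0, 0, 0, -2, -4, 0, 4, -2, 2, -2, 0, 0, 0],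
  [4, 0, 0, 0, -4, -2, -2, 0, -2, 2, 0, 0, 0, 0, 2, 0, 0, 0, 2, 2, -2, 0, 0, 0],
  [0, 0, 0, 0, 0, 2, 2, 0, 2, -2, 0, 0, 0, -4, 2, 0, 0, 0, 2, 2, -2, 0, -4, 0],
  [0, 0, 0, 0, 0, -2, 2, 0, 2, 2, 0, 0, 0, 0, 2, 0, 4, 0, -2, -2, -2, 0, 0, -4],
  [0, 0, 0, 0, 0, -2, 2, 0, -2, -2, 0, -4, 0, 0, -2, 0, 0, 0, 2, -2, -2, -4, 0, 0],
  [0, 0, 0, 0, 0, -2, -2, -4, 2, -2, 0, 0, -4, 0, -2, 0, 0, 0, -2, 2, -2, 0, 0, 0],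
  [0, 0, 0, 0, 0, -2, -2, 0, 2, -2, 0, 0, 0, 0, 2, -4, 0, 4, 2, -2, 2, 0, 0, 0],
  [2, -2, 2, -2, 2, 0, 0, -2, 0, 0, -2, 2, 2, -2, 0, -2, -2, -2, 0, 0, 0, -2, 2, -2],
  [-2, 2, -2, -2, -2, 0, 0, -2, 0, 0, -2, -2, 2, -2, 0, 2, -2, 2, 0, 0, 0, 2, 2, -2],
  [0, -4, -4, 0, 0, -2, 2, 0, 2, 2, 0, 0, 0, 0, -2, 0, 0, 0, 2, 2, 2, 0, 0, 0]]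

/-- Data. -/
def T86 : List (List ℤ) := [[4, -4, -4, 0, 0, 0, 0, 0, 0, 0, 0, 0, 0, 0, 0, 0, 0, 0, 0, 0, 0, 0, 0, -4],
  [-4, 4, -4, 0, 0, 0, 0, 0, 0, 0, 0, 0, 0, 0, 0, 0, 0, 0, 0, 0, 0, 0, 0, -4],
  [-4, -4, 4, 0, 0, 0, 0, 0, 0, 0, 0, 0, 0, 0, 0, 0, 0, 0, 0, 0, 0, 0, 0, -4],
  [0, 0, 0, -4, 0, 4, 0, 0, 0, 0, 0, 0, 0, 0, 4, 0, 0, 4, 0, 0, 0, 0, 0, 0],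
  [0, 0, 0, 0, 4, 0, 0, 0, 0, 0, 0, 0, 0, -4, 0, 0, -4, 0, 0, 0, 0, 0, -4, 0],
  [0, 0, 0, 4, 0, -4, 0, 0, 0, 0, 0, 0, 0, 0, 4, 0, 0, 4, 0, 0, 0, 0, 0, 0],
  [0, 0, 0, 0, 0, 0, 4, -4, 0, 0, 0, 0, 0, 0, 0, 0, 0, 0, 0, -4, 0, -4, 0, 0],
  [0, 0, 0, 0, 0, 0, -4, 4, 0, 0, 0, 0, 0, 0, 0, 0, 0, 0, 0, -4, 0, -4, 0, 0],
  [0, 0, 0, 0, 0, 0, 0, 0, 4, 0, 0, -4, -4, 0, 0, 0, 0, 0, -4, 0, 0, 0, 0, 0],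
  [0, 0, 0, 0, 0, 0, 0, 0, 0, 4, -4, 0, 0, 0, 0, -4, 0, 0, 0, 0, -4, 0, 0, 0],
  [0, 0, 0, 0, 0, 0, 0, 0, 0, -4, 4, 0, 0, 0, 0, -4, 0, 0, 0, 0, -4, 0, 0, 0],
  [0, 0, 0, 0, 0, 0, 0, 0, -4, 0, 0, 4, -4, 0, 0, 0, 0, 0, -4, 0, 0, 0, 0, 0],
  [0, 0, 0, 0, 0, 0, 0, 0, -4, 0, 0, -4, 4, 0, 0, 0, 0, 0, -4, 0, 0, 0, 0, 0],
  [0, 0, 0, 0, -4, 0, 0, 0, 0, 0, 0, 0, 0, 4, 0, 0, -4, 0, 0, 0, 0, 0, -4, 0],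
  [0, 0, 0, 4, 0, 4, 0, 0, 0, 0, 0, 0, 0, 0, -4, 0, 0, 4, 0, 0, 0, 0, 0, 0],
  [0, 0, 0, 0, 0, 0, 0, 0, 0, -4, -4, 0, 0, 0, 0, 4, 0, 0, 0, 0, -4, 0, 0, 0],
  [0, 0, 0, 0, -4, 0, 0, 0, 0, 0, 0, 0, 0, -4, 0, 0, 4, 0, 0, 0, 0, 0, -4, 0],
  [0, 0, 0, 4, 0, 4, 0, 0, 0, 0, 0, 0, 0, 0, 4, 0, 0, -4, 0, 0, 0, 0, 0, 0],
  [0, 0, 0, 0, 0, 0, 0, 0, -4, 0, 0, -4, -4, 0, 0, 0, 0, 0, 4, 0, 0, 0, 0, 0],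
  [0, 0, 0, 0, 0, 0, -4, -4, 0, 0, 0, 0, 0, 0, 0, 0, 0, 0, 0, 4, 0, -4, 0, 0],
  [0, 0, 0, 0, 0, 0, 0, 0, 0, -4, -4, 0, 0, 0, 0, -4, 0, 0, 0, 0, 4, 0, 0, 0],
  [0, 0, 0, 0, 0, 0, -4, -4, 0, 0, 0, 0, 0, 0, 0, 0, 0, 0, 0, -4, 0, 4, 0, 0],
  [0, 0, 0, 0, -4, 0, 0, 0, 0, 0, 0, 0, 0, -4, 0, 0, -4, 0, 0, 0, 0, 0, 4, 0],
  [-4, -4, -4, 0, 0, 0, 0, 0, 0, 0, 0, 0, 0, 0, 0, 0, 0, 0, 0, 0, 0, 0, 0, 4]]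

/-- Data. -/
def T87 : List (List ℤ) := [[4, 0, 0, 2, 0, 0, 0, 2, 0, 0, 2, 2, 2, 0, 0, 2, 0, 2, 0, 0, 0, 2, 0, 4],
  [0, 4, 0, -2, 0, 0, 0, 2, 0, 0, 2, 2, -2, 0, 0, -2, 0, 2, 0, 0, 0, -2, 4, 0],
  [0, 0, 4, -2, 0, 0, 0, -2, 0, 0, 2, -2, 2, 4, 0, -2, 0, 2, 0, 0, 0, 2, 0, 0],
  [2, -2, -2, 0, -2, -2, 2, 0, 2, -2, 0, 0, 0, 2, 2, 0, 2, 0, -2, -2, 2, 0, 2, -2],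
  [0, 0, 0, -2, 4, 0, 0, 2, 0, 0, -2, 2, 2, 0, 0, -2, 4, -2, 0, 0, 0, 2, 0, 0],
  [0, 0, 0, -2, 0, 4, 0, -2, 0, 0, -2, 2, 2, 0, 0, 2, 0, 2, 0, 0, 4, -2, 0, 0],
  [0, 0, 0, 2, 0, 0, 4, -2, 0, 0, -2, 2, -2, 0, 0, -2, 0, 2, 4, 0, 0, 2, 0, 0],
  [2, 2, -2, 0, 2, -2, -2, 0, 2, 2, 0, 0, 0, 2, -2, 0, -2, 0, 2, -2, 2, 0, -2, -2],
  [0, 0, 0, 2, 0, 0, 0, 2, 4, 0, -2, -2, 2, 0, 0, -2, 0, 2, 0, 4, 0, -2, 0, 0],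
  [0, 0, 0, -2, 0, 0, 0, 2, 0, 4, -2, -2, -2, 0, 4, 2, 0, 2, 0, 0, 0, 2, 0, 0],
  [2, 2, 2, 0, -2, -2, -2, 0, -2, -2, 0, 0, 0, -2, 2, 0, 2, 0, 2, 2, 2, 0, -2, -2],
  [2, 2, -2, 0, 2, 2, 2, 0, -2, -2, 0, 0, 0, 2, 2, 0, -2, 0, -2, 2, -2, 0, -2, -2],
  [2, -2, 2, 0, 2, 2, -2, 0, 2, -2, 0, 0, 0, -2, 2, 0, -2, 0, 2, -2, -2, 0, 2, -2],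
  [0, 0, 4, 2, 0, 0, 0, 2, 0, 0, -2, 2, -2, 4, 0, 2, 0, -2, 0, 0, 0, -2, 0, 0],
  [0, 0, 0, 2, 0, 0, 0, -2, 0, 4, 2, 2, 2, 0, 4, -2, 0, -2, 0, 0, 0, -2, 0, 0],
  [2, -2, -2, 0, -2, 2, -2, 0, -2, 2, 0, 0, 0, 2, -2, 0, 2, 0, 2, 2, -2, 0, 2, -2],
  [0, 0, 0, 2, 4, 0, 0, -2, 0, 0, 2, -2, -2, 0, 0, 2, 4, 2, 0, 0, 0, -2, 0, 0],
  [2, 2, 2, 0, -2, 2, 2, 0, 2, 2, 0, 0, 0, -2, -2, 0, 2, 0, -2, -2, -2, 0, -2, -2],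
  [0, 0, 0, -2, 0, 0, 4, 2, 0, 0, 2, -2, 2, 0, 0, 2, 0, -2, 4, 0, 0, -2, 0, 0],
  [0, 0, 0, -2, 0, 0, 0, -2, 4, 0, 2, 2, -2, 0, 0, 2, 0, -2, 0, 4, 0, 2, 0, 0],
  [0, 0, 0, 2, 0, 4, 0, 2, 0, 0, 2, -2, -2, 0, 0, -2, 0, -2, 0, 0, 4, 2, 0, 0],
  [2, -2, 2, 0, 2, -2, 2, 0, -2, 2, 0, 0, 0, -2, -2, 0, -2, 0, -2, 2, 2, 0, 2, -2],
  [0, 4, 0, 2, 0, 0, 0, -2, 0, 0, -2, -2, 2, 0, 0, 2, 0, -2, 0, 0, 0, 2, 4, 0],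
  [4, 0, 0, -2, 0, 0, 0, -2, 0, 0, -2, -2, -2, 0, 0, -2, 0, -2, 0, 0, 0, -2, 0, 4]]

/-- Data. -/
def T88 : List (List ℤ) := [[0, 0, 0, 8, 0, 0, 0, 0, 0, 0, 0, 0, 0, 0, 0, 0, 0, 0, 0, 0, 0, 0, 0, 0],
  [8, 0, 0, 0, 0, 0, 0, 0, 0, 0, 0, 0, 0, 0, 0, 0, 0, 0, 0, 0, 0, 0, 0, 0],
  [0, 0, 0, 0, 0, 0, 0, 0, 0, 0, 0, 0, -8, 0, 0, 0, 0, 0, 0, 0, 0, 0, 0, 0],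
  [0, 0, 0, 0, -8, 0, 0, 0, 0, 0, 0, 0, 0, 0, 0, 0, 0, 0, 0, 0, 0, 0, 0, 0],
  [0, 0, 0, 0, 0, 0, 0, 0, 0, 0, 0, 8, 0, 0, 0, 0, 0, 0, 0, 0, 0, 0, 0, 0],
  [0, 0, 0, 0, 0, 0, 0, 0, 0, 0, 0, 0, 0, -8, 0, 0, 0, 0, 0, 0, 0, 0, 0, 0],
  [0, 0, 0, 0, 0, 0, 0, 0, 0, 0, 0, 0, 0, 0, 0, 0, 0, 0, 0, 0, 0, -8, 0, 0],
  [0, 0, 0, 0, 0, 0, 0, 0, 0, 0, 0, 0, 0, 0, 0, -8, 0, 0, 0, 0, 0, 0, 0, 0],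
  [0, 0, 8, 0, 0, 0, 0, 0, 0, 0, 0, 0, 0, 0, 0, 0, 0, 0, 0, 0, 0, 0, 0, 0],
  [0, 0, 0, 0, 0, 0, 0, 0, 0, 0, 0, 0, 0, 0, 0, 0, 0, 8, 0, 0, 0, 0, 0, 0],
  [0, 0, 0, 0, 0, 0, 0, 0, 8, 0, 0, 0, 0, 0, 0, 0, 0, 0, 0, 0, 0, 0, 0, 0],
  [0, 0, 0, 0, 0, 0, 0, 0, 0, 0, 0, 0, 0, 0, 0, 0, 0, 0, 0, 0, 8, 0, 0, 0],
  [0, 0, 0, 0, 0, 0, -8, 0, 0, 0, 0, 0, 0, 0, 0, 0, 0, 0, 0, 0, 0, 0, 0, 0],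
  [0, 0, 0, 0, 0, 0, 0, 0, 0, -8, 0, 0, 0, 0, 0, 0, 0, 0, 0, 0, 0, 0, 0, 0],
  [0, 0, 0, 0, 0, -8, 0, 0, 0, 0, 0, 0, 0, 0, 0, 0, 0, 0, 0, 0, 0, 0, 0, 0],
  [0, 0, 0, 0, 0, 0, 0, -8, 0, 0, 0, 0, 0, 0, 0, 0, 0, 0, 0, 0, 0, 0, 0, 0],
  [0, 0, 0, 0, 0, 0, 0, 0, 0, 0, 8, 0, 0, 0, 0, 0, 0, 0, 0, 0, 0, 0, 0, 0],
  [0, 0, 0, 0, 0, 0, 0, 0, 0, 0, 0, 0, 0, 0, 0, 0, 0, 0, -8, 0, 0, 0, 0, 0],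
  [0, 0, 0, 0, 0, 0, 0, 0, 0, 0, 0, 0, 0, 0, 0, 0, -8, 0, 0, 0, 0, 0, 0, 0],
  [0, -8, 0, 0, 0, 0, 0, 0, 0, 0, 0, 0, 0, 0, 0, 0, 0, 0, 0, 0, 0, 0, 0, 0],
  [0, 0, 0, 0, 0, 0, 0, 0, 0, 0, 0, 0, 0, 0, 0, 0, 0, 0, 0, -8, 0, 0, 0, 0],
  [0, 0, 0, 0, 0, 0, 0, 0, 0, 0, 0, 0, 0, 0, 0, 0, 0, 0, 0, 0, 0, 0, -8, 0],
  [0, 0, 0, 0, 0, 0, 0, 0, 0, 0, 0, 0, 0, 0, -8, 0, 0, 0, 0, 0, 0, 0, 0, 0],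
  [0, 0, 0, 0, 0, 0, 0, 0, 0, 0, 0, 0, 0, 0, 0, 0, 0, 0, 0, 0, 0, 0, 0, -8]]

/-- Data. -/
def T89 : List (List ℤ) := [[-4, 0, 4, 0, 0, 0, 0, 0, 4, 0, 4, 0, 0, 0, 0, 0, 0, 0, 0, 0, 0, 0, 0, 0],
  [0, 4, 0, 0, 0, -4, 0, 0, 0, 0, 0, 0, 0, 0, 0, 0, 0, 0, 0, 0, 0, -4, -4, 0],
  [4, 0, -4, 0, 0, 0, 0, 0, 4, 0, 4, 0, 0, 0, 0, 0, 0, 0, 0, 0, 0, 0, 0, 0],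
  [0, 0, 0, 4, 0, 0, 0, 0, 0, 0, 0, -4, 0, 0, 0, 0, 0, -4, 0, 0, -4, 0, 0, 0],
  [0, 0, 0, 0, 4, 0, 0, 0, 0, 0, 0, 0, 0, -4, 0, -4, 0, 0, -4, 0, 0, 0, 0, 0],
  [0, -4, 0, 0, 0, 4, 0, 0, 0, 0, 0, 0, 0, 0, 0, 0, 0, 0, 0, 0, 0, -4, -4, 0],
  [0, 0, 0, 0, 0, 0, 4, 0, 0, -4, 0, 0, -4, 0, 0, 0, 0, 0, 0, -4, 0, 0, 0, 0],
  [0, 0, 0, 0, 0, 0, 0, 4, 0, 0, 0, 0, 0, 0, -4, 0, -4, 0, 0, 0, 0, 0, 0, -4],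
  [4, 0, 4, 0, 0, 0, 0, 0, -4, 0, 4, 0, 0, 0, 0, 0, 0, 0, 0, 0, 0, 0, 0, 0],
  [0, 0, 0, 0, 0, 0, -4, 0, 0, 4, 0, 0, -4, 0, 0, 0, 0, 0, 0, -4, 0, 0, 0, 0],
  [4, 0, 4, 0, 0, 0, 0, 0, 4, 0, -4, 0, 0, 0, 0, 0, 0, 0, 0, 0, 0, 0, 0, 0],
  [0, 0, 0, -4, 0, 0, 0, 0, 0, 0, 0, 4, 0, 0, 0, 0, 0, -4, 0, 0, -4, 0, 0, 0],
  [0, 0, 0, 0, 0, 0, -4, 0, 0, -4, 0, 0, 4, 0, 0, 0, 0, 0, 0, -4, 0, 0, 0, 0],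
  [0, 0, 0, 0, -4, 0, 0, 0, 0, 0, 0, 0, 0, 4, 0, -4, 0, 0, -4, 0, 0, 0, 0, 0],
  [0, 0, 0, 0, 0, 0, 0, -4, 0, 0, 0, 0, 0, 0, 4, 0, -4, 0, 0, 0, 0, 0, 0, -4],
  [0, 0, 0, 0, -4, 0, 0, 0, 0, 0, 0, 0, 0, -4, 0, 4, 0, 0, -4, 0, 0, 0, 0, 0],
  [0, 0, 0, 0, 0, 0, 0, -4, 0, 0, 0, 0, 0, 0, -4, 0, 4, 0, 0, 0, 0, 0, 0, -4],
  [0, 0, 0, -4, 0, 0, 0, 0, 0, 0, 0, -4, 0, 0, 0, 0, 0, 4, 0, 0, -4, 0, 0, 0],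
  [0, 0, 0, 0, -4, 0, 0, 0, 0, 0, 0, 0, 0, -4, 0, -4, 0, 0, 4, 0, 0, 0, 0, 0],
  [0, 0, 0, 0, 0, 0, -4, 0, 0, -4, 0, 0, -4, 0, 0, 0, 0, 0, 0, 4, 0, 0, 0, 0],
  [0, 0, 0, -4, 0, 0, 0, 0, 0, 0, 0, -4, 0, 0, 0, 0, 0, -4, 0, 0, 4, 0, 0, 0],
  [0, -4, 0, 0, 0, -4, 0, 0, 0, 0, 0, 0, 0, 0, 0, 0, 0, 0, 0, 0, 0, 4, -4, 0],
  [0, -4, 0, 0, 0, -4, 0, 0, 0, 0, 0, 0, 0, 0, 0, 0, 0, 0, 0, 0, 0, -4, 4, 0],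
  [0, 0, 0, 0, 0, 0, 0, -4, 0, 0, 0, 0, 0, 0, -4, 0, -4, 0, 0, 0, 0, 0, 0, 4]]

/-- Data. -/
def T90 : List (List ℤ) := [[0, 0, 0, 4, 0, 0, 0, 0, 0, 0, 0, -4, 0, 0, 0, 0, 0, -4, 0, 0, -4, 0, 0, 0],
  [-4, 0, 4, 0, 0, 0, 0, 0, 4, 0, 4, 0, 0, 0, 0, 0, 0, 0, 0, 0, 0, 0, 0, 0],
  [0, 0, 0, 0, 0, 0, 4, 0, 0, 4, 0, 0, -4, 0, 0, 0, 0, 0, 0, 4, 0, 0, 0, 0],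
  [0, 0, 0, 0, -4, 0, 0, 0, 0, 0, 0, 0, 0, 4, 0, 4, 0, 0, 4, 0, 0, 0, 0, 0],
  [0, 0, 0, -4, 0, 0, 0, 0, 0, 0, 0, 4, 0, 0, 0, 0, 0, -4, 0, 0, -4, 0, 0, 0],
  [0, 0, 0, 0, 4, 0, 0, 0, 0, 0, 0, 0, 0, -4, 0, 4, 0, 0, 4, 0, 0, 0, 0, 0],
  [0, 4, 0, 0, 0, 4, 0, 0, 0, 0, 0, 0, 0, 0, 0, 0, 0, 0, 0, 0, 0, -4, 4, 0],
  [0, 0, 0, 0, 4, 0, 0, 0, 0, 0, 0, 0, 0, 4, 0, -4, 0, 0, 4, 0, 0, 0, 0, 0],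
  [4, 0, -4, 0, 0, 0, 0, 0, 4, 0, 4, 0, 0, 0, 0, 0, 0, 0, 0, 0, 0, 0, 0, 0],
  [0, 0, 0, -4, 0, 0, 0, 0, 0, 0, 0, -4, 0, 0, 0, 0, 0, 4, 0, 0, -4, 0, 0, 0],
  [4, 0, 4, 0, 0, 0, 0, 0, -4, 0, 4, 0, 0, 0, 0, 0, 0, 0, 0, 0, 0, 0, 0, 0],
  [0, 0, 0, -4, 0, 0, 0, 0, 0, 0, 0, -4, 0, 0, 0, 0, 0, -4, 0, 0, 4, 0, 0, 0],
  [0, 0, 0, 0, 0, 0, -4, 0, 0, 4, 0, 0, 4, 0, 0, 0, 0, 0, 0, 4, 0, 0, 0, 0],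
  [0, 0, 0, 0, 0, 0, 4, 0, 0, -4, 0, 0, 4, 0, 0, 0, 0, 0, 0, 4, 0, 0, 0, 0],
  [0, 4, 0, 0, 0, -4, 0, 0, 0, 0, 0, 0, 0, 0, 0, 0, 0, 0, 0, 0, 0, 4, 4, 0],
  [0, 0, 0, 0, 0, 0, 0, -4, 0, 0, 0, 0, 0, 0, 4, 0, 4, 0, 0, 0, 0, 0, 0, 4],
  [4, 0, 4, 0, 0, 0, 0, 0, 4, 0, -4, 0, 0, 0, 0, 0, 0, 0, 0, 0, 0, 0, 0, 0],
  [0, 0, 0, 0, 4, 0, 0, 0, 0, 0, 0, 0, 0, 4, 0, 4, 0, 0, -4, 0, 0, 0, 0, 0],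
  [0, 0, 0, 0, 0, 0, 0, 4, 0, 0, 0, 0, 0, 0, 4, 0, -4, 0, 0, 0, 0, 0, 0, 4],
  [0, -4, 0, 0, 0, 4, 0, 0, 0, 0, 0, 0, 0, 0, 0, 0, 0, 0, 0, 0, 0, 4, 4, 0],
  [0, 0, 0, 0, 0, 0, 4, 0, 0, 4, 0, 0, 4, 0, 0, 0, 0, 0, 0, -4, 0, 0, 0, 0],
  [0, 4, 0, 0, 0, 4, 0, 0, 0, 0, 0, 0, 0, 0, 0, 0, 0, 0, 0, 0, 0, 4, -4, 0],
  [0, 0, 0, 0, 0, 0, 0, 4, 0, 0, 0, 0, 0, 0, -4, 0, 4, 0, 0, 0, 0, 0, 0, 4],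
  [0, 0, 0, 0, 0, 0, 0, 4, 0, 0, 0, 0, 0, 0, 4, 0, 4, 0, 0, 0, 0, 0, 0, -4]]

/-- Data. -/
def T91 : List (List ℤ) := [[4, -4, 0, 0, -4, 0, 0, 0, 0, 0, 0, 0, 0, 0, 0, 0, 0, 0, 0, -4, 0, 0, 0, 0],
  [-4, 4, 0, 0, -4, 0, 0, 0, 0, 0, 0, 0, 0, 0, 0, 0, 0, 0, 0, -4, 0, 0, 0, 0],
  [0, 0, 4, 0, 0, -4, 0, 0, 0, -4, 0, 0, 0, 0, 0, 0, 0, 0, -4, 0, 0, 0, 0, 0],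
  [0, 0, 0, 4, 0, 0, 0, 0, 0, 0, 0, -4, 0, 0, 0, 0, 0, 0, 0, 0, -4, 0, 0, -4],
  [-4, -4, 0, 0, 4, 0, 0, 0, 0, 0, 0, 0, 0, 0, 0, 0, 0, 0, 0, -4, 0, 0, 0, 0],
  [0, 0, -4, 0, 0, 4, 0, 0, 0, -4, 0, 0, 0, 0, 0, 0, 0, 0, -4, 0, 0, 0, 0, 0],
  [0, 0, 0, 0, 0, 0, 4, 0, 0, 0, -4, 0, 0, 0, 0, -4, 0, 0, 0, 0, 0, 0, -4, 0],
  [0, 0, 0, 0, 0, 0, 0, -4, 0, 0, 0, 0, 0, 0, 4, 0, 4, 4, 0, 0, 0, 0, 0, 0],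
  [0, 0, 0, 0, 0, 0, 0, 0, 4, 0, 0, 0, -4, -4, 0, 0, 0, 0, 0, 0, 0, -4, 0, 0],
  [0, 0, -4, 0, 0, -4, 0, 0, 0, 4, 0, 0, 0, 0, 0, 0, 0, 0, -4, 0, 0, 0, 0, 0],
  [0, 0, 0, 0, 0, 0, -4, 0, 0, 0, 4, 0, 0, 0, 0, -4, 0, 0, 0, 0, 0, 0, -4, 0],
  [0, 0, 0, -4, 0, 0, 0, 0, 0, 0, 0, 4, 0, 0, 0, 0, 0, 0, 0, 0, -4, 0, 0, -4],
  [0, 0, 0, 0, 0, 0, 0, 0, -4, 0, 0, 0, 4, -4, 0, 0, 0, 0, 0, 0, 0, -4, 0, 0],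
  [0, 0, 0, 0, 0, 0, 0, 0, -4, 0, 0, 0, -4, 4, 0, 0, 0, 0, 0, 0, 0, -4, 0, 0],
  [0, 0, 0, 0, 0, 0, 0, 4, 0, 0, 0, 0, 0, 0, -4, 0, 4, 4, 0, 0, 0, 0, 0, 0],
  [0, 0, 0, 0, 0, 0, -4, 0, 0, 0, -4, 0, 0, 0, 0, 4, 0, 0, 0, 0, 0, 0, -4, 0],
  [0, 0, 0, 0, 0, 0, 0, 4, 0, 0, 0, 0, 0, 0, 4, 0, -4, 4, 0, 0, 0, 0, 0, 0],
  [0, 0, 0, 0, 0, 0, 0, 4, 0, 0, 0, 0, 0, 0, 4, 0, 4, -4, 0, 0, 0, 0, 0, 0],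
  [0, 0, -4, 0, 0, -4, 0, 0, 0, -4, 0, 0, 0, 0, 0, 0, 0, 0, 4, 0, 0, 0, 0, 0],
  [-4, -4, 0, 0, -4, 0, 0, 0, 0, 0, 0, 0, 0, 0, 0, 0, 0, 0, 0, 4, 0, 0, 0, 0],
  [0, 0, 0, -4, 0, 0, 0, 0, 0, 0, 0, -4, 0, 0, 0, 0, 0, 0, 0, 0, 4, 0, 0, -4],
  [0, 0, 0, 0, 0, 0, 0, 0, -4, 0, 0, 0, -4, -4, 0, 0, 0, 0, 0, 0, 0, 4, 0, 0],
  [0, 0, 0, 0, 0, 0, -4, 0, 0, 0, -4, 0, 0, 0, 0, -4, 0, 0, 0, 0, 0, 0, 4, 0],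
  [0, 0, 0, -4, 0, 0, 0, 0, 0, 0, 0, -4, 0, 0, 0, 0, 0, 0, 0, 0, -4, 0, 0, 4]]

/-- Data. -/
def T92 : List (List ℤ) := [[0, 0, 0, 6, 0, 0, 0, -2, 0, 0, 0, -2, 0, 0, -2, 0, -2, 2, 0, 0, -2, 0, 0, 2],
  [-2, 2, 2, 0, 2, -2, -2, 0, 2, -2, 2, 0, -2, -2, 0, -2, 0, 0, -2, 2, 0, -2, -2, 0],
  [-2, -2, -2, 0, -2, -2, 2, 0, 2, 2, -2, 0, -2, 2, 0, -2, 0, 0, -2, 2, 0, 2, -2, 0],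
  [2, 2, -2, 0, -2, -2, -2, 0, -2, -2, -2, 0, -2, 2, 0, 2, 0, 0, 2, 2, 0, -2, -2, 0],
  [0, 0, 0, -2, 0, 0, 0, -2, 0, 0, 0, 6, 0, 0, -2, 0, -2, 2, 0, 0, -2, 0, 0, 2],
  [-2, -2, -2, 0, 2, -2, -2, 0, 2, -2, -2, 0, 2, -2, 0, 2, 0, 0, 2, -2, 0, 2, -2, 0],
  [-2, 2, -2, 0, -2, 2, -2, 0, 2, -2, -2, 0, 2, 2, 0, -2, 0, 0, -2, -2, 0, -2, 2, 0],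
  [-2, -2, -2, 0, 2, -2, 2, 0, -2, -2, 2, 0, -2, 2, 0, -2, 0, 0, 2, -2, 0, -2, 2, 0],
  [2, -2, -2, 0, -2, 2, -2, 0, 2, 2, 2, 0, -2, -2, 0, -2, 0, 0, 2, -2, 0, -2, -2, 0],
  [0, 0, 0, 2, 0, 0, 0, 2, 0, 0, 0, 2, 0, 0, 2, 0, 2, -2, 0, 0, 2, 0, 0, 6],
  [2, -2, 2, 0, -2, -2, -2, 0, -2, -2, 2, 0, 2, 2, 0, -2, 0, 0, -2, -2, 0, 2, -2, 0],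
  [0, 0, 0, -2, 0, 0, 0, -2, 0, 0, 0, -2, 0, 0, -2, 0, -2, 2, 0, 0, 6, 0, 0, 2],
  [-2, -2, -2, 0, -2, -2, -2, 0, -2, 2, 2, 0, 2, -2, 0, 2, 0, 0, -2, 2, 0, -2, 2, 0],
  [-2, -2, 2, 0, -2, 2, 2, 0, -2, -2, -2, 0, 2, -2, 0, -2, 0, 0, 2, 2, 0, -2, -2, 0],
  [-2, 2, 2, 0, -2, -2, -2, 0, -2, 2, -2, 0, -2, -2, 0, -2, 0, 0, 2, -2, 0, 2, 2, 0],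
  [0, 0, 0, -2, 0, 0, 0, 6, 0, 0, 0, -2, 0, 0, -2, 0, -2, 2, 0, 0, -2, 0, 0, 2],
  [2, -2, 2, 0, -2, -2, 2, 0, 2, -2, -2, 0, -2, -2, 0, 2, 0, 0, -2, -2, 0, -2, 2, 0],
  [-2, -2, 2, 0, 2, 2, -2, 0, -2, 2, -2, 0, -2, 2, 0, 2, 0, 0, -2, -2, 0, -2, -2, 0],
  [0, 0, 0, -2, 0, 0, 0, -2, 0, 0, 0, -2, 0, 0, -2, 0, 6, 2, 0, 0, -2, 0, 0, 2],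
  [2, -2, -2, 0, 2, 2, -2, 0, -2, -2, -2, 0, -2, -2, 0, -2, 0, 0, -2, 2, 0, 2, 2, 0],
  [2, 2, -2, 0, 2, -2, 2, 0, -2, 2, -2, 0, 2, -2, 0, -2, 0, 0, -2, -2, 0, -2, -2, 0],
  [-2, 2, -2, 0, -2, 2, 2, 0, -2, -2, 2, 0, -2, -2, 0, 2, 0, 0, -2, -2, 0, 2, -2, 0],
  [0, 0, 0, -2, 0, 0, 0, -2, 0, 0, 0, -2, 0, 0, 6, 0, -2, 2, 0, 0, -2, 0, 0, 2],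
  [0, 0, 0, 2, 0, 0, 0, 2, 0, 0, 0, 2, 0, 0, 2, 0, 2, 6, 0, 0, 2, 0, 0, -2]]

/-- Data. -/
def T93 : List (List ℤ) := [[-4, 0, 0, 4, 0, 0, 0, 0, 0, 0, 0, 0, 0, 0, 0, 0, 0, 4, 0, 0, 0, 0, 0, 4],
  [0, 4, -4, 0, 0, -4, 0, 0, 0, 0, 0, 0, 0, 0, -4, 0, 0, 0, 0, 0, 0, 0, 0, 0],
  [0, -4, 4, 0, 0, -4, 0, 0, 0, 0, 0, 0, 0, 0, -4, 0, 0, 0, 0, 0, 0, 0, 0, 0],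
  [4, 0, 0, -4, 0, 0, 0, 0, 0, 0, 0, 0, 0, 0, 0, 0, 0, 4, 0, 0, 0, 0, 0, 4],
  [0, 0, 0, 0, 4, 0, 0, 0, 0, 0, -4, 0, 0, 0, 0, -4, -4, 0, 0, 0, 0, 0, 0, 0],
  [0, -4, -4, 0, 0, 4, 0, 0, 0, 0, 0, 0, 0, 0, -4, 0, 0, 0, 0, 0, 0, 0, 0, 0],
  [0, 0, 0, 0, 0, 0, 4, 0, 0, 0, 0, -4, 0, 0, 0, 0, 0, 0, -4, 0, 0, -4, 0, 0],
  [0, 0, 0, 0, 0, 0, 0, 4, -4, 0, 0, 0, -4, 0, 0, 0, 0, 0, 0, -4, 0, 0, 0, 0],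
  [0, 0, 0, 0, 0, 0, 0, -4, 4, 0, 0, 0, -4, 0, 0, 0, 0, 0, 0, -4, 0, 0, 0, 0],
  [0, 0, 0, 0, 0, 0, 0, 0, 0, 4, 0, 0, 0, -4, 0, 0, 0, 0, 0, 0, -4, 0, -4, 0],
  [0, 0, 0, 0, -4, 0, 0, 0, 0, 0, 4, 0, 0, 0, 0, -4, -4, 0, 0, 0, 0, 0, 0, 0],
  [0, 0, 0, 0, 0, 0, -4, 0, 0, 0, 0, 4, 0, 0, 0, 0, 0, 0, -4, 0, 0, -4, 0, 0],
  [0, 0, 0, 0, 0, 0, 0, -4, -4, 0, 0, 0, 4, 0, 0, 0, 0, 0, 0, -4, 0, 0, 0, 0],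
  [0, 0, 0, 0, 0, 0, 0, 0, 0, -4, 0, 0, 0, 4, 0, 0, 0, 0, 0, 0, -4, 0, -4, 0],
  [0, -4, -4, 0, 0, -4, 0, 0, 0, 0, 0, 0, 0, 0, 4, 0, 0, 0, 0, 0, 0, 0, 0, 0],
  [0, 0, 0, 0, -4, 0, 0, 0, 0, 0, -4, 0, 0, 0, 0, 4, -4, 0, 0, 0, 0, 0, 0, 0],
  [0, 0, 0, 0, -4, 0, 0, 0, 0, 0, -4, 0, 0, 0, 0, -4, 4, 0, 0, 0, 0, 0, 0, 0],
  [4, 0, 0, 4, 0, 0, 0, 0, 0, 0, 0, 0, 0, 0, 0, 0, 0, -4, 0, 0, 0, 0, 0, 4],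
  [0, 0, 0, 0, 0, 0, -4, 0, 0, 0, 0, -4, 0, 0, 0, 0, 0, 0, 4, 0, 0, -4, 0, 0],
  [0, 0, 0, 0, 0, 0, 0, -4, -4, 0, 0, 0, -4, 0, 0, 0, 0, 0, 0, 4, 0, 0, 0, 0],
  [0, 0, 0, 0, 0, 0, 0, 0, 0, -4, 0, 0, 0, -4, 0, 0, 0, 0, 0, 0, 4, 0, -4, 0],
  [0, 0, 0, 0, 0, 0, -4, 0, 0, 0, 0, -4, 0, 0, 0, 0, 0, 0, -4, 0, 0, 4, 0, 0],
  [0, 0, 0, 0, 0, 0, 0, 0, 0, -4, 0, 0, 0, -4, 0, 0, 0, 0, 0, 0, -4, 0, 4, 0],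
  [4, 0, 0, 4, 0, 0, 0, 0, 0, 0, 0, 0, 0, 0, 0, 0, 0, 4, 0, 0, 0, 0, 0, -4]]

/-- Data. -/
def T94 : List (List ℤ) := [[5, 1, 1, -1, 1, 1, 1, -1, 1, 1, 1, -1, 1, 1, -1, 1, -1, 3, 1, 1, -1, 1, 1, 3],
  [1, 1, 1, -1, 1, -3, 1, -1, 1, 1, 1, 3, -3, 1, -1, -3, -1, -1, 1, 1, 3, 1, 1, -1],
  [1, 1, 1, -1, 1, 1, 1, -1, 1, 1, 1, -1, -3, 1, 3, 1, 3, -1, -3, 1, -1, 1, -3, -1],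
  [-1, 3, -1, 1, -1, -1, -1, 1, -1, -1, -1, 1, -1, 3, 1, 3, 1, 1, 3, 3, 1, -1, -1, 1],
  [1, 1, 1, 3, 1, 1, -3, -1, 1, 1, 1, 3, 1, 1, -1, 1, -1, -1, -3, 1, -1, -3, 1, -1],
  [1, 1, 1, -1, 1, 1, -3, -1, 1, 1, -3, -1, 1, 1, 3, 1, -1, -1, 1, -3, 3, 1, 1, -1],
  [1, 1, -3, -1, 1, 1, 1, -1, 1, -3, 1, 3, 1, 1, -1, 1, 3, -1, 1, -3, -1, 1, 1, -1],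
  [1, 1, 1, -1, 1, 1, 1, 3, 1, -3, 1, -1, 1, 1, 3, -3, -1, -1, 1, 1, -1, -3, 1, -1],
  [-1, -1, -1, 1, -1, 3, -1, 1, 3, 3, 3, 1, -1, -1, 1, -1, 1, 1, 3, -1, 1, -1, -1, 1],
  [3, -1, -1, 1, -1, -1, -1, 1, -1, -1, -1, 1, -1, -1, 1, -1, 1, 5, -1, -1, 1, -1, -1, -3],
  [-1, -1, 3, 1, -1, -1, -1, 1, -1, -1, 3, 1, 3, 3, 1, -1, 1, 1, -1, -1, 1, 3, -1, 1],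
  [1, 1, 1, 3, 1, 1, 1, -1, 1, -3, 1, -1, 1, -3, -1, 1, -1, -1, 1, 1, 3, 1, -3, -1],
  [1, 1, 1, -1, -3, 1, 1, -1, -3, 1, 1, 3, 1, -3, 3, 1, -1, -1, 1, 1, -1, 1, 1, -1],
  [1, -3, 1, -1, 1, 1, 1, -1, -3, 1, 1, -1, 1, 1, -1, 1, 3, -1, 1, 1, 3, -3, 1, -1],
  [1, 1, 1, -1, 1, -3, -3, 3, 1, 1, 1, -1, 1, -3, -1, 1, 3, -1, 1, 1, -1, 1, 1, -1],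
  [1, 1, 1, 3, 1, 1, 1, 3, -3, 1, 1, -1, -3, 1, -1, 1, -1, -1, 1, -3, -1, 1, 1, -1],
  [-1, -1, 3, 1, -1, -1, 3, 1, 3, -1, -1, 1, -1, -1, 1, 3, 1, 1, -1, -1, 1, -1, 3, 1],
  [1, -3, 1, -1, 1, 1, 1, 3, 1, 1, -3, 3, 1, 1, -1, 1, -1, -1, 1, 1, -1, 1, -3, -1],
  [1, 1, 1, 3, -3, 1, 1, -1, 1, 1, -3, -1, 1, 1, -1, -3, 3, -1, 1, 1, -1, 1, 1, -1],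
  [-1, -1, -1, 1, 3, 3, -1, 1, -1, -1, -1, 1, -1, -1, 1, -1, 1, 1, -1, 3, 1, 3, 3, 1],
  [-1, 3, -1, 1, 3, -1, 3, 1, -1, 3, -1, 1, 3, -1, 1, -1, 1, 1, -1, -1, 1, -1, -1, 1],
  [1, 1, -3, -1, -3, 1, 1, 3, 1, 1, 1, -1, 1, 1, -1, 1, -1, -1, -3, 1, 3, 1, 1, -1],
  [1, -3, -3, 3, 1, -3, 1, -1, 1, 1, 1, -1, 1, 1, 3, 1, -1, -1, 1, 1, -1, 1, 1, -1],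
  [3, -1, -1, 1, -1, -1, -1, 1, -1, -1, -1, 1, -1, -1, 1, -1, 1, -3, -1, -1, 1, -1, -1, 5]]

/-- Data. -/
def T95 : List (List ℤ) := [[0, 0, 0, 0, -8, 0, 0, 0, 0, 0, 0, 0, 0, 0, 0, 0, 0, 0, 0, 0, 0, 0, 0, 0],
  [0, -8, 0, 0, 0, 0, 0, 0, 0, 0, 0, 0, 0, 0, 0, 0, 0, 0, 0, 0, 0, 0, 0, 0],
  [0, 0, 0, 0, 0, 0, 0, 0, 0, 0, 0, 0, 0, 0, 0, 0, 0, 0, -8, 0, 0, 0, 0, 0],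
  [0, 0, 0, 0, 0, 0, 0, 0, 0, 0, 0, 0, 0, 0, 0, 0, 0, 0, 0, 0, 0, 8, 0, 0],
  [0, 0, 0, 0, 0, 0, 0, 0, 0, 0, 0, 8, 0, 0, 0, 0, 0, 0, 0, 0, 0, 0, 0, 0],
  [0, 0, 0, 0, 0, 0, 0, 0, 0, 0, 0, 0, 0, 0, -8, 0, 0, 0, 0, 0, 0, 0, 0, 0],
  [0, 0, 0, 0, 0, 0, 0, 0, 0, 0, 0, 0, 0, 0, 0, 0, 0, 0, 0, 0, -8, 0, 0, 0],
  [0, 0, 0, 0, 0, 0, 0, 0, 0, 8, 0, 0, 0, 0, 0, 0, 0, 0, 0, 0, 0, 0, 0, 0],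
  [0, 0, -8, 0, 0, 0, 0, 0, 0, 0, 0, 0, 0, 0, 0, 0, 0, 0, 0, 0, 0, 0, 0, 0],
  [0, 0, 0, 0, 0, 0, 0, 0, 0, 0, 0, 0, 0, 0, 0, 0, 0, 0, 0, -8, 0, 0, 0, 0],
  [0, 0, 0, 0, 0, 0, 0, 0, 0, 0, 0, 0, 8, 0, 0, 0, 0, 0, 0, 0, 0, 0, 0, 0],
  [0, 0, 0, 0, 0, 0, -8, 0, 0, 0, 0, 0, 0, 0, 0, 0, 0, 0, 0, 0, 0, 0, 0, 0],
  [0, 0, 0, -8, 0, 0, 0, 0, 0, 0, 0, 0, 0, 0, 0, 0, 0, 0, 0, 0, 0, 0, 0, 0],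
  [0, 0, 0, 0, 0, -8, 0, 0, 0, 0, 0, 0, 0, 0, 0, 0, 0, 0, 0, 0, 0, 0, 0, 0],
  [0, 0, 0, 0, 0, 0, 0, 0, 0, 0, -8, 0, 0, 0, 0, 0, 0, 0, 0, 0, 0, 0, 0, 0],
  [0, 0, 0, 0, 0, 0, 0, -8, 0, 0, 0, 0, 0, 0, 0, 0, 0, 0, 0, 0, 0, 0, 0, 0],
  [0, 0, 0, 0, 0, 0, 0, 0, 0, 0, 0, 0, 0, 0, 0, 0, -8, 0, 0, 0, 0, 0, 0, 0],
  [8, 0, 0, 0, 0, 0, 0, 0, 0, 0, 0, 0, 0, 0, 0, 0, 0, 0, 0, 0, 0, 0, 0, 0],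
  [0, 0, 0, 0, 0, 0, 0, 0, 0, 0, 0, 0, 0, 0, 0, -8, 0, 0, 0, 0, 0, 0, 0, 0],
  [0, 0, 0, 0, 0, 0, 0, 0, 8, 0, 0, 0, 0, 0, 0, 0, 0, 0, 0, 0, 0, 0, 0, 0],
  [0, 0, 0, 0, 0, 0, 0, 0, 0, 0, 0, 0, 0, 0, 0, 0, 0, 0, 0, 0, 0, 0, 8, 0],
  [0, 0, 0, 0, 0, 0, 0, 0, 0, 0, 0, 0, 0, -8, 0, 0, 0, 0, 0, 0, 0, 0, 0, 0],
  [0, 0, 0, 0, 0, 0, 0, 0, 0, 0, 0, 0, 0, 0, 0, 0, 0, 8, 0, 0, 0, 0, 0, 0],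
  [0, 0, 0, 0, 0, 0, 0, 0, 0, 0, 0, 0, 0, 0, 0, 0, 0, 0, 0, 0, 0, 0, 0, -8]]

/-- Data. -/
def T96 : List (List ℤ) := [[-4, 0, 0, 0, 0, 0, 0, 0, 0, 0, 0, 0, 0, 0, 0, 0, 0, 4, 0, 0, 0, 4, 4, 0],
  [0, 4, 0, 0, 0, 0, -4, 0, 0, 0, 0, 0, 0, -4, -4, 0, 0, 0, 0, 0, 0, 0, 0, 0],
  [0, 0, 4, -4, 0, 0, 0, -4, 0, 0, 0, 0, 0, 0, 0, 0, -4, 0, 0, 0, 0, 0, 0, 0],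
  [0, 0, -4, 4, 0, 0, 0, -4, 0, 0, 0, 0, 0, 0, 0, 0, -4, 0, 0, 0, 0, 0, 0, 0],
  [0, 0, 0, 0, 4, -4, 0, 0, 0, 0, 0, 0, 0, 0, 0, 0, 0, 0, 0, -4, 0, 0, 0, -4],
  [0, 0, 0, 0, -4, 4, 0, 0, 0, 0, 0, 0, 0, 0, 0, 0, 0, 0, 0, -4, 0, 0, 0, -4],
  [0, -4, 0, 0, 0, 0, 4, 0, 0, 0, 0, 0, 0, -4, -4, 0, 0, 0, 0, 0, 0, 0, 0, 0],
  [0, 0, -4, -4, 0, 0, 0, 4, 0, 0, 0, 0, 0, 0, 0, 0, -4, 0, 0, 0, 0, 0, 0, 0],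
  [0, 0, 0, 0, 0, 0, 0, 0, 4, -4, 0, -4, -4, 0, 0, 0, 0, 0, 0, 0, 0, 0, 0, 0],
  [0, 0, 0, 0, 0, 0, 0, 0, -4, 4, 0, -4, -4, 0, 0, 0, 0, 0, 0, 0, 0, 0, 0, 0],
  [0, 0, 0, 0, 0, 0, 0, 0, 0, 0, 4, 0, 0, 0, 0, -4, 0, 0, -4, 0, -4, 0, 0, 0],
  [0, 0, 0, 0, 0, 0, 0, 0, -4, -4, 0, 4, -4, 0, 0, 0, 0, 0, 0, 0, 0, 0, 0, 0],
  [0, 0, 0, 0, 0, 0, 0, 0, -4, -4, 0, -4, 4, 0, 0, 0, 0, 0, 0, 0, 0, 0, 0, 0],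
  [0, -4, 0, 0, 0, 0, -4, 0, 0, 0, 0, 0, 0, 4, -4, 0, 0, 0, 0, 0, 0, 0, 0, 0],
  [0, -4, 0, 0, 0, 0, -4, 0, 0, 0, 0, 0, 0, -4, 4, 0, 0, 0, 0, 0, 0, 0, 0, 0],
  [0, 0, 0, 0, 0, 0, 0, 0, 0, 0, -4, 0, 0, 0, 0, 4, 0, 0, -4, 0, -4, 0, 0, 0],
  [0, 0, -4, -4, 0, 0, 0, -4, 0, 0, 0, 0, 0, 0, 0, 0, 4, 0, 0, 0, 0, 0, 0, 0],
  [4, 0, 0, 0, 0, 0, 0, 0, 0, 0, 0, 0, 0, 0, 0, 0, 0, -4, 0, 0, 0, 4, 4, 0],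
  [0, 0, 0, 0, 0, 0, 0, 0, 0, 0, -4, 0, 0, 0, 0, -4, 0, 0, 4, 0, -4, 0, 0, 0],
  [0, 0, 0, 0, -4, -4, 0, 0, 0, 0, 0, 0, 0, 0, 0, 0, 0, 0, 0, 4, 0, 0, 0, -4],
  [0, 0, 0, 0, 0, 0, 0, 0, 0, 0, -4, 0, 0, 0, 0, -4, 0, 0, -4, 0, 4, 0, 0, 0],
  [4, 0, 0, 0, 0, 0, 0, 0, 0, 0, 0, 0, 0, 0, 0, 0, 0, 4, 0, 0, 0, -4, 4, 0],
  [4, 0, 0, 0, 0, 0, 0, 0, 0, 0, 0, 0, 0, 0, 0, 0, 0, 4, 0, 0, 0, 4, -4, 0],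
  [0, 0, 0, 0, -4, -4, 0, 0, 0, 0, 0, 0, 0, 0, 0, 0, 0, 0, 0, -4, 0, 0, 0, 4]]

/-- Data. -/
def T97 : List (List ℤ) := [[0, 0, 0, 0, -4, 4, 0, 0, 0, 0, 0, 0, 0, 0, 0, 0, 0, 0, 0, 4, 0, 0, 0, 4],
  [0, -4, 0, 0, 0, 0, 4, 0, 0, 0, 0, 0, 0, 4, 4, 0, 0, 0, 0, 0, 0, 0, 0, 0],
  [0, 0, 0, 0, 0, 0, 0, 0, 0, 0, 4, 0, 0, 0, 0, 4, 0, 0, -4, 0, 4, 0, 0, 0],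
  [4, 0, 0, 0, 0, 0, 0, 0, 0, 0, 0, 0, 0, 0, 0, 0, 0, 4, 0, 0, 0, -4, 4, 0],
  [0, 0, 0, 0, 0, 0, 0, 0, -4, -4, 0, 4, -4, 0, 0, 0, 0, 0, 0, 0, 0, 0, 0, 0],
  [0, 4, 0, 0, 0, 0, 4, 0, 0, 0, 0, 0, 0, 4, -4, 0, 0, 0, 0, 0, 0, 0, 0, 0],
  [0, 0, 0, 0, 0, 0, 0, 0, 0, 0, 4, 0, 0, 0, 0, 4, 0, 0, 4, 0, -4, 0, 0, 0],
  [0, 0, 0, 0, 0, 0, 0, 0, -4, 4, 0, -4, -4, 0, 0, 0, 0, 0, 0, 0, 0, 0, 0, 0],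
  [0, 0, -4, 4, 0, 0, 0, 4, 0, 0, 0, 0, 0, 0, 0, 0, 4, 0, 0, 0, 0, 0, 0, 0],
  [0, 0, 0, 0, 4, 4, 0, 0, 0, 0, 0, 0, 0, 0, 0, 0, 0, 0, 0, -4, 0, 0, 0, 4],
  [0, 0, 0, 0, 0, 0, 0, 0, -4, -4, 0, -4, 4, 0, 0, 0, 0, 0, 0, 0, 0, 0, 0, 0],
  [0, 4, 0, 0, 0, 0, -4, 0, 0, 0, 0, 0, 0, 4, 4, 0, 0, 0, 0, 0, 0, 0, 0, 0],
  [0, 0, 4, -4, 0, 0, 0, 4, 0, 0, 0, 0, 0, 0, 0, 0, 4, 0, 0, 0, 0, 0, 0, 0],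
  [0, 0, 0, 0, 4, -4, 0, 0, 0, 0, 0, 0, 0, 0, 0, 0, 0, 0, 0, 4, 0, 0, 0, 4],
  [0, 0, 0, 0, 0, 0, 0, 0, 0, 0, -4, 0, 0, 0, 0, 4, 0, 0, 4, 0, 4, 0, 0, 0],
  [0, 0, 4, 4, 0, 0, 0, -4, 0, 0, 0, 0, 0, 0, 0, 0, 4, 0, 0, 0, 0, 0, 0, 0],
  [0, 0, 4, 4, 0, 0, 0, 4, 0, 0, 0, 0, 0, 0, 0, 0, -4, 0, 0, 0, 0, 0, 0, 0],
  [-4, 0, 0, 0, 0, 0, 0, 0, 0, 0, 0, 0, 0, 0, 0, 0, 0, 4, 0, 0, 0, 4, 4, 0],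
  [0, 0, 0, 0, 0, 0, 0, 0, 0, 0, 4, 0, 0, 0, 0, -4, 0, 0, 4, 0, 4, 0, 0, 0],
  [0, 0, 0, 0, 0, 0, 0, 0, 4, -4, 0, -4, -4, 0, 0, 0, 0, 0, 0, 0, 0, 0, 0, 0],
  [4, 0, 0, 0, 0, 0, 0, 0, 0, 0, 0, 0, 0, 0, 0, 0, 0, 4, 0, 0, 0, 4, -4, 0],
  [0, 4, 0, 0, 0, 0, 4, 0, 0, 0, 0, 0, 0, -4, 4, 0, 0, 0, 0, 0, 0, 0, 0, 0],
  [4, 0, 0, 0, 0, 0, 0, 0, 0, 0, 0, 0, 0, 0, 0, 0, 0, -4, 0, 0, 0, 4, 4, 0],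
  [0, 0, 0, 0, 4, 4, 0, 0, 0, 0, 0, 0, 0, 0, 0, 0, 0, 0, 0, 4, 0, 0, 0, -4]]

/-- Data. -/
def T98 : List (List ℤ) := [[4, -4, -4, 0, 0, 0, 0, 0, 0, 0, 0, 0, 0, 0, 0, 0, 0, 0, -4, 0, 0, 0, 0, 0],
  [-4, 4, -4, 0, 0, 0, 0, 0, 0, 0, 0, 0, 0, 0, 0, 0, 0, 0, -4, 0, 0, 0, 0, 0],
  [-4, -4, 4, 0, 0, 0, 0, 0, 0, 0, 0, 0, 0, 0, 0, 0, 0, 0, -4, 0, 0, 0, 0, 0],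
  [0, 0, 0, 4, 0, 0, 0, 0, 0, 0, 0, 0, 0, -4, 0, 0, 0, 0, 0, 0, -4, -4, 0, 0],
  [0, 0, 0, 0, -4, 4, 0, 0, 0, 4, 0, 0, 0, 0, 0, 0, 0, 0, 0, 4, 0, 0, 0, 0],
  [0, 0, 0, 0, 4, -4, 0, 0, 0, 4, 0, 0, 0, 0, 0, 0, 0, 0, 0, 4, 0, 0, 0, 0],
  [0, 0, 0, 0, 0, 0, 4, 0, 0, 0, -4, 0, 0, 0, 0, 0, -4, -4, 0, 0, 0, 0, 0, 0],
  [0, 0, 0, 0, 0, 0, 0, 4, 0, 0, 0, 0, 0, 0, -4, -4, 0, 0, 0, 0, 0, 0, -4, 0],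
  [0, 0, 0, 0, 0, 0, 0, 0, 4, 0, 0, -4, -4, 0, 0, 0, 0, 0, 0, 0, 0, 0, 0, -4],
  [0, 0, 0, 0, 4, 4, 0, 0, 0, -4, 0, 0, 0, 0, 0, 0, 0, 0, 0, 4, 0, 0, 0, 0],
  [0, 0, 0, 0, 0, 0, -4, 0, 0, 0, 4, 0, 0, 0, 0, 0, -4, -4, 0, 0, 0, 0, 0, 0],
  [0, 0, 0, 0, 0, 0, 0, 0, -4, 0, 0, 4, -4, 0, 0, 0, 0, 0, 0, 0, 0, 0, 0, -4],
  [0, 0, 0, 0, 0, 0, 0, 0, -4, 0, 0, -4, 4, 0, 0, 0, 0, 0, 0, 0, 0, 0, 0, -4],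
  [0, 0, 0, -4, 0, 0, 0, 0, 0, 0, 0, 0, 0, 4, 0, 0, 0, 0, 0, 0, -4, -4, 0, 0],
  [0, 0, 0, 0, 0, 0, 0, -4, 0, 0, 0, 0, 0, 0, 4, -4, 0, 0, 0, 0, 0, 0, -4, 0],
  [0, 0, 0, 0, 0, 0, 0, -4, 0, 0, 0, 0, 0, 0, -4, 4, 0, 0, 0, 0, 0, 0, -4, 0],
  [0, 0, 0, 0, 0, 0, -4, 0, 0, 0, -4, 0, 0, 0, 0, 0, 4, -4, 0, 0, 0, 0, 0, 0],
  [0, 0, 0, 0, 0, 0, -4, 0, 0, 0, -4, 0, 0, 0, 0, 0, -4, 4, 0, 0, 0, 0, 0, 0],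
  [-4, -4, -4, 0, 0, 0, 0, 0, 0, 0, 0, 0, 0, 0, 0, 0, 0, 0, 4, 0, 0, 0, 0, 0],
  [0, 0, 0, 0, 4, 4, 0, 0, 0, 4, 0, 0, 0, 0, 0, 0, 0, 0, 0, -4, 0, 0, 0, 0],
  [0, 0, 0, -4, 0, 0, 0, 0, 0, 0, 0, 0, 0, -4, 0, 0, 0, 0, 0, 0, 4, -4, 0, 0],
  [0, 0, 0, -4, 0, 0, 0, 0, 0, 0, 0, 0, 0, -4, 0, 0, 0, 0, 0, 0, -4, 4, 0, 0],
  [0, 0, 0, 0, 0, 0, 0, -4, 0, 0, 0, 0, 0, 0, -4, -4, 0, 0, 0, 0, 0, 0, 4, 0],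
  [0, 0, 0, 0, 0, 0, 0, 0, -4, 0, 0, -4, -4, 0, 0, 0, 0, 0, 0, 0, 0, 0, 0, 4]]

/-- Data. -/
def T99 : List (List ℤ) := [[0, 0, 0, 0, 6, -2, 0, 0, -2, 2, 0, -2, -2, 0, 0, 0, 0, 0, 0, -2, 0, 0, 0, 2],
  [2, -2, 2, -2, 0, 0, 2, -2, 0, 0, -2, 0, 0, 2, 2, -2, -2, -2, 2, 0, -2, -2, -2, 0],
  [2, 2, 2, -2, 0, 0, -2, -2, 0, 0, 2, 0, 0, -2, -2, 2, -2, -2, -2, 0, 2, -2, -2, 0],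
  [2, -2, -2, 2, 0, 0, -2, -2, 0, 0, -2, 0, 0, 2, -2, -2, -2, 2, -2, 0, 2, -2, 2, 0],
  [0, 0, 0, 0, -2, -2, 0, 0, -2, 2, 0, 6, -2, 0, 0, 0, 0, 0, 0, -2, 0, 0, 0, 2],
  [-2, 2, -2, -2, 0, 0, 2, 2, 0, 0, -2, 0, 0, 2, -2, 2, -2, -2, -2, 0, -2, -2, 2, 0],
  [-2, -2, -2, 2, 0, 0, -2, -2, 0, 0, 2, 0, 0, 2, -2, 2, -2, -2, 2, 0, -2, 2, -2, 0],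
  [0, 0, 0, 0, 2, 2, 0, 0, 2, -2, 0, 2, 2, 0, 0, 0, 0, 0, 0, 2, 0, 0, 0, 6],
  [2, 2, -2, 2, 0, 0, -2, 2, 0, 0, -2, 0, 0, -2, -2, -2, 2, -2, 2, 0, -2, -2, -2, 0],
  [0, 0, 0, 0, -2, -2, 0, 0, -2, 2, 0, -2, -2, 0, 0, 0, 0, 0, 0, 6, 0, 0, 0, 2],
  [0, 0, 0, 0, -2, -2, 0, 0, -2, 2, 0, -2, 6, 0, 0, 0, 0, 0, 0, -2, 0, 0, 0, 2],
  [-2, 2, -2, -2, 0, 0, -2, -2, 0, 0, 2, 0, 0, 2, 2, -2, 2, 2, -2, 0, -2, -2, -2, 0],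
  [-2, -2, 2, -2, 0, 0, -2, 2, 0, 0, -2, 0, 0, 2, -2, -2, 2, -2, -2, 0, 2, 2, -2, 0],
  [0, 0, 0, 0, -2, 6, 0, 0, -2, 2, 0, -2, -2, 0, 0, 0, 0, 0, 0, -2, 0, 0, 0, 2],
  [-2, -2, -2, -2, 0, 0, 2, -2, 0, 0, -2, 0, 0, -2, -2, 2, 2, 2, 2, 0, 2, -2, -2, 0],
  [-2, -2, 2, 2, 0, 0, -2, -2, 0, 0, -2, 0, 0, -2, 2, 2, 2, -2, -2, 0, -2, -2, 2, 0],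
  [-2, -2, 2, 2, 0, 0, 2, 2, 0, 0, 2, 0, 0, -2, -2, -2, -2, 2, -2, 0, -2, -2, -2, 0],
  [-2, 2, 2, -2, 0, 0, -2, -2, 0, 0, -2, 0, 0, -2, -2, -2, -2, 2, 2, 0, -2, 2, 2, 0],
  [-2, -2, -2, -2, 0, 0, -2, 2, 0, 0, 2, 0, 0, -2, 2, -2, -2, -2, 2, 0, 2, -2, 2, 0],
  [0, 0, 0, 0, -2, -2, 0, 0, 6, 2, 0, -2, -2, 0, 0, 0, 0, 0, 0, -2, 0, 0, 0, 2],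
  [2, -2, -2, -2, 0, 0, -2, 2, 0, 0, -2, 0, 0, -2, 2, 2, -2, 2, -2, 0, -2, 2, -2, 0],
  [-2, 2, -2, 2, 0, 0, 2, -2, 0, 0, -2, 0, 0, -2, 2, -2, -2, -2, -2, 0, 2, 2, -2, 0],
  [2, -2, -2, -2, 0, 0, 2, -2, 0, 0, 2, 0, 0, -2, -2, -2, 2, -2, -2, 0, -2, 2, 2, 0],
  [0, 0, 0, 0, 2, 2, 0, 0, 2, 6, 0, 2, 2, 0, 0, 0, 0, 0, 0, 2, 0, 0, 0, -2]]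

/-- Data. -/
def T100 : List (List ℤ) := [[-4, 0, 0, 0, 4, 0, 0, 0, 0, 4, 0, 0, 0, 0, 0, 0, 0, 0, 0, 0, 0, 0, 0, 4],
  [0, 4, 0, 0, 0, 0, -4, 0, 0, 0, 0, 0, -4, 0, 0, 0, 0, -4, 0, 0, 0, 0, 0, 0],
  [0, 0, 4, -4, 0, 0, 0, 0, -4, 0, 0, 0, 0, 0, 0, 0, 0, 0, 0, 0, 0, -4, 0, 0],
  [0, 0, -4, 4, 0, 0, 0, 0, -4, 0, 0, 0, 0, 0, 0, 0, 0, 0, 0, 0, 0, -4, 0, 0],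
  [4, 0, 0, 0, -4, 0, 0, 0, 0, 4, 0, 0, 0, 0, 0, 0, 0, 0, 0, 0, 0, 0, 0, 4],
  [0, 0, 0, 0, 0, 4, 0, 0, 0, 0, 0, 0, 0, 0, -4, 0, -4, 0, 0, 0, -4, 0, 0, 0],
  [0, -4, 0, 0, 0, 0, 4, 0, 0, 0, 0, 0, -4, 0, 0, 0, 0, -4, 0, 0, 0, 0, 0, 0],
  [0, 0, 0, 0, 0, 0, 0, 4, 0, 0, -4, 0, 0, -4, 0, 0, 0, 0, 0, -4, 0, 0, 0, 0],
  [0, 0, -4, -4, 0, 0, 0, 0, 4, 0, 0, 0, 0, 0, 0, 0, 0, 0, 0, 0, 0, -4, 0, 0],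
  [4, 0, 0, 0, 4, 0, 0, 0, 0, -4, 0, 0, 0, 0, 0, 0, 0, 0, 0, 0, 0, 0, 0, 4],
  [0, 0, 0, 0, 0, 0, 0, -4, 0, 0, 4, 0, 0, -4, 0, 0, 0, 0, 0, -4, 0, 0, 0, 0],
  [0, 0, 0, 0, 0, 0, 0, 0, 0, 0, 0, 4, 0, 0, 0, -4, 0, 0, -4, 0, 0, 0, -4, 0],
  [0, -4, 0, 0, 0, 0, -4, 0, 0, 0, 0, 0, 4, 0, 0, 0, 0, -4, 0, 0, 0, 0, 0, 0],
  [0, 0, 0, 0, 0, 0, 0, -4, 0, 0, -4, 0, 0, 4, 0, 0, 0, 0, 0, -4, 0, 0, 0, 0],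
  [0, 0, 0, 0, 0, -4, 0, 0, 0, 0, 0, 0, 0, 0, 4, 0, -4, 0, 0, 0, -4, 0, 0, 0],
  [0, 0, 0, 0, 0, 0, 0, 0, 0, 0, 0, -4, 0, 0, 0, 4, 0, 0, -4, 0, 0, 0, -4, 0],
  [0, 0, 0, 0, 0, -4, 0, 0, 0, 0, 0, 0, 0, 0, -4, 0, 4, 0, 0, 0, -4, 0, 0, 0],
  [0, -4, 0, 0, 0, 0, -4, 0, 0, 0, 0, 0, -4, 0, 0, 0, 0, 4, 0, 0, 0, 0, 0, 0],
  [0, 0, 0, 0, 0, 0, 0, 0, 0, 0, 0, -4, 0, 0, 0, -4, 0, 0, 4, 0, 0, 0, -4, 0],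
  [0, 0, 0, 0, 0, 0, 0, -4, 0, 0, -4, 0, 0, -4, 0, 0, 0, 0, 0, 4, 0, 0, 0, 0],
  [0, 0, 0, 0, 0, -4, 0, 0, 0, 0, 0, 0, 0, 0, -4, 0, -4, 0, 0, 0, 4, 0, 0, 0],
  [0, 0, -4, -4, 0, 0, 0, 0, -4, 0, 0, 0, 0, 0, 0, 0, 0, 0, 0, 0, 0, 4, 0, 0],
  [0, 0, 0, 0, 0, 0, 0, 0, 0, 0, 0, -4, 0, 0, 0, -4, 0, 0, -4, 0, 0, 0, 4, 0],
  [4, 0, 0, 0, 4, 0, 0, 0, 0, 4, 0, 0, 0, 0, 0, 0, 0, 0, 0, 0, 0, 0, 0, -4]]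

/-- Data. -/
def T101 : List (List ℤ) := [[5, 1, 1, 1, -1, -1, 1, 1, -1, 3, 1, -1, -1, 1, 1, 1, 1, 1, 1, -1, 1, 1, 1, 3],
  [-1, -1, 3, -1, 1, 1, 3, -1, 1, 1, -1, 1, 1, 3, 3, -1, -1, -1, 3, 1, -1, -1, -1, 1],
  [-1, 3, 3, -1, 1, 1, -1, -1, 1, 1, 3, 1, 1, -1, -1, 3, -1, -1, -1, 1, 3, -1, -1, 1],
  [-1, -1, -1, 3, 1, 1, -1, -1, 1, 1, -1, 1, 1, 3, -1, -1, -1, 3, -1, 1, 3, -1, 3, 1],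
  [1, 1, 1, 1, 3, -1, 1, 1, -1, -1, 1, 3, -1, 1, 1, -3, 1, 1, -3, -1, 1, 1, -3, -1],
  [1, 1, 1, 1, -1, 3, 1, 1, 3, -1, -3, -1, -1, 1, 1, 1, 1, -3, -3, -1, 1, 1, 1, -1],
  [1, 1, -3, 1, -1, 3, 1, -3, -1, -1, 1, -1, 3, 1, 1, 1, 1, 1, 1, -1, 1, 1, -3, -1],
  [3, -1, -1, -1, 1, 1, -1, -1, 1, 5, -1, 1, 1, -1, -1, -1, -1, -1, -1, 1, -1, -1, -1, -3],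
  [-1, 3, -1, 3, 1, 1, -1, 3, 1, 1, -1, 1, 1, -1, -1, -1, 3, -1, 3, 1, -1, -1, -1, 1],
  [1, 1, 1, 1, 3, -1, 1, -3, -1, -1, -3, -1, -1, -3, 1, 1, 1, 1, 1, 3, 1, 1, 1, -1],
  [1, -3, 1, 1, 3, -1, -3, 1, -1, -1, 1, -1, 3, 1, 1, 1, 1, -3, 1, -1, 1, 1, 1, -1],
  [1, 1, 1, 1, -1, -1, -3, -3, 3, -1, 1, 3, -1, 1, 1, 1, 1, 1, 1, -1, -3, 1, 1, -1],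
  [1, 1, 1, -3, -1, -1, 1, 1, -1, -1, -3, 3, 3, 1, -3, 1, 1, 1, 1, -1, 1, 1, 1, -1],
  [1, 1, 1, 1, 3, 3, 1, 1, -1, -1, 1, -1, -1, 1, -3, 1, -3, 1, 1, -1, -3, 1, 1, -1],
  [1, -3, 1, 1, -1, -1, 1, 1, 3, -1, 1, -1, -1, 1, -3, 1, 1, 1, 1, 3, 1, 1, -3, -1],
  [1, 1, 1, 1, -1, -1, 1, 1, -1, -1, 1, -1, 3, 1, 1, 1, 1, 1, -3, 3, -3, -3, 1, -1],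
  [1, -3, 1, 1, -1, 3, 1, 1, -1, -1, 1, 3, -1, -3, 1, 1, 1, 1, 1, -1, 1, -3, 1, -1],
  [1, 1, 1, -3, -1, 3, -3, 1, -1, -1, 1, -1, -1, 1, 1, -3, 1, 1, 1, 3, 1, 1, 1, -1],
  [1, 1, 1, 1, -1, -1, 1, 1, 3, -1, 1, -1, 3, -3, 1, -3, -3, 1, 1, -1, 1, 1, 1, -1],
  [1, 1, -3, -3, 3, -1, 1, 1, 3, -1, 1, -1, -1, 1, 1, 1, 1, 1, 1, -1, 1, -3, 1, -1],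
  [-1, -1, -1, -1, 1, 1, -1, 3, 1, 1, -1, 1, 1, -1, 3, 3, -1, 3, -1, 1, -1, 3, -1, 1],
  [1, 1, -3, 1, -1, -1, 1, 1, -1, -1, 1, 3, -1, 1, 1, 1, -3, -3, 1, 3, 1, 1, 1, -1],
  [-1, -1, -1, -1, 1, 1, 3, -1, 1, 1, 3, 1, 1, -1, -1, -1, 3, -1, -1, 1, -1, 3, 3, 1],
  [3, -1, -1, -1, 1, 1, -1, -1, 1, -3, -1, 1, 1, -1, -1, -1, -1, -1, -1, 1, -1, -1, -1, 5]]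

/-- Data. -/
def T102 : List (List ℤ) := [[0, 0, 0, 8, 0, 0, 0, 0, 0, 0, 0, 0, 0, 0, 0, 0, 0, 0, 0, 0, 0, 0, 0, 0],
  [0, 0, 0, 0, 0, 0, 0, 0, 0, 0, 0, 0, 8, 0, 0, 0, 0, 0, 0, 0, 0, 0, 0, 0],
  [0, 0, 0, 0, 0, 0, 0, 0, 0, 0, 0, 8, 0, 0, 0, 0, 0, 0, 0, 0, 0, 0, 0, 0],
  [0, 0, 0, 0, 0, 0, 0, 0, 0, 0, 0, 0, 0, 0, 0, 0, -8, 0, 0, 0, 0, 0, 0, 0],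
  [0, 0, 0, 0, 0, 0, 0, 0, 0, 0, 0, 0, 0, -8, 0, 0, 0, 0, 0, 0, 0, 0, 0, 0],
  [0, 0, 0, 0, 0, 0, 0, 0, 0, 0, 0, 0, 0, 0, 0, 0, 0, 0, -8, 0, 0, 0, 0, 0],
  [0, 0, 0, 0, 0, 0, 0, 0, 0, 0, 0, 0, 0, 0, -8, 0, 0, 0, 0, 0, 0, 0, 0, 0],
  [8, 0, 0, 0, 0, 0, 0, 0, 0, 0, 0, 0, 0, 0, 0, 0, 0, 0, 0, 0, 0, 0, 0, 0],
  [0, 0, 0, 0, -8, 0, 0, 0, 0, 0, 0, 0, 0, 0, 0, 0, 0, 0, 0, 0, 0, 0, 0, 0],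
  [0, 0, 0, 0, 0, 0, -8, 0, 0, 0, 0, 0, 0, 0, 0, 0, 0, 0, 0, 0, 0, 0, 0, 0],
  [0, -8, 0, 0, 0, 0, 0, 0, 0, 0, 0, 0, 0, 0, 0, 0, 0, 0, 0, 0, 0, 0, 0, 0],
  [0, 0, 0, 0, 0, 0, 0, 0, 0, 0, 0, 0, 0, 0, 0, 0, 0, 0, 0, 0, 0, 0, -8, 0],
  [0, 0, 0, 0, 0, 0, 0, 0, 0, 0, 0, 0, 0, 0, 0, 0, 0, -8, 0, 0, 0, 0, 0, 0],
  [0, 0, 0, 0, 0, 0, 0, 0, -8, 0, 0, 0, 0, 0, 0, 0, 0, 0, 0, 0, 0, 0, 0, 0],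
  [0, 0, 0, 0, 0, 0, 0, 0, 0, 0, 0, 0, 0, 0, 0, 0, 0, 0, 0, 8, 0, 0, 0, 0],
  [0, 0, 0, 0, 0, 8, 0, 0, 0, 0, 0, 0, 0, 0, 0, 0, 0, 0, 0, 0, 0, 0, 0, 0],
  [0, 0, 0, 0, 0, 0, 0, 0, 0, 0, 0, 0, 0, 0, 0, 0, 0, 0, 0, 0, -8, 0, 0, 0],
  [0, 0, 0, 0, 0, 0, 0, 0, 0, 0, 0, 0, 0, 0, 0, -8, 0, 0, 0, 0, 0, 0, 0, 0],
  [0, 0, 8, 0, 0, 0, 0, 0, 0, 0, 0, 0, 0, 0, 0, 0, 0, 0, 0, 0, 0, 0, 0, 0],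
  [0, 0, 0, 0, 0, 0, 0, 0, 0, 0, -8, 0, 0, 0, 0, 0, 0, 0, 0, 0, 0, 0, 0, 0],
  [0, 0, 0, 0, 0, 0, 0, -8, 0, 0, 0, 0, 0, 0, 0, 0, 0, 0, 0, 0, 0, 0, 0, 0],
  [0, 0, 0, 0, 0, 0, 0, 0, 0, -8, 0, 0, 0, 0, 0, 0, 0, 0, 0, 0, 0, 0, 0, 0],
  [0, 0, 0, 0, 0, 0, 0, 0, 0, 0, 0, 0, 0, 0, 0, 0, 0, 0, 0, 0, 0, 8, 0, 0],
  [0, 0, 0, 0, 0, 0, 0, 0, 0, 0, 0, 0, 0, 0, 0, 0, 0, 0, 0, 0, 0, 0, 0, -8]]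

/-- Data. -/
def T103 : List (List ℤ) := [[-4, 0, 4, 0, 0, 4, 0, 0, 0, 0, 0, 0, 4, 0, 0, 0, 0, 0, 0, 0, 0, 0, 0, 0],
  [0, 4, 0, 0, 0, 0, -4, 0, 0, 0, 0, 0, 0, -4, 0, -4, 0, 0, 0, 0, 0, 0, 0, 0],
  [4, 0, -4, 0, 0, 4, 0, 0, 0, 0, 0, 0, 4, 0, 0, 0, 0, 0, 0, 0, 0, 0, 0, 0],
  [0, 0, 0, 4, 0, 0, 0, 0, 0, 0, 0, -4, 0, 0, 0, 0, 0, 0, 0, -4, 0, -4, 0, 0],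
  [0, 0, 0, 0, 4, 0, 0, 0, -4, 0, 0, 0, 0, 0, 0, 0, -4, -4, 0, 0, 0, 0, 0, 0],
  [4, 0, 4, 0, 0, -4, 0, 0, 0, 0, 0, 0, 4, 0, 0, 0, 0, 0, 0, 0, 0, 0, 0, 0],
  [0, -4, 0, 0, 0, 0, 4, 0, 0, 0, 0, 0, 0, -4, 0, -4, 0, 0, 0, 0, 0, 0, 0, 0],
  [0, 0, 0, 0, 0, 0, 0, 4, 0, -4, 0, 0, 0, 0, 0, 0, 0, 0, 0, 0, 0, 0, -4, -4],
  [0, 0, 0, 0, -4, 0, 0, 0, 4, 0, 0, 0, 0, 0, 0, 0, -4, -4, 0, 0, 0, 0, 0, 0],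
  [0, 0, 0, 0, 0, 0, 0, -4, 0, 4, 0, 0, 0, 0, 0, 0, 0, 0, 0, 0, 0, 0, -4, -4],
  [0, 0, 0, 0, 0, 0, 0, 0, 0, 0, 4, 0, 0, 0, -4, 0, 0, 0, -4, 0, -4, 0, 0, 0],
  [0, 0, 0, -4, 0, 0, 0, 0, 0, 0, 0, 4, 0, 0, 0, 0, 0, 0, 0, -4, 0, -4, 0, 0],
  [4, 0, 4, 0, 0, 4, 0, 0, 0, 0, 0, 0, -4, 0, 0, 0, 0, 0, 0, 0, 0, 0, 0, 0],
  [0, -4, 0, 0, 0, 0, -4, 0, 0, 0, 0, 0, 0, 4, 0, -4, 0, 0, 0, 0, 0, 0, 0, 0],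
  [0, 0, 0, 0, 0, 0, 0, 0, 0, 0, -4, 0, 0, 0, 4, 0, 0, 0, -4, 0, -4, 0, 0, 0],
  [0, -4, 0, 0, 0, 0, -4, 0, 0, 0, 0, 0, 0, -4, 0, 4, 0, 0, 0, 0, 0, 0, 0, 0],
  [0, 0, 0, 0, -4, 0, 0, 0, -4, 0, 0, 0, 0, 0, 0, 0, 4, -4, 0, 0, 0, 0, 0, 0],
  [0, 0, 0, 0, -4, 0, 0, 0, -4, 0, 0, 0, 0, 0, 0, 0, -4, 4, 0, 0, 0, 0, 0, 0],
  [0, 0, 0, 0, 0, 0, 0, 0, 0, 0, -4, 0, 0, 0, -4, 0, 0, 0, 4, 0, -4, 0, 0, 0],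
  [0, 0, 0, -4, 0, 0, 0, 0, 0, 0, 0, -4, 0, 0, 0, 0, 0, 0, 0, 4, 0, -4, 0, 0],
  [0, 0, 0, 0, 0, 0, 0, 0, 0, 0, -4, 0, 0, 0, -4, 0, 0, 0, -4, 0, 4, 0, 0, 0],
  [0, 0, 0, -4, 0, 0, 0, 0, 0, 0, 0, -4, 0, 0, 0, 0, 0, 0, 0, -4, 0, 4, 0, 0],
  [0, 0, 0, 0, 0, 0, 0, -4, 0, -4, 0, 0, 0, 0, 0, 0, 0, 0, 0, 0, 0, 0, 4, -4],
  [0, 0, 0, 0, 0, 0, 0, -4, 0, -4, 0, 0, 0, 0, 0, 0, 0, 0, 0, 0, 0, 0, -4, 4]]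

/-- Data. -/
def T104 : List (List ℤ) := [[0, 0, 0, 4, 0, 0, 0, 0, 0, 0, 0, -4, 0, 0, 0, 0, 0, 0, 0, -4, 0, -4, 0, 0],
  [4, 0, 4, 0, 0, 4, 0, 0, 0, 0, 0, 0, -4, 0, 0, 0, 0, 0, 0, 0, 0, 0, 0, 0],
  [0, 0, 0, -4, 0, 0, 0, 0, 0, 0, 0, 4, 0, 0, 0, 0, 0, 0, 0, -4, 0, -4, 0, 0],
  [0, 0, 0, 0, 4, 0, 0, 0, 4, 0, 0, 0, 0, 0, 0, 0, -4, 4, 0, 0, 0, 0, 0, 0],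
  [0, 4, 0, 0, 0, 0, 4, 0, 0, 0, 0, 0, 0, -4, 0, 4, 0, 0, 0, 0, 0, 0, 0, 0],
  [0, 0, 0, 0, 0, 0, 0, 0, 0, 0, 4, 0, 0, 0, 4, 0, 0, 0, -4, 0, 4, 0, 0, 0],
  [0, 0, 0, 0, 0, 0, 0, 0, 0, 0, 4, 0, 0, 0, -4, 0, 0, 0, 4, 0, 4, 0, 0, 0],
  [-4, 0, 4, 0, 0, 4, 0, 0, 0, 0, 0, 0, 4, 0, 0, 0, 0, 0, 0, 0, 0, 0, 0, 0],
  [0, 0, 0, 0, -4, 0, 0, 0, 4, 0, 0, 0, 0, 0, 0, 0, 4, 4, 0, 0, 0, 0, 0, 0],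
  [0, 4, 0, 0, 0, 0, -4, 0, 0, 0, 0, 0, 0, 4, 0, 4, 0, 0, 0, 0, 0, 0, 0, 0],
  [0, -4, 0, 0, 0, 0, 4, 0, 0, 0, 0, 0, 0, 4, 0, 4, 0, 0, 0, 0, 0, 0, 0, 0],
  [0, 0, 0, 0, 0, 0, 0, 4, 0, 4, 0, 0, 0, 0, 0, 0, 0, 0, 0, 0, 0, 0, -4, 4],
  [0, 0, 0, 0, 4, 0, 0, 0, 4, 0, 0, 0, 0, 0, 0, 0, 4, -4, 0, 0, 0, 0, 0, 0],
  [0, 0, 0, 0, 4, 0, 0, 0, -4, 0, 0, 0, 0, 0, 0, 0, 4, 4, 0, 0, 0, 0, 0, 0],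
  [0, 0, 0, -4, 0, 0, 0, 0, 0, 0, 0, -4, 0, 0, 0, 0, 0, 0, 0, 4, 0, -4, 0, 0],
  [4, 0, 4, 0, 0, -4, 0, 0, 0, 0, 0, 0, 4, 0, 0, 0, 0, 0, 0, 0, 0, 0, 0, 0],
  [0, 0, 0, 0, 0, 0, 0, 0, 0, 0, 4, 0, 0, 0, 4, 0, 0, 0, 4, 0, -4, 0, 0, 0],
  [0, 4, 0, 0, 0, 0, 4, 0, 0, 0, 0, 0, 0, 4, 0, -4, 0, 0, 0, 0, 0, 0, 0, 0],
  [4, 0, -4, 0, 0, 4, 0, 0, 0, 0, 0, 0, 4, 0, 0, 0, 0, 0, 0, 0, 0, 0, 0, 0],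
  [0, 0, 0, 0, 0, 0, 0, 0, 0, 0, -4, 0, 0, 0, 4, 0, 0, 0, 4, 0, 4, 0, 0, 0],
  [0, 0, 0, 0, 0, 0, 0, -4, 0, 4, 0, 0, 0, 0, 0, 0, 0, 0, 0, 0, 0, 0, 4, 4],
  [0, 0, 0, 0, 0, 0, 0, 4, 0, -4, 0, 0, 0, 0, 0, 0, 0, 0, 0, 0, 0, 0, 4, 4],
  [0, 0, 0, -4, 0, 0, 0, 0, 0, 0, 0, -4, 0, 0, 0, 0, 0, 0, 0, -4, 0, 4, 0, 0],
  [0, 0, 0, 0, 0, 0, 0, 4, 0, 4, 0, 0, 0, 0, 0, 0, 0, 0, 0, 0, 0, 0, 4, -4]]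

/-- Data. -/
def T105 : List (List ℤ) := [[4, -4, 0, 0, -4, 0, 0, 0, 0, 0, 0, 0, 0, 0, 0, 0, 0, 0, 0, 0, -4, 0, 0, 0],
  [-4, 4, 0, 0, -4, 0, 0, 0, 0, 0, 0, 0, 0, 0, 0, 0, 0, 0, 0, 0, -4, 0, 0, 0],
  [0, 0, 4, 0, 0, 0, -4, 0, -4, 0, 0, 0, 0, 0, -4, 0, 0, 0, 0, 0, 0, 0, 0, 0],
  [0, 0, 0, 4, 0, 0, 0, 0, 0, 0, 0, -4, 0, 0, 0, 0, 0, 0, 0, -4, 0, 0, 0, -4],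
  [-4, -4, 0, 0, 4, 0, 0, 0, 0, 0, 0, 0, 0, 0, 0, 0, 0, 0, 0, 0, -4, 0, 0, 0],
  [0, 0, 0, 0, 0, 4, 0, 0, 0, 0, -4, 0, 0, -4, 0, 0, 0, -4, 0, 0, 0, 0, 0, 0],
  [0, 0, -4, 0, 0, 0, 4, 0, -4, 0, 0, 0, 0, 0, -4, 0, 0, 0, 0, 0, 0, 0, 0, 0],
  [0, 0, 0, 0, 0, 0, 0, -4, 0, 4, 0, 0, 0, 0, 0, 0, 0, 0, 0, 0, 0, 4, 4, 0],
  [0, 0, -4, 0, 0, 0, -4, 0, 4, 0, 0, 0, 0, 0, -4, 0, 0, 0, 0, 0, 0, 0, 0, 0],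
  [0, 0, 0, 0, 0, 0, 0, 4, 0, -4, 0, 0, 0, 0, 0, 0, 0, 0, 0, 0, 0, 4, 4, 0],
  [0, 0, 0, 0, 0, -4, 0, 0, 0, 0, 4, 0, 0, -4, 0, 0, 0, -4, 0, 0, 0, 0, 0, 0],
  [0, 0, 0, -4, 0, 0, 0, 0, 0, 0, 0, 4, 0, 0, 0, 0, 0, 0, 0, -4, 0, 0, 0, -4],
  [0, 0, 0, 0, 0, 0, 0, 0, 0, 0, 0, 0, 4, 0, 0, -4, -4, 0, -4, 0, 0, 0, 0, 0],
  [0, 0, 0, 0, 0, -4, 0, 0, 0, 0, -4, 0, 0, 4, 0, 0, 0, -4, 0, 0, 0, 0, 0, 0],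
  [0, 0, -4, 0, 0, 0, -4, 0, -4, 0, 0, 0, 0, 0, 4, 0, 0, 0, 0, 0, 0, 0, 0, 0],
  [0, 0, 0, 0, 0, 0, 0, 0, 0, 0, 0, 0, -4, 0, 0, 4, -4, 0, -4, 0, 0, 0, 0, 0],
  [0, 0, 0, 0, 0, 0, 0, 0, 0, 0, 0, 0, -4, 0, 0, -4, 4, 0, -4, 0, 0, 0, 0, 0],
  [0, 0, 0, 0, 0, -4, 0, 0, 0, 0, -4, 0, 0, -4, 0, 0, 0, 4, 0, 0, 0, 0, 0, 0],
  [0, 0, 0, 0, 0, 0, 0, 0, 0, 0, 0, 0, -4, 0, 0, -4, -4, 0, 4, 0, 0, 0, 0, 0],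
  [0, 0, 0, -4, 0, 0, 0, 0, 0, 0, 0, -4, 0, 0, 0, 0, 0, 0, 0, 4, 0, 0, 0, -4],
  [-4, -4, 0, 0, -4, 0, 0, 0, 0, 0, 0, 0, 0, 0, 0, 0, 0, 0, 0, 0, 4, 0, 0, 0],
  [0, 0, 0, 0, 0, 0, 0, 4, 0, 4, 0, 0, 0, 0, 0, 0, 0, 0, 0, 0, 0, -4, 4, 0],
  [0, 0, 0, 0, 0, 0, 0, 4, 0, 4, 0, 0, 0, 0, 0, 0, 0, 0, 0, 0, 0, 4, -4, 0],
  [0, 0, 0, -4, 0, 0, 0, 0, 0, 0, 0, -4, 0, 0, 0, 0, 0, 0, 0, -4, 0, 0, 0, 4]]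

/-- Data. -/
def T106 : List (List ℤ) := [[0, 0, 0, 6, 0, 0, 0, -2, 0, -2, 0, -2, 0, 0, 0, 0, 0, 0, 0, -2, 0, 2, -2, 2],
  [2, -2, 2, 0, -2, 2, -2, 0, -2, 0, -2, 0, -2, -2, -2, 2, 2, -2, 2, 0, -2, 0, 0, 0],
  [0, 0, 0, -2, 0, 0, 0, -2, 0, -2, 0, 6, 0, 0, 0, 0, 0, 0, 0, -2, 0, 2, -2, 2],
  [-2, -2, -2, 0, 2, -2, -2, 0, 2, 0, -2, 0, 2, -2, -2, 2, -2, 2, 2, 0, -2, 0, 0, 0],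
  [-2, 2, -2, 0, -2, 2, 2, 0, -2, 0, 2, 0, -2, -2, -2, 2, -2, 2, -2, 0, -2, 0, 0, 0],
  [-2, -2, -2, 0, -2, -2, -2, 0, -2, 0, 2, 0, 2, -2, 2, 2, 2, -2, -2, 0, 2, 0, 0, 0],
  [-2, -2, 2, 0, -2, -2, 2, 0, 2, 0, 2, 0, -2, -2, -2, -2, -2, -2, 2, 0, 2, 0, 0, 0],
  [-2, 2, 2, 0, 2, 2, -2, 0, -2, 0, -2, 0, 2, -2, -2, -2, -2, -2, -2, 0, 2, 0, 0, 0],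
  [2, 2, -2, 0, -2, -2, -2, 0, 2, 0, -2, 0, -2, -2, -2, -2, 2, 2, -2, 0, 2, 0, 0, 0],
  [-2, 2, 2, 0, -2, -2, -2, 0, 2, 0, -2, 0, -2, 2, 2, 2, -2, -2, -2, 0, -2, 0, 0, 0],
  [2, -2, -2, 0, 2, -2, 2, 0, -2, 0, -2, 0, -2, 2, -2, 2, -2, -2, -2, 0, 2, 0, 0, 0],
  [0, 0, 0, -2, 0, 0, 0, -2, 0, -2, 0, -2, 0, 0, 0, 0, 0, 0, 0, -2, 0, 2, 6, 2],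
  [-2, -2, -2, 0, 2, 2, -2, 0, 2, 0, 2, 0, -2, 2, -2, -2, 2, -2, -2, 0, -2, 0, 0, 0],
  [-2, -2, 2, 0, 2, -2, 2, 0, -2, 0, -2, 0, -2, -2, 2, -2, 2, 2, -2, 0, -2, 0, 0, 0],
  [0, 0, 0, -2, 0, 0, 0, -2, 0, -2, 0, -2, 0, 0, 0, 0, 0, 0, 0, 6, 0, 2, -2, 2],
  [2, -2, 2, 0, -2, -2, -2, 0, -2, 0, 2, 0, 2, 2, -2, -2, -2, 2, -2, 0, -2, 0, 0, 0],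
  [2, 2, -2, 0, 2, -2, -2, 0, -2, 0, 2, 0, -2, -2, 2, -2, -2, -2, 2, 0, -2, 0, 0, 0],
  [-2, 2, -2, 0, -2, -2, 2, 0, -2, 0, -2, 0, 2, 2, -2, -2, 2, -2, 2, 0, -2, 0, 0, 0],
  [2, -2, -2, 0, -2, 2, 2, 0, 2, 0, -2, 0, 2, -2, 2, -2, -2, -2, -2, 0, -2, 0, 0, 0],
  [-2, -2, -2, 0, -2, 2, -2, 0, -2, 0, -2, 0, -2, 2, 2, -2, -2, 2, 2, 0, 2, 0, 0, 0],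
  [0, 0, 0, -2, 0, 0, 0, 6, 0, -2, 0, -2, 0, 0, 0, 0, 0, 0, 0, -2, 0, 2, -2, 2],
  [0, 0, 0, -2, 0, 0, 0, -2, 0, 6, 0, -2, 0, 0, 0, 0, 0, 0, 0, -2, 0, 2, -2, 2],
  [0, 0, 0, 2, 0, 0, 0, 2, 0, 2, 0, 2, 0, 0, 0, 0, 0, 0, 0, 2, 0, -2, 2, 6],
  [0, 0, 0, 2, 0, 0, 0, 2, 0, 2, 0, 2, 0, 0, 0, 0, 0, 0, 0, 2, 0, 6, 2, -2]]

/-- Data. -/
def T107 : List (List ℤ) := [[-4, 0, 0, 4, 0, 0, 0, 0, 0, 0, 0, 0, 0, 0, 0, 0, 0, 0, 0, 0, 0, 4, 0, 4],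
  [0, 4, 0, 0, 0, 0, 0, 0, 0, 0, 0, 0, -4, 0, 0, -4, 0, 0, 0, 0, 0, 0, -4, 0],
  [0, 0, 4, 0, -4, 0, 0, 0, -4, -4, 0, 0, 0, 0, 0, 0, 0, 0, 0, 0, 0, 0, 0, 0],
  [4, 0, 0, -4, 0, 0, 0, 0, 0, 0, 0, 0, 0, 0, 0, 0, 0, 0, 0, 0, 0, 4, 0, 4],
  [0, 0, -4, 0, 4, 0, 0, 0, -4, -4, 0, 0, 0, 0, 0, 0, 0, 0, 0, 0, 0, 0, 0, 0],
  [0, 0, 0, 0, 0, 4, 0, -4, 0, 0, -4, 0, 0, 0, 0, 0, 0, 0, 0, 0, -4, 0, 0, 0],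
  [0, 0, 0, 0, 0, 0, 4, 0, 0, 0, 0, -4, 0, 0, 0, 0, 0, -4, -4, 0, 0, 0, 0, 0],
  [0, 0, 0, 0, 0, -4, 0, 4, 0, 0, -4, 0, 0, 0, 0, 0, 0, 0, 0, 0, -4, 0, 0, 0],
  [0, 0, -4, 0, -4, 0, 0, 0, 4, -4, 0, 0, 0, 0, 0, 0, 0, 0, 0, 0, 0, 0, 0, 0],
  [0, 0, -4, 0, -4, 0, 0, 0, -4, 4, 0, 0, 0, 0, 0, 0, 0, 0, 0, 0, 0, 0, 0, 0],
  [0, 0, 0, 0, 0, -4, 0, -4, 0, 0, 4, 0, 0, 0, 0, 0, 0, 0, 0, 0, -4, 0, 0, 0],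
  [0, 0, 0, 0, 0, 0, -4, 0, 0, 0, 0, 4, 0, 0, 0, 0, 0, -4, -4, 0, 0, 0, 0, 0],
  [0, -4, 0, 0, 0, 0, 0, 0, 0, 0, 0, 0, 4, 0, 0, -4, 0, 0, 0, 0, 0, 0, -4, 0],
  [0, 0, 0, 0, 0, 0, 0, 0, 0, 0, 0, 0, 0, 4, -4, 0, -4, 0, 0, -4, 0, 0, 0, 0],
  [0, 0, 0, 0, 0, 0, 0, 0, 0, 0, 0, 0, 0, -4, 4, 0, -4, 0, 0, -4, 0, 0, 0, 0],
  [0, -4, 0, 0, 0, 0, 0, 0, 0, 0, 0, 0, -4, 0, 0, 4, 0, 0, 0, 0, 0, 0, -4, 0],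
  [0, 0, 0, 0, 0, 0, 0, 0, 0, 0, 0, 0, 0, -4, -4, 0, 4, 0, 0, -4, 0, 0, 0, 0],
  [0, 0, 0, 0, 0, 0, -4, 0, 0, 0, 0, -4, 0, 0, 0, 0, 0, 4, -4, 0, 0, 0, 0, 0],
  [0, 0, 0, 0, 0, 0, -4, 0, 0, 0, 0, -4, 0, 0, 0, 0, 0, -4, 4, 0, 0, 0, 0, 0],
  [0, 0, 0, 0, 0, 0, 0, 0, 0, 0, 0, 0, 0, -4, -4, 0, -4, 0, 0, 4, 0, 0, 0, 0],
  [0, 0, 0, 0, 0, -4, 0, -4, 0, 0, -4, 0, 0, 0, 0, 0, 0, 0, 0, 0, 4, 0, 0, 0],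
  [4, 0, 0, 4, 0, 0, 0, 0, 0, 0, 0, 0, 0, 0, 0, 0, 0, 0, 0, 0, 0, -4, 0, 4],
  [0, -4, 0, 0, 0, 0, 0, 0, 0, 0, 0, 0, -4, 0, 0, -4, 0, 0, 0, 0, 0, 0, 4, 0],
  [4, 0, 0, 4, 0, 0, 0, 0, 0, 0, 0, 0, 0, 0, 0, 0, 0, 0, 0, 0, 0, 4, 0, -4]]

/-- Data. -/
def T108 : List (List ℤ) := [[5, 1, 1, -1, 1, 1, 1, -1, 1, -1, 1, -1, 1, 1, 1, 1, 1, 1, 1, -1, 1, 3, -1, 3],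
  [-1, -1, 3, 1, -1, 3, -1, 1, -1, 1, -1, 1, -1, -1, -1, 3, 3, -1, 3, 1, -1, 1, 1, 1],
  [1, 1, 1, 3, 1, 1, -3, -1, 1, -1, 1, 3, 1, 1, 1, 1, 1, -3, -3, -1, 1, -1, -1, -1],
  [1, -3, -3, -1, 1, 1, -3, 3, 1, -1, 1, -1, 1, 1, 1, 1, 1, 1, 1, 3, 1, -1, -1, -1],
  [1, 1, 1, -1, 1, 1, 1, -1, 1, 3, 1, -1, -3, 1, 1, 1, 1, 1, -3, 3, -3, -1, -1, -1],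
  [1, -3, 1, -1, 1, -3, 1, -1, 1, 3, 1, 3, 1, -3, 1, 1, 1, 1, 1, -1, 1, -1, -1, -1],
  [1, 1, 1, -1, -3, -3, 1, -1, 1, -1, 1, -1, 1, 1, 1, 1, 1, -3, 1, 3, 1, -1, 3, -1],
  [1, 1, 1, -1, 1, 1, 1, -1, -3, -1, -3, 3, 1, 1, 1, -3, 1, 1, 1, 3, 1, -1, -1, -1],
  [-1, 3, -1, 1, -1, -1, -1, 1, 3, 1, -1, 1, -1, -1, -1, -1, 3, 3, -1, 1, 3, 1, 1, 1],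
  [1, 1, 1, -1, -3, 1, 1, 3, 1, -1, 1, 3, -3, 1, 1, 1, -3, 1, 1, -1, 1, -1, -1, -1],
  [-1, -1, -1, 1, 3, -1, 3, 1, -1, 1, -1, 1, -1, 3, -1, 3, -1, -1, -1, 1, 3, 1, 1, 1],
  [1, -3, 1, 3, 1, 1, 1, -1, 1, -1, 1, -1, -3, 1, 1, -3, 1, 1, 1, -1, 1, -1, 3, -1],
  [1, 1, -3, -1, 1, 1, 1, -1, 1, -1, 1, 3, 1, 1, -3, 1, 1, 1, 1, -1, -3, -1, 3, -1],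
  [1, 1, 1, -1, 1, 1, 1, 3, -3, -1, 1, -1, 1, -3, 1, 1, 1, 1, -3, -1, 1, -1, 3, -1],
  [1, 1, 1, 3, 1, 1, 1, -1, 1, -1, 1, -1, 1, -3, -3, 1, -3, 1, 1, 3, 1, -1, -1, -1],
  [-1, -1, 3, 1, -1, -1, -1, 1, -1, 1, 3, 1, 3, 3, -1, -1, -1, 3, -1, 1, -1, 1, 1, 1],
  [-1, 3, -1, 1, 3, -1, -1, 1, -1, 1, 3, 1, -1, -1, 3, -1, -1, -1, 3, 1, -1, 1, 1, 1],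
  [1, 1, 1, -1, 1, 1, 1, 3, 1, 3, 1, -1, 1, 1, -3, -3, 1, -3, 1, -1, 1, -1, -1, -1],
  [-1, -1, -1, 1, -1, 3, 3, 1, 3, 1, -1, 1, 3, -1, 3, -1, -1, -1, -1, 1, -1, 1, 1, 1],
  [1, 1, 1, -1, 1, 1, -3, -1, 1, 3, -3, -1, 1, 1, 1, 1, -3, 1, 1, -1, 1, -1, 3, -1],
  [1, 1, 1, 3, 1, -3, 1, 3, 1, -1, -3, -1, 1, 1, 1, 1, 1, 1, 1, -1, -3, -1, -1, -1],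
  [1, 1, -3, 3, -3, 1, 1, -1, -3, 3, 1, -1, 1, 1, 1, 1, 1, 1, 1, -1, 1, -1, -1, -1],
  [3, -1, -1, 1, -1, -1, -1, 1, -1, 1, -1, 1, -1, -1, -1, -1, -1, -1, -1, 1, -1, 5, 1, -3],
  [3, -1, -1, 1, -1, -1, -1, 1, -1, 1, -1, 1, -1, -1, -1, -1, -1, -1, -1, 1, -1, -3, 1, 5]]

/-- Data. -/
def T109 : List (List ℤ) := [[0, 0, 0, 0, 0, 0, 0, 0, -8, 0, 0, 0, 0, 0, 0, 0, 0, 0, 0, 0, 0, 0, 0, 0],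
  [0, 0, 0, 0, 0, 0, 0, 0, 0, 0, 0, 0, 8, 0, 0, 0, 0, 0, 0, 0, 0, 0, 0, 0],
  [0, 0, 0, 0, 0, 0, 0, 0, 0, 0, 0, 8, 0, 0, 0, 0, 0, 0, 0, 0, 0, 0, 0, 0],
  [0, 0, 0, 0, 8, 0, 0, 0, 0, 0, 0, 0, 0, 0, 0, 0, 0, 0, 0, 0, 0, 0, 0, 0],
  [0, 0, 0, 0, 0, 0, 0, 0, 0, 0, 0, 0, 0, 0, 8, 0, 0, 0, 0, 0, 0, 0, 0, 0],
  [0, 0, 0, 0, 0, -8, 0, 0, 0, 0, 0, 0, 0, 0, 0, 0, 0, 0, 0, 0, 0, 0, 0, 0],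
  [0, 0, 0, 0, 0, 0, 0, 0, 0, 0, 0, 0, 0, 0, 0, 0, 0, 0, 0, 0, 8, 0, 0, 0],
  [0, 0, 0, 0, 0, 0, 0, 0, 0, 0, 0, 0, 0, 0, 0, 0, 0, 0, 0, 0, 0, 8, 0, 0],
  [-8, 0, 0, 0, 0, 0, 0, 0, 0, 0, 0, 0, 0, 0, 0, 0, 0, 0, 0, 0, 0, 0, 0, 0],
  [0, 0, 0, 0, 0, 0, 0, 0, 0, 0, 0, 0, 0, 0, 0, 0, 0, -8, 0, 0, 0, 0, 0, 0],
  [0, 0, 0, 0, 0, 0, 0, 0, 0, 0, -8, 0, 0, 0, 0, 0, 0, 0, 0, 0, 0, 0, 0, 0],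
  [0, 8, 0, 0, 0, 0, 0, 0, 0, 0, 0, 0, 0, 0, 0, 0, 0, 0, 0, 0, 0, 0, 0, 0],
  [0, 0, 8, 0, 0, 0, 0, 0, 0, 0, 0, 0, 0, 0, 0, 0, 0, 0, 0, 0, 0, 0, 0, 0],
  [0, 0, 0, 0, 0, 0, 0, 0, 0, 0, 0, 0, 0, 0, 0, 0, 0, 0, 0, 0, 0, 0, 8, 0],
  [0, 0, 0, 0, 0, 0, 0, 0, 0, 0, 0, 0, 0, 0, 0, 0, 0, 0, 0, 8, 0, 0, 0, 0],
  [0, 0, 0, 0, 0, 0, 8, 0, 0, 0, 0, 0, 0, 0, 0, 0, 0, 0, 0, 0, 0, 0, 0, 0],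
  [0, 0, 0, 0, 0, 0, 0, 0, 0, 0, 0, 0, 0, 0, 0, 8, 0, 0, 0, 0, 0, 0, 0, 0],
  [0, 0, 0, 0, 0, 0, 0, 0, 0, -8, 0, 0, 0, 0, 0, 0, 0, 0, 0, 0, 0, 0, 0, 0],
  [0, 0, 0, 0, 0, 0, 0, 0, 0, 0, 0, 0, 0, 0, 0, 0, 0, 0, -8, 0, 0, 0, 0, 0],
  [0, 0, 0, 8, 0, 0, 0, 0, 0, 0, 0, 0, 0, 0, 0, 0, 0, 0, 0, 0, 0, 0, 0, 0],
  [0, 0, 0, 0, 0, 0, 0, 0, 0, 0, 0, 0, 0, 0, 0, 0, 8, 0, 0, 0, 0, 0, 0, 0],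
  [0, 0, 0, 0, 0, 0, 0, 0, 0, 0, 0, 0, 0, 8, 0, 0, 0, 0, 0, 0, 0, 0, 0, 0],
  [0, 0, 0, 0, 0, 0, 0, 8, 0, 0, 0, 0, 0, 0, 0, 0, 0, 0, 0, 0, 0, 0, 0, 0],
  [0, 0, 0, 0, 0, 0, 0, 0, 0, 0, 0, 0, 0, 0, 0, 0, 0, 0, 0, 0, 0, 0, 0, -8]]

/-- Data. -/
def T110 : List (List ℤ) := [[-4, 0, 0, 0, 0, 0, 0, 0, 0, 0, 0, 0, 0, 0, 0, 0, 0, 4, 4, 0, 0, 0, 0, 4],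
  [0, 4, 0, 0, 0, 0, 0, 0, 0, 0, 0, 0, 0, -4, 0, -4, 0, 0, 0, -4, 0, 0, 0, 0],
  [0, 0, 4, 0, -4, 0, 0, -4, 0, 0, 0, 0, 0, 0, 0, 0, 0, 0, 0, 0, -4, 0, 0, 0],
  [0, 0, 0, 4, 0, 0, -4, 0, 0, 0, 0, -4, 0, 0, 0, 0, 0, 0, 0, 0, 0, -4, 0, 0],
  [0, 0, -4, 0, 4, 0, 0, -4, 0, 0, 0, 0, 0, 0, 0, 0, 0, 0, 0, 0, -4, 0, 0, 0],
  [0, 0, 0, 0, 0, 4, 0, 0, -4, -4, -4, 0, 0, 0, 0, 0, 0, 0, 0, 0, 0, 0, 0, 0],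
  [0, 0, 0, -4, 0, 0, 4, 0, 0, 0, 0, -4, 0, 0, 0, 0, 0, 0, 0, 0, 0, -4, 0, 0],
  [0, 0, -4, 0, -4, 0, 0, 4, 0, 0, 0, 0, 0, 0, 0, 0, 0, 0, 0, 0, -4, 0, 0, 0],
  [0, 0, 0, 0, 0, -4, 0, 0, 4, -4, -4, 0, 0, 0, 0, 0, 0, 0, 0, 0, 0, 0, 0, 0],
  [0, 0, 0, 0, 0, -4, 0, 0, -4, 4, -4, 0, 0, 0, 0, 0, 0, 0, 0, 0, 0, 0, 0, 0],
  [0, 0, 0, 0, 0, -4, 0, 0, -4, -4, 4, 0, 0, 0, 0, 0, 0, 0, 0, 0, 0, 0, 0, 0],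
  [0, 0, 0, -4, 0, 0, -4, 0, 0, 0, 0, 4, 0, 0, 0, 0, 0, 0, 0, 0, 0, -4, 0, 0],
  [0, 0, 0, 0, 0, 0, 0, 0, 0, 0, 0, 0, 4, 0, -4, 0, -4, 0, 0, 0, 0, 0, -4, 0],
  [0, -4, 0, 0, 0, 0, 0, 0, 0, 0, 0, 0, 0, 4, 0, -4, 0, 0, 0, -4, 0, 0, 0, 0],
  [0, 0, 0, 0, 0, 0, 0, 0, 0, 0, 0, 0, -4, 0, 4, 0, -4, 0, 0, 0, 0, 0, -4, 0],
  [0, -4, 0, 0, 0, 0, 0, 0, 0, 0, 0, 0, 0, -4, 0, 4, 0, 0, 0, -4, 0, 0, 0, 0],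
  [0, 0, 0, 0, 0, 0, 0, 0, 0, 0, 0, 0, -4, 0, -4, 0, 4, 0, 0, 0, 0, 0, -4, 0],
  [4, 0, 0, 0, 0, 0, 0, 0, 0, 0, 0, 0, 0, 0, 0, 0, 0, -4, 4, 0, 0, 0, 0, 4],
  [4, 0, 0, 0, 0, 0, 0, 0, 0, 0, 0, 0, 0, 0, 0, 0, 0, 4, -4, 0, 0, 0, 0, 4],
  [0, -4, 0, 0, 0, 0, 0, 0, 0, 0, 0, 0, 0, -4, 0, -4, 0, 0, 0, 4, 0, 0, 0, 0],
  [0, 0, -4, 0, -4, 0, 0, -4, 0, 0, 0, 0, 0, 0, 0, 0, 0, 0, 0, 0, 4, 0, 0, 0],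
  [0, 0, 0, -4, 0, 0, -4, 0, 0, 0, 0, -4, 0, 0, 0, 0, 0, 0, 0, 0, 0, 4, 0, 0],
  [0, 0, 0, 0, 0, 0, 0, 0, 0, 0, 0, 0, -4, 0, -4, 0, -4, 0, 0, 0, 0, 0, 4, 0],
  [4, 0, 0, 0, 0, 0, 0, 0, 0, 0, 0, 0, 0, 0, 0, 0, 0, 4, 4, 0, 0, 0, 0, -4]]

/-- Data. -/
def T111 : List (List ℤ) := [[0, 0, 0, 0, 0, 4, 0, 0, -4, 4, 4, 0, 0, 0, 0, 0, 0, 0, 0, 0, 0, 0, 0, 0],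
  [0, 0, 0, 0, 0, 0, 0, 0, 0, 0, 0, 0, 4, 0, -4, 0, -4, 0, 0, 0, 0, 0, -4, 0],
  [0, 0, 0, -4, 0, 0, -4, 0, 0, 0, 0, 4, 0, 0, 0, 0, 0, 0, 0, 0, 0, -4, 0, 0],
  [0, 0, -4, 0, 4, 0, 0, -4, 0, 0, 0, 0, 0, 0, 0, 0, 0, 0, 0, 0, -4, 0, 0, 0],
  [0, 0, 0, 0, 0, 0, 0, 0, 0, 0, 0, 0, -4, 0, 4, 0, -4, 0, 0, 0, 0, 0, -4, 0],
  [0, 0, 0, 0, 0, -4, 0, 0, 4, 4, 4, 0, 0, 0, 0, 0, 0, 0, 0, 0, 0, 0, 0, 0],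
  [0, 0, -4, 0, -4, 0, 0, -4, 0, 0, 0, 0, 0, 0, 0, 0, 0, 0, 0, 0, 4, 0, 0, 0],
  [0, 0, 0, -4, 0, 0, -4, 0, 0, 0, 0, -4, 0, 0, 0, 0, 0, 0, 0, 0, 0, 4, 0, 0],
  [4, 0, 0, 0, 0, 0, 0, 0, 0, 0, 0, 0, 0, 0, 0, 0, 0, -4, -4, 0, 0, 0, 0, -4],
  [-4, 0, 0, 0, 0, 0, 0, 0, 0, 0, 0, 0, 0, 0, 0, 0, 0, 4, -4, 0, 0, 0, 0, -4],
  [0, 0, 0, 0, 0, 4, 0, 0, 4, 4, -4, 0, 0, 0, 0, 0, 0, 0, 0, 0, 0, 0, 0, 0],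
  [0, 4, 0, 0, 0, 0, 0, 0, 0, 0, 0, 0, 0, -4, 0, -4, 0, 0, 0, -4, 0, 0, 0, 0],
  [0, 0, 4, 0, -4, 0, 0, -4, 0, 0, 0, 0, 0, 0, 0, 0, 0, 0, 0, 0, -4, 0, 0, 0],
  [0, 0, 0, 0, 0, 0, 0, 0, 0, 0, 0, 0, -4, 0, -4, 0, -4, 0, 0, 0, 0, 0, 4, 0],
  [0, -4, 0, 0, 0, 0, 0, 0, 0, 0, 0, 0, 0, -4, 0, -4, 0, 0, 0, 4, 0, 0, 0, 0],
  [0, 0, 0, -4, 0, 0, 4, 0, 0, 0, 0, -4, 0, 0, 0, 0, 0, 0, 0, 0, 0, -4, 0, 0],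
  [0, -4, 0, 0, 0, 0, 0, 0, 0, 0, 0, 0, 0, -4, 0, 4, 0, 0, 0, -4, 0, 0, 0, 0],
  [0, 0, 0, 0, 0, 4, 0, 0, 4, -4, 4, 0, 0, 0, 0, 0, 0, 0, 0, 0, 0, 0, 0, 0],
  [-4, 0, 0, 0, 0, 0, 0, 0, 0, 0, 0, 0, 0, 0, 0, 0, 0, -4, 4, 0, 0, 0, 0, -4],
  [0, 0, 0, 4, 0, 0, -4, 0, 0, 0, 0, -4, 0, 0, 0, 0, 0, 0, 0, 0, 0, -4, 0, 0],
  [0, 0, 0, 0, 0, 0, 0, 0, 0, 0, 0, 0, -4, 0, -4, 0, 4, 0, 0, 0, 0, 0, -4, 0],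
  [0, -4, 0, 0, 0, 0, 0, 0, 0, 0, 0, 0, 0, 4, 0, -4, 0, 0, 0, -4, 0, 0, 0, 0],
  [0, 0, -4, 0, -4, 0, 0, 4, 0, 0, 0, 0, 0, 0, 0, 0, 0, 0, 0, 0, -4, 0, 0, 0],
  [-4, 0, 0, 0, 0, 0, 0, 0, 0, 0, 0, 0, 0, 0, 0, 0, 0, -4, -4, 0, 0, 0, 0, 4]]

/-- Data. -/
def T112 : List (List ℤ) := [[-4, 0, 0, 0, 0, 4, 0, 0, 0, 4, 4, 0, 0, 0, 0, 0, 0, 0, 0, 0, 0, 0, 0, 0],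
  [0, 4, 0, 0, 0, 0, -4, -4, 0, 0, 0, 0, 0, 0, -4, 0, 0, 0, 0, 0, 0, 0, 0, 0],
  [0, 0, 4, -4, 0, 0, 0, 0, 0, 0, 0, 0, 0, -4, 0, 0, -4, 0, 0, 0, 0, 0, 0, 0],
  [0, 0, -4, 4, 0, 0, 0, 0, 0, 0, 0, 0, 0, -4, 0, 0, -4, 0, 0, 0, 0, 0, 0, 0],
  [0, 0, 0, 0, 4, 0, 0, 0, 0, 0, 0, 0, -4, 0, 0, -4, 0, 0, 0, 0, 0, -4, 0, 0],
  [4, 0, 0, 0, 0, -4, 0, 0, 0, 4, 4, 0, 0, 0, 0, 0, 0, 0, 0, 0, 0, 0, 0, 0],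
  [0, -4, 0, 0, 0, 0, 4, -4, 0, 0, 0, 0, 0, 0, -4, 0, 0, 0, 0, 0, 0, 0, 0, 0],
  [0, -4, 0, 0, 0, 0, -4, 4, 0, 0, 0, 0, 0, 0, -4, 0, 0, 0, 0, 0, 0, 0, 0, 0],
  [0, 0, 0, 0, 0, 0, 0, 0, 4, 0, 0, 0, 0, 0, 0, 0, 0, -4, -4, 0, 0, 0, 0, -4],
  [4, 0, 0, 0, 0, 4, 0, 0, 0, -4, 4, 0, 0, 0, 0, 0, 0, 0, 0, 0, 0, 0, 0, 0],
  [4, 0, 0, 0, 0, 4, 0, 0, 0, 4, -4, 0, 0, 0, 0, 0, 0, 0, 0, 0, 0, 0, 0, 0],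
  [0, 0, 0, 0, 0, 0, 0, 0, 0, 0, 0, 4, 0, 0, 0, 0, 0, 0, 0, -4, -4, 0, -4, 0],
  [0, 0, 0, 0, -4, 0, 0, 0, 0, 0, 0, 0, 4, 0, 0, -4, 0, 0, 0, 0, 0, -4, 0, 0],
  [0, 0, -4, -4, 0, 0, 0, 0, 0, 0, 0, 0, 0, 4, 0, 0, -4, 0, 0, 0, 0, 0, 0, 0],
  [0, -4, 0, 0, 0, 0, -4, -4, 0, 0, 0, 0, 0, 0, 4, 0, 0, 0, 0, 0, 0, 0, 0, 0],
  [0, 0, 0, 0, -4, 0, 0, 0, 0, 0, 0, 0, -4, 0, 0, 4, 0, 0, 0, 0, 0, -4, 0, 0],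
  [0, 0, -4, -4, 0, 0, 0, 0, 0, 0, 0, 0, 0, -4, 0, 0, 4, 0, 0, 0, 0, 0, 0, 0],
  [0, 0, 0, 0, 0, 0, 0, 0, -4, 0, 0, 0, 0, 0, 0, 0, 0, 4, -4, 0, 0, 0, 0, -4],
  [0, 0, 0, 0, 0, 0, 0, 0, -4, 0, 0, 0, 0, 0, 0, 0, 0, -4, 4, 0, 0, 0, 0, -4],
  [0, 0, 0, 0, 0, 0, 0, 0, 0, 0, 0, -4, 0, 0, 0, 0, 0, 0, 0, 4, -4, 0, -4, 0],
  [0, 0, 0, 0, 0, 0, 0, 0, 0, 0, 0, -4, 0, 0, 0, 0, 0, 0, 0, -4, 4, 0, -4, 0],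
  [0, 0, 0, 0, -4, 0, 0, 0, 0, 0, 0, 0, -4, 0, 0, -4, 0, 0, 0, 0, 0, 4, 0, 0],
  [0, 0, 0, 0, 0, 0, 0, 0, 0, 0, 0, -4, 0, 0, 0, 0, 0, 0, 0, -4, -4, 0, 4, 0],
  [0, 0, 0, 0, 0, 0, 0, 0, -4, 0, 0, 0, 0, 0, 0, 0, 0, -4, -4, 0, 0, 0, 0, 4]]

/-- Data. -/
def T113 : List (List ℤ) := [[6, 0, 0, 0, 0, 2, 0, 0, -2, 2, 2, 0, 0, 0, 0, 0, 0, 2, 2, 0, 0, 0, 0, 2],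
  [0, 2, 2, 2, -2, 0, 2, 2, 0, 0, 0, 2, 2, 2, -2, -2, -2, 0, 0, 2, 2, -2, -2, 0],
  [0, 2, 2, -2, 2, 0, -2, 2, 0, 0, 0, 2, 2, 2, 2, 2, 2, 0, 0, -2, -2, -2, -2, 0],
  [0, 2, -2, 2, 2, 0, 2, -2, 0, 0, 0, 2, -2, 2, 2, -2, 2, 0, 0, 2, -2, -2, 2, 0],
  [0, -2, 2, 2, 2, 0, -2, -2, 0, 0, 0, 2, -2, 2, 2, 2, -2, 0, 0, 2, 2, 2, -2, 0],
  [2, 0, 0, 0, 0, 6, 0, 0, 2, -2, -2, 0, 0, 0, 0, 0, 0, -2, -2, 0, 0, 0, 0, -2],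
  [0, 2, -2, 2, -2, 0, 2, -2, 0, 0, 0, -2, 2, 2, 2, 2, 2, 0, 0, -2, 2, 2, -2, 0],
  [0, 2, 2, -2, -2, 0, -2, 2, 0, 0, 0, -2, -2, 2, 2, -2, 2, 0, 0, 2, 2, 2, 2, 0],
  [-2, 0, 0, 0, 0, 2, 0, 0, 6, 2, 2, 0, 0, 0, 0, 0, 0, 2, 2, 0, 0, 0, 0, 2],
  [2, 0, 0, 0, 0, -2, 0, 0, 2, -2, -2, 0, 0, 0, 0, 0, 0, 6, -2, 0, 0, 0, 0, -2],
  [2, 0, 0, 0, 0, -2, 0, 0, 2, -2, 6, 0, 0, 0, 0, 0, 0, -2, -2, 0, 0, 0, 0, -2],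
  [0, 2, 2, 2, 2, 0, -2, -2, 0, 0, 0, 2, 2, -2, -2, -2, 2, 0, 0, -2, 2, 2, 2, 0],
  [0, 2, 2, -2, -2, 0, 2, -2, 0, 0, 0, 2, 2, -2, 2, 2, -2, 0, 0, 2, -2, 2, 2, 0],
  [0, 2, 2, 2, 2, 0, 2, 2, 0, 0, 0, -2, -2, 2, -2, 2, -2, 0, 0, -2, -2, 2, 2, 0],
  [0, -2, 2, 2, 2, 0, 2, 2, 0, 0, 0, -2, 2, -2, 2, -2, 2, 0, 0, 2, -2, 2, -2, 0],
  [0, -2, 2, -2, 2, 0, 2, -2, 0, 0, 0, -2, 2, 2, -2, 2, 2, 0, 0, 2, 2, -2, 2, 0],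
  [0, -2, 2, 2, -2, 0, 2, 2, 0, 0, 0, 2, -2, -2, 2, 2, 2, 0, 0, -2, 2, -2, 2, 0],
  [2, 0, 0, 0, 0, -2, 0, 0, 2, 6, -2, 0, 0, 0, 0, 0, 0, -2, -2, 0, 0, 0, 0, -2],
  [2, 0, 0, 0, 0, -2, 0, 0, 2, -2, -2, 0, 0, 0, 0, 0, 0, -2, 6, 0, 0, 0, 0, -2],
  [0, 2, -2, 2, 2, 0, -2, 2, 0, 0, 0, -2, 2, -2, 2, 2, -2, 0, 0, 2, 2, -2, 2, 0],
  [0, 2, -2, -2, 2, 0, 2, 2, 0, 0, 0, 2, -2, -2, -2, 2, 2, 0, 0, 2, 2, 2, -2, 0],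
  [0, -2, -2, -2, 2, 0, 2, 2, 0, 0, 0, 2, 2, 2, 2, -2, -2, 0, 0, -2, 2, 2, 2, 0],
  [0, -2, -2, 2, -2, 0, -2, 2, 0, 0, 0, 2, 2, 2, -2, 2, 2, 0, 0, 2, -2, 2, 2, 0],
  [2, 0, 0, 0, 0, -2, 0, 0, 2, -2, -2, 0, 0, 0, 0, 0, 0, -2, -2, 0, 0, 0, 0, 6]]

/-- Data. -/
def T114 : List (List ℤ) := [[0, 0, -8, 0, 0, 0, 0, 0, 0, 0, 0, 0, 0, 0, 0, 0, 0, 0, 0, 0, 0, 0, 0, 0],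
  [0, 0, 0, -8, 0, 0, 0, 0, 0, 0, 0, 0, 0, 0, 0, 0, 0, 0, 0, 0, 0, 0, 0, 0],
  [0, 0, 0, 0, 0, 0, 0, 0, 0, 0, 0, 0, 0, 0, 0, 0, 0, 0, 0, 0, 0, -8, 0, 0],
  [0, 0, 0, 0, 0, 0, 0, 0, 0, 0, 0, 0, 0, 0, 0, 0, 0, 0, 0, 8, 0, 0, 0, 0],
  [0, 0, 0, 0, 0, 0, 0, 0, 0, 0, 0, 0, 0, 8, 0, 0, 0, 0, 0, 0, 0, 0, 0, 0],
  [0, 0, 0, 0, 0, 0, 0, 0, 0, 0, 0, 0, 0, 0, 0, 0, 0, 0, 0, 0, 8, 0, 0, 0],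
  [0, 0, 0, 0, 0, 0, 0, 0, 0, 0, 0, 0, 0, 0, 0, 0, 8, 0, 0, 0, 0, 0, 0, 0],
  [0, 0, 0, 0, 0, 0, 0, 0, 0, 0, 8, 0, 0, 0, 0, 0, 0, 0, 0, 0, 0, 0, 0, 0],
  [0, 0, 0, 0, -8, 0, 0, 0, 0, 0, 0, 0, 0, 0, 0, 0, 0, 0, 0, 0, 0, 0, 0, 0],
  [0, 0, 0, 0, 0, 0, 0, 0, 0, 0, 0, 0, 0, 0, 0, 0, 0, 0, 8, 0, 0, 0, 0, 0],
  [0, 0, 0, 0, 0, 0, 0, 8, 0, 0, 0, 0, 0, 0, 0, 0, 0, 0, 0, 0, 0, 0, 0, 0],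
  [0, 0, 0, 0, 0, 0, 0, 0, 0, -8, 0, 0, 0, 0, 0, 0, 0, 0, 0, 0, 0, 0, 0, 0],
  [0, 0, 0, 0, 0, 0, 0, 0, -8, 0, 0, 0, 0, 0, 0, 0, 0, 0, 0, 0, 0, 0, 0, 0],
  [0, 0, 0, 0, 0, 8, 0, 0, 0, 0, 0, 0, 0, 0, 0, 0, 0, 0, 0, 0, 0, 0, 0, 0],
  [0, 0, 0, 0, 0, 0, 0, 0, 0, 0, 0, 0, 0, 0, 0, 8, 0, 0, 0, 0, 0, 0, 0, 0],
  [0, 0, 0, 0, 0, 0, 0, 0, 0, 0, 0, 0, 0, 0, 8, 0, 0, 0, 0, 0, 0, 0, 0, 0],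
  [0, 0, 0, 0, 0, 0, 0, 0, 0, 0, 0, 0, 0, 0, 0, 0, 0, 0, 0, 0, 0, 0, 8, 0],
  [0, 0, 0, 0, 0, 0, 0, 0, 0, 0, 0, 0, 0, 0, 0, 0, 0, 8, 0, 0, 0, 0, 0, 0],
  [-8, 0, 0, 0, 0, 0, 0, 0, 0, 0, 0, 0, 0, 0, 0, 0, 0, 0, 0, 0, 0, 0, 0, 0],
  [0, 8, 0, 0, 0, 0, 0, 0, 0, 0, 0, 0, 0, 0, 0, 0, 0, 0, 0, 0, 0, 0, 0, 0],
  [0, 0, 0, 0, 0, 0, 0, 0, 0, 0, 0, 0, 8, 0, 0, 0, 0, 0, 0, 0, 0, 0, 0, 0],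
  [0, 0, 0, 0, 0, 0, 0, 0, 0, 0, 0, 8, 0, 0, 0, 0, 0, 0, 0, 0, 0, 0, 0, 0],
  [0, 0, 0, 0, 0, 0, 8, 0, 0, 0, 0, 0, 0, 0, 0, 0, 0, 0, 0, 0, 0, 0, 0, 0],
  [0, 0, 0, 0, 0, 0, 0, 0, 0, 0, 0, 0, 0, 0, 0, 0, 0, 0, 0, 0, 0, 0, 0, -8]]

/-- Data. -/
def T115 : List (List ℤ) := [[-4, 0, 0, 0, 0, 0, 0, 0, 0, 4, 0, 0, 0, 0, 0, 0, 0, 0, 0, 0, 0, 4, 0, 4],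
  [0, 4, 0, 0, 0, -4, 0, 0, 0, 0, 0, -4, 0, -4, 0, 0, 0, 0, 0, 0, 0, 0, 0, 0],
  [0, 0, 4, -4, -4, 0, 0, 0, -4, 0, 0, 0, 0, 0, 0, 0, 0, 0, 0, 0, 0, 0, 0, 0],
  [0, 0, -4, 4, -4, 0, 0, 0, -4, 0, 0, 0, 0, 0, 0, 0, 0, 0, 0, 0, 0, 0, 0, 0],
  [0, 0, -4, -4, 4, 0, 0, 0, -4, 0, 0, 0, 0, 0, 0, 0, 0, 0, 0, 0, 0, 0, 0, 0],
  [0, -4, 0, 0, 0, 4, 0, 0, 0, 0, 0, -4, 0, -4, 0, 0, 0, 0, 0, 0, 0, 0, 0, 0],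
  [0, 0, 0, 0, 0, 0, 4, 0, 0, 0, -4, 0, 0, 0, 0, 0, -4, 0, 0, 0, 0, 0, -4, 0],
  [0, 0, 0, 0, 0, 0, 0, 4, 0, 0, 0, 0, 0, 0, -4, -4, 0, -4, 0, 0, 0, 0, 0, 0],
  [0, 0, -4, -4, -4, 0, 0, 0, 4, 0, 0, 0, 0, 0, 0, 0, 0, 0, 0, 0, 0, 0, 0, 0],
  [4, 0, 0, 0, 0, 0, 0, 0, 0, -4, 0, 0, 0, 0, 0, 0, 0, 0, 0, 0, 0, 4, 0, 4],
  [0, 0, 0, 0, 0, 0, -4, 0, 0, 0, 4, 0, 0, 0, 0, 0, -4, 0, 0, 0, 0, 0, -4, 0],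
  [0, -4, 0, 0, 0, -4, 0, 0, 0, 0, 0, 4, 0, -4, 0, 0, 0, 0, 0, 0, 0, 0, 0, 0],
  [0, 0, 0, 0, 0, 0, 0, 0, 0, 0, 0, 0, 4, 0, 0, 0, 0, 0, -4, -4, -4, 0, 0, 0],
  [0, -4, 0, 0, 0, -4, 0, 0, 0, 0, 0, -4, 0, 4, 0, 0, 0, 0, 0, 0, 0, 0, 0, 0],
  [0, 0, 0, 0, 0, 0, 0, -4, 0, 0, 0, 0, 0, 0, 4, -4, 0, -4, 0, 0, 0, 0, 0, 0],
  [0, 0, 0, 0, 0, 0, 0, -4, 0, 0, 0, 0, 0, 0, -4, 4, 0, -4, 0, 0, 0, 0, 0, 0],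
  [0, 0, 0, 0, 0, 0, -4, 0, 0, 0, -4, 0, 0, 0, 0, 0, 4, 0, 0, 0, 0, 0, -4, 0],
  [0, 0, 0, 0, 0, 0, 0, -4, 0, 0, 0, 0, 0, 0, -4, -4, 0, 4, 0, 0, 0, 0, 0, 0],
  [0, 0, 0, 0, 0, 0, 0, 0, 0, 0, 0, 0, -4, 0, 0, 0, 0, 0, 4, -4, -4, 0, 0, 0],
  [0, 0, 0, 0, 0, 0, 0, 0, 0, 0, 0, 0, -4, 0, 0, 0, 0, 0, -4, 4, -4, 0, 0, 0],
  [0, 0, 0, 0, 0, 0, 0, 0, 0, 0, 0, 0, -4, 0, 0, 0, 0, 0, -4, -4, 4, 0, 0, 0],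
  [4, 0, 0, 0, 0, 0, 0, 0, 0, 4, 0, 0, 0, 0, 0, 0, 0, 0, 0, 0, 0, -4, 0, 4],
  [0, 0, 0, 0, 0, 0, -4, 0, 0, 0, -4, 0, 0, 0, 0, 0, -4, 0, 0, 0, 0, 0, 4, 0],
  [4, 0, 0, 0, 0, 0, 0, 0, 0, 4, 0, 0, 0, 0, 0, 0, 0, 0, 0, 0, 0, 4, 0, -4]]

/-- Data. -/
def T116 : List (List ℤ) := [[0, 0, -4, 4, 4, 0, 0, 0, 4, 0, 0, 0, 0, 0, 0, 0, 0, 0, 0, 0, 0, 0, 0, 0],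
  [0, 0, 4, -4, 4, 0, 0, 0, 4, 0, 0, 0, 0, 0, 0, 0, 0, 0, 0, 0, 0, 0, 0, 0],
  [-4, 0, 0, 0, 0, 0, 0, 0, 0, -4, 0, 0, 0, 0, 0, 0, 0, 0, 0, 0, 0, 4, 0, -4],
  [0, 0, 0, 0, 0, 0, 0, 0, 0, 0, 0, 0, -4, 0, 0, 0, 0, 0, -4, 4, -4, 0, 0, 0],
  [0, -4, 0, 0, 0, -4, 0, 0, 0, 0, 0, -4, 0, 4, 0, 0, 0, 0, 0, 0, 0, 0, 0, 0],
  [0, 0, 0, 0, 0, 0, 0, 0, 0, 0, 0, 0, -4, 0, 0, 0, 0, 0, -4, -4, 4, 0, 0, 0],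
  [0, 0, 0, 0, 0, 0, -4, 0, 0, 0, -4, 0, 0, 0, 0, 0, 4, 0, 0, 0, 0, 0, -4, 0],
  [0, 0, 0, 0, 0, 0, -4, 0, 0, 0, 4, 0, 0, 0, 0, 0, -4, 0, 0, 0, 0, 0, -4, 0],
  [0, 0, 4, 4, -4, 0, 0, 0, 4, 0, 0, 0, 0, 0, 0, 0, 0, 0, 0, 0, 0, 0, 0, 0],
  [0, 0, 0, 0, 0, 0, 0, 0, 0, 0, 0, 0, -4, 0, 0, 0, 0, 0, 4, -4, -4, 0, 0, 0],
  [0, 0, 0, 0, 0, 0, 0, 4, 0, 0, 0, 0, 0, 0, -4, -4, 0, -4, 0, 0, 0, 0, 0, 0],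
  [-4, 0, 0, 0, 0, 0, 0, 0, 0, 4, 0, 0, 0, 0, 0, 0, 0, 0, 0, 0, 0, -4, 0, -4],
  [0, 0, 4, 4, 4, 0, 0, 0, -4, 0, 0, 0, 0, 0, 0, 0, 0, 0, 0, 0, 0, 0, 0, 0],
  [0, -4, 0, 0, 0, 4, 0, 0, 0, 0, 0, -4, 0, -4, 0, 0, 0, 0, 0, 0, 0, 0, 0, 0],
  [0, 0, 0, 0, 0, 0, 0, -4, 0, 0, 0, 0, 0, 0, -4, 4, 0, -4, 0, 0, 0, 0, 0, 0],
  [0, 0, 0, 0, 0, 0, 0, -4, 0, 0, 0, 0, 0, 0, 4, -4, 0, -4, 0, 0, 0, 0, 0, 0],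
  [0, 0, 0, 0, 0, 0, -4, 0, 0, 0, -4, 0, 0, 0, 0, 0, -4, 0, 0, 0, 0, 0, 4, 0],
  [0, 0, 0, 0, 0, 0, 0, -4, 0, 0, 0, 0, 0, 0, -4, -4, 0, 4, 0, 0, 0, 0, 0, 0],
  [4, 0, 0, 0, 0, 0, 0, 0, 0, -4, 0, 0, 0, 0, 0, 0, 0, 0, 0, 0, 0, -4, 0, -4],
  [0, 4, 0, 0, 0, -4, 0, 0, 0, 0, 0, -4, 0, -4, 0, 0, 0, 0, 0, 0, 0, 0, 0, 0],
  [0, 0, 0, 0, 0, 0, 0, 0, 0, 0, 0, 0, 4, 0, 0, 0, 0, 0, -4, -4, -4, 0, 0, 0],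
  [0, -4, 0, 0, 0, -4, 0, 0, 0, 0, 0, 4, 0, -4, 0, 0, 0, 0, 0, 0, 0, 0, 0, 0],
  [0, 0, 0, 0, 0, 0, 4, 0, 0, 0, -4, 0, 0, 0, 0, 0, -4, 0, 0, 0, 0, 0, -4, 0],
  [-4, 0, 0, 0, 0, 0, 0, 0, 0, -4, 0, 0, 0, 0, 0, 0, 0, 0, 0, 0, 0, -4, 0, 4]]

/-- Data. -/
def T117 : List (List ℤ) := [[-4, 0, 0, 4, 4, 0, 0, 0, 4, 0, 0, 0, 0, 0, 0, 0, 0, 0, 0, 0, 0, 0, 0, 0],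
  [0, 4, 0, 0, 0, 0, 0, 0, 0, 0, 0, 0, 0, 0, 0, 0, 0, -4, -4, 0, 0, 0, -4, 0],
  [0, 0, 4, 0, 0, 0, 0, 0, 0, -4, 0, 0, 0, 0, 0, 0, 0, 0, 0, 0, 0, -4, 0, -4],
  [4, 0, 0, -4, 4, 0, 0, 0, 4, 0, 0, 0, 0, 0, 0, 0, 0, 0, 0, 0, 0, 0, 0, 0],
  [4, 0, 0, 4, -4, 0, 0, 0, 4, 0, 0, 0, 0, 0, 0, 0, 0, 0, 0, 0, 0, 0, 0, 0],
  [0, 0, 0, 0, 0, 4, 0, 0, 0, 0, -4, 0, 0, 0, -4, 0, 0, 0, 0, -4, 0, 0, 0, 0],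
  [0, 0, 0, 0, 0, 0, 4, 0, 0, 0, 0, -4, -4, 0, 0, -4, 0, 0, 0, 0, 0, 0, 0, 0],
  [0, 0, 0, 0, 0, 0, 0, 4, 0, 0, 0, 0, 0, -4, 0, 0, -4, 0, 0, 0, -4, 0, 0, 0],
  [4, 0, 0, 4, 4, 0, 0, 0, -4, 0, 0, 0, 0, 0, 0, 0, 0, 0, 0, 0, 0, 0, 0, 0],
  [0, 0, -4, 0, 0, 0, 0, 0, 0, 4, 0, 0, 0, 0, 0, 0, 0, 0, 0, 0, 0, -4, 0, -4],
  [0, 0, 0, 0, 0, -4, 0, 0, 0, 0, 4, 0, 0, 0, -4, 0, 0, 0, 0, -4, 0, 0, 0, 0],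
  [0, 0, 0, 0, 0, 0, -4, 0, 0, 0, 0, 4, -4, 0, 0, -4, 0, 0, 0, 0, 0, 0, 0, 0],
  [0, 0, 0, 0, 0, 0, -4, 0, 0, 0, 0, -4, 4, 0, 0, -4, 0, 0, 0, 0, 0, 0, 0, 0],
  [0, 0, 0, 0, 0, 0, 0, -4, 0, 0, 0, 0, 0, 4, 0, 0, -4, 0, 0, 0, -4, 0, 0, 0],
  [0, 0, 0, 0, 0, -4, 0, 0, 0, 0, -4, 0, 0, 0, 4, 0, 0, 0, 0, -4, 0, 0, 0, 0],
  [0, 0, 0, 0, 0, 0, -4, 0, 0, 0, 0, -4, -4, 0, 0, 4, 0, 0, 0, 0, 0, 0, 0, 0],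
  [0, 0, 0, 0, 0, 0, 0, -4, 0, 0, 0, 0, 0, -4, 0, 0, 4, 0, 0, 0, -4, 0, 0, 0],
  [0, -4, 0, 0, 0, 0, 0, 0, 0, 0, 0, 0, 0, 0, 0, 0, 0, 4, -4, 0, 0, 0, -4, 0],
  [0, -4, 0, 0, 0, 0, 0, 0, 0, 0, 0, 0, 0, 0, 0, 0, 0, -4, 4, 0, 0, 0, -4, 0],
  [0, 0, 0, 0, 0, -4, 0, 0, 0, 0, -4, 0, 0, 0, -4, 0, 0, 0, 0, 4, 0, 0, 0, 0],
  [0, 0, 0, 0, 0, 0, 0, -4, 0, 0, 0, 0, 0, -4, 0, 0, -4, 0, 0, 0, 4, 0, 0, 0],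
  [0, 0, -4, 0, 0, 0, 0, 0, 0, -4, 0, 0, 0, 0, 0, 0, 0, 0, 0, 0, 0, 4, 0, -4],
  [0, -4, 0, 0, 0, 0, 0, 0, 0, 0, 0, 0, 0, 0, 0, 0, 0, -4, -4, 0, 0, 0, 4, 0],
  [0, 0, -4, 0, 0, 0, 0, 0, 0, -4, 0, 0, 0, 0, 0, 0, 0, 0, 0, 0, 0, -4, 0, 4]]

/-- Data. -/
def T118 : List (List ℤ) := [[6, 0, -2, 2, 2, 0, 0, 0, 2, 2, 0, 0, 0, 0, 0, 0, 0, 0, 0, 0, 0, 2, 0, 2],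
  [2, 0, 2, 6, -2, 0, 0, 0, -2, -2, 0, 0, 0, 0, 0, 0, 0, 0, 0, 0, 0, -2, 0, -2],
  [2, 0, 2, -2, -2, 0, 0, 0, -2, -2, 0, 0, 0, 0, 0, 0, 0, 0, 0, 0, 0, 6, 0, -2],
  [0, 2, 0, 0, 0, -2, 2, 2, 0, 0, -2, 2, -2, 2, -2, 2, 2, 2, -2, 2, -2, 0, 2, 0],
  [0, -2, 0, 0, 0, -2, 2, -2, 0, 0, 2, -2, 2, 2, 2, 2, -2, 2, 2, 2, -2, 0, 2, 0],
  [0, 2, 0, 0, 0, 2, 2, -2, 0, 0, 2, 2, -2, -2, 2, 2, -2, 2, -2, -2, 2, 0, 2, 0],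
  [0, 2, 0, 0, 0, 2, -2, -2, 0, 0, -2, 2, 2, -2, 2, 2, 2, 2, 2, 2, -2, 0, -2, 0],
  [0, 2, 0, 0, 0, -2, -2, 2, 0, 0, 2, 2, 2, 2, -2, 2, -2, 2, 2, -2, 2, 0, -2, 0],
  [2, 0, 2, -2, 6, 0, 0, 0, -2, -2, 0, 0, 0, 0, 0, 0, 0, 0, 0, 0, 0, -2, 0, -2],
  [0, -2, 0, 0, 0, 2, 2, 2, 0, 0, 2, 2, -2, 2, 2, 2, 2, -2, 2, -2, -2, 0, -2, 0],
  [0, 2, 0, 0, 0, 2, 2, 2, 0, 0, 2, 2, 2, -2, -2, -2, -2, -2, 2, 2, -2, 0, 2, 0],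
  [2, 0, 2, -2, -2, 0, 0, 0, -2, 6, 0, 0, 0, 0, 0, 0, 0, 0, 0, 0, 0, -2, 0, -2],
  [2, 0, 2, -2, -2, 0, 0, 0, 6, -2, 0, 0, 0, 0, 0, 0, 0, 0, 0, 0, 0, -2, 0, -2],
  [0, -2, 0, 0, 0, 2, 2, 2, 0, 0, -2, -2, 2, -2, -2, 2, 2, 2, 2, -2, 2, 0, 2, 0],
  [0, 2, 0, 0, 0, 2, -2, -2, 0, 0, 2, -2, -2, 2, -2, 2, 2, -2, 2, 2, 2, 0, 2, 0],
  [0, 2, 0, 0, 0, -2, 2, -2, 0, 0, -2, 2, 2, 2, 2, -2, 2, -2, 2, -2, 2, 0, 2, 0],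
  [0, -2, 0, 0, 0, 2, -2, 2, 0, 0, -2, 2, 2, 2, 2, 2, -2, -2, -2, 2, 2, 0, 2, 0],
  [0, -2, 0, 0, 0, 2, 2, -2, 0, 0, 2, 2, 2, 2, -2, -2, 2, 2, -2, 2, 2, 0, -2, 0],
  [-2, 0, 6, 2, 2, 0, 0, 0, 2, 2, 0, 0, 0, 0, 0, 0, 0, 0, 0, 0, 0, 2, 0, 2],
  [0, 2, 0, 0, 0, -2, 2, 2, 0, 0, 2, -2, 2, -2, 2, 2, 2, -2, -2, 2, 2, 0, -2, 0],
  [0, 2, 0, 0, 0, 2, -2, 2, 0, 0, 2, -2, 2, 2, 2, -2, 2, 2, -2, -2, -2, 0, 2, 0],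
  [0, -2, 0, 0, 0, -2, -2, 2, 0, 0, 2, 2, -2, -2, 2, -2, 2, 2, 2, 2, 2, 0, 2, 0],
  [0, 2, 0, 0, 0, 2, 2, 2, 0, 0, -2, -2, -2, 2, 2, -2, -2, 2, 2, 2, 2, 0, -2, 0],
  [2, 0, 2, -2, -2, 0, 0, 0, -2, -2, 0, 0, 0, 0, 0, 0, 0, 0, 0, 0, 0, -2, 0, 6]]

/-- Data. -/
def T119 : List (List ℤ) := [[8, 0, 0, 0, 0, 0, 0, 0, 0, 0, 0, 0, 0, 0, 0, 0, 0, 0, 0, 0, 0, 0, 0, 0],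
  [0, -8, 0, 0, 0, 0, 0, 0, 0, 0, 0, 0, 0, 0, 0, 0, 0, 0, 0, 0, 0, 0, 0, 0],
  [0, 0, 8, 0, 0, 0, 0, 0, 0, 0, 0, 0, 0, 0, 0, 0, 0, 0, 0, 0, 0, 0, 0, 0],
  [0, 0, 0, -8, 0, 0, 0, 0, 0, 0, 0, 0, 0, 0, 0, 0, 0, 0, 0, 0, 0, 0, 0, 0],
  [0, 0, 0, 0, 8, 0, 0, 0, 0, 0, 0, 0, 0, 0, 0, 0, 0, 0, 0, 0, 0, 0, 0, 0],
  [0, 0, 0, 0, 0, 8, 0, 0, 0, 0, 0, 0, 0, 0, 0, 0, 0, 0, 0, 0, 0, 0, 0, 0],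
  [0, 0, 0, 0, 0, 0, 8, 0, 0, 0, 0, 0, 0, 0, 0, 0, 0, 0, 0, 0, 0, 0, 0, 0],
  [0, 0, 0, 0, 0, 0, 0, 8, 0, 0, 0, 0, 0, 0, 0, 0, 0, 0, 0, 0, 0, 0, 0, 0],
  [0, 0, 0, 0, 0, 0, 0, 0, 8, 0, 0, 0, 0, 0, 0, 0, 0, 0, 0, 0, 0, 0, 0, 0],
  [0, 0, 0, 0, 0, 0, 0, 0, 0, 8, 0, 0, 0, 0, 0, 0, 0, 0, 0, 0, 0, 0, 0, 0],
  [0, 0, 0, 0, 0, 0, 0, 0, 0, 0, 8, 0, 0, 0, 0, 0, 0, 0, 0, 0, 0, 0, 0, 0],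
  [0, 0, 0, 0, 0, 0, 0, 0, 0, 0, 0, 8, 0, 0, 0, 0, 0, 0, 0, 0, 0, 0, 0, 0],
  [0, 0, 0, 0, 0, 0, 0, 0, 0, 0, 0, 0, 8, 0, 0, 0, 0, 0, 0, 0, 0, 0, 0, 0],
  [0, 0, 0, 0, 0, 0, 0, 0, 0, 0, 0, 0, 0, 8, 0, 0, 0, 0, 0, 0, 0, 0, 0, 0],
  [0, 0, 0, 0, 0, 0, 0, 0, 0, 0, 0, 0, 0, 0, -8, 0, 0, 0, 0, 0, 0, 0, 0, 0],
  [0, 0, 0, 0, 0, 0, 0, 0, 0, 0, 0, 0, 0, 0, 0, -8, 0, 0, 0, 0, 0, 0, 0, 0],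
  [0, 0, 0, 0, 0, 0, 0, 0, 0, 0, 0, 0, 0, 0, 0, 0, -8, 0, 0, 0, 0, 0, 0, 0],
  [0, 0, 0, 0, 0, 0, 0, 0, 0, 0, 0, 0, 0, 0, 0, 0, 0, -8, 0, 0, 0, 0, 0, 0],
  [0, 0, 0, 0, 0, 0, 0, 0, 0, 0, 0, 0, 0, 0, 0, 0, 0, 0, -8, 0, 0, 0, 0, 0],
  [0, 0, 0, 0, 0, 0, 0, 0, 0, 0, 0, 0, 0, 0, 0, 0, 0, 0, 0, 8, 0, 0, 0, 0],
  [0, 0, 0, 0, 0, 0, 0, 0, 0, 0, 0, 0, 0, 0, 0, 0, 0, 0, 0, 0, 8, 0, 0, 0],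
  [0, 0, 0, 0, 0, 0, 0, 0, 0, 0, 0, 0, 0, 0, 0, 0, 0, 0, 0, 0, 0, -8, 0, 0],
  [0, 0, 0, 0, 0, 0, 0, 0, 0, 0, 0, 0, 0, 0, 0, 0, 0, 0, 0, 0, 0, 0, 8, 0],
  [0, 0, 0, 0, 0, 0, 0, 0, 0, 0, 0, 0, 0, 0, 0, 0, 0, 0, 0, 0, 0, 0, 0, 8]]

/-- Data. -/
def T120 : List (List ℤ) := [[8, 0, 0, 0, 0, 0, 0, 0, 0, 0, 0, 0, 0, 0, 0, 0, 0, 0, 0, 0, 0, 0, 0, 0],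
  [0, 0, 0, 0, 0, 0, 0, 0, 0, 8, 0, 0, 0, 0, 0, 0, 0, 0, 0, 0, 0, 0, 0, 0],
  [0, 0, 0, 0, 0, 0, 0, 0, 0, 0, 8, 0, 0, 0, 0, 0, 0, 0, 0, 0, 0, 0, 0, 0],
  [0, 0, 0, 8, 0, 0, 0, 0, 0, 0, 0, 0, 0, 0, 0, 0, 0, 0, 0, 0, 0, 0, 0, 0],
  [0, 0, 0, 0, 0, 0, 0, 0, 0, 0, 0, 0, 0, 8, 0, 0, 0, 0, 0, 0, 0, 0, 0, 0],
  [0, 0, 0, 0, 0, 0, 0, 0, 0, 0, 0, 0, 8, 0, 0, 0, 0, 0, 0, 0, 0, 0, 0, 0],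
  [0, 0, 0, 0, 0, 0, 0, 0, 0, 0, 0, 0, 0, 0, 0, 0, 0, 0, 0, 0, 0, 8, 0, 0],
  [0, 0, 0, 0, 0, 0, 0, 0, 0, 0, 0, 0, 0, 0, 0, 0, 8, 0, 0, 0, 0, 0, 0, 0],
  [0, 0, 0, 0, 0, 0, 0, 0, 8, 0, 0, 0, 0, 0, 0, 0, 0, 0, 0, 0, 0, 0, 0, 0],
  [0, 8, 0, 0, 0, 0, 0, 0, 0, 0, 0, 0, 0, 0, 0, 0, 0, 0, 0, 0, 0, 0, 0, 0],
  [0, 0, 8, 0, 0, 0, 0, 0, 0, 0, 0, 0, 0, 0, 0, 0, 0, 0, 0, 0, 0, 0, 0, 0],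
  [0, 0, 0, 0, 0, 0, 0, 0, 0, 0, 0, 0, 0, 0, 0, 0, 0, 8, 0, 0, 0, 0, 0, 0],
  [0, 0, 0, 0, 0, 8, 0, 0, 0, 0, 0, 0, 0, 0, 0, 0, 0, 0, 0, 0, 0, 0, 0, 0],
  [0, 0, 0, 0, 8, 0, 0, 0, 0, 0, 0, 0, 0, 0, 0, 0, 0, 0, 0, 0, 0, 0, 0, 0],
  [0, 0, 0, 0, 0, 0, 0, 0, 0, 0, 0, 0, 0, 0, 8, 0, 0, 0, 0, 0, 0, 0, 0, 0],
  [0, 0, 0, 0, 0, 0, 0, 0, 0, 0, 0, 0, 0, 0, 0, 8, 0, 0, 0, 0, 0, 0, 0, 0],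
  [0, 0, 0, 0, 0, 0, 0, 8, 0, 0, 0, 0, 0, 0, 0, 0, 0, 0, 0, 0, 0, 0, 0, 0],
  [0, 0, 0, 0, 0, 0, 0, 0, 0, 0, 0, 8, 0, 0, 0, 0, 0, 0, 0, 0, 0, 0, 0, 0],
  [0, 0, 0, 0, 0, 0, 0, 0, 0, 0, 0, 0, 0, 0, 0, 0, 0, 0, 8, 0, 0, 0, 0, 0],
  [0, 0, 0, 0, 0, 0, 0, 0, 0, 0, 0, 0, 0, 0, 0, 0, 0, 0, 0, 0, 0, 0, 8, 0],
  [0, 0, 0, 0, 0, 0, 0, 0, 0, 0, 0, 0, 0, 0, 0, 0, 0, 0, 0, 0, 8, 0, 0, 0],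
  [0, 0, 0, 0, 0, 0, 8, 0, 0, 0, 0, 0, 0, 0, 0, 0, 0, 0, 0, 0, 0, 0, 0, 0],
  [0, 0, 0, 0, 0, 0, 0, 0, 0, 0, 0, 0, 0, 0, 0, 0, 0, 0, 0, 8, 0, 0, 0, 0],
  [0, 0, 0, 0, 0, 0, 0, 0, 0, 0, 0, 0, 0, 0, 0, 0, 0, 0, 0, 0, 0, 0, 0, 8]]

/-- Data. -/
def T121 : List (List ℤ) := [[0, 0, 0, 0, 0, 0, 0, 0, 0, 0, 0, 0, 0, 0, 0, 0, 0, 0, 0, 0, 0, 0, 0, 8],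
  [0, 0, 0, 8, 0, 0, 0, 0, 0, 0, 0, 0, 0, 0, 0, 0, 0, 0, 0, 0, 0, 0, 0, 0],
  [0, 0, 8, 0, 0, 0, 0, 0, 0, 0, 0, 0, 0, 0, 0, 0, 0, 0, 0, 0, 0, 0, 0, 0],
  [0, 8, 0, 0, 0, 0, 0, 0, 0, 0, 0, 0, 0, 0, 0, 0, 0, 0, 0, 0, 0, 0, 0, 0],
  [0, 0, 0, 0, 8, 0, 0, 0, 0, 0, 0, 0, 0, 0, 0, 0, 0, 0, 0, 0, 0, 0, 0, 0],
  [0, 0, 0, 0, 0, 8, 0, 0, 0, 0, 0, 0, 0, 0, 0, 0, 0, 0, 0, 0, 0, 0, 0, 0],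
  [0, 0, 0, 0, 0, 0, 0, 0, 0, 0, 8, 0, 0, 0, 0, 0, 0, 0, 0, 0, 0, 0, 0, 0],
  [0, 0, 0, 0, 0, 0, 0, 0, 0, 0, 0, 0, 0, 0, 0, 0, 0, 0, 8, 0, 0, 0, 0, 0],
  [0, 0, 0, 0, 0, 0, 0, 0, 0, 0, 0, 0, 0, 8, 0, 0, 0, 0, 0, 0, 0, 0, 0, 0],
  [0, 0, 0, 0, 0, 0, 0, 0, 0, 0, 0, 0, 0, 0, 0, 0, 8, 0, 0, 0, 0, 0, 0, 0],
  [0, 0, 0, 0, 0, 0, 8, 0, 0, 0, 0, 0, 0, 0, 0, 0, 0, 0, 0, 0, 0, 0, 0, 0],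
  [0, 0, 0, 0, 0, 0, 0, 0, 0, 0, 0, 8, 0, 0, 0, 0, 0, 0, 0, 0, 0, 0, 0, 0],
  [0, 0, 0, 0, 0, 0, 0, 0, 0, 0, 0, 0, 0, 0, 0, 8, 0, 0, 0, 0, 0, 0, 0, 0],
  [0, 0, 0, 0, 0, 0, 0, 0, 8, 0, 0, 0, 0, 0, 0, 0, 0, 0, 0, 0, 0, 0, 0, 0],
  [0, 0, 0, 0, 0, 0, 0, 0, 0, 0, 0, 0, 0, 0, 8, 0, 0, 0, 0, 0, 0, 0, 0, 0],
  [0, 0, 0, 0, 0, 0, 0, 0, 0, 0, 0, 0, 8, 0, 0, 0, 0, 0, 0, 0, 0, 0, 0, 0],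
  [0, 0, 0, 0, 0, 0, 0, 0, 0, 8, 0, 0, 0, 0, 0, 0, 0, 0, 0, 0, 0, 0, 0, 0],
  [0, 0, 0, 0, 0, 0, 0, 0, 0, 0, 0, 0, 0, 0, 0, 0, 0, 8, 0, 0, 0, 0, 0, 0],
  [0, 0, 0, 0, 0, 0, 0, 8, 0, 0, 0, 0, 0, 0, 0, 0, 0, 0, 0, 0, 0, 0, 0, 0],
  [0, 0, 0, 0, 0, 0, 0, 0, 0, 0, 0, 0, 0, 0, 0, 0, 0, 0, 0, 8, 0, 0, 0, 0],
  [0, 0, 0, 0, 0, 0, 0, 0, 0, 0, 0, 0, 0, 0, 0, 0, 0, 0, 0, 0, 8, 0, 0, 0],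
  [0, 0, 0, 0, 0, 0, 0, 0, 0, 0, 0, 0, 0, 0, 0, 0, 0, 0, 0, 0, 0, 0, 8, 0],
  [0, 0, 0, 0, 0, 0, 0, 0, 0, 0, 0, 0, 0, 0, 0, 0, 0, 0, 0, 0, 0, 8, 0, 0],
  [8, 0, 0, 0, 0, 0, 0, 0, 0, 0, 0, 0, 0, 0, 0, 0, 0, 0, 0, 0, 0, 0, 0, 0]]

/-- Data. -/
def T122 : List (List ℤ) := [[4, 2, -2, 0, 0, 0, 0, -2, 0, 2, -2, 0, 0, 0, 0, 0, -2, 0, 0, -2, 0, 0, -2, 4],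
  [0, -2, -2, 0, 0, 0, 0, 2, 0, 2, 2, 4, 0, 0, 0, 0, -2, -4, 0, -2, 0, 0, 2, 0],
  [0, -2, -2, -4, 0, 0, 0, 2, 0, -2, -2, 0, 0, 0, 0, 0, 2, 0, -4, -2, 0, 0, -2, 0],
  [0, -2, 2, 0, 0, 0, -4, 2, 0, 2, -2, 0, 0, 0, 0, 0, -2, 0, 0, 2, 0, 4, -2, 0],
  [-2, 0, 0, -2, 2, 2, -2, 0, 2, 0, 0, 2, 2, 2, -2, 2, 0, 2, 2, 0, -2, -2, 0, 2],
  [0, -2, -2, 4, 0, 0, 0, 2, 0, -2, -2, 0, 0, 0, 0, 0, 2, 0, 4, -2, 0, 0, -2, 0],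
  [2, 0, 0, 2, 2, 2, 2, 0, 2, 0, 0, -2, 2, 2, -2, 2, 0, -2, -2, 0, -2, 2, 0, -2],
  [-2, 0, 0, 2, 2, -2, -2, 0, -2, 0, 0, -2, -2, 2, 2, 2, 0, -2, -2, 0, -2, -2, 0, 2],
  [0, 2, 2, 0, 0, 0, 0, 2, -4, 2, 2, 0, 0, 0, -4, 0, 2, 0, 0, -2, 0, 0, -2, 0],
  [-2, 0, 0, 2, -2, 2, 2, 0, -2, 0, 0, 2, 2, -2, 2, 2, 0, 2, -2, 0, -2, 2, 0, 2],
  [2, 0, 0, 2, 2, 2, -2, 0, -2, 0, 0, 2, 2, 2, 2, -2, 0, 2, -2, 0, 2, -2, 0, -2],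
  [2, 0, 0, 2, -2, -2, -2, 0, 2, 0, 0, 2, -2, -2, -2, 2, 0, 2, -2, 0, -2, -2, 0, -2],
  [2, 0, 0, -2, -2, 2, -2, 0, -2, 0, 0, -2, 2, -2, 2, 2, 0, -2, 2, 0, -2, -2, 0, -2],
  [0, -2, 2, 0, 0, 0, 0, -2, 0, -2, 2, 0, 0, 0, 0, -4, -2, 0, 0, -2, -4, 0, -2, 0],
  [0, -2, 2, 0, 0, 0, 4, 2, 0, 2, -2, 0, 0, 0, 0, 0, -2, 0, 0, 2, 0, -4, -2, 0],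
  [0, -2, -2, 0, 0, -4, 0, -2, 0, 2, 2, 0, 4, 0, 0, 0, 2, 0, 0, 2, 0, 0, -2, 0],
  [0, 2, -2, 0, -4, 0, 0, 2, 0, -2, 2, 0, 0, 4, 0, 0, -2, 0, 0, 2, 0, 0, -2, 0],
  [0, 2, 2, 0, 0, 0, 0, -2, 0, -2, -2, 4, 0, 0, 0, 0, 2, -4, 0, 2, 0, 0, -2, 0],
  [0, -2, -2, 0, 0, 4, 0, -2, 0, 2, 2, 0, -4, 0, 0, 0, 2, 0, 0, 2, 0, 0, -2, 0],
  [0, -2, 2, 0, 0, 0, 0, -2, 0, -2, 2, 0, 0, 0, 0, 4, -2, 0, 0, -2, 4, 0, -2, 0],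
  [0, -2, -2, 0, 0, 0, 0, -2, -4, -2, -2, 0, 0, 0, -4, 0, -2, 0, 0, 2, 0, 0, 2, 0],
  [0, -2, 2, 0, -4, 0, 0, -2, 0, 2, -2, 0, 0, 4, 0, 0, 2, 0, 0, -2, 0, 0, 2, 0],
  [-2, 0, 0, 2, -2, 2, -2, 0, 2, 0, 0, -2, 2, -2, -2, -2, 0, -2, -2, 0, 2, -2, 0, 2],
  [4, -2, 2, 0, 0, 0, 0, 2, 0, -2, 2, 0, 0, 0, 0, 0, 2, 0, 0, 2, 0, 0, 2, 4]]

/-- Data. -/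
def T123 : List (List ℤ) := [[4, 0, 0, 0, -2, 0, 2, 0, 2, 0, 2, -2, 0, 2, 0, 0, 0, 0, 0, 2, 2, 0, 0, 4],
  [0, 0, 0, 0, -2, 0, -2, 0, 2, 0, 2, 2, -4, -2, 0, 0, 0, 0, 0, -2, 2, 0, 4, 0],
  [2, 2, -2, -2, 0, 2, 0, -2, 0, -2, 0, 0, -2, 0, -2, -2, 2, 2, 2, 0, 0, -2, -2, -2],
  [0, 0, 0, 0, -2, 0, -2, 0, 2, 0, -2, -2, 0, 2, 4, 0, 0, 4, 0, -2, -2, 0, 0, 0],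
  [2, -2, -2, 2, 0, 2, 0, -2, 0, -2, 0, 0, -2, 0, 2, 2, -2, -2, -2, 0, 0, 2, -2, -2],
  [0, 0, 0, 0, 2, 0, 2, -4, 2, 4, -2, -2, 0, -2, 0, 0, 0, 0, 0, -2, 2, 0, 0, 0],
  [0, 0, 0, 0, -2, 0, -2, -4, -2, 4, 2, 2, 0, 2, 0, 0, 0, 0, 0, 2, -2, 0, 0, 0],
  [-2, -2, 2, 2, 0, -2, 0, -2, 0, -2, 0, 0, -2, 0, 2, -2, 2, -2, 2, 0, 0, -2, -2, 2],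
  [0, 4, 0, 4, 2, 0, 2, 0, 2, 0, 2, 2, 0, 2, 0, 0, 0, 0, 0, -2, -2, 0, 0, 0],
  [0, 0, 0, 0, -2, 0, 2, 0, -2, 0, -2, 2, 0, 2, 0, -4, 0, 0, 0, -2, 2, 4, 0, 0],
  [-2, -2, -2, 2, 0, 2, 0, 2, 0, 2, 0, 0, -2, 0, -2, -2, -2, 2, -2, 0, 0, -2, -2, 2],
  [-2, 2, -2, -2, 0, 2, 0, 2, 0, 2, 0, 0, -2, 0, 2, 2, 2, -2, 2, 0, 0, 2, -2, 2],
  [0, 0, 0, 0, 2, 0, -2, 0, -2, 0, 2, -2, 0, 2, 0, 0, 4, 0, -4, -2, 2, 0, 0, 0],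
  [-2, 2, -2, -2, 0, 2, 0, -2, 0, -2, 0, 0, 2, 0, 2, -2, -2, -2, -2, 0, 0, -2, 2, 2],
  [0, 4, 0, 4, -2, 0, -2, 0, -2, 0, -2, -2, 0, -2, 0, 0, 0, 0, 0, 2, 2, 0, 0, 0],
  [0, 0, 0, 0, -2, 0, -2, 0, 2, 0, -2, -2, 0, 2, -4, 0, 0, -4, 0, -2, -2, 0, 0, 0],
  [2, 2, 2, -2, 0, -2, 0, 2, 0, 2, 0, 0, -2, 0, 2, -2, -2, -2, -2, 0, 0, -2, -2, -2],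
  [2, -2, -2, 2, 0, 2, 0, 2, 0, 2, 0, 0, 2, 0, 2, -2, 2, -2, 2, 0, 0, -2, 2, -2],
  [0, 0, 4, 0, -2, 4, 2, 0, -2, 0, 2, -2, 0, -2, 0, 0, 0, 0, 0, -2, -2, 0, 0, 0],
  [0, 0, 0, 0, -2, 0, 2, 0, -2, 0, -2, 2, 0, 2, 0, 4, 0, 0, 0, -2, 2, -4, 0, 0],
  [0, 0, -4, 0, -2, -4, 2, 0, -2, 0, 2, -2, 0, -2, 0, 0, 0, 0, 0, -2, -2, 0, 0, 0],
  [0, 0, 0, 0, -2, 0, 2, 0, 2, 0, -2, 2, 0, -2, 0, 0, 4, 0, -4, 2, -2, 0, 0, 0],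
  [0, 0, 0, 0, -2, 0, -2, 0, 2, 0, 2, 2, 4, -2, 0, 0, 0, 0, 0, -2, 2, 0, -4, 0],
  [4, 0, 0, 0, 2, 0, -2, 0, -2, 0, -2, 2, 0, -2, 0, 0, 0, 0, 0, -2, -2, 0, 0, 4]]

/-- Data. -/
def T124 : List (List ℤ) := [[6, -2, 0, 0, 0, 2, 0, 0, 0, 2, 0, 2, 0, 2, 0, 0, 0, 0, 0, 0, 0, 2, 0, 2],
  [0, 0, -2, 2, 2, 0, 2, -2, 2, 0, 2, 0, 2, 0, -2, -2, 2, 2, -2, 2, 2, 0, -2, 0],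
  [0, 0, 2, -2, 2, 0, -2, 2, 2, 0, 2, 0, -2, 0, -2, 2, 2, 2, -2, -2, 2, 0, 2, 0],
  [0, 0, 2, 2, 2, 0, 2, 2, -2, 0, -2, 0, -2, 0, -2, -2, 2, -2, 2, 2, 2, 0, 2, 0],
  [0, 0, 2, 2, 2, 0, -2, -2, -2, 0, 2, 0, -2, 0, 2, 2, -2, 2, 2, 2, 2, 0, -2, 0],
  [2, 2, 0, 0, 0, -2, 0, 0, 0, 6, 0, -2, 0, -2, 0, 0, 0, 0, 0, 0, 0, -2, 0, -2],
  [0, 0, 2, 2, -2, 0, 2, -2, 2, 0, 2, 0, 2, 0, -2, 2, -2, -2, 2, -2, 2, 0, 2, 0],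
  [0, 0, 2, -2, 2, 0, -2, -2, 2, 0, 2, 0, 2, 0, 2, -2, 2, -2, 2, 2, -2, 0, 2, 0],
  [0, 0, 2, 2, -2, 0, -2, 2, 2, 0, -2, 0, 2, 0, 2, -2, 2, 2, 2, -2, 2, 0, -2, 0],
  [0, 0, 2, -2, 2, 0, 2, 2, 2, 0, -2, 0, 2, 0, -2, 2, -2, 2, 2, 2, -2, 0, -2, 0],
  [0, 0, 2, -2, -2, 0, 2, 2, -2, 0, 2, 0, 2, 0, 2, 2, 2, -2, -2, 2, 2, 0, -2, 0],
  [-2, 6, 0, 0, 0, 2, 0, 0, 0, 2, 0, 2, 0, 2, 0, 0, 0, 0, 0, 0, 0, 2, 0, 2],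
  [2, 2, 0, 0, 0, -2, 0, 0, 0, -2, 0, -2, 0, -2, 0, 0, 0, 0, 0, 0, 0, 6, 0, -2],
  [0, 0, 2, 2, 2, 0, 2, -2, -2, 0, -2, 0, 2, 0, 2, 2, 2, 2, -2, -2, -2, 0, 2, 0],
  [0, 0, 2, 2, -2, 0, 2, 2, 2, 0, 2, 0, -2, 0, 2, -2, -2, 2, -2, 2, -2, 0, 2, 0],
  [2, 2, 0, 0, 0, -2, 0, 0, 0, -2, 0, -2, 0, 6, 0, 0, 0, 0, 0, 0, 0, -2, 0, -2],
  [0, 0, -2, 2, 2, 0, 2, 2, 2, 0, 2, 0, -2, 0, 2, 2, 2, -2, 2, -2, -2, 0, -2, 0],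
  [2, 2, 0, 0, 0, 6, 0, 0, 0, -2, 0, -2, 0, -2, 0, 0, 0, 0, 0, 0, 0, -2, 0, -2],
  [0, 0, -2, -2, -2, 0, 2, -2, 2, 0, -2, 0, -2, 0, 2, 2, 2, 2, 2, 2, 2, 0, 2, 0],
  [0, 0, -2, 2, 2, 0, -2, 2, 2, 0, -2, 0, 2, 0, 2, 2, -2, -2, -2, 2, 2, 0, 2, 0],
  [2, 2, 0, 0, 0, -2, 0, 0, 0, -2, 0, 6, 0, -2, 0, 0, 0, 0, 0, 0, 0, -2, 0, -2],
  [0, 0, -2, -2, 2, 0, 2, 2, -2, 0, 2, 0, 2, 0, 2, -2, -2, 2, 2, -2, 2, 0, 2, 0],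
  [0, 0, -2, 2, -2, 0, -2, 2, -2, 0, 2, 0, 2, 0, -2, 2, 2, 2, 2, 2, -2, 0, 2, 0],
  [2, 2, 0, 0, 0, -2, 0, 0, 0, -2, 0, -2, 0, -2, 0, 0, 0, 0, 0, 0, 0, -2, 0, 6]]

/-- Data. -/
def T125 : List (List ℤ) := [[6, 0, 0, 0, 0, 2, 0, 0, 0, 0, 0, -2, 2, 0, 0, 2, 0, 2, 0, 0, 2, 0, 0, 2],
  [-2, 0, 0, 0, 0, 2, 0, 0, 0, 0, 0, 6, 2, 0, 0, 2, 0, 2, 0, 0, 2, 0, 0, 2],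
  [0, -2, 2, 2, 2, 0, 2, 2, 2, 2, 2, 0, 0, 2, 2, 0, -2, 0, -2, -2, 0, -2, -2, 0],
  [0, 2, -2, 2, 2, 0, 2, -2, 2, -2, -2, 0, 0, 2, 2, 0, 2, 0, -2, 2, 0, -2, 2, 0],
  [0, 2, 2, 2, 2, 0, -2, 2, -2, 2, -2, 0, 0, 2, -2, 0, 2, 0, -2, 2, 0, 2, -2, 0],
  [2, 0, 0, 0, 0, -2, 0, 0, 0, 0, 0, 2, -2, 0, 0, -2, 0, 6, 0, 0, -2, 0, 0, -2],
  [0, 2, -2, 2, -2, 0, 2, -2, -2, 2, 2, 0, 0, 2, 2, 0, 2, 0, 2, -2, 0, 2, -2, 0],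
  [0, -2, 2, 2, -2, 0, -2, -2, 2, 2, 2, 0, 0, -2, 2, 0, 2, 0, -2, 2, 0, 2, 2, 0],
  [0, 2, 2, -2, -2, 0, 2, 2, 2, 2, -2, 0, 0, -2, 2, 0, 2, 0, 2, 2, 0, -2, -2, 0],
  [2, 0, 0, 0, 0, 6, 0, 0, 0, 0, 0, 2, -2, 0, 0, -2, 0, -2, 0, 0, -2, 0, 0, -2],
  [0, 2, 2, -2, 2, 0, 2, 2, -2, -2, 2, 0, 0, -2, 2, 0, 2, 0, -2, -2, 0, 2, 2, 0],
  [2, 0, 0, 0, 0, -2, 0, 0, 0, 0, 0, 2, -2, 0, 0, -2, 0, -2, 0, 0, 6, 0, 0, -2],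
  [0, 2, -2, -2, -2, 0, 2, 2, 2, 2, 2, 0, 0, 2, -2, 0, -2, 0, -2, 2, 0, 2, 2, 0],
  [2, 0, 0, 0, 0, -2, 0, 0, 0, 0, 0, 2, -2, 0, 0, 6, 0, -2, 0, 0, -2, 0, 0, -2],
  [0, -2, -2, -2, 2, 0, -2, 2, 2, -2, 2, 0, 0, 2, 2, 0, 2, 0, 2, 2, 0, 2, -2, 0],
  [0, -2, 2, -2, 2, 0, 2, -2, -2, 2, 2, 0, 0, 2, -2, 0, 2, 0, 2, 2, 0, -2, 2, 0],
  [0, 2, 2, 2, -2, 0, -2, 2, 2, -2, 2, 0, 0, 2, -2, 0, 2, 0, 2, -2, 0, -2, 2, 0],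
  [0, 2, 2, -2, 2, 0, -2, -2, 2, 2, -2, 0, 0, 2, 2, 0, -2, 0, 2, -2, 0, 2, 2, 0],
  [0, -2, -2, 2, 2, 0, 2, 2, 2, 2, -2, 0, 0, -2, -2, 0, 2, 0, 2, -2, 0, 2, 2, 0],
  [0, 2, -2, 2, 2, 0, -2, 2, -2, 2, 2, 0, 0, -2, 2, 0, -2, 0, 2, 2, 0, -2, 2, 0],
  [0, 2, 2, 2, 2, 0, 2, -2, 2, -2, 2, 0, 0, -2, -2, 0, -2, 0, 2, 2, 0, 2, -2, 0],
  [2, 0, 0, 0, 0, -2, 0, 0, 0, 0, 0, 2, 6, 0, 0, -2, 0, -2, 0, 0, -2, 0, 0, -2],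
  [0, -2, 2, 2, -2, 0, 2, 2, -2, -2, -2, 0, 0, 2, 2, 0, -2, 0, 2, 2, 0, 2, 2, 0],
  [2, 0, 0, 0, 0, -2, 0, 0, 0, 0, 0, 2, -2, 0, 0, -2, 0, -2, 0, 0, -2, 0, 0, 6]]

/-- Data. -/
def T126 : List (List ℤ) := [[5, 1, 1, -1, 1, 1, 1, 1, -1, 3, -1, 1, 1, 1, 1, 1, -1, 1, 1, -1, -1, 1, 1, 3],
  [1, 1, 1, 3, 1, 1, 1, 1, -1, -1, -1, 1, 1, -3, 1, 1, -1, -3, 1, -1, 3, 1, -3, -1],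
  [1, 1, 1, -1, 1, 1, -3, 1, -1, -1, 3, 1, 1, 1, 1, 1, 3, 1, 1, -1, -1, -3, -3, -1],
  [-1, -1, -1, 1, 3, -1, -1, -1, 1, 1, 1, 3, -1, -1, -1, 3, 1, -1, 3, 1, 1, -1, 3, 1],
  [1, 1, 1, -1, 1, 1, 1, 1, -1, -1, -1, 1, -3, 1, 1, 1, -1, 1, -3, 3, 3, -3, 1, -1],
  [1, -3, 1, -1, 1, 1, 1, 1, 3, -1, -1, 1, 1, 1, -3, 1, -1, 1, 1, 3, -1, 1, -3, -1],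
  [1, 1, 1, -1, -3, -3, 1, 1, -1, -1, -1, 1, 1, 1, -3, 1, 3, 1, 1, -1, 3, 1, 1, -1],
  [-1, -1, -1, 1, -1, -1, -1, 3, 1, 1, 1, -1, -1, -1, 3, 3, 1, 3, -1, 1, 1, 3, -1, 1],
  [1, 1, 1, -1, 1, 1, 1, 1, 3, -1, -1, 1, -3, -3, 1, -3, 3, 1, 1, -1, -1, 1, 1, -1],
  [1, 1, 1, -1, 1, 1, -3, -3, 3, -1, -1, -3, 1, 1, 1, 1, -1, 1, 1, -1, 3, 1, 1, -1],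
  [1, 1, 1, -1, 1, -3, 1, 1, 3, -1, 3, 1, 1, 1, 1, 1, -1, -3, -3, -1, -1, 1, 1, -1],
  [-1, 3, -1, 1, 3, -1, 3, -1, 1, 1, 1, -1, 3, -1, -1, -1, 1, 3, -1, 1, 1, -1, -1, 1],
  [1, -3, -3, -1, 1, 1, 1, 1, -1, -1, 3, 1, 1, 1, 1, -3, -1, 1, 1, -1, 3, 1, 1, -1],
  [1, 1, 1, 3, 1, 1, 1, 1, -1, -1, 3, -3, -3, 1, -3, 1, -1, 1, 1, -1, -1, 1, 1, -1],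
  [-1, -1, 3, 1, -1, 3, -1, 3, 1, 1, 1, -1, 3, -1, -1, -1, 1, -1, -1, 1, 1, -1, 3, 1],
  [1, -3, 1, 3, 1, 1, 1, -3, -1, -1, -1, 1, 1, 1, 1, 1, 3, 1, -3, -1, -1, 1, 1, -1],
  [-1, -1, 3, 1, -1, -1, 3, -1, 1, 1, 1, -1, -1, 3, 3, -1, 1, -1, 3, 1, 1, -1, -1, 1],
  [3, -1, -1, 1, -1, -1, -1, -1, 1, 5, 1, -1, -1, -1, -1, -1, 1, -1, -1, 1, 1, -1, -1, -3],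
  [1, 1, -3, 3, -3, 1, 1, 1, 3, -1, -1, 1, 1, 1, 1, 1, -1, 1, 1, -1, -1, -3, 1, -1],
  [1, 1, 1, 3, 1, -3, -3, 1, -1, -1, -1, 1, 1, 1, 1, -3, -1, 1, 1, 3, -1, 1, 1, -1],
  [-1, 3, -1, 1, -1, 3, -1, -1, 1, 1, 1, 3, -1, 3, -1, -1, 1, -1, -1, 1, 1, 3, -1, 1],
  [1, 1, 1, -1, -3, 1, 1, -3, -1, -1, 3, 1, 1, -3, 1, 1, -1, 1, 1, 3, -1, 1, 1, -1],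
  [1, 1, -3, -1, 1, 1, 1, 1, -1, -1, -1, -3, 1, 1, 1, 1, 3, -3, 1, 3, -1, 1, 1, -1],
  [3, -1, -1, 1, -1, -1, -1, -1, 1, -3, 1, -1, -1, -1, -1, -1, 1, -1, -1, 1, 1, -1, -1, 5]]

/-- Data. -/
def T127 : List (List ℤ) := [[5, -1, 1, 1, 1, 1, 1, -1, -1, 1, 1, -1, 1, -1, 1, 1, -1, 1, 1, 3, 1, 1, 1, 3],
  [1, 3, 1, 1, 1, 1, 1, -1, 3, -3, 1, -1, 1, -1, -3, 1, -1, 1, 1, -1, 1, 1, -3, -1],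
  [-1, 1, 3, -1, 3, -1, -1, 1, 1, -1, -1, 1, 3, 1, 3, 3, 1, -1, -1, 1, -1, -1, -1, 1],
  [-1, 1, -1, -1, 3, 3, -1, 1, 1, -1, -1, 1, -1, 1, -1, -1, 1, 3, -1, 1, -1, 3, 3, 1],
  [1, -1, 1, 1, 1, 1, -3, -1, -1, 1, 1, 3, -3, 3, 1, 1, -1, 1, 1, -1, 1, 1, -3, -1],
  [-1, 1, -1, 3, -1, 3, 3, 1, 1, 3, -1, 1, -1, 1, -1, 3, 1, -1, -1, 1, -1, -1, -1, 1],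
  [1, -1, 1, 1, -3, 1, 1, 3, -1, -3, -3, -1, 1, 3, 1, 1, -1, 1, 1, -1, 1, 1, 1, -1],
  [1, 3, 1, 1, 1, -3, 1, -1, -1, 1, -3, -1, -3, -1, 1, 1, 3, 1, 1, -1, 1, 1, 1, -1],
  [1, -1, 1, 1, 1, 1, 1, -1, 3, 1, -3, 3, 1, -1, 1, -3, -1, 1, 1, -1, 1, -3, 1, -1],
  [-1, 1, -1, -1, -1, -1, 3, 1, 1, -1, 3, 1, -1, 1, 3, -1, 1, 3, -1, 1, 3, -1, -1, 1],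
  [1, -1, 1, 1, 1, -3, 1, 3, -1, 1, 1, 3, 1, -1, -3, 1, -1, 1, -3, -1, 1, 1, 1, -1],
  [-1, 1, 3, 3, -1, -1, -1, 1, 1, -1, 3, 1, -1, 1, -1, -1, 1, -1, 3, 1, -1, -1, 3, 1],
  [1, 3, 1, -3, -3, 1, 1, -1, -1, 1, 1, 3, 1, -1, 1, 1, -1, 1, 1, -1, -3, 1, 1, -1],
  [1, 3, 1, 1, 1, 1, 1, -1, -1, 1, 1, -1, 1, 3, 1, -3, -1, -3, -3, -1, 1, 1, 1, -1],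
  [1, 3, -3, 1, 1, 1, -3, 3, -1, 1, 1, -1, 1, -1, 1, 1, -1, 1, 1, -1, 1, -3, 1, -1],
  [1, -1, 1, -3, 1, 1, 1, -1, -1, 1, 1, -1, 1, 3, -3, 1, 3, 1, 1, -1, 1, -3, 1, -1],
  [1, -1, 1, 1, -3, 1, -3, -1, 3, 1, 1, -1, 1, -1, 1, 1, 3, 1, -3, -1, 1, 1, 1, -1],
  [1, -1, 1, -3, 1, 1, 1, 3, 3, 1, 1, -1, -3, -1, 1, 1, -1, -3, 1, -1, 1, 1, 1, -1],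
  [-1, 1, -1, -1, -1, -1, -1, 1, 1, 3, -1, 1, 3, 1, -1, -1, 1, -1, 3, 1, 3, 3, -1, 1],
  [1, -1, 1, 1, 1, 1, 1, 3, -1, 1, 1, -1, 1, -1, 1, -3, 3, 1, 1, -1, -3, 1, -3, -1],
  [3, 1, -1, -1, -1, -1, -1, 1, 1, -1, -1, 1, -1, 1, -1, -1, 1, -1, -1, 5, -1, -1, -1, -3],
  [1, -1, -3, 1, 1, -3, 1, -1, 3, 1, 1, -1, 1, 3, 1, 1, -1, 1, 1, -1, -3, 1, 1, -1],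
  [1, -1, -3, 1, 1, 1, 1, -1, -1, -3, 1, 3, 1, -1, 1, 1, 3, -3, 1, -1, 1, 1, 1, -1],
  [3, 1, -1, -1, -1, -1, -1, 1, 1, -1, -1, 1, -1, 1, -1, -1, 1, -1, -1, -3, -1, -1, -1, 5]]

/-- Data. -/
def T128 : List (List ℤ) := [[5, 1, -1, -1, 1, -1, 1, 1, 1, -1, 1, -1, 1, 1, 1, 1, 1, 1, -1, 1, 3, 1, 1, 3],
  [-1, 3, 1, 1, -1, 1, -1, 3, -1, 1, -1, 1, 3, 3, 3, -1, -1, -1, 1, -1, 1, -1, -1, 1],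
  [1, 1, 3, -1, 1, -1, 1, 1, 1, -1, 1, 3, 1, 1, -3, 1, 1, 1, -1, 1, -1, -3, -3, -1],
  [1, 1, -1, -1, 1, 3, 1, 1, 1, -1, 1, 3, -3, 1, 1, -3, 1, -3, -1, 1, -1, 1, 1, -1],
  [1, 1, 3, 3, 1, -1, -3, 1, 1, -1, 1, -1, -3, 1, 1, 1, -3, 1, -1, 1, -1, 1, 1, -1],
  [1, 1, -1, 3, 1, 3, 1, -3, 1, -1, -3, -1, 1, 1, 1, 1, 1, 1, -1, 1, -1, -3, 1, -1],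
  [1, 1, -1, -1, -3, 3, 1, 1, 1, 3, 1, -1, 1, 1, -3, 1, -3, 1, -1, 1, -1, 1, 1, -1],
  [-1, -1, 1, 1, -1, 1, 3, -1, -1, 1, 3, 1, -1, -1, 3, -1, -1, 3, 1, 3, 1, -1, -1, 1],
  [-1, 3, 1, 1, -1, 1, -1, -1, 3, 1, -1, 1, -1, -1, -1, -1, 3, 3, 1, -1, 1, 3, -1, 1],
  [1, -3, -1, -1, 1, 3, -3, 1, 1, -1, 1, -1, 1, 1, 1, 1, 1, 1, 3, 1, -1, 1, -3, -1],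
  [1, 1, -1, -1, 1, -1, -3, -3, -3, 3, 1, 3, 1, 1, 1, 1, 1, 1, -1, 1, -1, 1, 1, -1],
  [-1, -1, 1, 1, 3, 1, -1, -1, 3, 1, 3, 1, 3, -1, -1, -1, -1, -1, 1, -1, 1, -1, 3, 1],
  [1, 1, 3, -1, -3, -1, 1, -3, 1, -1, 1, -1, 1, 1, 1, 1, 1, -3, 3, 1, -1, 1, 1, -1],
  [-1, -1, 1, 1, 3, 1, 3, -1, -1, 1, -1, 1, -1, 3, -1, 3, -1, -1, 1, -1, 1, 3, -1, 1],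
  [1, -3, 3, -1, 1, -1, 1, 1, 1, 3, -3, -1, 1, 1, 1, -3, 1, 1, -1, 1, -1, 1, 1, -1],
  [1, 1, 3, -1, 1, 3, 1, 1, -3, -1, 1, -1, 1, -3, 1, 1, 1, 1, -1, -3, -1, 1, 1, -1],
  [-1, -1, 1, 1, -1, 1, -1, 3, -1, 1, -1, 1, -1, -1, -1, 3, 3, -1, 1, 3, 1, -1, 3, 1],
  [1, 1, -1, 3, 1, -1, 1, 1, 1, 3, 1, -1, 1, -3, 1, 1, 1, -3, -1, 1, -1, 1, -3, -1],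
  [1, 1, -1, -1, 1, -1, 1, 1, 1, -1, -3, 3, 1, -3, 1, 1, -3, 1, 3, 1, -1, 1, 1, -1],
  [3, -1, 1, 1, -1, 1, -1, -1, -1, 1, -1, 1, -1, -1, -1, -1, -1, -1, 1, -1, 5, -1, -1, -3],
  [1, 1, -1, -1, 1, -1, 1, 1, 1, 3, 1, -1, -3, 1, 1, 1, 1, 1, 3, -3, -1, -3, 1, -1],
  [1, 1, -1, 3, 1, -1, 1, 1, -3, -1, 1, -1, 1, 1, -3, -3, 1, 1, 3, 1, -1, 1, 1, -1],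
  [1, -3, -1, 3, -3, -1, 1, 1, 1, -1, 1, 3, 1, 1, 1, 1, 1, 1, -1, -3, -1, 1, 1, -1],
  [3, -1, 1, 1, -1, 1, -1, -1, -1, 1, -1, 1, -1, -1, -1, -1, -1, -1, 1, -1, -3, -1, -1, 5]]

/-- Data. -/
def T129 : List (List ℤ) := [[5, -1, -1, -1, 1, 1, 1, 3, -1, 1, 1, 1, 1, 1, 1, 1, 1, 1, 1, 1, -1, 1, -1, 3],
  [1, -1, 3, -1, 1, 1, 1, -1, 3, 1, -3, 1, 1, 1, -3, 1, -3, 1, 1, 1, -1, 1, -1, -1],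
  [1, 3, 3, -1, 1, 1, -3, -1, -1, 1, 1, 1, 1, 1, 1, 1, 1, 1, 1, -3, -1, -3, -1, -1],
  [1, -1, -1, 3, 1, 1, 1, -1, 3, 1, 1, 1, -3, 1, 1, 1, 1, -3, 1, -3, -1, 1, -1, -1],
  [-1, 1, 1, 1, 3, -1, -1, 1, 1, 3, 3, -1, -1, 3, -1, -1, -1, -1, -1, 3, 1, -1, 1, 1],
  [-1, 1, 1, 1, -1, 3, 3, 1, 1, -1, -1, -1, -1, 3, -1, -1, 3, 3, -1, -1, 1, -1, 1, 1],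
  [1, 3, -1, -1, 1, 1, 1, -1, -1, 1, -3, -3, 1, 1, 1, 1, 1, -3, 1, 1, -1, 1, 3, -1],
  [1, -1, -1, -1, 1, 1, -3, -1, 3, -3, 1, -3, 1, 1, 1, 1, 1, 1, 1, 1, 3, 1, -1, -1],
  [-1, 1, 1, 1, -1, 3, -1, 1, 1, -1, -1, 3, -1, -1, 3, -1, -1, -1, 3, 3, 1, -1, 1, 1],
  [3, 1, 1, 1, -1, -1, -1, 5, 1, -1, -1, -1, -1, -1, -1, -1, -1, -1, -1, -1, 1, -1, 1, -3],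
  [1, -1, 3, -1, 1, -3, 1, -1, -1, -3, 1, 1, -3, 1, 1, 1, 1, 1, 1, 1, -1, 1, 3, -1],
  [-1, 1, 1, 1, 3, -1, -1, 1, 1, -1, -1, 3, 3, -1, -1, -1, 3, -1, -1, -1, 1, 3, 1, 1],
  [-1, 1, 1, 1, -1, -1, 3, 1, 1, -1, 3, -1, 3, -1, -1, 3, -1, -1, 3, -1, 1, -1, 1, 1],
  [1, 3, -1, 3, 1, 1, 1, -1, -1, -3, 1, 1, 1, 1, 1, 1, -3, 1, -3, 1, -1, 1, -1, -1],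
  [1, 3, -1, -1, 1, 1, 1, -1, -1, 1, 1, 1, -3, -3, -3, 1, 1, 1, 1, 1, 3, 1, -1, -1],
  [1, -1, 3, -1, -3, 1, 1, -1, -1, 1, 1, 1, 1, 1, 1, 1, 1, -3, -3, 1, 3, 1, -1, -1],
  [1, -1, -1, -1, 1, 1, 1, -1, 3, 1, 1, 1, 1, -3, 1, 1, 1, 1, -3, 1, -1, -3, 3, -1],
  [1, -1, -1, 3, 1, -3, 1, -1, -1, 1, -3, 1, 1, 1, 1, 1, 1, 1, 1, 1, 3, -3, -1, -1],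
  [1, 3, -1, -1, -3, -3, 1, -1, 3, 1, 1, 1, 1, 1, 1, -3, 1, 1, 1, 1, -1, 1, -1, -1],
  [-1, 1, 1, 1, -1, -1, -1, 1, 1, 3, -1, -1, -1, -1, 3, 3, -1, 3, -1, -1, 1, 3, 1, 1],
  [1, -1, 3, 3, 1, 1, 1, -1, -1, 1, 1, -3, 1, -3, 1, -3, 1, 1, 1, 1, -1, 1, -1, -1],
  [1, -1, -1, -1, 1, 1, 1, -1, -1, 1, 1, 1, 1, 1, 1, -3, -3, 1, 1, -3, 3, 1, 3, -1],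
  [1, -1, -1, 3, -3, 1, -3, -1, -1, 1, 1, 1, 1, 1, -3, 1, 1, 1, 1, 1, -1, 1, 3, -1],
  [3, 1, 1, 1, -1, -1, -1, -3, 1, -1, -1, -1, -1, -1, -1, -1, -1, -1, -1, -1, 1, -1, 1, 5]]

/-- Data. -/
def T130 : List (List ℤ) := [[4, 2, 0, 2, 0, 0, 2, 0, 0, 2, 2, 0, 2, 0, 0, 2, 2, 0, 0, 0, 0, 0, 0, 4],
  [0, -2, 0, 2, 0, 0, -2, 0, 0, 2, 2, 4, 2, 0, 4, -2, -2, 0, 0, 0, 0, 0, 0, 0],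
  [0, -2, 0, 2, 4, 0, -2, 0, 0, -2, 2, 0, -2, 0, 0, 2, 2, 4, 0, 0, 0, 0, 0, 0],
  [0, 2, 0, -2, 4, 0, 2, 0, 0, 2, -2, 0, 2, 0, 0, -2, -2, 4, 0, 0, 0, 0, 0, 0],
  [0, 2, 4, -2, 0, 0, -2, 0, 0, 2, 2, 0, -2, 0, 0, 2, -2, 0, 0, 0, 4, 0, 0, 0],
  [0, 2, 0, 2, 0, 0, 2, 0, 4, -2, 2, 0, -2, 4, 0, -2, -2, 0, 0, 0, 0, 0, 0, 0],
  [0, 2, 0, 2, 0, 0, -2, 0, 0, -2, -2, 0, 2, 0, 0, 2, -2, 0, 0, 0, 0, 4, 4, 0],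
  [2, 0, 2, 0, 2, 2, 0, -2, 2, 0, 0, -2, 0, -2, 2, 0, 0, -2, 2, -2, -2, -2, 2, -2],
  [0, 2, 0, 2, 0, 0, -2, 4, 0, 2, -2, 0, -2, 0, 0, -2, 2, 0, 4, 0, 0, 0, 0, 0],
  [0, -2, 4, 2, 0, 0, 2, 0, 0, -2, -2, 0, 2, 0, 0, -2, 2, 0, 0, 0, 4, 0, 0, 0],
  [2, 0, 2, 0, -2, -2, 0, 2, -2, 0, 0, -2, 0, 2, 2, 0, 0, 2, -2, 2, -2, -2, 2, -2],
  [2, 0, -2, 0, 2, -2, 0, 2, 2, 0, 0, -2, 0, -2, 2, 0, 0, -2, -2, 2, 2, 2, -2, -2],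
  [0, -2, 0, -2, 0, 0, 2, 0, 0, 2, 2, 0, -2, 0, 0, -2, 2, 0, 0, 0, 0, 4, 4, 0],
  [2, 0, 2, 0, 2, -2, 0, -2, -2, 0, 0, 2, 0, 2, -2, 0, 0, -2, 2, 2, -2, 2, -2, -2],
  [0, -2, 0, -2, 0, 0, -2, 0, 4, 2, -2, 0, 2, 4, 0, 2, 2, 0, 0, 0, 0, 0, 0, 0],
  [2, 0, -2, 0, 2, 2, 0, 2, -2, 0, 0, 2, 0, 2, -2, 0, 0, -2, -2, -2, 2, -2, 2, -2],
  [0, -2, 0, 2, 0, 4, 2, 0, 0, 2, -2, 0, -2, 0, 0, 2, -2, 0, 0, 4, 0, 0, 0, 0],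
  [0, 2, 0, -2, 0, 0, 2, 0, 0, -2, -2, 4, -2, 0, 4, 2, 2, 0, 0, 0, 0, 0, 0, 0],
  [2, 0, -2, 0, -2, -2, 0, -2, 2, 0, 0, 2, 0, -2, -2, 0, 0, 2, 2, 2, 2, -2, 2, -2],
  [2, 0, 2, 0, -2, 2, 0, 2, 2, 0, 0, 2, 0, -2, -2, 0, 0, 2, -2, -2, -2, 2, -2, -2],
  [0, 2, 0, -2, 0, 4, -2, 0, 0, -2, 2, 0, 2, 0, 0, -2, 2, 0, 0, 4, 0, 0, 0, 0],
  [0, -2, 0, -2, 0, 0, 2, 4, 0, -2, 2, 0, 2, 0, 0, 2, -2, 0, 4, 0, 0, 0, 0, 0],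
  [2, 0, -2, 0, -2, 2, 0, -2, -2, 0, 0, -2, 0, 2, 2, 0, 0, 2, 2, -2, 2, 2, -2, -2],
  [4, -2, 0, -2, 0, 0, -2, 0, 0, -2, -2, 0, -2, 0, 0, -2, -2, 0, 0, 0, 0, 0, 0, 4]]

/-- Data. -/
def T131 : List (List ℤ) := [[4, 0, 0, 0, 0, 0, 0, 2, 0, 0, 2, 2, 0, 2, 0, 2, 0, 0, 2, 2, 0, 0, 2, 4],
  [2, -2, -2, 2, 2, 2, 2, 0, 2, -2, 0, 0, -2, 0, -2, 0, -2, 2, 0, 0, 2, -2, 0, -2],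
  [0, 0, 0, 0, 4, 0, 0, 2, 0, 4, 2, -2, 0, 2, 0, -2, 0, 0, -2, 2, 0, 0, -2, 0],
  [2, 2, 2, -2, -2, 2, 2, 0, 2, 2, 0, 0, -2, 0, -2, 0, 2, -2, 0, 0, -2, -2, 0, -2],
  [0, 0, 4, 4, 0, 0, 0, 2, 0, 0, -2, 2, 0, 2, 0, 2, 0, 0, -2, -2, 0, 0, -2, 0],
  [0, 0, 0, 0, 0, 0, 0, 2, 0, 0, -2, -2, 0, -2, 0, 2, 4, 0, -2, 2, 4, 0, 2, 0],
  [2, -2, -2, 2, -2, 2, -2, 0, -2, 2, 0, 0, 2, 0, -2, 0, 2, 2, 0, 0, -2, 2, 0, -2],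
  [0, 0, 0, 0, 0, 0, 0, -2, 4, 0, 2, 2, 0, -2, 0, 2, 0, 0, -2, 2, 0, 4, -2, 0],
  [0, 0, 0, 0, 0, 4, 0, 2, 0, 0, -2, 2, 0, -2, 4, -2, 0, 0, 2, 2, 0, 0, -2, 0],
  [2, 2, -2, 2, 2, -2, -2, 0, 2, -2, 0, 0, 2, 0, 2, 0, 2, -2, 0, 0, -2, -2, 0, -2],
  [2, 2, 2, -2, 2, 2, -2, 0, -2, -2, 0, 0, 2, 0, -2, 0, -2, -2, 0, 0, 2, 2, 0, -2],
  [0, 4, 0, 0, 0, 0, 0, -2, 0, 0, -2, -2, 0, 2, 0, 2, 0, 4, 2, 2, 0, 0, -2, 0],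
  [2, 2, -2, 2, -2, -2, 2, 0, -2, 2, 0, 0, -2, 0, 2, 0, -2, -2, 0, 0, 2, 2, 0, -2],
  [0, 0, 0, 0, 0, 4, 0, -2, 0, 0, 2, -2, 0, 2, 4, 2, 0, 0, -2, -2, 0, 0, 2, 0],
  [0, 4, 0, 0, 0, 0, 0, 2, 0, 0, 2, 2, 0, -2, 0, -2, 0, 4, -2, -2, 0, 0, 2, 0],
  [2, -2, 2, -2, 2, -2, 2, 0, -2, -2, 0, 0, -2, 0, 2, 0, 2, 2, 0, 0, -2, 2, 0, -2],
  [2, -2, 2, -2, -2, -2, -2, 0, 2, 2, 0, 0, 2, 0, 2, 0, -2, 2, 0, 0, 2, -2, 0, -2],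
  [0, 0, 4, 4, 0, 0, 0, -2, 0, 0, 2, -2, 0, -2, 0, -2, 0, 0, 2, 2, 0, 0, 2, 0],
  [0, 0, 0, 0, 0, 0, 0, 2, 4, 0, -2, -2, 0, 2, 0, -2, 0, 0, 2, -2, 0, 4, 2, 0],
  [0, 0, 0, 0, 0, 0, 0, -2, 0, 0, 2, 2, 0, 2, 0, -2, 4, 0, 2, -2, 4, 0, -2, 0],
  [0, 0, 0, 0, 4, 0, 0, -2, 0, 4, -2, 2, 0, -2, 0, 2, 0, 0, 2, -2, 0, 0, 2, 0],
  [0, 0, 0, 0, 0, 0, 4, -2, 0, 0, -2, 2, 4, 2, 0, -2, 0, 0, -2, 2, 0, 0, 2, 0],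
  [0, 0, 0, 0, 0, 0, 4, 2, 0, 0, 2, -2, 4, -2, 0, 2, 0, 0, 2, -2, 0, 0, -2, 0],
  [4, 0, 0, 0, 0, 0, 0, -2, 0, 0, -2, -2, 0, -2, 0, -2, 0, 0, -2, -2, 0, 0, -2, 4]]

/-- Data. -/
def T132 : List (List ℤ) := [[5, -1, 1, 1, 1, 1, 1, 1, -1, 1, -1, 1, 1, 1, 1, -1, -1, 1, -1, 1, 1, 1, 3, 3],
  [1, -1, 1, -3, 1, -3, 1, 1, 3, 1, -1, -3, 1, 1, 1, -1, 3, 1, -1, 1, 1, 1, -1, -1],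
  [1, 3, 1, -3, 1, 1, 1, 1, -1, 1, -1, 1, -3, 1, 1, 3, -1, 1, -1, 1, 1, -3, -1, -1],
  [-1, 1, 3, -1, -1, -1, -1, -1, 1, -1, 1, 3, -1, -1, 3, 1, 1, -1, 1, -1, 3, 3, 1, 1],
  [1, -1, 1, 1, 1, 1, -3, 1, -1, -3, 3, 1, 1, 1, 1, -1, 3, 1, -1, 1, 1, -3, -1, -1],
  [1, 3, 1, 1, 1, -3, -3, 1, -1, 1, -1, 1, 1, 1, 1, -1, -1, 1, 3, 1, -3, 1, -1, -1],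
  [1, -1, -3, -3, 1, 1, 1, 1, -1, 1, 3, 1, 1, 1, 1, -1, -1, 1, 3, -3, 1, 1, -1, -1],
  [-1, 1, -1, 3, -1, -1, -1, -1, 1, 3, 1, -1, -1, 3, -1, 1, 1, 3, 1, -1, 3, -1, 1, 1],
  [1, -1, 1, 1, 1, 1, 1, -3, 3, 1, -1, 1, 1, -3, 1, -1, -1, 1, 3, 1, 1, -3, -1, -1],
  [-1, 1, -1, -1, 3, 3, -1, -1, 1, -1, 1, -1, -1, -1, -1, 1, 1, 3, 1, 3, -1, 3, 1, 1],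
  [1, -1, 1, 1, 1, 1, 1, -3, -1, 1, -1, 1, 1, 1, 1, 3, 3, 1, -1, -3, -3, 1, -1, -1],
  [-1, 1, 3, -1, -1, 3, -1, 3, 1, 3, 1, -1, 3, -1, -1, 1, 1, -1, 1, -1, -1, -1, 1, 1],
  [1, -1, 1, 1, -3, 1, 1, 1, -1, -3, -1, -3, 1, 1, 1, 3, -1, 1, 3, 1, 1, 1, -1, -1],
  [1, -1, 1, 1, 1, -3, 1, 1, -1, 1, 3, 1, 1, -3, -3, 3, -1, 1, -1, 1, 1, 1, -1, -1],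
  [1, -1, 1, 1, 1, 1, 1, 1, -1, 1, -1, 1, -3, 1, -3, -1, 3, -3, 3, 1, 1, 1, -1, -1],
  [1, 3, 1, 1, 1, 1, 1, -3, -1, 1, 3, -3, 1, 1, 1, -1, -1, -3, -1, 1, 1, 1, -1, -1],
  [1, 3, 1, 1, 1, 1, 1, 1, 3, -3, -1, 1, 1, 1, -3, -1, -1, 1, -1, -3, 1, 1, -1, -1],
  [1, -1, -3, 1, 1, 1, -3, 1, 3, 1, -1, 1, 1, 1, 1, 3, -1, -3, -1, 1, 1, 1, -1, -1],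
  [1, 3, -3, 1, -3, 1, 1, 1, -1, 1, -1, 1, 1, -3, 1, -1, 3, 1, -1, 1, 1, 1, -1, -1],
  [-1, 1, -1, 3, 3, -1, 3, 3, 1, -1, 1, -1, -1, -1, 3, 1, 1, -1, 1, -1, -1, -1, 1, 1],
  [1, -1, 1, 1, -3, 1, 1, 1, 3, 1, 3, 1, -3, 1, 1, -1, -1, 1, -1, 1, -3, 1, -1, -1],
  [3, 1, -1, -1, -1, -1, -1, -1, 1, -1, 1, -1, -1, -1, -1, 1, 1, -1, 1, -1, -1, -1, 5, -3],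
  [-1, 1, -1, -1, -1, -1, 3, -1, 1, -1, 1, 3, 3, 3, -1, 1, 1, -1, 1, 3, -1, -1, 1, 1],
  [3, 1, -1, -1, -1, -1, -1, -1, 1, -1, 1, -1, -1, -1, -1, 1, 1, -1, 1, -1, -1, -1, -3, 5]]

/-- Data. -/
def T133 : List (List ℤ) := [[5, 3, 1, -1, 1, 1, 1, 1, -1, -1, 1, -1, 1, 1, 1, -1, 1, -1, 1, 1, 1, 1, 1, 3],
  [-1, 1, -1, 1, 3, -1, -1, -1, 1, 1, 3, 1, -1, -1, 3, 1, -1, 1, 3, -1, -1, 3, -1, 1],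
  [1, -1, 1, 3, 1, 1, 1, 1, -1, -1, 1, -1, -3, 1, 1, 3, 1, -1, 1, 1, 1, -3, -3, -1],
  [1, -1, 1, -1, 1, 1, 1, 1, 3, -1, 1, -1, 1, 1, 1, -1, -3, 3, 1, 1, -3, -3, 1, -1],
  [-1, 1, 3, 1, 3, -1, -1, -1, 1, 1, -1, 1, -1, 3, -1, 1, 3, 1, -1, -1, -1, -1, 3, 1],
  [-1, 1, 3, 1, -1, -1, 3, 3, 1, 1, -1, 1, -1, -1, -1, 1, -1, 1, -1, 3, -1, 3, -1, 1],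
  [1, -1, 1, 3, -3, 1, 1, 1, -1, -1, 1, 3, 1, 1, 1, -1, 1, -1, 1, -3, -3, 1, 1, -1],
  [1, -1, 1, -1, 1, 1, 1, 1, 3, 3, 1, -1, 1, 1, -3, -1, 1, -1, 1, -3, 1, 1, -3, -1],
  [1, -1, 1, 3, 1, 1, -3, 1, 3, -1, -3, -1, 1, -3, 1, -1, 1, -1, 1, 1, 1, 1, 1, -1],
  [1, -1, 1, -1, -3, 1, -3, 1, -1, 3, 1, -1, -3, 1, 1, -1, 1, 3, 1, 1, 1, 1, 1, -1],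
  [1, -1, 1, -1, 1, 1, -3, 1, -1, -1, 1, 3, 1, 1, -3, 3, -3, -1, 1, 1, 1, 1, 1, -1],
  [-1, 1, -1, 1, -1, -1, -1, 3, 1, 1, -1, 1, 3, 3, 3, 1, -1, 1, -1, -1, 3, -1, -1, 1],
  [1, -1, 1, -1, -3, -3, 1, -3, 3, -1, 1, -1, 1, 1, 1, 3, 1, -1, 1, 1, 1, 1, 1, -1],
  [1, -1, 1, -1, 1, 1, 1, 1, -1, -1, 1, -1, 1, -3, 1, 3, 1, 3, -3, -3, 1, 1, 1, -1],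
  [1, -1, 1, -1, 1, -3, 1, 1, -1, 3, 1, 3, 1, -3, 1, -1, 1, -1, 1, 1, 1, -3, 1, -1],
  [1, -1, 1, 3, 1, 1, 1, -3, -1, 3, 1, -1, 1, 1, 1, -1, -3, -1, -3, 1, 1, 1, 1, -1],
  [-1, 1, -1, 1, -1, 3, -1, -1, 1, 1, 3, 1, 3, -1, -1, 1, 3, 1, -1, 3, -1, -1, -1, 1],
  [3, 5, -1, 1, -1, -1, -1, -1, 1, 1, -1, 1, -1, -1, -1, 1, -1, 1, -1, -1, -1, -1, -1, -3],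
  [-1, 1, -1, 1, -1, 3, 3, -1, 1, 1, -1, 1, -1, -1, -1, 1, -1, 1, 3, -1, 3, -1, 3, 1],
  [1, -1, -3, -1, 1, 1, 1, 1, 3, -1, 1, 3, -3, 1, 1, -1, 1, -1, -3, 1, 1, 1, 1, -1],
  [1, -1, 1, -1, 1, 1, 1, -3, -1, -1, -3, 3, 1, 1, 1, -1, 1, 3, 1, 1, 1, 1, -3, -1],
  [1, -1, -3, -1, 1, 1, 1, 1, -1, 3, -3, -1, 1, 1, 1, 3, 1, -1, 1, 1, -3, 1, 1, -1],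
  [1, -1, -3, 3, 1, -3, 1, 1, -1, -1, 1, -1, 1, 1, -3, -1, 1, 3, 1, 1, 1, 1, 1, -1],
  [3, -3, -1, 1, -1, -1, -1, -1, 1, 1, -1, 1, -1, -1, -1, 1, -1, 1, -1, -1, -1, -1, -1, 5]]

/-- Data. -/
def T134 : List (List ℤ) := [[6, 0, 0, 0, 0, -2, 2, 2, 0, 0, 0, 0, 0, 2, 0, 0, 2, 2, 0, 0, 0, 0, 0, 2],
  [2, 0, 0, 0, 0, 2, -2, -2, 0, 0, 0, 0, 0, -2, 0, 0, 6, -2, 0, 0, 0, 0, 0, -2],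
  [0, 2, 2, 2, 2, 0, 0, 0, -2, 2, 2, 2, -2, 0, 2, -2, 0, 0, -2, -2, 2, 2, -2, 0],
  [0, -2, -2, 2, 2, 0, 0, 0, -2, 2, -2, 2, 2, 0, 2, 2, 0, 0, 2, 2, 2, -2, -2, 0],
  [0, 2, 2, -2, 2, 0, 0, 0, 2, -2, 2, 2, 2, 0, -2, 2, 0, 0, -2, 2, 2, -2, -2, 0],
  [0, 2, -2, -2, 2, 0, 0, 0, 2, 2, 2, -2, -2, 0, 2, 2, 0, 0, 2, -2, 2, -2, 2, 0],
  [0, 2, 2, -2, -2, 0, 0, 0, -2, 2, -2, 2, 2, 0, -2, 2, 0, 0, 2, -2, 2, 2, 2, 0],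
  [2, 0, 0, 0, 0, 2, -2, -2, 0, 0, 0, 0, 0, -2, 0, 0, -2, 6, 0, 0, 0, 0, 0, -2],
  [0, 2, 2, 2, -2, 0, 0, 0, 2, -2, -2, 2, -2, 0, 2, -2, 0, 0, 2, 2, 2, -2, 2, 0],
  [0, 2, -2, 2, 2, 0, 0, 0, 2, 2, -2, 2, -2, 0, -2, 2, 0, 0, -2, 2, -2, 2, 2, 0],
  [0, 2, 2, 2, -2, 0, 0, 0, -2, 2, 2, -2, 2, 0, 2, 2, 0, 0, -2, 2, -2, -2, 2, 0],
  [0, -2, 2, 2, -2, 0, 0, 0, 2, 2, 2, -2, -2, 0, -2, 2, 0, 0, 2, 2, 2, 2, -2, 0],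
  [2, 0, 0, 0, 0, 2, 6, -2, 0, 0, 0, 0, 0, -2, 0, 0, -2, -2, 0, 0, 0, 0, 0, -2],
  [2, 0, 0, 0, 0, 2, -2, -2, 0, 0, 0, 0, 0, 6, 0, 0, -2, -2, 0, 0, 0, 0, 0, -2],
  [-2, 0, 0, 0, 0, 6, 2, 2, 0, 0, 0, 0, 0, 2, 0, 0, 2, 2, 0, 0, 0, 0, 0, 2],
  [0, -2, 2, -2, 2, 0, 0, 0, -2, -2, 2, 2, -2, 0, 2, 2, 0, 0, 2, 2, -2, 2, 2, 0],
  [0, 2, 2, 2, 2, 0, 0, 0, 2, -2, -2, -2, 2, 0, 2, 2, 0, 0, 2, -2, -2, 2, -2, 0],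
  [0, -2, 2, -2, 2, 0, 0, 0, 2, 2, -2, -2, 2, 0, 2, -2, 0, 0, -2, 2, 2, 2, 2, 0],
  [0, 2, -2, -2, -2, 0, 0, 0, 2, 2, 2, 2, 2, 0, 2, -2, 0, 0, 2, 2, -2, 2, -2, 0],
  [0, -2, 2, 2, 2, 0, 0, 0, 2, 2, 2, 2, 2, 0, -2, -2, 0, 0, 2, -2, -2, -2, 2, 0],
  [2, 0, 0, 0, 0, 2, -2, 6, 0, 0, 0, 0, 0, -2, 0, 0, -2, -2, 0, 0, 0, 0, 0, -2],
  [0, 2, -2, 2, 2, 0, 0, 0, -2, -2, 2, -2, 2, 0, -2, -2, 0, 0, 2, 2, 2, 2, 2, 0],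
  [0, -2, -2, 2, -2, 0, 0, 0, 2, -2, 2, 2, 2, 0, 2, 2, 0, 0, -2, -2, 2, 2, 2, 0],
  [2, 0, 0, 0, 0, 2, -2, -2, 0, 0, 0, 0, 0, -2, 0, 0, -2, -2, 0, 0, 0, 0, 0, 6]]

/-- Data. -/
def T135 : List (List ℤ) := [[5, 1, 1, -1, -1, 1, 1, 1, 1, 3, 1, 1, 1, 1, -1, 1, 1, -1, -1, -1, 1, 1, 1, 3],
  [1, 1, 1, 3, -1, 1, 1, 1, 1, -1, -3, -3, -3, 1, 3, 1, 1, -1, -1, -1, 1, 1, 1, -1],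
  [-1, 3, 3, 1, 1, -1, -1, -1, -1, 1, 3, -1, -1, -1, 1, 3, -1, 1, 1, 1, 3, -1, -1, 1],
  [-1, -1, 3, 1, 1, 3, -1, 3, -1, 1, -1, -1, 3, -1, 1, -1, -1, 1, 1, 1, -1, -1, 3, 1],
  [1, -3, 1, -1, 3, 1, -3, 1, 1, -1, 1, 1, -3, 1, -1, 1, 1, 3, -1, -1, 1, 1, 1, -1],
  [1, 1, 1, 3, -1, 1, 1, 1, 1, -1, 1, 1, 1, -3, -1, 1, 1, 3, -1, -1, -3, 1, -3, -1],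
  [-1, -1, -1, 1, 1, -1, 3, -1, -1, 1, 3, -1, -1, -1, 1, -1, 3, 1, 1, 1, -1, 3, 3, 1],
  [1, 1, 1, -1, 3, 1, 1, -3, 1, -1, -3, 1, 1, -3, -1, 1, 1, -1, -1, 3, 1, 1, 1, -1],
  [-1, -1, -1, 1, 1, -1, 3, 3, 3, 1, -1, 3, -1, -1, 1, -1, -1, 1, 1, 1, 3, -1, -1, 1],
  [1, 1, 1, -1, 3, 1, 1, 1, 1, -1, 1, -3, 1, 1, -1, -3, 1, -1, 3, -1, 1, 1, -3, -1],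
  [1, 1, -3, 3, 3, 1, 1, 1, -3, -1, 1, 1, 1, 1, -1, 1, 1, -1, -1, -1, 1, -3, 1, -1],
  [-1, -1, -1, 1, 1, -1, -1, -1, 3, 1, -1, -1, 3, 3, 1, 3, 3, 1, 1, 1, -1, -1, -1, 1],
  [1, -3, 1, 3, -1, 1, 1, -3, 1, -1, 1, 1, 1, 1, -1, 1, -3, -1, 3, -1, 1, 1, 1, -1],
  [1, 1, 1, -1, 3, -3, 1, 1, 1, -1, 1, 1, 1, 1, 3, 1, -3, -1, -1, -1, -3, 1, 1, -1],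
  [-1, 3, -1, 1, 1, 3, -1, -1, -1, 1, -1, 3, -1, 3, 1, -1, -1, 1, 1, 1, -1, 3, -1, 1],
  [1, -3, 1, -1, -1, 1, 1, 1, -3, -1, 1, 1, 1, 1, 3, 1, 1, -1, -1, 3, 1, 1, -3, -1],
  [1, 1, 1, 3, -1, -3, -3, 1, 1, -1, 1, 1, 1, 1, -1, -3, 1, -1, -1, 3, 1, 1, 1, -1],
  [1, 1, 1, -1, -1, 1, 1, -3, 1, -1, 1, 1, 1, 1, 3, -3, 1, 3, -1, -1, 1, -3, 1, -1],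
  [1, 1, -3, -1, -1, 1, -3, 1, 1, -1, 1, 1, 1, -3, 3, 1, 1, -1, 3, -1, 1, 1, 1, -1],
  [3, -1, -1, 1, 1, -1, -1, -1, -1, 5, -1, -1, -1, -1, 1, -1, -1, 1, 1, 1, -1, -1, -1, -3],
  [1, 1, 1, -1, -1, 1, 1, 1, 1, -1, 1, 1, -3, 1, -1, 1, 1, -1, 3, 3, -3, -3, 1, -1],
  [1, 1, 1, -1, -1, -3, 1, 1, -3, -1, -3, 1, 1, 1, -1, 1, 1, 3, 3, -1, 1, 1, 1, -1],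
  [1, 1, -3, -1, -1, 1, 1, 1, 1, -1, 1, -3, 1, 1, -1, 1, -3, 3, -1, 3, 1, 1, 1, -1],
  [3, -1, -1, 1, 1, -1, -1, -1, -1, -3, -1, -1, -1, -1, 1, -1, -1, 1, 1, 1, -1, -1, -1, 5]]

/-- Data. -/
def T136 : List (List ℤ) := [[5, 1, 1, 1, -1, 1, 1, 3, -1, -1, 1, 1, 1, 1, 1, 1, -1, -1, 1, 1, 1, 1, -1, 3],
  [1, 1, 1, 1, -1, 1, 1, -1, 3, -1, 1, 1, 1, -3, 1, 1, -1, -1, -3, 1, 1, -3, 3, -1],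
  [-1, -1, 3, 3, 1, -1, -1, 1, 1, 1, -1, 3, -1, 3, -1, 3, 1, 1, -1, -1, -1, -1, 1, 1],
  [3, -1, -1, -1, 1, -1, -1, 5, 1, 1, -1, -1, -1, -1, -1, -1, 1, 1, -1, -1, -1, -1, 1, -3],
  [1, 1, 1, 1, 3, 1, 1, -1, -1, -1, 1, -3, -3, 1, 1, 1, 3, -1, 1, 1, 1, -3, -1, -1],
  [1, 1, 1, 1, -1, -3, -3, -1, -1, -1, 1, 1, 1, -3, 1, 1, 3, 3, 1, 1, 1, 1, -1, -1],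
  [-1, -1, -1, -1, 1, -1, 3, 1, 1, 1, 3, -1, 3, -1, -1, 3, 1, 1, 3, -1, -1, -1, 1, 1],
  [1, 1, 1, -3, -1, 1, 1, -1, 3, -1, 1, 1, -3, 1, 1, 1, -1, 3, 1, -3, 1, 1, -1, -1],
  [-1, -1, -1, -1, 1, 3, -1, 1, 1, 1, -1, 3, -1, -1, 3, -1, 1, 1, 3, 3, -1, -1, 1, 1],
  [1, 1, 1, 1, -1, 1, -3, -1, 3, 3, 1, -3, 1, 1, 1, 1, -1, -1, 1, 1, -3, 1, -1, -1],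
  [1, 1, -3, 1, 3, 1, 1, -1, -1, -1, 1, 1, 1, 1, 1, 1, -1, 3, -3, 1, -3, 1, -1, -1],
  [-1, -1, -1, 3, 1, 3, -1, 1, 1, 1, 3, -1, -1, -1, -1, -1, 1, 1, -1, -1, 3, 3, 1, 1],
  [1, 1, 1, 1, -1, 1, 1, -1, -1, -1, 1, 1, 1, 1, 1, -3, 3, -1, 1, -3, -3, 1, 3, -1],
  [1, -3, 1, -3, -1, 1, 1, -1, -1, 3, 1, 1, 1, 1, 1, 1, 3, -1, -3, 1, 1, 1, -1, -1],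
  [-1, 3, -1, -1, 1, -1, -1, 1, 1, 1, -1, -1, 3, 3, 3, -1, 1, 1, -1, -1, 3, -1, 1, 1],
  [1, 1, 1, -3, 3, 1, -3, -1, -1, -1, 1, 1, 1, 1, -3, 1, -1, -1, 1, 1, 1, 1, 3, -1],
  [1, -3, 1, 1, 3, -3, 1, -1, 3, -1, 1, 1, 1, 1, 1, -3, -1, -1, 1, 1, 1, 1, -1, -1],
  [1, 1, 1, 1, 3, 1, 1, -1, -1, 3, -3, 1, 1, -3, 1, 1, -1, -1, 1, -3, 1, 1, -1, -1],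
  [1, 1, -3, 1, -1, 1, 1, -1, 3, -1, -3, 1, 1, 1, -3, 1, 3, -1, 1, 1, 1, 1, -1, -1],
  [-1, 3, 3, -1, 1, -1, 3, 1, 1, 1, -1, -1, -1, -1, -1, -1, 1, 1, -1, 3, -1, 3, 1, 1],
  [1, 1, 1, 1, -1, 1, 1, -1, -1, 3, 1, 1, 1, 1, -3, -3, -1, 3, 1, 1, 1, -3, -1, -1],
  [1, -3, 1, 1, -1, 1, 1, -1, -1, -1, -3, -3, 1, 1, 1, 1, -1, 3, 1, 1, 1, 1, 3, -1],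
  [1, 1, -3, 1, -1, -3, 1, -1, -1, 3, 1, 1, -3, 1, 1, 1, -1, -1, 1, 1, 1, 1, 3, -1],
  [3, -1, -1, -1, 1, -1, -1, -3, 1, 1, -1, -1, -1, -1, -1, -1, 1, 1, -1, -1, -1, -1, 1, 5]]

/-- Data. -/
def T137 : List (List ℤ) := [[6, 0, 0, 0, 0, 0, 0, 0, 2, 2, 0, 0, 2, 2, 0, 2, -2, 0, 0, 0, 0, 0, 0, 2],
  [0, 2, -2, 2, 2, -2, -2, 2, 0, 0, 2, 2, 0, 0, -2, 0, 0, 2, 2, -2, 2, 2, -2, 0],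
  [0, -2, 2, 2, 2, 2, 2, 2, 0, 0, 2, -2, 0, 0, 2, 0, 0, 2, -2, -2, 2, -2, -2, 0],
  [0, 2, 2, 2, 2, -2, 2, 2, 0, 0, -2, -2, 0, 0, -2, 0, 0, -2, 2, 2, 2, -2, 2, 0],
  [0, 2, 2, 2, 2, 2, -2, -2, 0, 0, 2, 2, 0, 0, -2, 0, 0, 2, -2, 2, -2, -2, 2, 0],
  [0, -2, 2, -2, 2, 2, 2, 2, 0, 0, -2, 2, 0, 0, -2, 0, 0, 2, 2, 2, -2, 2, -2, 0],
  [0, -2, 2, 2, -2, 2, 2, -2, 0, 0, 2, 2, 0, 0, -2, 0, 0, -2, 2, -2, 2, 2, 2, 0],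
  [0, 2, 2, 2, -2, 2, -2, 2, 0, 0, 2, -2, 0, 0, 2, 0, 0, -2, 2, 2, -2, 2, -2, 0],
  [2, 0, 0, 0, 0, 0, 0, 0, 6, -2, 0, 0, -2, -2, 0, -2, 2, 0, 0, 0, 0, 0, 0, -2],
  [2, 0, 0, 0, 0, 0, 0, 0, -2, 6, 0, 0, -2, -2, 0, -2, 2, 0, 0, 0, 0, 0, 0, -2],
  [0, 2, 2, -2, 2, -2, 2, 2, 0, 0, 2, 2, 0, 0, 2, 0, 0, -2, -2, -2, -2, 2, 2, 0],
  [0, 2, -2, -2, 2, 2, 2, -2, 0, 0, 2, 2, 0, 0, 2, 0, 0, -2, 2, 2, 2, -2, -2, 0],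
  [2, 0, 0, 0, 0, 0, 0, 0, -2, -2, 0, 0, 6, -2, 0, -2, 2, 0, 0, 0, 0, 0, 0, -2],
  [2, 0, 0, 0, 0, 0, 0, 0, -2, -2, 0, 0, -2, -2, 0, 6, 2, 0, 0, 0, 0, 0, 0, -2],
  [0, -2, 2, -2, -2, -2, -2, 2, 0, 0, 2, 2, 0, 0, 2, 0, 0, 2, 2, 2, 2, -2, 2, 0],
  [2, 0, 0, 0, 0, 0, 0, 0, -2, -2, 0, 0, -2, 6, 0, -2, 2, 0, 0, 0, 0, 0, 0, -2],
  [-2, 0, 0, 0, 0, 0, 0, 0, 2, 2, 0, 0, 2, 2, 0, 2, 6, 0, 0, 0, 0, 0, 0, 2],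
  [0, 2, 2, -2, 2, 2, -2, -2, 0, 0, -2, -2, 0, 0, 2, 0, 0, 2, 2, -2, 2, 2, 2, 0],
  [0, 2, -2, 2, -2, 2, 2, 2, 0, 0, -2, 2, 0, 0, 2, 0, 0, 2, 2, -2, -2, -2, 2, 0],
  [0, -2, -2, 2, 2, 2, -2, 2, 0, 0, -2, 2, 0, 0, 2, 0, 0, -2, -2, 2, 2, 2, 2, 0],
  [0, 2, 2, 2, -2, -2, 2, -2, 0, 0, -2, 2, 0, 0, 2, 0, 0, 2, -2, 2, 2, 2, -2, 0],
  [0, 2, -2, -2, -2, 2, 2, 2, 0, 0, 2, -2, 0, 0, -2, 0, 0, 2, -2, 2, 2, 2, 2, 0],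
  [0, -2, -2, 2, 2, -2, 2, -2, 0, 0, 2, -2, 0, 0, 2, 0, 0, 2, 2, 2, -2, 2, 2, 0],
  [2, 0, 0, 0, 0, 0, 0, 0, -2, -2, 0, 0, -2, -2, 0, -2, 2, 0, 0, 0, 0, 0, 0, 6]]

/-- Data. -/
def T138 : List (List ℤ) := [[6, 0, 2, 0, 0, 0, 0, 0, 0, 0, -2, 0, 2, 2, 0, 0, 0, 2, 0, 0, 0, 2, 0, 2],
  [0, 2, 0, -2, 2, 2, 2, -2, -2, -2, 0, 2, 0, 0, 2, -2, 2, 0, 2, 2, 2, 0, -2, 0],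
  [2, 0, 6, 0, 0, 0, 0, 0, 0, 0, 2, 0, -2, -2, 0, 0, 0, -2, 0, 0, 0, -2, 0, -2],
  [0, -2, 0, 2, 2, -2, -2, -2, 2, -2, 0, 2, 0, 0, -2, 2, 2, 0, 2, 2, 2, 0, 2, 0],
  [0, 2, 0, 2, 2, 2, -2, 2, -2, 2, 0, -2, 0, 0, -2, 2, 2, 0, -2, 2, 2, 0, -2, 0],
  [0, 2, 0, -2, 2, 2, -2, -2, 2, 2, 0, -2, 0, 0, 2, 2, -2, 0, 2, -2, 2, 0, 2, 0],
  [0, 2, 0, -2, -2, -2, 2, 2, -2, 2, 0, 2, 0, 0, -2, 2, 2, 0, 2, -2, 2, 0, 2, 0],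
  [0, -2, 0, -2, 2, -2, 2, 2, 2, 2, 0, -2, 0, 0, 2, -2, 2, 0, -2, 2, 2, 0, 2, 0],
  [0, -2, 0, 2, -2, 2, -2, 2, 2, 2, 0, 2, 0, 0, 2, -2, 2, 0, 2, -2, 2, 0, -2, 0],
  [0, -2, 0, -2, 2, 2, 2, 2, 2, 2, 0, 2, 0, 0, -2, 2, -2, 0, 2, 2, -2, 0, -2, 0],
  [-2, 0, 2, 0, 0, 0, 0, 0, 0, 0, 6, 0, 2, 2, 0, 0, 0, 2, 0, 0, 0, 2, 0, 2],
  [0, 2, 0, 2, -2, -2, 2, -2, 2, 2, 0, 2, 0, 0, 2, 2, -2, 0, -2, 2, 2, 0, -2, 0],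
  [2, 0, -2, 0, 0, 0, 0, 0, 0, 0, 2, 0, -2, -2, 0, 0, 0, -2, 0, 0, 0, 6, 0, -2],
  [2, 0, -2, 0, 0, 0, 0, 0, 0, 0, 2, 0, -2, 6, 0, 0, 0, -2, 0, 0, 0, -2, 0, -2],
  [0, 2, 0, -2, -2, 2, -2, 2, 2, -2, 0, 2, 0, 0, 2, 2, 2, 0, -2, 2, -2, 0, 2, 0],
  [0, -2, 0, 2, 2, 2, 2, -2, -2, 2, 0, 2, 0, 0, 2, 2, 2, 0, -2, -2, -2, 0, 2, 0],
  [0, 2, 0, 2, 2, -2, 2, 2, 2, -2, 0, -2, 0, 0, 2, 2, 2, 0, 2, -2, -2, 0, -2, 0],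
  [2, 0, -2, 0, 0, 0, 0, 0, 0, 0, 2, 0, -2, -2, 0, 0, 0, 6, 0, 0, 0, -2, 0, -2],
  [0, 2, 0, 2, -2, 2, 2, -2, 2, 2, 0, -2, 0, 0, -2, -2, 2, 0, 2, 2, -2, 0, 2, 0],
  [0, 2, 0, 2, 2, -2, -2, 2, -2, 2, 0, 2, 0, 0, 2, -2, -2, 0, 2, 2, -2, 0, 2, 0],
  [0, 2, 0, 2, 2, 2, 2, 2, 2, -2, 0, 2, 0, 0, -2, -2, -2, 0, -2, -2, 2, 0, 2, 0],
  [2, 0, -2, 0, 0, 0, 0, 0, 0, 0, 2, 0, 6, -2, 0, 0, 0, -2, 0, 0, 0, -2, 0, -2],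
  [0, -2, 0, 2, -2, 2, 2, 2, -2, -2, 0, -2, 0, 0, 2, 2, -2, 0, 2, 2, 2, 0, 2, 0],
  [2, 0, -2, 0, 0, 0, 0, 0, 0, 0, 2, 0, -2, -2, 0, 0, 0, -2, 0, 0, 0, -2, 0, 6]]

/-- Data. -/
def T139 : List (List ℤ) := [[6, 0, 0, -2, 0, 2, 2, 0, 0, 2, 0, 0, 0, 0, 0, 2, 0, 0, 0, 2, 0, 0, 0, 2],
  [0, 2, 2, 0, 2, 0, 0, -2, 2, 0, -2, 2, 2, -2, -2, 0, 2, -2, -2, 0, 2, 2, 2, 0],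
  [0, 2, 2, 0, 2, 0, 0, -2, 2, 0, 2, -2, -2, 2, 2, 0, 2, 2, -2, 0, -2, 2, -2, 0],
  [-2, 0, 0, 6, 0, 2, 2, 0, 0, 2, 0, 0, 0, 0, 0, 2, 0, 0, 0, 2, 0, 0, 0, 2],
  [0, 2, 2, 0, 2, 0, 0, 2, -2, 0, -2, 2, -2, 2, 2, 0, -2, 2, -2, 0, 2, -2, 2, 0],
  [2, 0, 0, 2, 0, -2, -2, 0, 0, 6, 0, 0, 0, 0, 0, -2, 0, 0, 0, -2, 0, 0, 0, -2],
  [2, 0, 0, 2, 0, -2, 6, 0, 0, -2, 0, 0, 0, 0, 0, -2, 0, 0, 0, -2, 0, 0, 0, -2],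
  [0, -2, -2, 0, 2, 0, 0, 2, 2, 0, 2, 2, 2, -2, 2, 0, 2, 2, -2, 0, -2, -2, 2, 0],
  [0, 2, 2, 0, -2, 0, 0, 2, 2, 0, -2, -2, 2, -2, 2, 0, 2, 2, 2, 0, 2, -2, -2, 0],
  [2, 0, 0, 2, 0, 6, -2, 0, 0, -2, 0, 0, 0, 0, 0, -2, 0, 0, 0, -2, 0, 0, 0, -2],
  [0, -2, 2, 0, -2, 0, 0, 2, -2, 0, 2, 2, 2, 2, 2, 0, 2, -2, -2, 0, 2, 2, -2, 0],
  [0, 2, -2, 0, 2, 0, 0, 2, -2, 0, 2, 2, -2, -2, -2, 0, 2, 2, 2, 0, 2, 2, -2, 0],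
  [0, 2, -2, 0, -2, 0, 0, 2, 2, 0, 2, -2, 2, 2, -2, 0, -2, 2, -2, 0, 2, 2, 2, 0],
  [0, -2, 2, 0, 2, 0, 0, -2, -2, 0, 2, -2, 2, 2, -2, 0, 2, 2, 2, 0, 2, -2, 2, 0],
  [0, -2, 2, 0, 2, 0, 0, 2, 2, 0, 2, -2, -2, -2, 2, 0, -2, -2, 2, 0, 2, 2, 2, 0],
  [2, 0, 0, 2, 0, -2, -2, 0, 0, -2, 0, 0, 0, 0, 0, 6, 0, 0, 0, -2, 0, 0, 0, -2],
  [0, 2, 2, 0, -2, 0, 0, 2, 2, 0, 2, 2, -2, 2, -2, 0, 2, -2, 2, 0, -2, -2, 2, 0],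
  [0, -2, 2, 0, 2, 0, 0, 2, 2, 0, -2, 2, 2, 2, -2, 0, -2, 2, 2, 0, -2, 2, -2, 0],
  [0, -2, -2, 0, -2, 0, 0, -2, 2, 0, -2, 2, -2, 2, 2, 0, 2, 2, 2, 0, 2, 2, 2, 0],
  [2, 0, 0, 2, 0, -2, -2, 0, 0, -2, 0, 0, 0, 0, 0, -2, 0, 0, 0, 6, 0, 0, 0, -2],
  [0, 2, -2, 0, 2, 0, 0, -2, 2, 0, 2, 2, 2, 2, 2, 0, -2, -2, 2, 0, 2, -2, -2, 0],
  [0, 2, 2, 0, -2, 0, 0, -2, -2, 0, 2, 2, 2, -2, 2, 0, -2, 2, 2, 0, -2, 2, 2, 0],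
  [0, 2, -2, 0, 2, 0, 0, 2, -2, 0, -2, -2, 2, 2, 2, 0, 2, -2, 2, 0, -2, 2, 2, 0],
  [2, 0, 0, 2, 0, -2, -2, 0, 0, -2, 0, 0, 0, 0, 0, -2, 0, 0, 0, -2, 0, 0, 0, 6]]

/-- Data. -/
def T140 : List (List ℤ) := [[6, 0, 0, 0, 2, 2, 0, 0, 0, 0, 0, 0, 0, 0, 0, 0, 0, 2, 0, -2, 0, 2, 2, 2],
  [0, 2, -2, 2, 0, 0, 2, -2, 2, 2, 2, 2, -2, -2, 2, 2, -2, 0, -2, 0, 2, 0, 0, 0],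
  [0, -2, 2, -2, 0, 0, -2, 2, 2, 2, 2, 2, -2, 2, -2, 2, 2, 0, -2, 0, 2, 0, 0, 0],
  [0, 2, -2, 2, 0, 0, -2, 2, -2, -2, -2, 2, -2, 2, 2, 2, 2, 0, 2, 0, 2, 0, 0, 0],
  [2, 0, 0, 0, 6, -2, 0, 0, 0, 0, 0, 0, 0, 0, 0, 0, 0, -2, 0, 2, 0, -2, -2, -2],
  [2, 0, 0, 0, -2, -2, 0, 0, 0, 0, 0, 0, 0, 0, 0, 0, 0, 6, 0, 2, 0, -2, -2, -2],
  [0, 2, -2, -2, 0, 0, 2, -2, 2, -2, 2, 2, 2, 2, -2, 2, 2, 0, 2, 0, -2, 0, 0, 0],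
  [0, -2, 2, 2, 0, 0, -2, 2, 2, -2, 2, 2, 2, -2, 2, 2, -2, 0, 2, 0, -2, 0, 0, 0],
  [0, 2, 2, -2, 0, 0, 2, 2, 2, 2, -2, 2, -2, -2, 2, -2, 2, 0, 2, 0, -2, 0, 0, 0],
  [0, 2, 2, -2, 0, 0, -2, -2, 2, 2, -2, -2, 2, 2, 2, 2, -2, 0, 2, 0, 2, 0, 0, 0],
  [0, 2, 2, -2, 0, 0, 2, 2, -2, -2, 2, -2, 2, -2, 2, 2, 2, 0, -2, 0, 2, 0, 0, 0],
  [0, 2, 2, 2, 0, 0, 2, 2, 2, -2, -2, 2, 2, 2, -2, -2, -2, 0, -2, 0, 2, 0, 0, 0],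
  [0, -2, -2, -2, 0, 0, 2, 2, -2, 2, 2, 2, 2, 2, 2, -2, -2, 0, 2, 0, 2, 0, 0, 0],
  [0, -2, 2, 2, 0, 0, 2, -2, -2, 2, -2, 2, 2, 2, 2, 2, 2, 0, -2, 0, -2, 0, 0, 0],
  [0, 2, -2, 2, 0, 0, -2, 2, 2, 2, 2, -2, 2, 2, 2, -2, 2, 0, -2, 0, -2, 0, 0, 0],
  [0, 2, 2, 2, 0, 0, 2, 2, -2, 2, 2, -2, -2, 2, -2, 2, -2, 0, 2, 0, -2, 0, 0, 0],
  [0, -2, 2, 2, 0, 0, 2, -2, 2, -2, 2, -2, -2, 2, 2, -2, 2, 0, 2, 0, 2, 0, 0, 0],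
  [2, 0, 0, 0, -2, 6, 0, 0, 0, 0, 0, 0, 0, 0, 0, 0, 0, -2, 0, 2, 0, -2, -2, -2],
  [0, -2, -2, 2, 0, 0, 2, 2, 2, 2, -2, -2, 2, -2, -2, 2, 2, 0, 2, 0, 2, 0, 0, 0],
  [-2, 0, 0, 0, 2, 2, 0, 0, 0, 0, 0, 0, 0, 0, 0, 0, 0, 2, 0, 6, 0, 2, 2, 2],
  [0, 2, 2, 2, 0, 0, -2, -2, -2, 2, 2, 2, 2, -2, -2, -2, 2, 0, 2, 0, 2, 0, 0, 0],
  [2, 0, 0, 0, -2, -2, 0, 0, 0, 0, 0, 0, 0, 0, 0, 0, 0, -2, 0, 2, 0, 6, -2, -2],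
  [2, 0, 0, 0, -2, -2, 0, 0, 0, 0, 0, 0, 0, 0, 0, 0, 0, -2, 0, 2, 0, -2, 6, -2],
  [2, 0, 0, 0, -2, -2, 0, 0, 0, 0, 0, 0, 0, 0, 0, 0, 0, -2, 0, 2, 0, -2, -2, 6]]

/-- Data. -/
def T141 : List (List ℤ) := [[6, 0, 0, 0, 0, -2, 2, 2, 0, 0, 0, 0, 0, 2, 0, 0, 2, 2, 0, 0, 0, 0, 0, 2],
  [0, 2, 2, 2, 2, 0, 0, 0, 2, -2, -2, -2, 2, 0, 2, 2, 0, 0, 2, -2, -2, 2, -2, 0],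
  [0, 2, 2, -2, 2, 0, 0, 0, 2, -2, 2, 2, 2, 0, -2, 2, 0, 0, -2, 2, 2, -2, -2, 0],
  [0, 2, -2, 2, 2, 0, 0, 0, 2, 2, -2, 2, -2, 0, -2, 2, 0, 0, -2, 2, -2, 2, 2, 0],
  [0, 2, 2, 2, 2, 0, 0, 0, -2, 2, 2, 2, -2, 0, 2, -2, 0, 0, -2, -2, 2, 2, -2, 0],
  [-2, 0, 0, 0, 0, 6, 2, 2, 0, 0, 0, 0, 0, 2, 0, 0, 2, 2, 0, 0, 0, 0, 0, 2],
  [2, 0, 0, 0, 0, 2, 6, -2, 0, 0, 0, 0, 0, -2, 0, 0, -2, -2, 0, 0, 0, 0, 0, -2],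
  [2, 0, 0, 0, 0, 2, -2, -2, 0, 0, 0, 0, 0, -2, 0, 0, -2, 6, 0, 0, 0, 0, 0, -2],
  [0, 2, 2, 2, -2, 0, 0, 0, 2, -2, -2, 2, -2, 0, 2, -2, 0, 0, 2, 2, 2, -2, 2, 0],
  [0, -2, -2, 2, 2, 0, 0, 0, -2, 2, -2, 2, 2, 0, 2, 2, 0, 0, 2, 2, 2, -2, -2, 0],
  [0, -2, 2, -2, 2, 0, 0, 0, -2, -2, 2, 2, -2, 0, 2, 2, 0, 0, 2, 2, -2, 2, 2, 0],
  [0, -2, 2, 2, 2, 0, 0, 0, 2, 2, 2, 2, 2, 0, -2, -2, 0, 0, 2, -2, -2, -2, 2, 0],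
  [0, 2, 2, -2, -2, 0, 0, 0, -2, 2, -2, 2, 2, 0, -2, 2, 0, 0, 2, -2, 2, 2, 2, 0],
  [2, 0, 0, 0, 0, 2, -2, -2, 0, 0, 0, 0, 0, 6, 0, 0, -2, -2, 0, 0, 0, 0, 0, -2],
  [0, 2, -2, -2, 2, 0, 0, 0, 2, 2, 2, -2, -2, 0, 2, 2, 0, 0, 2, -2, 2, -2, 2, 0],
  [0, 2, 2, 2, -2, 0, 0, 0, -2, 2, 2, -2, 2, 0, 2, 2, 0, 0, -2, 2, -2, -2, 2, 0],
  [2, 0, 0, 0, 0, 2, -2, -2, 0, 0, 0, 0, 0, -2, 0, 0, 6, -2, 0, 0, 0, 0, 0, -2],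
  [2, 0, 0, 0, 0, 2, -2, 6, 0, 0, 0, 0, 0, -2, 0, 0, -2, -2, 0, 0, 0, 0, 0, -2],
  [0, 2, -2, -2, -2, 0, 0, 0, 2, 2, 2, 2, 2, 0, 2, -2, 0, 0, 2, 2, -2, 2, -2, 0],
  [0, -2, 2, 2, -2, 0, 0, 0, 2, 2, 2, -2, -2, 0, -2, 2, 0, 0, 2, 2, 2, 2, -2, 0],
  [0, -2, 2, -2, 2, 0, 0, 0, 2, 2, -2, -2, 2, 0, 2, -2, 0, 0, -2, 2, 2, 2, 2, 0],
  [0, 2, -2, 2, 2, 0, 0, 0, -2, -2, 2, -2, 2, 0, -2, -2, 0, 0, 2, 2, 2, 2, 2, 0],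
  [0, -2, -2, 2, -2, 0, 0, 0, 2, -2, 2, 2, 2, 0, 2, 2, 0, 0, -2, -2, 2, 2, 2, 0],
  [2, 0, 0, 0, 0, 2, -2, -2, 0, 0, 0, 0, 0, -2, 0, 0, -2, -2, 0, 0, 0, 0, 0, 6]]

/-- Data. -/
def T142 : List (List ℤ) := [[6, 0, 2, 0, 0, 0, 0, 0, 0, 0, 0, -2, 0, 0, 2, 0, 0, 0, 0, 0, 2, 2, 2, 2],
  [0, 2, 0, -2, 2, 2, -2, -2, 2, 2, -2, 0, 2, 2, 0, 2, -2, 2, 2, -2, 0, 0, 0, 0],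
  [2, 0, 6, 0, 0, 0, 0, 0, 0, 0, 0, 2, 0, 0, -2, 0, 0, 0, 0, 0, -2, -2, -2, -2],
  [0, -2, 0, 2, 2, 2, 2, -2, 2, -2, 2, 0, -2, 2, 0, -2, 2, 2, 2, -2, 0, 0, 0, 0],
  [0, 2, 0, 2, 2, -2, -2, 2, 2, -2, 2, 0, -2, 2, 0, 2, -2, 2, -2, 2, 0, 0, 0, 0],
  [0, 2, 0, 2, -2, 2, 2, 2, 2, 2, -2, 0, -2, 2, 0, 2, 2, -2, -2, -2, 0, 0, 0, 0],
  [0, -2, 0, 2, -2, 2, 2, 2, -2, -2, -2, 0, 2, 2, 0, 2, -2, 2, 2, 2, 0, 0, 0, 0],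
  [0, -2, 0, -2, 2, 2, 2, 2, 2, 2, 2, 0, -2, -2, 0, 2, -2, -2, 2, 2, 0, 0, 0, 0],
  [0, 2, 0, 2, 2, 2, -2, 2, 2, -2, -2, 0, 2, -2, 0, -2, 2, -2, 2, 2, 0, 0, 0, 0],
  [0, 2, 0, -2, -2, 2, -2, 2, -2, 2, 2, 0, -2, 2, 0, -2, 2, 2, 2, 2, 0, 0, 0, 0],
  [0, -2, 0, 2, 2, -2, -2, 2, -2, 2, 2, 0, 2, 2, 0, 2, 2, -2, 2, -2, 0, 0, 0, 0],
  [-2, 0, 2, 0, 0, 0, 0, 0, 0, 0, 0, 6, 0, 0, 2, 0, 0, 0, 0, 0, 2, 2, 2, 2],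
  [0, 2, 0, -2, -2, -2, 2, -2, 2, -2, 2, 0, 2, 2, 0, 2, 2, -2, 2, 2, 0, 0, 0, 0],
  [0, 2, 0, 2, 2, 2, 2, -2, -2, 2, 2, 0, 2, 2, 0, -2, -2, -2, -2, 2, 0, 0, 0, 0],
  [2, 0, -2, 0, 0, 0, 0, 0, 0, 0, 0, 2, 0, 0, -2, 0, 0, 0, 0, 0, 6, -2, -2, -2],
  [0, 2, 0, -2, 2, 2, 2, 2, -2, -2, 2, 0, 2, -2, 0, 2, 2, 2, -2, -2, 0, 0, 0, 0],
  [0, -2, 0, 2, -2, 2, -2, -2, 2, 2, 2, 0, 2, -2, 0, 2, 2, 2, -2, 2, 0, 0, 0, 0],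
  [0, 2, 0, 2, 2, -2, 2, -2, -2, 2, -2, 0, -2, -2, 0, 2, 2, 2, 2, 2, 0, 0, 0, 0],
  [0, 2, 0, 2, -2, -2, 2, 2, 2, 2, 2, 0, 2, -2, 0, -2, -2, 2, 2, -2, 0, 0, 0, 0],
  [0, -2, 0, -2, 2, -2, 2, 2, 2, 2, -2, 0, 2, 2, 0, -2, 2, 2, -2, 2, 0, 0, 0, 0],
  [2, 0, -2, 0, 0, 0, 0, 0, 0, 0, 0, 2, 0, 0, 6, 0, 0, 0, 0, 0, -2, -2, -2, -2],
  [2, 0, -2, 0, 0, 0, 0, 0, 0, 0, 0, 2, 0, 0, -2, 0, 0, 0, 0, 0, -2, 6, -2, -2],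
  [2, 0, -2, 0, 0, 0, 0, 0, 0, 0, 0, 2, 0, 0, -2, 0, 0, 0, 0, 0, -2, -2, 6, -2],
  [2, 0, -2, 0, 0, 0, 0, 0, 0, 0, 0, 2, 0, 0, -2, 0, 0, 0, 0, 0, -2, -2, -2, 6]]

/-- Data. -/
def T143 : List (List ℤ) := [[4, 0, 0, 0, 0, 0, 2, 2, 0, 2, 2, 0, 0, 0, 0, 2, 0, 0, 0, 2, 2, 2, 0, 4],
  [0, 4, 4, 0, 0, 0, 2, 2, 0, -2, -2, 0, 0, 0, 0, -2, 0, 0, 0, 2, -2, 2, 0, 0],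
  [0, 4, 4, 0, 0, 0, -2, -2, 0, 2, 2, 0, 0, 0, 0, 2, 0, 0, 0, -2, 2, -2, 0, 0],
  [0, 0, 0, 4, 0, 4, -2, 2, 0, -2, 2, 0, 0, 0, 0, -2, 0, 0, 0, -2, 2, 2, 0, 0],
  [0, 0, 0, 0, 4, 0, -2, 2, 0, 2, 2, 0, 0, 4, 0, -2, 0, 0, 0, 2, -2, -2, 0, 0],
  [0, 0, 0, 4, 0, 4, 2, -2, 0, 2, -2, 0, 0, 0, 0, 2, 0, 0, 0, 2, -2, -2, 0, 0],
  [2, 2, -2, -2, -2, 2, 0, 0, 2, 0, 0, -2, 2, 2, -2, 0, -2, 2, -2, 0, 0, 0, 2, -2],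
  [2, 2, -2, 2, 2, -2, 0, 0, 2, 0, 0, -2, 2, -2, 2, 0, 2, -2, -2, 0, 0, 0, -2, -2],
  [0, 0, 0, 0, 0, 0, 2, 2, 4, 2, -2, 4, 0, 0, 0, -2, 0, 0, 0, -2, 2, -2, 0, 0],
  [2, -2, 2, -2, 2, 2, 0, 0, 2, 0, 0, -2, -2, -2, 2, 0, -2, -2, 2, 0, 0, 0, 2, -2],
  [2, -2, 2, 2, 2, -2, 0, 0, -2, 0, 0, 2, 2, -2, -2, 0, -2, 2, -2, 0, 0, 0, 2, -2],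
  [0, 0, 0, 0, 0, 0, -2, -2, 4, -2, 2, 4, 0, 0, 0, 2, 0, 0, 0, 2, -2, 2, 0, 0],
  [0, 0, 0, 0, 0, 0, 2, 2, 0, -2, 2, 0, 4, 0, 0, 2, 0, 0, 4, -2, -2, -2, 0, 0],
  [0, 0, 0, 0, 4, 0, 2, -2, 0, -2, -2, 0, 0, 4, 0, 2, 0, 0, 0, -2, 2, 2, 0, 0],
  [0, 0, 0, 0, 0, 0, -2, 2, 0, 2, -2, 0, 0, 0, 4, 2, 0, 4, 0, -2, -2, 2, 0, 0],
  [2, -2, 2, -2, -2, 2, 0, 0, -2, 0, 0, 2, 2, 2, 2, 0, 2, -2, -2, 0, 0, 0, -2, -2],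
  [0, 0, 0, 0, 0, 0, -2, 2, 0, -2, -2, 0, 0, 0, 0, 2, 4, 0, 0, 2, 2, -2, 4, 0],
  [0, 0, 0, 0, 0, 0, 2, -2, 0, -2, 2, 0, 0, 0, 4, -2, 0, 4, 0, 2, 2, -2, 0, 0],
  [0, 0, 0, 0, 0, 0, -2, -2, 0, 2, -2, 0, 4, 0, 0, -2, 0, 0, 4, 2, 2, 2, 0, 0],
  [2, 2, -2, -2, 2, 2, 0, 0, -2, 0, 0, 2, -2, -2, -2, 0, 2, 2, 2, 0, 0, 0, -2, -2],
  [2, -2, 2, 2, -2, -2, 0, 0, 2, 0, 0, -2, -2, 2, -2, 0, 2, 2, 2, 0, 0, 0, -2, -2],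
  [2, 2, -2, 2, -2, -2, 0, 0, -2, 0, 0, 2, -2, 2, 2, 0, -2, -2, 2, 0, 0, 0, 2, -2],
  [0, 0, 0, 0, 0, 0, 2, -2, 0, 2, 2, 0, 0, 0, 0, -2, 4, 0, 0, -2, -2, 2, 4, 0],
  [4, 0, 0, 0, 0, 0, -2, -2, 0, -2, -2, 0, 0, 0, 0, -2, 0, 0, 0, -2, -2, -2, 0, 4]]

/-- Data. -/
def T144 : List (List ℤ) := [[6, 0, -2, 0, 2, 0, 0, 0, 0, 0, 0, 0, 2, 0, 2, 2, 0, 0, 0, 2, 0, 0, 0, 2],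
  [0, 2, 0, -2, 0, 2, 2, -2, 2, 2, 2, 2, 0, 2, 0, 0, -2, -2, 2, 0, 2, -2, -2, 0],
  [-2, 0, 6, 0, 2, 0, 0, 0, 0, 0, 0, 0, 2, 0, 2, 2, 0, 0, 0, 2, 0, 0, 0, 2],
  [0, -2, 0, 2, 0, 2, -2, 2, 2, 2, -2, 2, 0, 2, 0, 0, -2, -2, -2, 0, 2, 2, 2, 0],
  [2, 0, 2, 0, 6, 0, 0, 0, 0, 0, 0, 0, -2, 0, -2, -2, 0, 0, 0, -2, 0, 0, 0, -2],
  [0, 2, 0, 2, 0, 2, 2, -2, 2, -2, -2, -2, 0, 2, 0, 0, 2, 2, -2, 0, 2, -2, 2, 0],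
  [0, 2, 0, -2, 0, 2, 2, 2, -2, 2, -2, -2, 0, 2, 0, 0, 2, -2, 2, 0, -2, 2, 2, 0],
  [0, -2, 0, 2, 0, -2, 2, 2, -2, 2, -2, 2, 0, 2, 0, 0, 2, 2, 2, 0, 2, -2, -2, 0],
  [0, 2, 0, 2, 0, 2, -2, -2, 2, 2, -2, 2, 0, -2, 0, 0, 2, 2, 2, 0, -2, 2, -2, 0],
  [0, 2, 0, 2, 0, -2, 2, 2, 2, 2, 2, -2, 0, -2, 0, 0, 2, -2, -2, 0, 2, 2, -2, 0],
  [0, 2, 0, -2, 0, -2, -2, -2, -2, 2, 2, 2, 0, 2, 0, 0, 2, 2, -2, 0, 2, 2, 2, 0],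
  [0, 2, 0, 2, 0, -2, -2, 2, 2, -2, 2, 2, 0, 2, 0, 0, 2, -2, 2, 0, -2, -2, 2, 0],
  [2, 0, 2, 0, -2, 0, 0, 0, 0, 0, 0, 0, 6, 0, -2, -2, 0, 0, 0, -2, 0, 0, 0, -2],
  [0, 2, 0, 2, 0, 2, 2, 2, -2, -2, 2, 2, 0, 2, 0, 0, -2, 2, -2, 0, -2, 2, -2, 0],
  [2, 0, 2, 0, -2, 0, 0, 0, 0, 0, 0, 0, -2, 0, -2, -2, 0, 0, 0, 6, 0, 0, 0, -2],
  [2, 0, 2, 0, -2, 0, 0, 0, 0, 0, 0, 0, -2, 0, -2, 6, 0, 0, 0, -2, 0, 0, 0, -2],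
  [0, -2, 0, -2, 0, 2, 2, 2, 2, 2, 2, 2, 0, -2, 0, 0, 2, 2, -2, 0, -2, -2, 2, 0],
  [0, -2, 0, -2, 0, 2, -2, 2, 2, -2, 2, -2, 0, 2, 0, 0, 2, 2, 2, 0, 2, 2, -2, 0],
  [0, 2, 0, -2, 0, -2, 2, 2, 2, -2, -2, 2, 0, -2, 0, 0, -2, 2, 2, 0, 2, 2, 2, 0],
  [2, 0, 2, 0, -2, 0, 0, 0, 0, 0, 0, 0, -2, 0, 6, -2, 0, 0, 0, -2, 0, 0, 0, -2],
  [0, 2, 0, 2, 0, 2, -2, 2, -2, 2, 2, -2, 0, -2, 0, 0, -2, 2, 2, 0, 2, -2, 2, 0],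
  [0, -2, 0, 2, 0, -2, 2, -2, 2, 2, 2, -2, 0, 2, 0, 0, -2, 2, 2, 0, -2, 2, 2, 0],
  [0, -2, 0, 2, 0, 2, 2, -2, -2, -2, 2, 2, 0, -2, 0, 0, 2, -2, 2, 0, 2, 2, 2, 0],
  [2, 0, 2, 0, -2, 0, 0, 0, 0, 0, 0, 0, -2, 0, -2, -2, 0, 0, 0, -2, 0, 0, 0, 6]]

/-- Data. -/
def T145 : List (List ℤ) := [[5, -1, 1, -1, 1, 1, 3, 1, 1, 1, 1, 1, 1, 1, 1, 1, -1, -1, 1, -1, 1, 1, -1, 3],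
  [1, -1, 1, -1, 1, 1, -1, 1, 1, -3, -3, 1, 1, 1, 1, 1, 3, -1, 1, -1, 1, -3, 3, -1],
  [-1, 1, 3, 1, 3, 3, 1, -1, -1, -1, 3, 3, -1, -1, -1, -1, 1, 1, -1, 1, -1, -1, 1, 1],
  [1, -1, 1, -1, 1, 1, -1, 1, 1, 1, 1, -3, -3, -3, 1, 1, -1, -1, 1, 3, 1, 1, 3, -1],
  [1, -1, 1, 3, 1, 1, -1, 1, 1, 1, 1, -3, 1, 1, 1, 1, -1, 3, -3, -1, 1, -3, -1, -1],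
  [1, -1, 1, -1, 1, -3, -1, -3, 1, 1, 1, 1, 1, -3, 1, 1, 3, 3, 1, -1, 1, 1, -1, -1],
  [-1, 1, -1, 1, -1, -1, 1, 3, -1, -1, 3, -1, 3, -1, -1, 3, 1, 1, 3, 1, -1, -1, 1, 1],
  [1, 3, 1, 3, 1, 1, -1, 1, -3, 1, -3, 1, 1, -3, 1, 1, -1, -1, 1, -1, 1, 1, -1, -1],
  [-1, 1, -1, 1, -1, -1, 1, 3, 3, 3, -1, 3, -1, -1, -1, -1, 1, 1, -1, 1, 3, -1, 1, 1],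
  [1, 3, 1, -1, 1, 1, -1, 1, 1, 1, 1, -3, 1, 1, -3, -3, 3, -1, 1, -1, 1, 1, -1, -1],
  [-1, 1, -1, 1, 3, -1, 1, -1, -1, -1, -1, -1, -1, 3, -1, 3, 1, 1, -1, 1, 3, 3, 1, 1],
  [1, -1, -3, 3, 1, 1, -1, 1, 1, 1, 1, 1, -3, 1, 1, 1, 3, -1, 1, -1, -3, 1, -1, -1],
  [1, -1, 1, 3, -3, 1, -1, -3, 1, 1, 1, 1, 1, 1, -3, 1, -1, -1, 1, -1, 1, 1, 3, -1],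
  [1, -1, 1, -1, -3, 1, -1, 1, -3, 1, 1, 1, 1, 1, 1, 1, 3, -1, -3, 3, 1, 1, -1, -1],
  [1, 3, -3, -1, 1, 1, -1, -3, 1, 1, 1, 1, 1, 1, 1, 1, -1, -1, 1, 3, 1, -3, -1, -1],
  [1, 3, 1, -1, 1, -3, -1, 1, 1, 1, 1, 1, 1, 1, 1, 1, -1, -1, -3, -1, -3, 1, 3, -1],
  [1, -1, 1, 3, 1, -3, -1, 1, 1, -3, 1, 1, 1, 1, 1, -3, -1, -1, 1, 3, 1, 1, -1, -1],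
  [1, 3, 1, -1, -3, 1, -1, 1, 1, -3, 1, 1, -3, 1, 1, 1, -1, 3, 1, -1, 1, 1, -1, -1],
  [-1, 1, -1, 1, -1, 3, 1, -1, 3, -1, -1, -1, 3, -1, 3, -1, 1, 1, -1, 1, -1, 3, 1, 1],
  [1, -1, 1, -1, 1, 1, -1, 1, 1, 1, -3, 1, 1, 1, -3, 1, -1, 3, 1, 3, -3, 1, -1, -1],
  [-1, 1, 3, 1, -1, -1, 1, -1, -1, 3, -1, -1, -1, 3, 3, -1, 1, 1, 3, 1, -1, -1, 1, 1],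
  [3, 1, -1, 1, -1, -1, 5, -1, -1, -1, -1, -1, -1, -1, -1, -1, 1, 1, -1, 1, -1, -1, 1, -3],
  [1, -1, -3, -1, 1, 1, -1, 1, -3, 1, 1, 1, 1, 1, 1, -3, -1, 3, 1, -1, 1, 1, 3, -1],
  [3, 1, -1, 1, -1, -1, -3, -1, -1, -1, -1, -1, -1, -1, -1, -1, 1, 1, -1, 1, -1, -1, 1, 5]]

/-- Data. -/
def T146 : List (List ℤ) := [[5, -1, 1, 1, 1, 1, -1, -1, 1, -1, 1, 1, 1, -1, 1, -1, 1, 1, 1, 1, 1, 1, 3, 3],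
  [-1, 1, 3, -1, -1, -1, 1, 1, -1, 1, -1, 3, -1, 1, 3, 1, -1, -1, -1, -1, 3, 3, 1, 1],
  [3, 1, -1, -1, -1, -1, 1, 1, -1, 1, -1, -1, -1, 1, -1, 1, -1, -1, -1, -1, -1, -1, 5, -3],
  [-1, 1, -1, -1, 3, -1, 1, 1, 3, 1, 3, -1, 3, 1, -1, 1, -1, -1, -1, -1, 3, -1, 1, 1],
  [1, -1, -3, 1, 1, 1, 3, -1, -3, -1, 1, 1, 1, -1, 1, 3, 1, -3, 1, 1, 1, 1, -1, -1],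
  [1, -1, 1, -3, 1, 1, -1, -1, 1, 3, 1, 1, 1, 3, 1, -1, 1, -3, 1, 1, -3, 1, -1, -1],
  [1, 3, 1, 1, 1, 1, -1, 3, 1, -1, -3, -3, 1, -1, 1, -1, 1, -3, 1, 1, 1, 1, -1, -1],
  [1, -1, 1, 1, -3, 1, -1, -1, 1, 3, 1, -3, 1, -1, 1, 3, 1, 1, -3, 1, 1, 1, -1, -1],
  [1, -1, 1, 1, 1, 1, -1, 3, -3, -1, 1, 1, 1, 3, 1, -1, 1, 1, -3, 1, 1, -3, -1, -1],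
  [1, 3, 1, 1, 1, 1, -1, -1, -3, 3, 1, 1, 1, -1, -3, -1, 1, 1, 1, -3, 1, 1, -1, -1],
  [-1, 1, -1, -1, -1, -1, 1, 1, -1, 1, -1, -1, 3, 1, 3, 1, 3, 3, 3, -1, -1, -1, 1, 1],
  [-1, 1, -1, -1, 3, 3, 1, 1, -1, 1, -1, -1, -1, 1, -1, 1, -1, 3, -1, 3, -1, 3, 1, 1],
  [1, -1, 1, 1, 1, 1, 3, -1, 1, 3, -3, 1, 1, -1, 1, -1, -3, 1, 1, 1, 1, -3, -1, -1],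
  [1, 3, -3, 1, -3, 1, -1, -1, 1, -1, 1, 1, 1, 3, 1, -1, -3, 1, 1, 1, 1, 1, -1, -1],
  [1, 3, 1, 1, 1, -3, 3, -1, 1, -1, 1, 1, 1, -1, 1, -1, 1, 1, -3, 1, -3, 1, -1, -1],
  [1, -1, 1, -3, -3, 1, 3, 3, 1, -1, 1, 1, 1, -1, -3, -1, 1, 1, 1, 1, 1, 1, -1, -1],
  [-1, 1, 3, 3, -1, -1, 1, 1, -1, 1, 3, -1, -1, 1, -1, 1, -1, -1, 3, 3, -1, -1, 1, 1],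
  [1, -1, 1, 1, 1, 1, -1, 3, 1, -1, 1, 1, 1, -1, 1, 3, -3, 1, 1, -3, -3, 1, -1, -1],
  [1, 3, 1, -3, 1, 1, -1, -1, 1, -1, 1, 1, -3, -1, 1, 3, 1, 1, 1, 1, 1, -3, -1, -1],
  [1, -1, 1, 1, 1, 1, 3, -1, 1, -1, 1, -3, -3, 3, 1, -1, 1, 1, 1, -3, 1, 1, -1, -1],
  [1, -1, 1, 1, 1, -3, -1, -1, 1, -1, -3, 1, 1, 3, -3, 3, 1, 1, 1, 1, 1, 1, -1, -1],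
  [-1, 1, -1, 3, -1, 3, 1, 1, 3, 1, -1, 3, -1, 1, -1, 1, 3, -1, -1, -1, -1, -1, 1, 1],
  [1, -1, -3, 1, 1, -3, -1, 3, 1, 3, 1, 1, -3, -1, 1, -1, 1, 1, 1, 1, 1, 1, -1, -1],
  [3, 1, -1, -1, -1, -1, 1, 1, -1, 1, -1, -1, -1, 1, -1, 1, -1, -1, -1, -1, -1, -1, -3, 5]]

/-- Data. -/
def T147 : List (List ℤ) := [[5, 1, -1, -1, -1, 1, 1, 1, 1, 1, 1, -1, -1, 1, 1, 1, 1, 3, 1, 1, 1, 1, -1, 3],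
  [1, -3, -1, -1, 3, 1, -3, 1, 1, -3, 1, -1, 3, 1, 1, 1, 1, -1, 1, 1, 1, 1, -1, -1],
  [1, 1, -1, 3, -1, 1, 1, -3, -3, 1, 1, -1, 3, 1, 1, 1, 1, -1, 1, -3, 1, 1, -1, -1],
  [1, 1, 3, -1, -1, 1, -3, 1, -3, 1, 1, -1, -1, 1, 1, -3, 1, -1, 1, 1, 1, 1, 3, -1],
  [1, 1, -1, -1, -1, 1, 1, 1, 1, 1, 1, -1, 3, 1, -3, 1, -3, -1, -3, 1, 1, 1, 3, -1],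
  [1, -3, 3, 3, -1, -3, 1, 1, 1, 1, 1, -1, -1, 1, -3, 1, 1, -1, 1, 1, 1, 1, -1, -1],
  [-1, -1, 1, 1, 1, 3, -1, -1, 3, 3, 3, 1, 1, -1, -1, -1, -1, 1, 3, -1, -1, -1, 1, 1],
  [-1, -1, 1, 1, 1, 3, 3, 3, -1, -1, -1, 1, 1, 3, -1, -1, 3, 1, -1, -1, -1, -1, 1, 1],
  [1, 1, 3, -1, 3, 1, 1, -3, 1, 1, 1, -1, -1, 1, 1, 1, 1, -1, -3, 1, -3, 1, -1, -1],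
  [-1, -1, 1, 1, 1, -1, 3, -1, -1, -1, 3, 1, 1, -1, 3, -1, -1, 1, -1, 3, 3, -1, 1, 1],
  [1, -3, -1, -1, -1, 1, 1, -3, 1, 1, -3, 3, -1, 1, 1, 1, 1, -1, 1, 1, 1, 1, 3, -1],
  [1, 1, 3, -1, -1, 1, 1, 1, 1, -3, 1, 3, -1, 1, 1, 1, -3, -1, 1, -3, 1, 1, -1, -1],
  [-1, 3, 1, 1, 1, -1, -1, -1, 3, -1, -1, 1, 1, -1, -1, -1, 3, 1, -1, -1, 3, 3, 1, 1],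
  [1, 1, -1, -1, -1, -3, 1, 1, 1, 1, 1, 3, 3, 1, 1, -3, 1, -1, 1, 1, -3, 1, -1, -1],
  [-1, -1, 1, 1, 1, -1, -1, 3, -1, 3, -1, 1, 1, -1, 3, 3, -1, 1, -1, -1, -1, 3, 1, 1],
  [1, 1, -1, 3, -1, 1, 1, 1, 1, -3, 1, -1, -1, -3, 1, 1, 1, -1, 1, 1, -3, 1, 3, -1],
  [3, -1, 1, 1, 1, -1, -1, -1, -1, -1, -1, 1, 1, -1, -1, -1, -1, 5, -1, -1, -1, -1, 1, -3],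
  [1, 1, -1, -1, 3, -3, 1, 1, 1, 1, 1, -1, -1, 1, 1, 1, 1, -1, 1, -3, 1, -3, 3, -1],
  [1, 1, -1, 3, -1, 1, -3, 1, 1, 1, 1, 3, -1, 1, 1, 1, 1, -1, -3, 1, 1, -3, -1, -1],
  [-1, 3, 1, 1, 1, -1, -1, -1, -1, -1, -1, 1, 1, 3, -1, 3, -1, 1, 3, 3, -1, -1, 1, 1],
  [1, 1, -1, -1, 3, 1, 1, 1, -3, 1, 1, 3, -1, -3, -3, 1, 1, -1, 1, 1, 1, 1, -1, -1],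
  [1, 1, -1, 3, 3, 1, 1, 1, 1, 1, -3, -1, -1, 1, 1, -3, -3, -1, 1, 1, 1, 1, -1, -1],
  [1, 1, 3, -1, -1, 1, 1, 1, 1, 1, -3, -1, 3, -3, 1, 1, 1, -1, 1, 1, 1, -3, -1, -1],
  [3, -1, 1, 1, 1, -1, -1, -1, -1, -1, -1, 1, 1, -1, -1, -1, -1, -3, -1, -1, -1, -1, 1, 5]]

/-- Data. -/
def T148 : List (List ℤ) := [[4, 2, 2, 0, 0, 0, 2, 2, 0, 2, 0, 0, 2, 0, 0, 0, 0, 0, 2, 0, 2, 0, 0, 4],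
  [0, 2, -2, 0, 4, 0, 2, -2, 0, 2, 0, 0, 2, 0, 0, 0, 0, 4, -2, 0, -2, 0, 0, 0],
  [0, -2, -2, 0, 0, 0, 2, 2, 0, -2, 4, 0, 2, 0, 0, 4, 0, 0, 2, 0, -2, 0, 0, 0],
  [2, 0, 0, 2, 2, 2, 0, 0, -2, 0, -2, 2, 0, -2, 2, 2, -2, -2, 0, -2, 0, 2, -2, -2],
  [2, 0, 0, -2, -2, -2, 0, 0, -2, 0, -2, 2, 0, 2, -2, 2, 2, 2, 0, -2, 0, 2, 2, -2],
  [0, 2, -2, 0, 0, 0, -2, 2, 0, -2, 0, 0, 2, 4, 4, 0, 0, 0, -2, 0, 2, 0, 0, 0],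
  [0, -2, -2, 0, 0, 0, 2, 2, 4, 2, 0, 4, -2, 0, 0, 0, 0, 0, -2, 0, 2, 0, 0, 0],
  [2, 0, 0, -2, 2, -2, 0, 0, -2, 0, 2, 2, 0, -2, 2, -2, 2, -2, 0, 2, 0, -2, 2, -2],
  [0, 2, 2, 0, 0, 0, -2, -2, 0, 2, 4, 0, -2, 0, 0, 4, 0, 0, -2, 0, 2, 0, 0, 0],
  [2, 0, 0, 2, 2, -2, 0, 0, 2, 0, -2, -2, 0, 2, -2, 2, -2, -2, 0, 2, 0, -2, 2, -2],
  [2, 0, 0, 2, -2, -2, 0, 0, 2, 0, 2, -2, 0, -2, 2, -2, -2, 2, 0, -2, 0, 2, 2, -2],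
  [0, -2, 2, 4, 0, 0, 2, -2, 0, -2, 0, 0, 2, 0, 0, 0, 4, 0, -2, 0, 2, 0, 0, 0],
  [0, 2, -2, 4, 0, 0, -2, 2, 0, 2, 0, 0, -2, 0, 0, 0, 4, 0, 2, 0, -2, 0, 0, 0],
  [0, 2, -2, 0, 0, 4, 2, -2, 0, -2, 0, 0, -2, 0, 0, 0, 0, 0, 2, 0, 2, 0, 4, 0],
  [2, 0, 0, 2, -2, 2, 0, 0, -2, 0, 2, 2, 0, 2, -2, -2, -2, 2, 0, 2, 0, -2, -2, -2],
  [0, -2, -2, 0, 0, 0, -2, -2, 0, 2, 0, 0, 2, 0, 0, 0, 0, 0, 2, 4, 2, 4, 0, 0],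
  [2, 0, 0, -2, 2, 2, 0, 0, 2, 0, 2, -2, 0, 2, -2, -2, 2, -2, 0, -2, 0, 2, -2, -2],
  [0, 2, 2, 0, 0, 0, 2, 2, 0, -2, 0, 0, -2, 0, 0, 0, 0, 0, -2, 4, -2, 4, 0, 0],
  [0, -2, 2, 0, 4, 0, -2, 2, 0, -2, 0, 0, -2, 0, 0, 0, 0, 4, 2, 0, 2, 0, 0, 0],
  [0, -2, 2, 0, 0, 4, -2, 2, 0, 2, 0, 0, 2, 0, 0, 0, 0, 0, -2, 0, -2, 0, 4, 0],
  [0, -2, 2, 0, 0, 0, 2, -2, 0, 2, 0, 0, -2, 4, 4, 0, 0, 0, 2, 0, -2, 0, 0, 0],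
  [2, 0, 0, -2, -2, 2, 0, 0, 2, 0, -2, -2, 0, -2, 2, 2, 2, 2, 0, 2, 0, -2, -2, -2],
  [0, 2, 2, 0, 0, 0, -2, -2, 4, -2, 0, 4, 2, 0, 0, 0, 0, 0, 2, 0, -2, 0, 0, 0],
  [4, -2, -2, 0, 0, 0, -2, -2, 0, -2, 0, 0, -2, 0, 0, 0, 0, 0, -2, 0, -2, 0, 0, 4]]

/-- Data. -/
def T149 : List (List ℤ) := [[5, 1, 1, 1, -1, 1, 1, 1, 1, -1, -1, 3, 1, 1, 1, 1, 1, -1, 1, 1, -1, -1, 1, 3],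
  [1, 1, 1, -3, -1, 1, 1, 1, 1, 3, 3, -1, -3, 1, -3, 1, 1, -1, 1, 1, -1, -1, 1, -1],
  [-1, -1, -1, -1, 1, -1, 3, -1, -1, 1, 1, 1, 3, 3, -1, -1, -1, 1, -1, 3, 1, 1, 3, 1],
  [1, -3, 1, 1, -1, 1, 1, -3, 1, -1, 3, -1, 1, 1, 1, 1, 1, 3, 1, 1, -1, -1, -3, -1],
  [1, 1, 1, 1, -1, 1, 1, 1, -3, -1, 3, -1, 1, 1, 1, -3, 1, -1, 1, -3, -1, 3, 1, -1],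
  [1, 1, 1, 1, 3, 1, 1, 1, -3, -1, -1, -1, 1, -3, -3, 1, 1, 3, 1, 1, -1, -1, 1, -1],
  [1, 1, 1, 1, -1, -3, 1, 1, 1, -1, -1, -1, -3, 1, 1, -3, 1, 3, 1, 1, 3, -1, 1, -1],
  [1, 1, 1, 1, 3, 1, 1, -3, 1, -1, -1, -1, -3, 1, 1, 1, -3, -1, 1, 1, -1, 3, 1, -1],
  [-1, -1, 3, 3, 1, -1, -1, 3, -1, 1, 1, 1, -1, 3, -1, 3, -1, 1, -1, -1, 1, 1, -1, 1],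
  [1, 1, 1, -3, -1, 1, -3, 1, 1, -1, -1, -1, 1, 1, 1, 1, 1, 3, -3, 1, -1, 3, 1, -1],
  [1, 1, -3, 1, -1, 1, 1, 1, 1, -1, -1, -1, 1, 1, -3, 1, 1, -1, 1, 1, 3, 3, -3, -1],
  [1, 1, -3, 1, 3, -3, -3, 1, 1, -1, 3, -1, 1, 1, 1, 1, 1, -1, 1, 1, -1, -1, 1, -1],
  [-1, -1, -1, -1, 1, 3, -1, 3, -1, 1, 1, 1, -1, -1, 3, -1, -1, 1, 3, 3, 1, 1, -1, 1],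
  [1, -3, 1, 1, -1, -3, 1, 1, 1, 3, -1, -1, 1, -3, 1, 1, 1, -1, 1, 1, -1, 3, 1, -1],
  [1, -3, 1, -3, 3, 1, 1, 1, 1, -1, -1, -1, 1, 1, 1, 1, 1, -1, 1, -3, 3, -1, 1, -1],
  [1, 1, -3, 1, -1, 1, 1, 1, 1, 3, -1, -1, 1, 1, 1, 1, -3, 3, 1, -3, -1, -1, 1, -1],
  [-1, 3, -1, -1, 1, -1, 3, -1, -1, 1, 1, 1, -1, -1, 3, 3, 3, 1, -1, -1, 1, 1, -1, 1],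
  [1, 1, 1, 1, -1, 1, -3, -3, -3, 3, -1, -1, 1, 1, 1, 1, 1, -1, 1, 1, 3, -1, 1, -1],
  [1, 1, 1, 1, 3, 1, 1, 1, 1, 3, -1, -1, 1, 1, 1, -3, 1, -1, -3, 1, -1, -1, -3, -1],
  [3, -1, -1, -1, 1, -1, -1, -1, -1, 1, 1, 5, -1, -1, -1, -1, -1, 1, -1, -1, 1, 1, -1, -3],
  [1, 1, 1, 1, -1, 1, 1, 1, 1, -1, 3, -1, 1, -3, 1, 1, -3, -1, -3, 1, 3, -1, 1, -1],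
  [-1, 3, 3, -1, 1, -1, -1, -1, 3, 1, 1, 1, 3, -1, -1, -1, -1, 1, 3, -1, 1, 1, -1, 1],
  [-1, -1, -1, 3, 1, 3, -1, -1, 3, 1, 1, 1, -1, -1, -1, -1, 3, 1, -1, -1, 1, 1, 3, 1],
  [3, -1, -1, -1, 1, -1, -1, -1, -1, 1, 1, -3, -1, -1, -1, -1, -1, 1, -1, -1, 1, 1, -1, 5]]

/-- Data. -/
def T150 : List (List ℤ) := [[5, 1, -1, 1, 1, 1, 1, 1, 1, 1, -1, -1, 1, 1, -1, -1, 1, 3, -1, 1, 1, 1, 1, 3],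
  [1, 1, -1, -3, 1, 1, -3, 1, 1, 1, -1, 3, 1, 1, -1, -1, 1, -1, 3, 1, 1, -3, 1, -1],
  [-1, -1, 1, -1, -1, 3, 3, 3, -1, -1, 1, 1, -1, 3, 1, 1, 3, 1, 1, -1, -1, -1, -1, 1],
  [1, 1, 3, 1, 1, 1, 1, 1, 1, -3, -1, 3, 1, 1, -1, -1, -3, -1, -1, -3, 1, 1, 1, -1],
  [1, -3, -1, 1, 1, 1, 1, -3, 1, 1, 3, 3, 1, 1, -1, -1, 1, -1, -1, 1, 1, 1, -3, -1],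
  [1, -3, -1, 1, 1, 1, 1, 1, 1, 1, -1, -1, 1, -3, -1, 3, 1, -1, 3, -3, 1, 1, 1, -1],
  [1, 1, -1, 1, 1, 1, 1, 1, 1, 1, -1, -1, -3, 1, 3, -1, -3, -1, 3, 1, 1, 1, -3, -1],
  [-1, -1, 1, 3, -1, -1, -1, 3, 3, -1, 1, 1, 3, -1, 1, 1, -1, 1, 1, 3, -1, -1, -1, 1],
  [1, 1, 3, 1, 1, 1, 1, 1, 1, 1, 3, -1, -3, -3, -1, -1, 1, -1, -1, 1, 1, -3, 1, -1],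
  [-1, 3, 1, -1, 3, -1, 3, -1, -1, 3, 1, 1, 3, -1, 1, 1, -1, 1, 1, -1, -1, -1, -1, 1],
  [1, 1, -1, 1, 1, 1, -3, 1, 1, 1, 3, -1, 1, 1, 3, -1, 1, -1, -1, -3, -3, 1, 1, -1],
  [1, 1, -1, 1, 1, -3, 1, 1, 1, 1, -1, 3, -3, 1, -1, 3, 1, -1, -1, 1, -3, 1, 1, -1],
  [1, 1, -1, -3, -3, 1, 1, 1, 1, 1, 3, -1, 1, 1, -1, 3, -3, -1, -1, 1, 1, 1, 1, -1],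
  [-1, -1, 1, 3, -1, -1, -1, -1, -1, 3, 1, 1, -1, 3, 1, 1, -1, 1, 1, -1, 3, -1, 3, 1],
  [1, -3, 3, -3, 1, -3, 1, 1, 1, 1, -1, -1, 1, 1, 3, -1, 1, -1, -1, 1, 1, 1, 1, -1],
  [1, 1, 3, 1, 1, 1, -3, 1, -3, 1, -1, -1, 1, 1, -1, 3, 1, -1, -1, 1, 1, 1, -3, -1],
  [-1, 3, 1, -1, -1, -1, -1, -1, 3, -1, 1, 1, -1, -1, 1, 1, 3, 1, 1, -1, 3, 3, -1, 1],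
  [1, 1, -1, 1, 1, 1, 1, -3, 1, -3, -1, -1, 1, 1, 3, 3, 1, -1, -1, 1, 1, -3, 1, -1],
  [1, 1, 3, 1, -3, 1, 1, -3, 1, 1, -1, -1, 1, 1, -1, -1, 1, -1, 3, 1, -3, 1, 1, -1],
  [1, 1, -1, 1, -3, 1, 1, 1, -3, 1, -1, 3, 1, -3, 3, -1, 1, -1, -1, 1, 1, 1, 1, -1],
  [3, -1, 1, -1, -1, -1, -1, -1, -1, -1, 1, 1, -1, -1, 1, 1, -1, 5, 1, -1, -1, -1, -1, -3],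
  [-1, -1, 1, -1, 3, 3, -1, -1, -1, -1, 1, 1, -1, -1, 1, 1, -1, 1, 1, 3, -1, 3, 3, 1],
  [1, 1, -1, 1, 1, -3, 1, 1, -3, -3, 3, -1, 1, 1, -1, -1, 1, -1, 3, 1, 1, 1, 1, -1],
  [3, -1, 1, -1, -1, -1, -1, -1, -1, -1, 1, 1, -1, -1, 1, 1, -1, -3, 1, -1, -1, -1, -1, 5]]

/-- Data. -/
def T151 : List (List ℤ) := [[5, 1, 1, 1, 1, 1, -1, 1, -1, 1, 1, 1, 1, -1, -1, 1, 3, 1, 1, 1, -1, 1, -1, 3],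
  [1, 1, 1, -3, 1, -3, -1, 1, 3, 1, 1, -3, 1, -1, -1, 1, -1, 1, 1, 1, -1, 1, 3, -1],
  [-1, -1, 3, -1, -1, 3, 1, -1, 1, -1, -1, -1, -1, 1, 1, 3, 1, -1, 3, -1, 1, 3, 1, 1],
  [1, 1, 1, 1, 1, 1, 3, 1, -1, -3, -3, 1, 1, -1, -1, 1, -1, 1, 1, 1, -1, -3, 3, -1],
  [1, 1, -3, 1, 1, 1, -1, -3, 3, 1, -3, 1, 1, -1, 3, 1, -1, 1, 1, 1, -1, 1, -1, -1],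
  [1, 1, 1, 1, -3, 1, 3, 1, 3, 1, 1, 1, 1, -1, -1, 1, -1, 1, -3, -3, -1, 1, -1, -1],
  [1, -3, 1, 1, 1, 1, 3, 1, -1, 1, 1, -3, 1, -1, 3, -3, -1, 1, 1, 1, -1, 1, -1, -1],
  [1, -3, 1, 1, 1, 1, -1, 1, 3, 1, 1, 1, 1, -1, -1, 1, -1, -3, 1, 1, 3, -3, -1, -1],
  [1, 1, 1, 1, 1, 1, -1, 1, 3, -3, 1, 1, -3, 3, -1, -3, -1, 1, 1, 1, -1, 1, -1, -1],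
  [1, 1, 1, 1, 1, -3, 3, -3, -1, 1, 1, 1, 1, 3, -1, 1, -1, -3, 1, 1, -1, 1, -1, -1],
  [-1, 3, -1, -1, -1, 3, 1, -1, 1, -1, 3, -1, 3, 1, 1, -1, 1, -1, -1, 3, 1, -1, 1, 1],
  [-1, -1, -1, -1, 3, -1, 1, 3, 1, -1, -1, 3, 3, 1, 1, -1, 1, -1, -1, -1, 1, 3, 1, 1],
  [1, -3, -3, 1, -3, 1, -1, 1, -1, 1, 1, 1, 1, 3, -1, 1, -1, 1, 1, 1, -1, 1, 3, -1],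
  [1, 1, 1, -3, 1, 1, -1, 1, -1, 1, 1, 1, 1, 3, 3, 1, -1, 1, 1, -3, -1, -3, -1, -1],
  [-1, -1, 3, -1, -1, -1, 1, -1, 1, 3, -1, 3, -1, 1, 1, -1, 1, 3, -1, 3, 1, -1, 1, 1],
  [3, -1, -1, -1, -1, -1, 1, -1, 1, -1, -1, -1, -1, 1, 1, -1, 5, -1, -1, -1, 1, -1, 1, -3],
  [1, 1, 1, 1, 1, 1, -1, 1, -1, 1, -3, -3, 1, 3, -1, 1, -1, 1, -3, 1, 3, 1, -1, -1],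
  [-1, -1, -1, 3, 3, -1, 1, -1, 1, -1, 3, -1, -1, 1, 1, 3, 1, 3, -1, -1, 1, -1, 1, 1],
  [-1, 3, -1, 3, -1, -1, 1, 3, 1, 3, -1, -1, -1, 1, 1, -1, 1, -1, 3, -1, 1, -1, 1, 1],
  [1, 1, -3, -3, 1, 1, 3, 1, -1, 1, 1, 1, -3, -1, -1, 1, -1, 1, 1, 1, 3, 1, -1, -1],
  [1, 1, 1, 1, -3, -3, -1, 1, -1, -3, 1, 1, 1, -1, 3, 1, -1, 1, 1, 1, 3, 1, -1, -1],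
  [1, 1, 1, 1, 1, 1, -1, 1, -1, 1, 1, 1, -3, -1, 3, 1, -1, -3, -3, 1, -1, 1, 3, -1],
  [1, 1, 1, 1, 1, 1, -1, -3, -1, 1, 1, 1, 1, -1, -1, -3, -1, 1, 1, -3, 3, 1, 3, -1],
  [3, -1, -1, -1, -1, -1, 1, -1, 1, -1, -1, -1, -1, 1, 1, -1, -3, -1, -1, -1, 1, -1, 1, 5]]

/-- Data. -/
def T152 : List (List ℤ) := [[6, 2, 0, 0, 0, 0, 0, 0, 2, 0, 0, 0, 0, 0, 0, 0, -2, 2, 0, 0, 2, 2, 0, 2],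
  [0, 0, -2, 2, -2, 2, -2, -2, 0, -2, 2, 2, 2, 2, 2, -2, 0, 0, 2, 2, 0, 0, 2, 0],
  [0, 0, 2, -2, -2, 2, 2, 2, 0, -2, 2, 2, -2, 2, 2, 2, 0, 0, 2, -2, 0, 0, -2, 0],
  [0, 0, 2, 2, 2, 2, 2, -2, 0, -2, 2, -2, 2, -2, -2, 2, 0, 0, 2, 2, 0, 0, -2, 0],
  [0, 0, -2, 2, 2, 2, 2, -2, 0, 2, 2, 2, -2, -2, 2, 2, 0, 0, -2, -2, 0, 0, 2, 0],
  [2, -2, 0, 0, 0, 0, 0, 0, 6, 0, 0, 0, 0, 0, 0, 0, 2, -2, 0, 0, -2, -2, 0, -2],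
  [0, 0, -2, 2, 2, 2, 2, 2, 0, 2, -2, -2, -2, 2, 2, -2, 0, 0, 2, 2, 0, 0, -2, 0],
  [0, 0, 2, 2, -2, 2, -2, 2, 0, 2, -2, 2, -2, -2, -2, 2, 0, 0, 2, 2, 0, 0, 2, 0],
  [0, 0, 2, 2, 2, 2, 2, 2, 0, -2, -2, 2, 2, 2, -2, -2, 0, 0, -2, -2, 0, 0, 2, 0],
  [0, 0, 2, -2, 2, -2, 2, -2, 0, 2, 2, 2, -2, 2, -2, -2, 0, 0, 2, 2, 0, 0, 2, 0],
  [0, 0, -2, 2, 2, -2, -2, 2, 0, 2, 2, 2, 2, 2, -2, 2, 0, 0, 2, -2, 0, 0, -2, 0],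
  [2, -2, 0, 0, 0, 0, 0, 0, -2, 0, 0, 0, 0, 0, 0, 0, 2, -2, 0, 0, -2, 6, 0, -2],
  [2, 6, 0, 0, 0, 0, 0, 0, -2, 0, 0, 0, 0, 0, 0, 0, 2, -2, 0, 0, -2, -2, 0, -2],
  [0, 0, 2, -2, 2, 2, -2, -2, 0, 2, -2, -2, 2, 2, 2, 2, 0, 0, 2, -2, 0, 0, 2, 0],
  [0, 0, 2, 2, -2, -2, 2, -2, 0, 2, -2, 2, 2, 2, 2, 2, 0, 0, -2, 2, 0, 0, -2, 0],
  [-2, 2, 0, 0, 0, 0, 0, 0, 2, 0, 0, 0, 0, 0, 0, 0, 6, 2, 0, 0, 2, 2, 0, 2],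
  [0, 0, 2, 2, 2, -2, -2, 2, 0, -2, 2, -2, -2, 2, 2, 2, 0, 0, -2, 2, 0, 0, 2, 0],
  [2, -2, 0, 0, 0, 0, 0, 0, -2, 0, 0, 0, 0, 0, 0, 0, 2, 6, 0, 0, -2, -2, 0, -2],
  [0, 0, 2, 2, -2, -2, 2, 2, 0, 2, 2, -2, 2, -2, 2, -2, 0, 0, 2, -2, 0, 0, 2, 0],
  [0, 0, -2, -2, 2, -2, 2, 2, 0, -2, -2, 2, 2, -2, 2, 2, 0, 0, 2, 2, 0, 0, 2, 0],
  [2, -2, 0, 0, 0, 0, 0, 0, -2, 0, 0, 0, 0, 0, 0, 0, 2, -2, 0, 0, 6, -2, 0, -2],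
  [0, 0, 2, -2, 2, 2, -2, 2, 0, 2, 2, 2, 2, -2, 2, -2, 0, 0, -2, 2, 0, 0, -2, 0],
  [0, 0, -2, -2, -2, 2, 2, 2, 0, 2, 2, -2, 2, 2, -2, 2, 0, 0, -2, 2, 0, 0, 2, 0],
  [2, -2, 0, 0, 0, 0, 0, 0, -2, 0, 0, 0, 0, 0, 0, 0, 2, -2, 0, 0, -2, -2, 0, 6]]

/-- Data. -/
def T153 : List (List ℤ) := [[5, 1, -1, -1, 1, 1, 1, 1, 1, -1, 1, 1, 1, 1, -1, 3, -1, 1, 1, 1, 1, 1, -1, 3],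
  [1, 1, -1, -1, -3, 1, 1, 1, 1, 3, 1, -3, 1, 1, -1, -1, -1, 1, -3, 1, 1, 1, 3, -1],
  [1, 1, 3, -1, -3, 1, 1, 1, 1, -1, 1, 1, -3, 1, 3, -1, -1, 1, 1, -3, 1, 1, -1, -1],
  [1, 1, -1, 3, -3, 1, 1, 1, 1, -1, -3, 1, 1, 1, -1, -1, 3, -3, 1, 1, 1, 1, -1, -1],
  [1, 1, -1, -1, 1, 1, 1, 1, -3, 3, 1, 1, -3, -3, -1, -1, 3, 1, 1, 1, 1, 1, -1, -1],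
  [-1, 3, 1, 1, 3, 3, -1, 3, 3, 1, -1, -1, -1, -1, 1, 1, 1, -1, -1, -1, -1, -1, 1, 1],
  [1, -3, 3, -1, 1, 1, 1, 1, 1, 3, -3, 1, 1, 1, -1, -1, -1, 1, 1, 1, -3, 1, -1, -1],
  [1, -3, -1, 3, 1, 1, 1, 1, 1, -1, 1, 1, -3, 1, -1, -1, -1, 1, 1, 1, 1, -3, 3, -1],
  [1, 1, 3, 3, 1, 1, 1, -3, 1, -1, 1, -3, 1, -3, -1, -1, -1, 1, 1, 1, 1, 1, -1, -1],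
  [1, 1, -1, -1, 1, 1, 1, -3, 1, 3, 1, 1, 1, 1, 3, -1, -1, -3, 1, 1, 1, -3, -1, -1],
  [1, 1, -1, -1, 1, 1, 1, -3, 1, -1, 1, 1, 1, 1, -1, -1, 3, 1, 1, -3, -3, 1, 3, -1],
  [1, 1, -1, -1, 1, -3, 1, 1, 1, -1, -3, 1, 1, -3, 3, -1, -1, 1, 1, 1, 1, 1, 3, -1],
  [1, 1, -1, 3, 1, -3, -3, 1, 1, 3, 1, 1, 1, 1, -1, -1, -1, 1, 1, -3, 1, 1, -1, -1],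
  [-1, 3, 1, 1, -1, -1, -1, -1, -1, 1, -1, -1, -1, 3, 1, 1, 1, 3, 3, 3, -1, -1, 1, 1],
  [-1, -1, 1, 1, 3, -1, 3, -1, -1, 1, -1, -1, -1, 3, 1, 1, 1, -1, -1, -1, 3, 3, 1, 1],
  [1, 1, 3, -1, 1, -3, 1, 1, 1, -1, 1, 1, 1, 1, -1, -1, 3, 1, -3, 1, 1, -3, -1, -1],
  [1, -3, -1, -1, 1, 1, -3, 1, 1, -1, 1, -3, 1, 1, 3, -1, 3, 1, 1, 1, 1, 1, -1, -1],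
  [3, -1, 1, 1, -1, -1, -1, -1, -1, 1, -1, -1, -1, -1, 1, 5, 1, -1, -1, -1, -1, -1, 1, -3],
  [-1, -1, 1, 1, -1, -1, 3, 3, -1, 1, 3, -1, 3, -1, 1, 1, 1, -1, 3, -1, -1, -1, 1, 1],
  [1, 1, -1, 3, 1, 1, 1, 1, -3, -1, 1, 1, 1, 1, 3, -1, -1, 1, -3, 1, -3, 1, -1, -1],
  [-1, -1, 1, 1, -1, 3, -1, -1, -1, 1, -1, 3, 3, -1, 1, 1, 1, 3, -1, -1, 3, -1, 1, 1],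
  [-1, -1, 1, 1, -1, -1, -1, -1, 3, 1, 3, 3, -1, -1, 1, 1, 1, -1, -1, 3, -1, 3, 1, 1],
  [1, 1, 3, -1, 1, 1, -3, 1, -3, -1, 1, 1, 1, 1, -1, -1, -1, -3, 1, 1, 1, 1, 3, -1],
  [3, -1, 1, 1, -1, -1, -1, -1, -1, 1, -1, -1, -1, -1, 1, -3, 1, -1, -1, -1, -1, -1, 1, 5]]

/-- Data. -/
def T154 : List (List ℤ) := [[4, 2, 0, 2, 2, 0, 0, 0, 2, 0, 2, 0, 0, 0, 0, 2, 0, 0, 0, 0, 2, 2, 0, 4],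
  [0, -2, 0, -2, 2, 0, 0, 0, 2, 0, 2, 0, 4, 0, 0, -2, 0, 0, 0, 0, 2, -2, 4, 0],
  [0, -2, 0, 2, -2, 0, 0, 0, 2, 0, -2, 0, 0, 0, 4, 2, 0, 0, 4, 0, 2, -2, 0, 0],
  [0, 2, 0, -2, 2, 4, 0, 4, 2, 0, -2, 0, 0, 0, 0, 2, 0, 0, 0, 0, -2, -2, 0, 0],
  [0, -2, 0, -2, -2, 0, 0, 0, 2, 0, 2, 4, 0, 0, 0, 2, 0, 0, 0, 4, -2, 2, 0, 0],
  [2, 0, 2, 0, 0, -2, 2, 2, 0, -2, 0, 2, -2, -2, -2, 0, 2, -2, 2, -2, 0, 0, 2, -2],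
  [0, -2, 4, 2, 2, 0, 0, 0, 2, 4, -2, 0, 0, 0, 0, -2, 0, 0, 0, 0, -2, 2, 0, 0],
  [2, 0, 2, 0, 0, 2, 2, -2, 0, -2, 0, -2, 2, -2, -2, 0, -2, 2, 2, 2, 0, 0, -2, -2],
  [0, -2, 0, 2, -2, 4, 0, 4, -2, 0, 2, 0, 0, 0, 0, -2, 0, 0, 0, 0, 2, 2, 0, 0],
  [0, 2, 0, -2, 2, 0, 0, 0, -2, 0, 2, 0, 0, 0, 4, -2, 0, 0, 4, 0, -2, 2, 0, 0],
  [0, 2, 0, 2, -2, 0, 0, 0, -2, 0, -2, 0, 4, 0, 0, 2, 0, 0, 0, 0, -2, 2, 4, 0],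
  [2, 0, -2, 0, 0, -2, 2, 2, 0, 2, 0, -2, 2, -2, 2, 0, 2, -2, -2, 2, 0, 0, -2, -2],
  [2, 0, -2, 0, 0, 2, -2, -2, 0, 2, 0, -2, -2, 2, -2, 0, 2, -2, 2, 2, 0, 0, 2, -2],
  [0, 2, 4, -2, -2, 0, 0, 0, -2, 4, 2, 0, 0, 0, 0, 2, 0, 0, 0, 0, 2, -2, 0, 0],
  [0, -2, 0, -2, 2, 0, 4, 0, -2, 0, -2, 0, 0, 4, 0, 2, 0, 0, 0, 0, 2, 2, 0, 0],
  [0, 2, 0, -2, -2, 0, 0, 0, 2, 0, -2, 0, 0, 0, 0, -2, 4, 4, 0, 0, 2, 2, 0, 0],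
  [2, 0, 2, 0, 0, -2, -2, 2, 0, -2, 0, -2, -2, 2, 2, 0, -2, 2, -2, 2, 0, 0, 2, -2],
  [2, 0, 2, 0, 0, 2, -2, -2, 0, -2, 0, 2, 2, 2, 2, 0, 2, -2, -2, -2, 0, 0, -2, -2],
  [0, 2, 0, 2, -2, 0, 4, 0, 2, 0, 2, 0, 0, 4, 0, -2, 0, 0, 0, 0, -2, -2, 0, 0],
  [2, 0, -2, 0, 0, 2, 2, -2, 0, 2, 0, 2, -2, -2, 2, 0, -2, 2, -2, -2, 0, 0, 2, -2],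
  [0, -2, 0, 2, 2, 0, 0, 0, -2, 0, 2, 0, 0, 0, 0, 2, 4, 4, 0, 0, -2, -2, 0, 0],
  [0, 2, 0, 2, 2, 0, 0, 0, -2, 0, -2, 4, 0, 0, 0, -2, 0, 0, 0, 4, 2, -2, 0, 0],
  [2, 0, -2, 0, 0, -2, -2, 2, 0, 2, 0, 2, 2, 2, -2, 0, -2, 2, 2, -2, 0, 0, -2, -2],
  [4, -2, 0, -2, -2, 0, 0, 0, -2, 0, -2, 0, 0, 0, 0, -2, 0, 0, 0, 0, -2, -2, 0, 4]]

/-- Data. -/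
def T155 : List (List ℤ) := [[5, 1, 1, 1, 1, -1, -1, 1, 1, -1, 1, 3, 1, 1, -1, 1, 1, -1, 1, 1, 1, 1, -1, 3],
  [1, 1, 1, -3, 1, -1, 3, 1, 1, -1, 1, -1, 1, 1, -1, 1, 1, 3, -3, 1, 1, -3, -1, -1],
  [-1, 3, 3, -1, -1, 1, 1, -1, 3, 1, -1, 1, 3, -1, 1, -1, -1, 1, 3, -1, -1, -1, 1, 1],
  [1, 1, -3, 1, 1, -1, -1, 1, 1, -1, 1, -1, 1, 1, 3, 1, 1, -1, 1, 1, -3, -3, 3, -1],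
  [-1, -1, -1, -1, -1, 1, 1, -1, 3, 1, 3, 1, -1, -1, 1, 3, -1, 1, -1, 3, -1, 3, 1, 1],
  [1, 1, 1, -3, 1, 3, -1, 1, -3, -1, 1, -1, 1, 1, -1, 1, -3, -1, 1, 1, 1, 1, 3, -1],
  [1, 1, 1, 1, 1, -1, 3, -3, -3, 3, 1, -1, 1, 1, -1, 1, 1, -1, 1, 1, -3, 1, -1, -1],
  [1, 1, -3, 1, 1, -1, -1, 1, 1, 3, 1, -1, 1, 1, -1, 1, -3, 3, 1, -3, 1, 1, -1, -1],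
  [1, 1, 1, 1, -3, -1, -1, 1, 1, 3, 1, -1, 1, 1, -1, -3, 1, -1, -3, 1, 1, 1, 3, -1],
  [1, 1, 1, -3, 1, -1, -1, 1, 1, 3, -3, -1, -3, 1, 3, 1, 1, -1, 1, 1, 1, 1, -1, -1],
  [1, 1, 1, 1, -3, -1, -1, 1, -3, -1, 1, -1, 1, -3, 3, 1, 1, 3, 1, 1, 1, 1, -1, -1],
  [3, -1, -1, -1, -1, 1, 1, -1, -1, 1, -1, 5, -1, -1, 1, -1, -1, 1, -1, -1, -1, -1, 1, -3],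
  [1, 1, 1, 1, 1, 3, -1, -3, 1, -1, 1, -1, 1, 1, 3, 1, 1, -1, -3, -3, 1, 1, -1, -1],
  [-1, -1, 3, 3, -1, 1, 1, 3, -1, 1, -1, 1, -1, 3, 1, 3, -1, 1, -1, -1, -1, -1, 1, 1],
  [1, -3, 1, 1, 1, -1, 3, 1, 1, -1, 1, -1, 1, 1, 3, -3, -3, -1, 1, 1, 1, 1, -1, -1],
  [1, 1, -3, 1, -3, 3, 3, 1, 1, -1, -3, -1, 1, 1, -1, 1, 1, -1, 1, 1, 1, 1, -1, -1],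
  [1, 1, 1, 1, 1, -1, 3, 1, 1, -1, 1, -1, -3, -3, -1, 1, 1, -1, 1, -3, 1, 1, 3, -1],
  [1, 1, 1, 1, 1, 3, -1, 1, 1, -1, 1, -1, -3, 1, -1, -3, 1, 3, 1, 1, -3, 1, -1, -1],
  [-1, -1, -1, -1, -1, 1, 1, -1, -1, 1, 3, 1, -1, 3, 1, -1, 3, 1, 3, -1, 3, -1, 1, 1],
  [-1, -1, -1, -1, 3, 1, 1, 3, -1, 1, -1, 1, 3, -1, 1, -1, 3, 1, -1, -1, -1, 3, 1, 1],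
  [1, -3, 1, 1, 1, 3, -1, 1, 1, 3, 1, -1, 1, -3, -1, 1, 1, -1, 1, 1, 1, -3, -1, -1],
  [-1, 3, -1, 3, 3, 1, 1, -1, -1, 1, -1, 1, -1, -1, 1, -1, -1, 1, -1, 3, 3, -1, 1, 1],
  [1, -3, 1, 1, 1, -1, -1, -3, 1, -1, -3, -1, 1, 1, -1, 1, 1, 3, 1, 1, 1, 1, 3, -1],
  [3, -1, -1, -1, -1, 1, 1, -1, -1, 1, -1, -3, -1, -1, 1, -1, -1, 1, -1, -1, -1, -1, 1, 5]]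

/-- Data. -/
def T156 : List (List ℤ) := [[6, 0, 0, 2, 0, 0, 0, 0, 0, 2, 0, 0, 0, -2, 0, 0, 0, 2, 0, 0, 2, 0, 2, 2],
  [0, 2, -2, 0, 2, 2, -2, 2, -2, 0, 2, -2, 2, 0, 2, 2, -2, 0, 2, 2, 0, -2, 0, 0],
  [0, -2, 2, 0, -2, 2, 2, 2, -2, 0, 2, 2, -2, 0, 2, 2, 2, 0, 2, -2, 0, -2, 0, 0],
  [2, 0, 0, 6, 0, 0, 0, 0, 0, -2, 0, 0, 0, 2, 0, 0, 0, -2, 0, 0, -2, 0, -2, -2],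
  [0, 2, -2, 0, 2, 2, 2, -2, 2, 0, 2, 2, -2, 0, 2, 2, -2, 0, -2, -2, 0, 2, 0, 0],
  [0, 2, 2, 0, 2, 2, 2, 2, 2, 0, 2, -2, -2, 0, -2, -2, 2, 0, -2, 2, 0, -2, 0, 0],
  [0, -2, 2, 0, 2, 2, 2, -2, 2, 0, -2, 2, 2, 0, 2, -2, -2, 0, 2, 2, 0, -2, 0, 0],
  [0, 2, 2, 0, -2, 2, -2, 2, 2, 0, -2, 2, -2, 0, -2, 2, -2, 0, 2, 2, 0, 2, 0, 0],
  [0, -2, -2, 0, 2, 2, 2, 2, 2, 0, -2, -2, 2, 0, -2, 2, 2, 0, 2, -2, 0, 2, 0, 0],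
  [2, 0, 0, -2, 0, 0, 0, 0, 0, 6, 0, 0, 0, 2, 0, 0, 0, -2, 0, 0, -2, 0, -2, -2],
  [0, 2, 2, 0, 2, 2, -2, -2, -2, 0, 2, 2, 2, 0, -2, -2, 2, 0, 2, -2, 0, 2, 0, 0],
  [0, -2, 2, 0, 2, -2, 2, 2, -2, 0, 2, 2, 2, 0, -2, 2, -2, 0, -2, 2, 0, 2, 0, 0],
  [0, 2, -2, 0, -2, -2, 2, -2, 2, 0, 2, 2, 2, 0, -2, 2, 2, 0, 2, 2, 0, -2, 0, 0],
  [-2, 0, 0, 2, 0, 0, 0, 0, 0, 2, 0, 0, 0, 6, 0, 0, 0, 2, 0, 0, 2, 0, 2, 2],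
  [0, 2, 2, 0, 2, -2, 2, -2, -2, 0, -2, -2, -2, 0, 2, 2, 2, 0, 2, 2, 0, 2, 0, 0],
  [0, 2, 2, 0, 2, -2, -2, 2, 2, 0, -2, 2, 2, 0, 2, 2, 2, 0, -2, -2, 0, -2, 0, 0],
  [0, -2, 2, 0, -2, 2, -2, -2, 2, 0, 2, -2, 2, 0, 2, 2, 2, 0, -2, 2, 0, 2, 0, 0],
  [2, 0, 0, -2, 0, 0, 0, 0, 0, -2, 0, 0, 0, 2, 0, 0, 0, -2, 0, 0, 6, 0, -2, -2],
  [0, 2, 2, 0, -2, -2, 2, 2, 2, 0, 2, -2, 2, 0, 2, -2, -2, 0, 2, -2, 0, 2, 0, 0],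
  [0, 2, -2, 0, -2, 2, 2, 2, -2, 0, -2, 2, 2, 0, 2, -2, 2, 0, -2, 2, 0, 2, 0, 0],
  [2, 0, 0, -2, 0, 0, 0, 0, 0, -2, 0, 0, 0, 2, 0, 0, 0, 6, 0, 0, -2, 0, -2, -2],
  [0, -2, -2, 0, 2, -2, -2, 2, 2, 0, 2, 2, -2, 0, 2, -2, 2, 0, 2, 2, 0, 2, 0, 0],
  [2, 0, 0, -2, 0, 0, 0, 0, 0, -2, 0, 0, 0, 2, 0, 0, 0, -2, 0, 0, -2, 0, 6, -2],
  [2, 0, 0, -2, 0, 0, 0, 0, 0, -2, 0, 0, 0, 2, 0, 0, 0, -2, 0, 0, -2, 0, -2, 6]]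

/-- Data. -/
def T157 : List (List ℤ) := [[6, 2, 0, 0, 2, 0, 2, 0, 0, -2, 0, 0, 2, 0, 0, 0, 0, 2, 0, 0, 0, 0, 0, 2],
  [2, -2, 0, 0, -2, 0, -2, 0, 0, 2, 0, 0, 6, 0, 0, 0, 0, -2, 0, 0, 0, 0, 0, -2],
  [0, 0, 2, 2, 0, -2, 0, 2, 2, 0, -2, -2, 0, 2, 2, 2, 2, 0, 2, -2, -2, 2, -2, 0],
  [0, 0, 2, 2, 0, 2, 0, 2, 2, 0, -2, 2, 0, 2, -2, -2, -2, 0, -2, -2, 2, 2, 2, 0],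
  [2, -2, 0, 0, 6, 0, -2, 0, 0, 2, 0, 0, -2, 0, 0, 0, 0, -2, 0, 0, 0, 0, 0, -2],
  [0, 0, -2, 2, 0, 2, 0, 2, 2, 0, 2, 2, 0, -2, 2, -2, 2, 0, 2, -2, 2, -2, -2, 0],
  [2, -2, 0, 0, -2, 0, 6, 0, 0, 2, 0, 0, -2, 0, 0, 0, 0, -2, 0, 0, 0, 0, 0, -2],
  [0, 0, 2, 2, 0, 2, 0, 2, -2, 0, -2, 2, 0, -2, -2, 2, 2, 0, 2, 2, -2, -2, 2, 0],
  [0, 0, 2, 2, 0, 2, 0, -2, 2, 0, 2, -2, 0, -2, -2, 2, -2, 0, 2, 2, 2, 2, -2, 0],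
  [-2, 2, 0, 0, 2, 0, 2, 0, 0, 6, 0, 0, 2, 0, 0, 0, 0, 2, 0, 0, 0, 0, 0, 2],
  [0, 0, -2, -2, 0, 2, 0, -2, 2, 0, 2, 2, 0, 2, -2, 2, 2, 0, 2, -2, -2, 2, 2, 0],
  [0, 0, -2, 2, 0, 2, 0, 2, -2, 0, 2, 2, 0, 2, 2, 2, -2, 0, -2, 2, -2, 2, -2, 0],
  [2, 6, 0, 0, -2, 0, -2, 0, 0, 2, 0, 0, -2, 0, 0, 0, 0, -2, 0, 0, 0, 0, 0, -2],
  [0, 0, 2, 2, 0, -2, 0, -2, -2, 0, 2, 2, 0, 2, 2, 2, -2, 0, 2, -2, 2, -2, 2, 0],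
  [0, 0, 2, -2, 0, 2, 0, -2, -2, 0, -2, 2, 0, 2, 2, -2, 2, 0, 2, 2, 2, 2, -2, 0],
  [0, 0, 2, -2, 0, -2, 0, 2, 2, 0, 2, 2, 0, 2, -2, 2, 2, 0, -2, 2, 2, -2, -2, 0],
  [0, 0, 2, -2, 0, 2, 0, 2, -2, 0, 2, -2, 0, -2, 2, 2, 2, 0, -2, -2, 2, 2, 2, 0],
  [2, -2, 0, 0, -2, 0, -2, 0, 0, 2, 0, 0, -2, 0, 0, 0, 0, 6, 0, 0, 0, 0, 0, -2],
  [0, 0, 2, -2, 0, 2, 0, 2, 2, 0, 2, -2, 0, 2, 2, -2, -2, 0, 2, 2, -2, -2, 2, 0],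
  [0, 0, -2, -2, 0, -2, 0, 2, 2, 0, -2, 2, 0, -2, 2, 2, -2, 0, 2, 2, 2, 2, 2, 0],
  [0, 0, -2, 2, 0, 2, 0, -2, 2, 0, -2, -2, 0, 2, 2, 2, 2, 0, -2, 2, 2, -2, 2, 0],
  [0, 0, 2, 2, 0, -2, 0, -2, 2, 0, 2, 2, 0, -2, 2, -2, 2, 0, -2, 2, -2, 2, 2, 0],
  [0, 0, -2, 2, 0, -2, 0, 2, -2, 0, 2, -2, 0, 2, -2, -2, 2, 0, 2, 2, 2, 2, 2, 0],
  [2, -2, 0, 0, -2, 0, -2, 0, 0, 2, 0, 0, -2, 0, 0, 0, 0, -2, 0, 0, 0, 0, 0, 6]]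

/-- Data. -/
def T158 : List (List ℤ) := [[6, 2, 2, 0, 0, 0, -2, 2, 0, 0, 0, 0, 0, 0, 0, 0, 0, 0, 0, 2, 0, 2, 0, 2],
  [0, 0, 0, -2, 2, 2, 0, 0, -2, -2, 2, 2, 2, 2, -2, 2, -2, -2, 2, 0, 2, 0, 2, 0],
  [2, -2, 6, 0, 0, 0, 2, -2, 0, 0, 0, 0, 0, 0, 0, 0, 0, 0, 0, -2, 0, -2, 0, -2],
  [0, 0, 0, 2, 2, 2, 0, 0, 2, -2, -2, -2, 2, -2, 2, -2, 2, -2, 2, 0, 2, 0, 2, 0],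
  [2, -2, -2, 0, 0, 0, 2, -2, 0, 0, 0, 0, 0, 0, 0, 0, 0, 0, 0, 6, 0, -2, 0, -2],
  [2, -2, -2, 0, 0, 0, 2, 6, 0, 0, 0, 0, 0, 0, 0, 0, 0, 0, 0, -2, 0, -2, 0, -2],
  [-2, 2, 2, 0, 0, 0, 6, 2, 0, 0, 0, 0, 0, 0, 0, 0, 0, 0, 0, 2, 0, 2, 0, 2],
  [0, 0, 0, 2, 2, 2, 0, 0, 2, -2, 2, 2, -2, 2, -2, -2, 2, 2, 2, 0, -2, 0, -2, 0],
  [0, 0, 0, 2, -2, 2, 0, 0, 2, 2, -2, 2, -2, -2, -2, 2, -2, 2, 2, 0, 2, 0, 2, 0],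
  [0, 0, 0, 2, 2, -2, 0, 0, -2, 2, -2, 2, 2, 2, 2, -2, -2, 2, 2, 0, -2, 0, 2, 0],
  [2, 6, -2, 0, 0, 0, 2, -2, 0, 0, 0, 0, 0, 0, 0, 0, 0, 0, 0, -2, 0, -2, 0, -2],
  [2, -2, -2, 0, 0, 0, 2, -2, 0, 0, 0, 0, 0, 0, 0, 0, 0, 0, 0, -2, 0, 6, 0, -2],
  [0, 0, 0, 2, -2, -2, 0, 0, 2, 2, 2, 2, 2, 2, -2, -2, 2, -2, -2, 0, 2, 0, 2, 0],
  [0, 0, 0, -2, -2, 2, 0, 0, -2, 2, 2, -2, -2, 2, 2, -2, 2, 2, 2, 0, 2, 0, 2, 0],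
  [0, 0, 0, -2, 2, -2, 0, 0, 2, 2, -2, 2, -2, 2, 2, 2, 2, -2, 2, 0, 2, 0, -2, 0],
  [0, 0, 0, 2, 2, -2, 0, 0, 2, -2, 2, -2, -2, 2, 2, 2, -2, 2, -2, 0, 2, 0, 2, 0],
  [0, 0, 0, 2, 2, 2, 0, 0, -2, 2, -2, -2, 2, 2, -2, 2, 2, 2, -2, 0, 2, 0, -2, 0],
  [0, 0, 0, -2, -2, 2, 0, 0, 2, -2, -2, 2, 2, 2, 2, 2, 2, 2, -2, 0, -2, 0, 2, 0],
  [0, 0, 0, 2, -2, 2, 0, 0, 2, 2, 2, -2, 2, 2, 2, 2, -2, -2, 2, 0, -2, 0, -2, 0],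
  [0, 0, 0, 2, 2, 2, 0, 0, -2, 2, 2, 2, -2, -2, 2, 2, 2, -2, -2, 0, -2, 0, 2, 0],
  [0, 0, 0, 2, -2, -2, 0, 0, -2, -2, 2, 2, 2, -2, 2, 2, 2, 2, 2, 0, 2, 0, -2, 0],
  [0, 0, 0, -2, 2, 2, 0, 0, 2, 2, 2, 2, 2, -2, 2, -2, -2, 2, -2, 0, 2, 0, -2, 0],
  [0, 0, 0, -2, 2, -2, 0, 0, 2, 2, 2, -2, 2, -2, -2, 2, 2, 2, 2, 0, -2, 0, 2, 0],
  [2, -2, -2, 0, 0, 0, 2, -2, 0, 0, 0, 0, 0, 0, 0, 0, 0, 0, 0, -2, 0, -2, 0, 6]]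

/-- Data. -/
def T159 : List (List ℤ) := [[6, 2, 0, 0, 0, 0, 0, 2, 0, 0, 2, 2, 0, 0, 0, 0, 0, 2, 0, 0, 0, 0, -2, 2],
  [2, -2, 0, 0, 0, 0, 0, -2, 0, 0, 6, -2, 0, 0, 0, 0, 0, -2, 0, 0, 0, 0, 2, -2],
  [0, 0, 2, -2, -2, 2, 2, 0, 2, -2, 0, 0, -2, 2, 2, 2, -2, 0, 2, -2, 2, 2, 0, 0],
  [0, 0, -2, 2, 2, 2, 2, 0, 2, -2, 0, 0, 2, -2, 2, -2, 2, 0, 2, -2, 2, -2, 0, 0],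
  [0, 0, -2, 2, 2, 2, 2, 0, -2, -2, 0, 0, 2, 2, 2, 2, -2, 0, -2, 2, -2, 2, 0, 0],
  [0, 0, 2, 2, 2, 2, -2, 0, 2, -2, 0, 0, -2, 2, -2, -2, 2, 0, 2, 2, -2, 2, 0, 0],
  [0, 0, 2, 2, 2, -2, 2, 0, 2, 2, 0, 0, -2, -2, 2, 2, -2, 0, 2, 2, -2, -2, 0, 0],
  [2, -2, 0, 0, 0, 0, 0, 6, 0, 0, -2, -2, 0, 0, 0, 0, 0, -2, 0, 0, 0, 0, 2, -2],
  [0, 0, 2, 2, -2, 2, 2, 0, 2, 2, 0, 0, 2, -2, -2, 2, 2, 0, -2, -2, -2, 2, 0, 0],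
  [0, 0, -2, -2, -2, -2, 2, 0, 2, 2, 0, 0, 2, 2, 2, -2, 2, 0, 2, 2, -2, 2, 0, 0],
  [2, 6, 0, 0, 0, 0, 0, -2, 0, 0, -2, -2, 0, 0, 0, 0, 0, -2, 0, 0, 0, 0, 2, -2],
  [2, -2, 0, 0, 0, 0, 0, -2, 0, 0, -2, 6, 0, 0, 0, 0, 0, -2, 0, 0, 0, 0, 2, -2],
  [0, 0, -2, 2, 2, -2, -2, 0, 2, 2, 0, 0, 2, 2, -2, 2, -2, 0, 2, -2, 2, 2, 0, 0],
  [0, 0, 2, -2, 2, 2, -2, 0, -2, 2, 0, 0, 2, 2, 2, 2, 2, 0, 2, -2, -2, -2, 0, 0],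
  [0, 0, 2, 2, 2, -2, 2, 0, -2, 2, 0, 0, -2, 2, 2, -2, 2, 0, -2, -2, 2, 2, 0, 0],
  [0, 0, 2, -2, 2, -2, 2, 0, 2, -2, 0, 0, 2, 2, -2, 2, 2, 0, -2, 2, 2, -2, 0, 0],
  [0, 0, -2, 2, -2, 2, -2, 0, 2, 2, 0, 0, -2, 2, 2, 2, 2, 0, -2, 2, 2, -2, 0, 0],
  [2, -2, 0, 0, 0, 0, 0, -2, 0, 0, -2, -2, 0, 0, 0, 0, 0, 6, 0, 0, 0, 0, 2, -2],
  [0, 0, 2, 2, -2, 2, 2, 0, -2, 2, 0, 0, 2, 2, -2, -2, -2, 0, 2, 2, 2, -2, 0, 0],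
  [0, 0, -2, -2, 2, 2, 2, 0, -2, 2, 0, 0, -2, -2, -2, 2, 2, 0, 2, 2, 2, 2, 0, 0],
  [0, 0, 2, 2, -2, -2, -2, 0, -2, -2, 0, 0, 2, -2, 2, 2, 2, 0, 2, 2, 2, 2, 0, 0],
  [0, 0, 2, -2, 2, 2, -2, 0, 2, 2, 0, 0, 2, -2, 2, -2, -2, 0, -2, 2, 2, 2, 0, 0],
  [-2, 2, 0, 0, 0, 0, 0, 2, 0, 0, 2, 2, 0, 0, 0, 0, 0, 2, 0, 0, 0, 0, 6, 2],
  [2, -2, 0, 0, 0, 0, 0, -2, 0, 0, -2, -2, 0, 0, 0, 0, 0, -2, 0, 0, 0, 0, 2, 6]]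

/-- Data. -/
def T160 : List (List ℤ) := [[4, 0, 0, 0, 2, 0, 0, 2, 2, 0, 2, 0, 2, 0, 0, 2, 2, 0, 0, 2, 0, 0, 0, 4],
  [0, 4, 0, 0, -2, 4, 0, -2, -2, 0, 2, 0, 2, 0, 0, -2, 2, 0, 0, 2, 0, 0, 0, 0],
  [0, 0, 4, 0, -2, 0, 0, 2, 2, 0, 2, 0, -2, 0, 4, -2, 2, 0, 0, -2, 0, 0, 0, 0],
  [0, 0, 0, 4, -2, 0, 0, 2, 2, 0, -2, 0, 2, 0, 0, -2, -2, 4, 0, 2, 0, 0, 0, 0],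
  [2, -2, -2, -2, 0, 2, 2, 0, 0, 2, 0, 2, 0, -2, 2, 0, 0, 2, -2, 0, -2, -2, 2, -2],
  [0, 4, 0, 0, 2, 4, 0, 2, 2, 0, -2, 0, -2, 0, 0, 2, -2, 0, 0, -2, 0, 0, 0, 0],
  [0, 0, 0, 0, 2, 0, 4, -2, 2, 0, -2, 0, -2, 0, 0, -2, 2, 0, 4, 2, 0, 0, 0, 0],
  [2, -2, 2, 2, 0, 2, -2, 0, 0, 2, 0, 2, 0, -2, -2, 0, 0, -2, 2, 0, 2, -2, -2, -2],
  [2, -2, 2, 2, 0, 2, 2, 0, 0, -2, 0, -2, 0, 2, -2, 0, 0, -2, -2, 0, -2, 2, 2, -2],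
  [0, 0, 0, 0, 2, 0, 0, 2, -2, 4, 2, 0, -2, 4, 0, -2, -2, 0, 0, 2, 0, 0, 0, 0],
  [2, 2, 2, -2, 0, -2, -2, 0, 0, 2, 0, -2, 0, -2, -2, 0, 0, 2, 2, 0, -2, 2, 2, -2],
  [0, 0, 0, 0, 2, 0, 0, 2, -2, 0, -2, 4, 2, 0, 0, -2, 2, 0, 0, -2, 0, 4, 0, 0],
  [2, 2, -2, 2, 0, -2, -2, 0, 0, -2, 0, 2, 0, 2, 2, 0, 0, -2, 2, 0, -2, -2, 2, -2],
  [0, 0, 0, 0, -2, 0, 0, -2, 2, 4, -2, 0, 2, 4, 0, 2, 2, 0, 0, -2, 0, 0, 0, 0],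
  [0, 0, 4, 0, 2, 0, 0, -2, -2, 0, -2, 0, 2, 0, 4, 2, -2, 0, 0, 2, 0, 0, 0, 0],
  [2, -2, -2, -2, 0, 2, -2, 0, 0, -2, 0, -2, 0, 2, 2, 0, 0, 2, 2, 0, 2, 2, -2, -2],
  [2, 2, 2, -2, 0, -2, 2, 0, 0, -2, 0, 2, 0, 2, -2, 0, 0, 2, -2, 0, 2, -2, -2, -2],
  [0, 0, 0, 4, 2, 0, 0, -2, -2, 0, 2, 0, -2, 0, 0, 2, 2, 4, 0, -2, 0, 0, 0, 0],
  [0, 0, 0, 0, -2, 0, 4, 2, -2, 0, 2, 0, 2, 0, 0, 2, -2, 0, 4, -2, 0, 0, 0, 0],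
  [2, 2, -2, 2, 0, -2, 2, 0, 0, 2, 0, -2, 0, -2, 2, 0, 0, -2, -2, 0, 2, 2, -2, -2],
  [0, 0, 0, 0, -2, 0, 0, 2, -2, 0, -2, 0, -2, 0, 0, 2, 2, 0, 0, 2, 4, 0, 4, 0],
  [0, 0, 0, 0, -2, 0, 0, -2, 2, 0, 2, 4, -2, 0, 0, 2, -2, 0, 0, 2, 0, 4, 0, 0],
  [0, 0, 0, 0, 2, 0, 0, -2, 2, 0, 2, 0, 2, 0, 0, -2, -2, 0, 0, -2, 4, 0, 4, 0],
  [4, 0, 0, 0, -2, 0, 0, -2, -2, 0, -2, 0, -2, 0, 0, -2, -2, 0, 0, -2, 0, 0, 0, 4]]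

/-- Data. -/
def T161 : List (List ℤ) := [[6, 0, 0, 2, 0, 0, 0, 0, 0, -2, 2, 2, 2, 0, 2, 0, 0, 0, 0, 0, 0, 0, 0, 2],
  [2, 0, 0, -2, 0, 0, 0, 0, 0, 2, -2, -2, 6, 0, -2, 0, 0, 0, 0, 0, 0, 0, 0, -2],
  [0, -2, 2, 0, -2, 2, 2, -2, 2, 0, 0, 0, 0, 2, 0, 2, 2, 2, 2, 2, -2, -2, -2, 0],
  [0, 2, 2, 0, -2, 2, 2, 2, 2, 0, 0, 0, 0, -2, 0, 2, -2, -2, -2, 2, 2, -2, 2, 0],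
  [0, -2, -2, 0, 2, 2, 2, -2, -2, 0, 0, 0, 0, -2, 0, 2, 2, -2, 2, 2, 2, 2, 2, 0],
  [0, 2, -2, 0, 2, 2, 2, 2, 2, 0, 0, 0, 0, -2, 0, -2, 2, 2, 2, -2, 2, -2, -2, 0],
  [0, -2, 2, 0, 2, -2, 2, 2, 2, 0, 0, 0, 0, 2, 0, -2, -2, -2, 2, 2, 2, 2, -2, 0],
  [0, -2, 2, 0, 2, 2, -2, 2, 2, 0, 0, 0, 0, -2, 0, 2, -2, 2, 2, -2, -2, 2, 2, 0],
  [2, 0, 0, 6, 0, 0, 0, 0, 0, 2, -2, -2, -2, 0, -2, 0, 0, 0, 0, 0, 0, 0, 0, -2],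
  [-2, 0, 0, 2, 0, 0, 0, 0, 0, 6, 2, 2, 2, 0, 2, 0, 0, 0, 0, 0, 0, 0, 0, 2],
  [0, 2, -2, 0, 2, -2, -2, 2, 2, 0, 0, 0, 0, 2, 0, 2, 2, -2, 2, 2, -2, -2, 2, 0],
  [0, 2, 2, 0, 2, -2, 2, -2, 2, 0, 0, 0, 0, -2, 0, -2, 2, 2, -2, 2, -2, 2, 2, 0],
  [0, 2, -2, 0, -2, 2, -2, -2, 2, 0, 0, 0, 0, 2, 0, -2, -2, 2, 2, 2, 2, 2, 2, 0],
  [0, 2, 2, 0, 2, -2, 2, -2, -2, 0, 0, 0, 0, 2, 0, 2, -2, 2, 2, -2, 2, -2, 2, 0],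
  [2, 0, 0, -2, 0, 0, 0, 0, 0, 2, -2, -2, -2, 0, 6, 0, 0, 0, 0, 0, 0, 0, 0, -2],
  [0, -2, -2, 0, -2, -2, 2, 2, 2, 0, 0, 0, 0, 2, 0, 2, 2, 2, -2, -2, 2, 2, 2, 0],
  [0, -2, 2, 0, 2, 2, -2, 2, -2, 0, 0, 0, 0, 2, 0, -2, 2, 2, -2, 2, 2, -2, 2, 0],
  [0, 2, 2, 0, -2, -2, -2, 2, -2, 0, 0, 0, 0, -2, 0, 2, 2, 2, 2, 2, 2, 2, -2, 0],
  [0, 2, 2, 0, -2, 2, 2, 2, -2, 0, 0, 0, 0, 2, 0, -2, 2, -2, 2, -2, -2, 2, 2, 0],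
  [2, 0, 0, -2, 0, 0, 0, 0, 0, 2, -2, 6, -2, 0, -2, 0, 0, 0, 0, 0, 0, 0, 0, -2],
  [0, 2, 2, 0, 2, 2, -2, -2, 2, 0, 0, 0, 0, 2, 0, 2, 2, -2, -2, -2, 2, 2, -2, 0],
  [0, 2, -2, 0, 2, 2, 2, 2, -2, 0, 0, 0, 0, 2, 0, 2, -2, 2, -2, 2, -2, 2, -2, 0],
  [2, 0, 0, -2, 0, 0, 0, 0, 0, 2, 6, -2, -2, 0, -2, 0, 0, 0, 0, 0, 0, 0, 0, -2],
  [2, 0, 0, -2, 0, 0, 0, 0, 0, 2, -2, -2, -2, 0, -2, 0, 0, 0, 0, 0, 0, 0, 0, 6]]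

/-- Data. -/
def T162 : List (List ℤ) := [[6, 0, 0, 0, 2, 0, 0, 0, 2, 0, -2, 0, 2, 0, 0, 0, 0, 0, 0, 0, 2, 0, 2, 2],
  [0, 2, -2, -2, 0, 2, -2, 2, 0, 2, 0, 2, 0, 2, -2, -2, 2, 2, 2, 2, 0, -2, 0, 0],
  [0, -2, 2, -2, 0, 2, 2, 2, 0, -2, 0, 2, 0, 2, 2, 2, 2, -2, 2, -2, 0, -2, 0, 0],
  [0, -2, -2, 2, 0, 2, 2, 2, 0, 2, 0, -2, 0, -2, -2, 2, 2, 2, 2, -2, 0, 2, 0, 0],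
  [2, 0, 0, 0, 6, 0, 0, 0, -2, 0, 2, 0, -2, 0, 0, 0, 0, 0, 0, 0, -2, 0, -2, -2],
  [0, 2, 2, 2, 0, 2, 2, 2, 0, -2, 0, 2, 0, 2, -2, -2, -2, 2, -2, -2, 0, 2, 0, 0],
  [0, -2, 2, 2, 0, 2, 2, -2, 0, 2, 0, 2, 0, -2, 2, -2, -2, 2, 2, 2, 0, -2, 0, 0],
  [0, 2, 2, 2, 0, 2, -2, 2, 0, -2, 0, -2, 0, -2, 2, -2, 2, -2, 2, 2, 0, 2, 0, 0],
  [2, 0, 0, 0, -2, 0, 0, 0, 6, 0, 2, 0, -2, 0, 0, 0, 0, 0, 0, 0, -2, 0, -2, -2],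
  [0, 2, -2, 2, 0, -2, 2, -2, 0, 2, 0, 2, 0, 2, 2, -2, 2, -2, 2, -2, 0, 2, 0, 0],
  [-2, 0, 0, 0, 2, 0, 0, 0, 2, 0, 6, 0, 2, 0, 0, 0, 0, 0, 0, 0, 2, 0, 2, 2],
  [0, 2, 2, -2, 0, 2, 2, -2, 0, 2, 0, 2, 0, -2, -2, 2, 2, -2, -2, 2, 0, 2, 0, 0],
  [2, 0, 0, 0, -2, 0, 0, 0, -2, 0, 2, 0, -2, 0, 0, 0, 0, 0, 0, 0, -2, 0, 6, -2],
  [0, 2, 2, -2, 0, 2, -2, -2, 0, 2, 0, -2, 0, 2, 2, 2, -2, 2, 2, -2, 0, 2, 0, 0],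
  [0, -2, 2, -2, 0, -2, 2, 2, 0, 2, 0, -2, 0, 2, 2, -2, 2, 2, -2, 2, 0, 2, 0, 0],
  [0, -2, 2, 2, 0, -2, -2, -2, 0, -2, 0, 2, 0, 2, -2, 2, 2, 2, 2, 2, 0, 2, 0, 0],
  [0, 2, 2, 2, 0, -2, -2, 2, 0, 2, 0, 2, 0, -2, 2, 2, 2, 2, -2, -2, 0, -2, 0, 0],
  [0, 2, -2, 2, 0, 2, 2, -2, 0, -2, 0, -2, 0, 2, 2, 2, 2, 2, -2, 2, 0, -2, 0, 0],
  [0, 2, 2, 2, 0, -2, 2, 2, 0, 2, 0, -2, 0, 2, -2, 2, -2, -2, 2, 2, 0, -2, 0, 0],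
  [0, 2, -2, -2, 0, -2, 2, 2, 0, -2, 0, 2, 0, -2, 2, 2, -2, 2, 2, 2, 0, 2, 0, 0],
  [2, 0, 0, 0, -2, 0, 0, 0, -2, 0, 2, 0, -2, 0, 0, 0, 0, 0, 0, 0, 6, 0, -2, -2],
  [0, -2, -2, 2, 0, 2, -2, 2, 0, 2, 0, 2, 0, 2, 2, 2, -2, -2, -2, 2, 0, 2, 0, 0],
  [2, 0, 0, 0, -2, 0, 0, 0, -2, 0, 2, 0, 6, 0, 0, 0, 0, 0, 0, 0, -2, 0, -2, -2],
  [2, 0, 0, 0, -2, 0, 0, 0, -2, 0, 2, 0, -2, 0, 0, 0, 0, 0, 0, 0, -2, 0, -2, 6]]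

/-- Data. -/
def T163 : List (List ℤ) := [[6, 2, 0, 0, 0, 2, 2, 0, 0, 0, 0, 0, 0, 0, 0, 0, 0, 0, -2, 0, 2, 0, 2, 2],
  [2, -2, 0, 0, 0, -2, -2, 0, 0, 0, 0, 0, 0, 0, 0, 0, 0, 0, 2, 0, -2, 0, 6, -2],
  [0, 0, 2, 2, -2, 0, 0, 2, 2, 2, -2, -2, -2, 2, 2, 2, 2, -2, 0, -2, 0, 2, 0, 0],
  [0, 0, 2, 2, 2, 0, 0, 2, 2, 2, 2, -2, -2, -2, -2, -2, 2, 2, 0, 2, 0, -2, 0, 0],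
  [0, 0, -2, 2, 2, 0, 0, -2, 2, 2, 2, 2, -2, -2, 2, 2, -2, 2, 0, -2, 0, 2, 0, 0],
  [2, -2, 0, 0, 0, 6, -2, 0, 0, 0, 0, 0, 0, 0, 0, 0, 0, 0, 2, 0, -2, 0, -2, -2],
  [2, -2, 0, 0, 0, -2, 6, 0, 0, 0, 0, 0, 0, 0, 0, 0, 0, 0, 2, 0, -2, 0, -2, -2],
  [0, 0, 2, 2, -2, 0, 0, 2, 2, -2, 2, 2, 2, -2, 2, 2, -2, -2, 0, 2, 0, -2, 0, 0],
  [0, 0, 2, 2, 2, 0, 0, 2, 2, -2, -2, 2, 2, 2, -2, -2, -2, 2, 0, -2, 0, 2, 0, 0],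
  [0, 0, 2, 2, 2, 0, 0, -2, -2, 2, 2, -2, 2, 2, 2, -2, -2, -2, 0, 2, 0, 2, 0, 0],
  [0, 0, -2, 2, 2, 0, 0, 2, -2, 2, 2, 2, 2, 2, -2, 2, 2, -2, 0, -2, 0, -2, 0, 0],
  [0, 0, -2, -2, 2, 0, 0, 2, 2, -2, 2, 2, -2, 2, 2, -2, 2, -2, 0, 2, 0, 2, 0, 0],
  [0, 0, -2, -2, -2, 0, 0, 2, 2, 2, 2, -2, 2, 2, -2, 2, -2, 2, 0, 2, 0, 2, 0, 0],
  [0, 0, 2, -2, -2, 0, 0, -2, 2, 2, 2, 2, 2, 2, 2, -2, 2, 2, 0, -2, 0, -2, 0, 0],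
  [0, 0, 2, -2, 2, 0, 0, 2, -2, 2, -2, 2, -2, 2, 2, 2, -2, 2, 0, 2, 0, -2, 0, 0],
  [0, 0, 2, -2, 2, 0, 0, 2, -2, -2, 2, -2, 2, -2, 2, 2, 2, 2, 0, -2, 0, 2, 0, 0],
  [0, 0, 2, 2, -2, 0, 0, -2, -2, -2, 2, 2, -2, 2, -2, 2, 2, 2, 0, 2, 0, 2, 0, 0],
  [0, 0, -2, 2, 2, 0, 0, -2, 2, -2, -2, -2, 2, 2, 2, 2, 2, 2, 0, 2, 0, -2, 0, 0],
  [-2, 2, 0, 0, 0, 2, 2, 0, 0, 0, 0, 0, 0, 0, 0, 0, 0, 0, 6, 0, 2, 0, 2, 2],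
  [0, 0, -2, 2, -2, 0, 0, 2, -2, 2, -2, 2, 2, -2, 2, -2, 2, 2, 0, 2, 0, 2, 0, 0],
  [2, -2, 0, 0, 0, -2, -2, 0, 0, 0, 0, 0, 0, 0, 0, 0, 0, 0, 2, 0, 6, 0, -2, -2],
  [0, 0, 2, -2, 2, 0, 0, -2, 2, 2, -2, 2, 2, -2, -2, 2, 2, -2, 0, 2, 0, 2, 0, 0],
  [2, 6, 0, 0, 0, -2, -2, 0, 0, 0, 0, 0, 0, 0, 0, 0, 0, 0, 2, 0, -2, 0, -2, -2],
  [2, -2, 0, 0, 0, -2, -2, 0, 0, 0, 0, 0, 0, 0, 0, 0, 0, 0, 2, 0, -2, 0, -2, 6]]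

/-- Data. -/
def T164 : List (List ℤ) := [[4, 2, 0, 0, 0, 0, 0, 2, 2, 0, 0, 0, 0, 0, 0, 2, 0, 2, 0, 2, 0, 2, 2, 4],
  [0, 2, 0, 0, 0, 0, 0, 2, -2, 0, 4, 4, 0, 0, 0, -2, 0, 2, 0, -2, 0, -2, 2, 0],
  [0, -2, 4, 0, 0, 0, 4, -2, 2, 0, 0, 0, 0, 0, 0, 2, 0, 2, 0, -2, 0, -2, 2, 0],
  [2, 0, 2, 2, -2, 2, -2, 0, 0, 2, -2, 2, -2, -2, -2, 0, -2, 0, 2, 0, 2, 0, 0, -2],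
  [2, 0, -2, -2, 2, -2, 2, 0, 0, -2, -2, 2, 2, -2, 2, 0, -2, 0, 2, 0, 2, 0, 0, -2],
  [2, 0, -2, 2, -2, 2, 2, 0, 0, -2, 2, -2, -2, -2, 2, 0, 2, 0, 2, 0, -2, 0, 0, -2],
  [0, 2, 4, 0, 0, 0, 4, 2, -2, 0, 0, 0, 0, 0, 0, -2, 0, -2, 0, 2, 0, 2, -2, 0],
  [0, 2, 0, 0, 4, 4, 0, 2, 2, 0, 0, 0, 0, 0, 0, 2, 0, -2, 0, -2, 0, -2, -2, 0],
  [0, -2, 0, 4, 0, 0, 0, 2, 2, 0, 0, 0, 4, 0, 0, -2, 0, 2, 0, 2, 0, -2, -2, 0],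
  [0, 2, 0, 0, 0, 0, 0, -2, 2, 4, 0, 0, 0, 0, 4, -2, 0, -2, 0, 2, 0, -2, 2, 0],
  [2, 0, -2, -2, -2, 2, 2, 0, 0, 2, 2, -2, 2, 2, -2, 0, -2, 0, -2, 0, 2, 0, 0, -2],
  [2, 0, -2, 2, 2, -2, 2, 0, 0, 2, -2, 2, -2, 2, -2, 0, 2, 0, -2, 0, -2, 0, 0, -2],
  [2, 0, 2, -2, 2, -2, -2, 0, 0, 2, 2, -2, 2, -2, -2, 0, 2, 0, 2, 0, -2, 0, 0, -2],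
  [0, 2, 0, 0, 0, 0, 0, -2, -2, 0, 0, 0, 0, 4, 0, 2, 0, 2, 4, 2, 0, -2, -2, 0],
  [0, -2, 0, 0, 0, 0, 0, 2, -2, 4, 0, 0, 0, 0, 4, 2, 0, 2, 0, -2, 0, 2, -2, 0],
  [0, 2, 0, 0, 0, 0, 0, -2, 2, 0, 0, 0, 0, 0, 0, -2, 4, 2, 0, -2, 4, 2, -2, 0],
  [2, 0, 2, 2, 2, -2, -2, 0, 0, -2, 2, -2, -2, 2, 2, 0, -2, 0, -2, 0, 2, 0, 0, -2],
  [0, -2, 0, 0, 0, 0, 0, 2, -2, 0, 0, 0, 0, 0, 0, 2, 4, -2, 0, 2, 4, -2, 2, 0],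
  [0, -2, 0, 0, 0, 0, 0, 2, 2, 0, 0, 0, 0, 4, 0, -2, 0, -2, 4, -2, 0, 2, 2, 0],
  [0, -2, 0, 0, 0, 0, 0, -2, 2, 0, 4, 4, 0, 0, 0, 2, 0, -2, 0, 2, 0, 2, -2, 0],
  [2, 0, 2, -2, -2, 2, -2, 0, 0, -2, -2, 2, 2, 2, 2, 0, 2, 0, -2, 0, -2, 0, 0, -2],
  [0, -2, 0, 0, 4, 4, 0, -2, -2, 0, 0, 0, 0, 0, 0, -2, 0, 2, 0, 2, 0, 2, 2, 0],
  [0, 2, 0, 4, 0, 0, 0, -2, -2, 0, 0, 0, 4, 0, 0, 2, 0, -2, 0, -2, 0, 2, 2, 0],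
  [4, -2, 0, 0, 0, 0, 0, -2, -2, 0, 0, 0, 0, 0, 0, -2, 0, -2, 0, -2, 0, -2, -2, 4]]

/-- Data. -/
def T165 : List (List ℤ) := [[4, 2, 0, 2, 2, 2, 0, 0, 0, 0, 0, 0, 2, 0, 0, 2, 0, 2, 0, 2, 0, 0, 0, 4],
  [2, 0, 2, 0, 0, 0, -2, -2, 2, 2, 2, 2, 0, 2, -2, 0, -2, 0, -2, 0, -2, -2, 2, -2],
  [0, 2, 4, 2, -2, 2, 0, 0, 0, 0, 0, 0, -2, 0, 4, -2, 0, 2, 0, -2, 0, 0, 0, 0],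
  [2, 0, 2, 0, 0, 0, 2, 2, -2, -2, -2, 2, 0, -2, -2, 0, 2, 0, 2, 0, -2, -2, 2, -2],
  [2, 0, -2, 0, 0, 0, -2, -2, 2, 2, -2, 2, 0, -2, 2, 0, 2, 0, 2, 0, -2, 2, -2, -2],
  [2, 0, 2, 0, 0, 0, 2, -2, 2, -2, 2, -2, 0, -2, -2, 0, -2, 0, 2, 0, 2, 2, -2, -2],
  [0, -2, 0, 2, -2, 2, 4, 0, 0, 4, 0, 0, -2, 0, 0, 2, 0, -2, 0, 2, 0, 0, 0, 0],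
  [0, -2, 0, 2, -2, -2, 0, 4, 4, 0, 0, 0, 2, 0, 0, -2, 0, 2, 0, 2, 0, 0, 0, 0],
  [0, 2, 0, -2, 2, 2, 0, 4, 4, 0, 0, 0, -2, 0, 0, 2, 0, -2, 0, -2, 0, 0, 0, 0],
  [0, 2, 0, -2, 2, -2, 4, 0, 0, 4, 0, 0, 2, 0, 0, -2, 0, 2, 0, -2, 0, 0, 0, 0],
  [0, 2, 0, -2, -2, 2, 0, 0, 0, 0, 4, 0, 2, 0, 0, -2, 4, -2, 0, 2, 0, 0, 0, 0],
  [0, 2, 0, 2, 2, -2, 0, 0, 0, 0, 0, 4, -2, 0, 0, -2, 0, -2, 0, 2, 4, 0, 0, 0],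
  [2, 0, -2, 0, 0, 0, -2, 2, -2, 2, 2, -2, 0, -2, 2, 0, -2, 0, 2, 0, 2, -2, 2, -2],
  [0, 2, 0, -2, -2, -2, 0, 0, 0, 0, 0, 0, -2, 4, 0, 2, 0, 2, 4, 2, 0, 0, 0, 0],
  [0, -2, 4, -2, 2, -2, 0, 0, 0, 0, 0, 0, 2, 0, 4, 2, 0, -2, 0, 2, 0, 0, 0, 0],
  [2, 0, -2, 0, 0, 0, 2, -2, 2, -2, -2, -2, 0, 2, 2, 0, 2, 0, -2, 0, 2, -2, 2, -2],
  [0, -2, 0, 2, 2, -2, 0, 0, 0, 0, 4, 0, -2, 0, 0, 2, 4, 2, 0, -2, 0, 0, 0, 0],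
  [2, 0, 2, 0, 0, 0, -2, 2, -2, 2, -2, -2, 0, 2, -2, 0, 2, 0, -2, 0, 2, 2, -2, -2],
  [0, -2, 0, 2, 2, 2, 0, 0, 0, 0, 0, 0, 2, 4, 0, -2, 0, -2, 4, -2, 0, 0, 0, 0],
  [2, 0, -2, 0, 0, 0, 2, 2, -2, -2, 2, 2, 0, 2, 2, 0, -2, 0, -2, 0, -2, 2, -2, -2],
  [0, -2, 0, -2, -2, 2, 0, 0, 0, 0, 0, 4, 2, 0, 0, 2, 0, 2, 0, -2, 4, 0, 0, 0],
  [0, -2, 0, -2, 2, 2, 0, 0, 0, 0, 0, 0, -2, 0, 0, -2, 0, 2, 0, 2, 0, 4, 4, 0],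
  [0, 2, 0, 2, -2, -2, 0, 0, 0, 0, 0, 0, 2, 0, 0, 2, 0, -2, 0, -2, 0, 4, 4, 0],
  [4, -2, 0, -2, -2, -2, 0, 0, 0, 0, 0, 0, -2, 0, 0, -2, 0, -2, 0, -2, 0, 0, 0, 4]]

/-- Data. -/
def T166 : List (List ℤ) := [[6, 2, 0, 2, 0, 0, 0, 2, 0, 2, 0, 0, 0, 0, 0, 0, 2, 0, -2, 0, 0, 0, 0, 2],
  [2, 6, 0, -2, 0, 0, 0, -2, 0, -2, 0, 0, 0, 0, 0, 0, -2, 0, 2, 0, 0, 0, 0, -2],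
  [0, 0, 2, 0, -2, 2, 2, 0, 2, 0, -2, -2, -2, 2, 2, 2, 0, -2, 0, -2, 2, 2, 2, 0],
  [2, -2, 0, -2, 0, 0, 0, 6, 0, -2, 0, 0, 0, 0, 0, 0, -2, 0, 2, 0, 0, 0, 0, -2],
  [0, 0, -2, 0, 2, -2, 2, 0, 2, 0, 2, -2, 2, -2, 2, 2, 0, -2, 0, 2, 2, 2, -2, 0],
  [0, 0, 2, 0, -2, 2, 2, 0, 2, 0, 2, 2, 2, -2, -2, 2, 0, 2, 0, -2, -2, 2, -2, 0],
  [0, 0, 2, 0, 2, 2, 2, 0, 2, 0, -2, 2, 2, 2, 2, -2, 0, -2, 0, 2, -2, -2, -2, 0],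
  [2, -2, 0, 6, 0, 0, 0, -2, 0, -2, 0, 0, 0, 0, 0, 0, -2, 0, 2, 0, 0, 0, 0, -2],
  [0, 0, 2, 0, 2, 2, 2, 0, 2, 0, 2, -2, -2, -2, -2, -2, 0, 2, 0, 2, 2, -2, 2, 0],
  [2, -2, 0, -2, 0, 0, 0, -2, 0, 6, 0, 0, 0, 0, 0, 0, -2, 0, 2, 0, 0, 0, 0, -2],
  [0, 0, -2, 0, 2, 2, -2, 0, 2, 0, 2, -2, 2, 2, 2, -2, 0, 2, 0, -2, -2, 2, 2, 0],
  [0, 0, -2, 0, -2, 2, 2, 0, -2, 0, -2, 2, 2, -2, 2, -2, 0, 2, 0, 2, 2, 2, 2, 0],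
  [0, 0, -2, 0, 2, 2, 2, 0, -2, 0, 2, 2, 2, 2, -2, 2, 0, -2, 0, -2, 2, -2, 2, 0],
  [0, 0, 2, 0, -2, -2, 2, 0, -2, 0, 2, -2, 2, 2, 2, 2, 0, 2, 0, 2, -2, -2, 2, 0],
  [0, 0, 2, 0, 2, -2, 2, 0, -2, 0, 2, 2, -2, 2, 2, -2, 0, 2, 0, -2, 2, 2, -2, 0],
  [0, 0, 2, 0, 2, 2, -2, 0, -2, 0, -2, -2, 2, 2, -2, 2, 0, 2, 0, 2, 2, 2, -2, 0],
  [2, -2, 0, -2, 0, 0, 0, -2, 0, -2, 0, 0, 0, 0, 0, 0, 6, 0, 2, 0, 0, 0, 0, -2],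
  [0, 0, -2, 0, -2, 2, -2, 0, 2, 0, 2, 2, -2, 2, 2, 2, 0, 2, 0, 2, 2, -2, -2, 0],
  [-2, 2, 0, 2, 0, 0, 0, 2, 0, 2, 0, 0, 0, 0, 0, 0, 2, 0, 6, 0, 0, 0, 0, 2],
  [0, 0, -2, 0, 2, -2, 2, 0, 2, 0, -2, 2, -2, 2, -2, 2, 0, 2, 0, 2, -2, 2, 2, 0],
  [0, 0, 2, 0, 2, -2, -2, 0, 2, 0, -2, 2, 2, -2, 2, 2, 0, 2, 0, -2, 2, -2, 2, 0],
  [0, 0, 2, 0, 2, 2, -2, 0, -2, 0, 2, 2, -2, -2, 2, 2, 0, -2, 0, 2, -2, 2, 2, 0],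
  [0, 0, 2, 0, -2, -2, -2, 0, 2, 0, 2, 2, 2, 2, -2, -2, 0, -2, 0, 2, 2, 2, 2, 0],
  [2, -2, 0, -2, 0, 0, 0, -2, 0, -2, 0, 0, 0, 0, 0, 0, -2, 0, 2, 0, 0, 0, 0, 6]]

/-- Data. -/
def T167 : List (List ℤ) := [[5, 1, -1, 1, 1, 1, 1, 1, -1, -1, 1, 1, -1, 1, -1, 1, 1, -1, 1, 1, 3, 1, 1, 3],
  [1, 1, -1, 1, 1, -3, 1, 1, -1, -1, 1, -3, 3, 1, -1, -3, 1, 3, 1, 1, -1, 1, 1, -1],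
  [1, 1, 3, 1, 1, 1, 1, 1, -1, -1, 1, -3, -1, 1, 3, 1, 1, -1, 1, 1, -1, -3, -3, -1],
  [1, 1, 3, 1, 1, -3, 1, 1, 3, -1, 1, 1, -1, -3, -1, 1, 1, -1, 1, -3, -1, 1, 1, -1],
  [-1, 3, 1, 3, 3, -1, -1, -1, 1, 1, -1, 3, 1, -1, 1, -1, -1, 1, -1, 3, 1, -1, -1, 1],
  [1, 1, -1, 1, -3, 1, 1, 1, 3, -1, -3, 1, 3, 1, -1, 1, 1, -1, 1, 1, -1, 1, -3, -1],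
  [1, -3, 3, 1, 1, 1, 1, 1, -1, 3, -3, 1, -1, 1, -1, -3, 1, -1, 1, 1, -1, 1, 1, -1],
  [-1, -1, 1, 3, -1, 3, -1, 3, 1, 1, 3, -1, 1, -1, 1, -1, -1, 1, -1, -1, 1, 3, -1, 1],
  [1, -3, -1, 1, 1, 1, 1, 1, 3, -1, 1, 1, -1, 1, -1, 1, -3, 3, 1, 1, -1, -3, 1, -1],
  [1, 1, -1, 1, -3, -3, 1, 1, -1, 3, 1, 1, -1, 1, 3, 1, -3, -1, 1, 1, -1, 1, 1, -1],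
  [1, 1, -1, 1, 1, 1, 1, 1, -1, 3, 1, 1, 3, 1, -1, 1, 1, -1, -3, -3, -1, -3, 1, -1],
  [1, 1, -1, -3, 1, 1, 1, 1, 3, -1, 1, 1, -1, 1, 3, -3, 1, -1, -3, 1, -1, 1, 1, -1],
  [1, 1, 3, -3, 1, 1, -3, 1, -1, -1, 1, 1, 3, 1, -1, 1, -3, -1, 1, 1, -1, 1, 1, -1],
  [-1, -1, 1, -1, -1, -1, -1, -1, 1, 1, 3, 3, 1, 3, 1, -1, 3, 1, 3, -1, 1, -1, -1, 1],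
  [-1, -1, 1, -1, 3, -1, 3, -1, 1, 1, -1, -1, 1, 3, 1, 3, -1, 1, -1, -1, 1, 3, -1, 1],
  [-1, -1, 1, -1, -1, -1, -1, 3, 1, 1, -1, -1, 1, -1, 1, 3, 3, 1, -1, 3, 1, -1, 3, 1],
  [3, -1, 1, -1, -1, -1, -1, -1, 1, 1, -1, -1, 1, -1, 1, -1, -1, 1, -1, -1, 5, -1, -1, -3],
  [1, 1, -1, 1, 1, 1, -3, 1, -1, -1, -3, 1, -1, 1, 3, 1, 1, 3, 1, -3, -1, 1, 1, -1],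
  [-1, 3, 1, -1, -1, 3, 3, -1, 1, 1, -1, -1, 1, -1, 1, -1, -1, 1, 3, -1, 1, -1, 3, 1],
  [1, -3, -1, 1, 1, 1, 1, -3, -1, -1, 1, 1, 3, -3, 3, 1, 1, -1, 1, 1, -1, 1, 1, -1],
  [1, 1, 3, 1, -3, 1, 1, -3, -1, -1, 1, 1, -1, 1, -1, 1, 1, 3, -3, 1, -1, 1, 1, -1],
  [1, 1, -1, -3, 1, 1, 1, 1, -1, 3, 1, 1, -1, -3, -1, 1, 1, 3, 1, 1, -1, 1, -3, -1],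
  [1, 1, -1, 1, 1, 1, -3, -3, 3, 3, 1, -3, -1, 1, -1, 1, 1, -1, 1, 1, -1, 1, 1, -1],
  [3, -1, 1, -1, -1, -1, -1, -1, 1, 1, -1, -1, 1, -1, 1, -1, -1, 1, -1, -1, -3, -1, -1, 5]]

/-- Data. -/
def T168 : List (List ℤ) := [[5, 1, 1, 1, 1, -1, -1, 1, 1, -1, -1, 1, 3, -1, 1, 1, 1, 1, 1, 1, -1, 1, 1, 3],
  [1, 1, -3, 1, 1, -1, -1, 1, 1, -1, 3, 1, -1, 3, 1, 1, 1, -3, 1, 1, -1, -3, 1, -1],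
  [1, 1, 1, 1, 1, -1, 3, 1, 1, -1, -1, -3, -1, 3, 1, 1, 1, 1, 1, -3, -1, 1, -3, -1],
  [1, 1, 1, 1, 1, 3, -1, 1, 1, -1, -1, -3, -1, -1, 1, -3, 1, -3, 1, 1, 3, 1, 1, -1],
  [1, 1, -3, -3, 1, -1, 3, 1, 1, -1, -1, 1, -1, -1, 1, 1, -3, 1, 1, 1, 3, 1, 1, -1],
  [1, 1, 1, 1, 1, 3, 3, 1, -3, -1, -1, 1, -1, -1, -3, 1, 1, 1, 1, 1, -1, -3, 1, -1],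
  [1, -3, 1, 1, -3, -1, 3, 1, 1, 3, -1, 1, -1, -1, 1, 1, 1, -3, 1, 1, -1, 1, 1, -1],
  [1, -3, 1, 1, 1, 3, -1, 1, 1, -1, 3, 1, -1, -1, 1, 1, -3, 1, 1, -3, -1, 1, 1, -1],
  [-1, -1, -1, 3, -1, 1, 1, 3, 3, 1, 1, -1, 1, 1, -1, -1, -1, 3, -1, 3, 1, -1, -1, 1],
  [1, 1, 1, 1, 1, -1, -1, 1, -3, 3, -1, 1, -1, 3, 1, -3, -3, 1, 1, 1, -1, 1, 1, -1],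
  [3, -1, -1, -1, -1, 1, 1, -1, -1, 1, 1, -1, 5, 1, -1, -1, -1, -1, -1, -1, 1, -1, -1, -3],
  [1, 1, 1, 1, 1, -1, 3, -3, 1, -1, 3, 1, -1, -1, 1, -3, 1, 1, -3, 1, -1, 1, 1, -1],
  [-1, 3, -1, 3, -1, 1, 1, -1, -1, 1, 1, -1, 1, 1, -1, 3, -1, -1, -1, -1, 1, 3, 3, 1],
  [-1, -1, -1, -1, -1, 1, 1, -1, -1, 1, 1, -1, 1, 1, 3, -1, 3, 3, 3, -1, 1, -1, 3, 1],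
  [-1, -1, 3, -1, 3, 1, 1, -1, -1, 1, 1, -1, 1, 1, 3, 3, -1, -1, -1, 3, 1, -1, -1, 1],
  [1, -3, 1, 1, 1, -1, -1, -3, 1, -1, -1, 1, -1, 3, -3, 1, 1, 1, 1, 1, 3, 1, 1, -1],
  [1, 1, 1, 1, 1, -1, -1, 1, 1, 3, -1, 1, -1, -1, 1, 1, 1, 1, -3, -3, 3, -3, 1, -1],
  [1, 1, 1, 1, -3, -1, -1, 1, -3, -1, 3, 1, -1, -1, 1, 1, 1, 1, 1, 1, 3, 1, -3, -1],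
  [-1, 3, 3, -1, -1, 1, 1, -1, 3, 1, 1, 3, 1, 1, -1, -1, -1, -1, 3, -1, 1, -1, -1, 1],
  [-1, -1, -1, -1, 3, 1, 1, 3, -1, 1, 1, 3, 1, 1, -1, -1, 3, -1, -1, -1, 1, 3, -1, 1],
  [1, 1, 1, -3, -3, 3, -1, 1, 1, -1, -1, 1, -1, 3, 1, 1, 1, 1, -3, 1, -1, 1, 1, -1],
  [1, 1, -3, 1, 1, 3, -1, -3, 1, 3, -1, 1, -1, -1, 1, 1, 1, 1, 1, 1, -1, 1, -3, -1],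
  [1, 1, 1, -3, 1, -1, -1, 1, 1, 3, 3, -3, -1, -1, -3, 1, 1, 1, 1, 1, -1, 1, 1, -1],
  [3, -1, -1, -1, -1, 1, 1, -1, -1, 1, 1, -1, -3, 1, -1, -1, -1, -1, -1, -1, 1, -1, -1, 5]]

/-- Data. -/
def T169 : List (List ℤ) := [[5, 1, -1, 1, 1, 1, -1, 1, 1, 1, -1, 1, 1, -1, 1, 3, -1, 1, 1, -1, 1, 1, 1, 3],
  [-1, 3, 1, -1, 3, 3, 1, 3, 3, -1, 1, -1, -1, 1, -1, 1, 1, -1, -1, 1, -1, -1, -1, 1],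
  [1, 1, 3, -3, 1, 1, -1, -3, 1, 1, -1, -3, 1, 3, 1, -1, -1, 1, 1, -1, 1, 1, 1, -1],
  [1, 1, -1, 1, 1, 1, -1, 1, -3, -3, -1, 1, -3, 3, 1, -1, 3, 1, 1, -1, 1, 1, 1, -1],
  [1, 1, -1, -3, 1, -3, 3, 1, 1, -3, -1, 1, 1, -1, 1, -1, -1, 1, 1, 3, 1, 1, 1, -1],
  [1, 1, 3, 1, 1, -3, -1, 1, 1, 1, -1, 1, 1, -1, 1, -1, 3, 1, -3, -1, 1, -3, 1, -1],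
  [-1, -1, 1, -1, -1, -1, 1, 3, -1, 3, 1, -1, -1, 1, 3, 1, 1, 3, -1, 1, -1, 3, -1, 1],
  [3, -1, 1, -1, -1, -1, 1, -1, -1, -1, 1, -1, -1, 1, -1, 5, 1, -1, -1, 1, -1, -1, -1, -3],
  [-1, -1, 1, -1, -1, 3, 1, -1, -1, -1, 1, 3, 3, 1, -1, 1, 1, 3, -1, 1, 3, -1, -1, 1],
  [1, 1, 3, 1, 1, 1, 3, 1, -3, 1, -1, 1, 1, -1, 1, -1, -1, -3, 1, -1, 1, 1, -3, -1],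
  [1, -3, -1, 1, 1, 1, 3, 1, 1, 1, -1, -3, 1, -1, -3, -1, 3, 1, 1, -1, 1, 1, 1, -1],
  [1, -3, -1, 1, 1, 1, -1, 1, 1, 1, -1, 1, 1, 3, 1, -1, -1, -3, -3, 3, 1, 1, 1, -1],
  [1, 1, 3, 1, -3, 1, -1, 1, 1, 1, -1, 1, -3, -1, -3, -1, -1, 1, 1, 3, 1, 1, 1, -1],
  [1, 1, -1, 1, -3, 1, 3, 1, 1, 1, -1, 1, 1, 3, 1, -1, -1, 1, 1, -1, -3, -3, 1, -1],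
  [-1, -1, 1, -1, 3, -1, 1, -1, -1, 3, 1, 3, -1, 1, -1, 1, 1, -1, 3, 1, -1, -1, 3, 1],
  [1, 1, -1, 1, 1, -3, -1, 1, 1, 1, 3, 1, 1, 3, -3, -1, -1, 1, 1, -1, 1, 1, -3, -1],
  [1, 1, -1, 1, 1, 1, -1, 1, -3, 1, 3, -3, 1, -1, 1, -1, -1, 1, 1, 3, 1, -3, 1, -1],
  [-1, 3, 1, 3, -1, -1, 1, -1, -1, -1, 1, -1, 3, 1, -1, 1, 1, -1, -1, 1, -1, 3, 3, 1],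
  [-1, -1, 1, 3, -1, -1, 1, -1, 3, -1, 1, -1, -1, 1, 3, 1, 1, -1, 3, 1, 3, -1, -1, 1],
  [1, 1, -1, 1, 1, 1, 3, -3, 1, 1, 3, 1, -3, -1, 1, -1, -1, 1, -3, -1, 1, 1, 1, -1],
  [1, 1, -1, -3, -3, 1, -1, 1, 1, 1, 3, 1, 1, -1, 1, -1, 3, -3, 1, -1, 1, 1, 1, -1],
  [1, 1, -1, 1, 1, 1, -1, -3, 1, 1, -1, 1, 1, -1, 1, -1, 3, 1, 1, 3, -3, 1, -3, -1],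
  [1, -3, 3, 1, 1, 1, -1, 1, 1, -3, 3, 1, 1, -1, 1, -1, -1, 1, 1, -1, -3, 1, 1, -1],
  [3, -1, 1, -1, -1, -1, 1, -1, -1, -1, 1, -1, -1, 1, -1, -3, 1, -1, -1, 1, -1, -1, -1, 5]]

/-- Data. -/
def T170 : List (List ℤ) := [[5, 1, 1, -1, -1, 1, 1, 3, 1, -1, 1, 1, -1, 1, 1, -1, 1, 1, 1, 1, -1, 1, 1, 3],
  [1, 1, 1, 3, 3, 1, -3, -1, 1, -1, 1, 1, -1, 1, -3, -1, 1, 1, 1, 1, -1, 1, -3, -1],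
  [1, 1, -3, -1, -1, -3, 1, -1, 1, 3, 1, 1, 3, 1, 1, -1, 1, 1, 1, 1, -1, 1, -3, -1],
  [1, 1, 1, -1, -1, 1, 1, -1, 1, 3, 1, 1, -1, 1, -3, 3, 1, -3, 1, 1, -1, -3, 1, -1],
  [-1, -1, -1, 1, 1, 3, 3, 1, -1, 1, -1, -1, 1, 3, -1, 1, 3, 3, -1, -1, 1, -1, -1, 1],
  [1, 1, 1, 3, -1, 1, 1, -1, -3, -1, 1, 1, 3, 1, 1, -1, 1, -3, 1, -3, -1, 1, 1, -1],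
  [1, 1, 1, -1, -1, 1, -3, -1, -3, 3, 1, -3, -1, 1, 1, -1, 1, 1, 1, 1, 3, 1, 1, -1],
  [1, 1, 1, -1, 3, 1, 1, -1, 1, -1, 1, -3, 3, 1, 1, -1, -3, 1, 1, 1, -1, -3, 1, -1],
  [-1, -1, -1, 1, 1, -1, -1, 1, 3, 1, -1, -1, 1, 3, -1, 1, -1, -1, 3, -1, 1, 3, 3, 1],
  [1, 1, 1, -1, -1, 1, -3, -1, 1, -1, -3, 1, 3, 1, 1, 3, 1, 1, -3, 1, -1, 1, 1, -1],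
  [1, 1, -3, 3, -1, 1, 1, -1, 1, -1, 1, -3, -1, -3, 1, 3, 1, 1, 1, 1, -1, 1, 1, -1],
  [1, 1, 1, -1, -1, 1, 1, -1, 1, -1, 1, 1, -1, 1, 1, 3, -3, 1, 1, -3, 3, 1, -3, -1],
  [3, -1, -1, 1, 1, -1, -1, 5, -1, 1, -1, -1, 1, -1, -1, 1, -1, -1, -1, -1, 1, -1, -1, -3],
  [1, 1, -3, -1, 3, 1, 1, -1, 1, -1, 1, 1, -1, 1, 1, -1, 1, -3, -3, 1, 3, 1, 1, -1],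
  [1, -3, 1, -1, 3, -3, 1, -1, -3, -1, 1, 1, -1, 1, 1, 3, 1, 1, 1, 1, -1, 1, 1, -1],
  [-1, -1, -1, 1, 1, 3, -1, 1, -1, 1, -1, 3, 1, -1, 3, 1, -1, -1, 3, 3, 1, -1, -1, 1],
  [1, -3, 1, 3, -1, 1, 1, -1, 1, 3, 1, 1, -1, 1, 1, -1, -3, 1, -3, 1, -1, 1, 1, -1],
  [-1, 3, 3, 1, 1, -1, 3, 1, -1, 1, -1, -1, 1, -1, -1, 1, -1, -1, -1, 3, 1, 3, -1, 1],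
  [-1, 3, -1, 1, 1, -1, -1, 1, -1, 1, 3, 3, 1, -1, -1, 1, -1, 3, -1, -1, 1, -1, 3, 1],
  [1, 1, 1, 3, -1, -3, 1, -1, 1, -1, -3, 1, -1, 1, 1, -1, 1, 1, 1, 1, 3, -3, 1, -1],
  [1, 1, 1, -1, 3, 1, 1, -1, 1, 3, -3, 1, -1, -3, 1, -1, 1, 1, 1, -3, -1, 1, 1, -1],
  [-1, -1, 3, 1, 1, -1, -1, 1, 3, 1, 3, -1, 1, -1, 3, 1, 3, -1, -1, -1, 1, -1, -1, 1],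
  [1, -3, 1, -1, -1, 1, 1, -1, 1, -1, 1, 1, 3, -3, -3, -1, 1, 1, 1, 1, 3, 1, 1, -1],
  [3, -1, -1, 1, 1, -1, -1, -3, -1, 1, -1, -1, 1, -1, -1, 1, -1, -1, -1, -1, 1, -1, -1, 5]]

/-- Data. -/
def T171 : List (List ℤ) := [[6, 0, 2, 2, 0, 0, 2, 0, 0, 0, 0, 0, 2, 0, 0, 0, -2, 0, 0, 0, 2, 0, 0, 2],
  [0, 2, 0, 0, -2, 2, 0, 2, 2, -2, 2, 2, 0, -2, 2, 2, 0, -2, -2, 2, 0, -2, 2, 0],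
  [0, 2, 0, 0, 2, 2, 0, -2, -2, 2, 2, -2, 0, 2, 2, -2, 0, -2, -2, 2, 0, 2, 2, 0],
  [0, 2, 0, 0, -2, -2, 0, 2, 2, 2, 2, -2, 0, -2, 2, -2, 0, 2, 2, -2, 0, 2, 2, 0],
  [2, 0, 6, -2, 0, 0, -2, 0, 0, 0, 0, 0, -2, 0, 0, 0, 2, 0, 0, 0, -2, 0, 0, -2],
  [0, 2, 0, 0, 2, -2, 0, 2, 2, 2, -2, -2, 0, 2, -2, 2, 0, -2, 2, 2, 0, -2, 2, 0],
  [0, 2, 0, 0, 2, -2, 0, -2, -2, -2, 2, 2, 0, 2, 2, 2, 0, 2, 2, -2, 0, -2, 2, 0],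
  [0, -2, 0, 0, -2, 2, 0, -2, 2, 2, 2, 2, 0, 2, -2, 2, 0, -2, 2, -2, 0, 2, 2, 0],
  [0, 2, 0, 0, -2, 2, 0, 2, -2, 2, 2, 2, 0, 2, -2, -2, 0, 2, 2, 2, 0, -2, -2, 0],
  [2, 0, -2, -2, 0, 0, -2, 0, 0, 0, 0, 0, -2, 0, 0, 0, 2, 0, 0, 0, 6, 0, 0, -2],
  [0, 2, 0, 0, 2, 2, 0, 2, 2, -2, -2, 2, 0, 2, -2, -2, 0, 2, -2, -2, 0, 2, 2, 0],
  [-2, 0, 2, 2, 0, 0, 2, 0, 0, 0, 0, 0, 2, 0, 0, 0, 6, 0, 0, 0, 2, 0, 0, 2],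
  [0, 2, 0, 0, 2, 2, 0, -2, 2, -2, 2, -2, 0, -2, -2, 2, 0, 2, 2, 2, 0, 2, -2, 0],
  [0, -2, 0, 0, 2, -2, 0, 2, -2, 2, 2, 2, 0, -2, -2, 2, 0, 2, -2, 2, 0, 2, 2, 0],
  [0, 2, 0, 0, -2, -2, 0, -2, 2, 2, -2, 2, 0, 2, 2, 2, 0, 2, -2, 2, 0, 2, -2, 0],
  [2, 0, -2, -2, 0, 0, 6, 0, 0, 0, 0, 0, -2, 0, 0, 0, 2, 0, 0, 0, -2, 0, 0, -2],
  [0, 2, 0, 0, 2, 2, 0, 2, -2, 2, -2, 2, 0, -2, 2, 2, 0, -2, 2, -2, 0, 2, -2, 0],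
  [0, -2, 0, 0, 2, 2, 0, -2, 2, 2, -2, 2, 0, -2, 2, -2, 0, 2, 2, 2, 0, -2, 2, 0],
  [2, 0, -2, -2, 0, 0, -2, 0, 0, 0, 0, 0, 6, 0, 0, 0, 2, 0, 0, 0, -2, 0, 0, -2],
  [0, -2, 0, 0, 2, 2, 0, 2, 2, 2, 2, -2, 0, 2, 2, 2, 0, 2, -2, -2, 0, -2, -2, 0],
  [0, -2, 0, 0, 2, -2, 0, 2, 2, -2, 2, 2, 0, 2, 2, -2, 0, -2, 2, 2, 0, 2, -2, 0],
  [0, -2, 0, 0, -2, 2, 0, 2, -2, -2, -2, -2, 0, 2, 2, 2, 0, 2, 2, 2, 0, 2, 2, 0],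
  [2, 0, -2, 6, 0, 0, -2, 0, 0, 0, 0, 0, -2, 0, 0, 0, 2, 0, 0, 0, -2, 0, 0, -2],
  [2, 0, -2, -2, 0, 0, -2, 0, 0, 0, 0, 0, -2, 0, 0, 0, 2, 0, 0, 0, -2, 0, 0, 6]]

/-- Data. -/
def T172 : List (List ℤ) := [[6, 2, -2, 2, 0, 2, 0, 0, 0, 0, 0, 0, 0, 0, 2, 0, 0, 2, 0, 0, 0, 0, 0, 2],
  [2, -2, 2, -2, 0, -2, 0, 0, 0, 0, 0, 0, 0, 0, -2, 0, 0, 6, 0, 0, 0, 0, 0, -2],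
  [-2, 2, 6, 2, 0, 2, 0, 0, 0, 0, 0, 0, 0, 0, 2, 0, 0, 2, 0, 0, 0, 0, 0, 2],
  [2, -2, 2, 6, 0, -2, 0, 0, 0, 0, 0, 0, 0, 0, -2, 0, 0, -2, 0, 0, 0, 0, 0, -2],
  [0, 0, 0, 0, 2, 0, 2, -2, 2, 2, 2, 2, -2, -2, 0, 2, -2, 0, -2, -2, 2, 2, 2, 0],
  [2, -2, 2, -2, 0, 6, 0, 0, 0, 0, 0, 0, 0, 0, -2, 0, 0, -2, 0, 0, 0, 0, 0, -2],
  [0, 0, 0, 0, 2, 0, 2, -2, -2, 2, 2, 2, -2, 2, 0, -2, 2, 0, 2, 2, -2, -2, 2, 0],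
  [0, 0, 0, 0, -2, 0, -2, 2, 2, 2, 2, 2, -2, 2, 0, 2, 2, 0, -2, 2, 2, -2, -2, 0],
  [0, 0, 0, 0, 2, 0, -2, 2, 2, 2, 2, -2, 2, 2, 0, -2, 2, 0, -2, -2, -2, 2, 2, 0],
  [0, 0, 0, 0, 2, 0, 2, 2, 2, 2, -2, -2, -2, 2, 0, -2, -2, 0, 2, 2, 2, 2, -2, 0],
  [0, 0, 0, 0, 2, 0, 2, 2, 2, -2, 2, 2, 2, -2, 0, -2, 2, 0, 2, -2, 2, -2, -2, 0],
  [0, 0, 0, 0, 2, 0, 2, 2, -2, -2, 2, 2, 2, 2, 0, 2, -2, 0, -2, 2, -2, 2, -2, 0],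
  [0, 0, 0, 0, -2, 0, -2, -2, 2, -2, 2, 2, 2, 2, 0, -2, -2, 0, 2, 2, 2, 2, 2, 0],
  [0, 0, 0, 0, -2, 0, 2, 2, 2, 2, -2, 2, 2, 2, 0, 2, -2, 0, 2, -2, -2, -2, 2, 0],
  [2, -2, 2, -2, 0, -2, 0, 0, 0, 0, 0, 0, 0, 0, 6, 0, 0, -2, 0, 0, 0, 0, 0, -2],
  [0, 0, 0, 0, 2, 0, -2, 2, -2, -2, -2, 2, -2, 2, 0, 2, 2, 0, 2, -2, 2, 2, 2, 0],
  [0, 0, 0, 0, -2, 0, 2, 2, 2, -2, 2, -2, -2, -2, 0, 2, 2, 0, 2, 2, -2, 2, 2, 0],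
  [2, 6, 2, -2, 0, -2, 0, 0, 0, 0, 0, 0, 0, 0, -2, 0, 0, -2, 0, 0, 0, 0, 0, -2],
  [0, 0, 0, 0, -2, 0, 2, -2, -2, 2, 2, -2, 2, 2, 0, 2, 2, 0, 2, -2, 2, 2, -2, 0],
  [0, 0, 0, 0, -2, 0, 2, 2, -2, 2, -2, 2, 2, -2, 0, -2, 2, 0, -2, 2, 2, 2, 2, 0],
  [0, 0, 0, 0, 2, 0, -2, 2, -2, 2, 2, -2, 2, -2, 0, 2, -2, 0, 2, 2, 2, -2, 2, 0],
  [0, 0, 0, 0, 2, 0, -2, -2, 2, 2, -2, 2, 2, -2, 0, 2, 2, 0, 2, 2, -2, 2, -2, 0],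
  [0, 0, 0, 0, 2, 0, 2, -2, 2, -2, -2, -2, 2, 2, 0, 2, 2, 0, -2, 2, 2, -2, 2, 0],
  [2, -2, 2, -2, 0, -2, 0, 0, 0, 0, 0, 0, 0, 0, -2, 0, 0, -2, 0, 0, 0, 0, 0, 6]]

/-- Data. -/
def T173 : List (List ℤ) := [[6, 0, 0, 0, 2, 0, 0, 2, 0, -2, 2, 0, 0, 2, 0, 0, 0, 0, 0, 2, 0, 0, 0, 2],
  [0, 2, 2, 2, 0, 2, -2, 0, 2, 0, 0, 2, -2, 0, -2, -2, 2, 2, 2, 0, -2, 2, -2, 0],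
  [0, 2, 2, -2, 0, 2, 2, 0, 2, 0, 0, -2, 2, 0, 2, -2, -2, 2, 2, 0, -2, -2, 2, 0],
  [0, 2, -2, 2, 0, -2, -2, 0, 2, 0, 0, 2, 2, 0, 2, 2, 2, -2, 2, 0, -2, -2, 2, 0],
  [2, 0, 0, 0, -2, 0, 0, -2, 0, 2, -2, 0, 0, -2, 0, 0, 0, 0, 0, 6, 0, 0, 0, -2],
  [0, 2, 2, -2, 0, 2, -2, 0, -2, 0, 0, 2, 2, 0, -2, 2, -2, -2, 2, 0, 2, 2, 2, 0],
  [0, -2, 2, -2, 0, -2, 2, 0, -2, 0, 0, 2, -2, 0, 2, 2, 2, 2, 2, 0, -2, 2, 2, 0],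
  [2, 0, 0, 0, -2, 0, 0, 6, 0, 2, -2, 0, 0, -2, 0, 0, 0, 0, 0, -2, 0, 0, 0, -2],
  [0, 2, 2, 2, 0, -2, -2, 0, 2, 0, 0, -2, -2, 0, 2, 2, -2, 2, -2, 0, 2, 2, 2, 0],
  [-2, 0, 0, 0, 2, 0, 0, 2, 0, 6, 2, 0, 0, 2, 0, 0, 0, 0, 0, 2, 0, 0, 0, 2],
  [2, 0, 0, 0, -2, 0, 0, -2, 0, 2, 6, 0, 0, -2, 0, 0, 0, 0, 0, -2, 0, 0, 0, -2],
  [0, 2, -2, 2, 0, 2, 2, 0, -2, 0, 0, 2, 2, 0, 2, 2, -2, 2, -2, 0, -2, 2, -2, 0],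
  [0, -2, 2, 2, 0, 2, -2, 0, -2, 0, 0, 2, 2, 0, 2, -2, 2, 2, -2, 0, 2, -2, 2, 0],
  [2, 0, 0, 0, -2, 0, 0, -2, 0, 2, -2, 0, 0, 6, 0, 0, 0, 0, 0, -2, 0, 0, 0, -2],
  [0, -2, 2, 2, 0, -2, 2, 0, 2, 0, 0, 2, 2, 0, 2, -2, -2, -2, 2, 0, 2, 2, -2, 0],
  [0, -2, -2, 2, 0, 2, 2, 0, 2, 0, 0, 2, -2, 0, -2, 2, -2, 2, 2, 0, 2, -2, 2, 0],
  [0, 2, -2, 2, 0, -2, 2, 0, -2, 0, 0, -2, 2, 0, -2, -2, 2, 2, 2, 0, 2, 2, 2, 0],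
  [0, 2, 2, -2, 0, -2, 2, 0, 2, 0, 0, 2, 2, 0, -2, 2, 2, 2, -2, 0, 2, -2, -2, 0],
  [0, 2, 2, 2, 0, 2, 2, 0, -2, 0, 0, -2, -2, 0, 2, 2, 2, -2, 2, 0, 2, -2, -2, 0],
  [2, 0, 0, 0, 6, 0, 0, -2, 0, 2, -2, 0, 0, -2, 0, 0, 0, 0, 0, -2, 0, 0, 0, -2],
  [0, -2, -2, -2, 0, 2, -2, 0, 2, 0, 0, -2, 2, 0, 2, 2, 2, 2, 2, 0, 2, 2, -2, 0],
  [0, 2, -2, -2, 0, 2, 2, 0, 2, 0, 0, 2, -2, 0, 2, -2, 2, -2, -2, 0, 2, 2, 2, 0],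
  [0, -2, 2, 2, 0, 2, 2, 0, 2, 0, 0, -2, 2, 0, -2, 2, 2, -2, -2, 0, -2, 2, 2, 0],
  [2, 0, 0, 0, -2, 0, 0, -2, 0, 2, -2, 0, 0, -2, 0, 0, 0, 0, 0, -2, 0, 0, 0, 6]]

/-- Data. -/
def T174 : List (List ℤ) := [[3, -1, -1, -1, -1, 1, -1, 1, 1, 1, 1, 1, -1, 1, -1, -1, -1, -1, 1, 1, -3, 1, -1, 5],
  [1, 1, 1, 1, 1, 3, 1, -1, -1, -1, -1, 3, -3, -1, 1, -3, 1, -3, -1, -1, -1, -1, 1, -1],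
  [1, 1, -3, -3, 1, -1, -3, -1, -1, -1, -1, -1, -3, -1, 1, 1, -3, 1, -1, -1, -1, -1, 1, -1],
  [-1, 3, -1, -1, -1, 1, -1, -3, 1, 1, 1, 1, 3, -3, 3, -1, -1, -1, 1, 1, 1, 1, -1, 1],
  [1, 1, -3, 1, -3, -1, 1, 3, -1, -1, -1, -1, 1, -1, 1, 1, 1, -3, 3, -1, -1, -1, 1, -1],
  [-1, -1, -1, -1, 3, 1, -1, 1, -3, 1, -3, 1, 3, 1, -1, -1, -1, -1, 1, 1, 1, 1, 3, 1],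
  [1, 1, 1, 1, 1, -1, -3, -1, -1, -1, 3, -1, 1, -1, -3, 1, 1, -3, -1, 3, -1, -1, 1, -1],
  [1, -3, -3, 1, 1, -1, 1, -1, -1, 3, 3, -1, 1, -1, 1, -3, 1, 1, -1, -1, -1, -1, 1, -1],
  [-1, 3, -1, -1, -1, -3, 3, 1, 1, 1, 1, 1, -1, 1, -1, -1, -1, -1, -3, 1, 1, 1, 3, 1],
  [-1, -1, -1, 3, -1, 1, -1, 1, 1, -3, 1, 1, -1, -3, -1, -1, -1, 3, 1, 1, 1, 1, 3, 1],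
  [1, 1, 1, 1, 1, -1, 1, 3, -1, -1, -1, -1, 1, -1, 1, -3, -3, 1, -1, 3, -1, -1, -3, -1],
  [1, 1, 1, -3, 1, -1, 1, -1, 3, -1, -1, -1, 1, -1, -3, -3, 1, 1, 3, -1, -1, -1, 1, -1],
  [1, -3, 1, 1, 1, -1, 1, -1, 3, -1, -1, -1, 1, -1, 1, 1, -3, -3, -1, -1, -1, 3, 1, -1],
  [-1, -1, -1, -1, -1, 1, -1, 1, 1, 1, -3, -3, -1, -3, -1, -1, 3, -1, -3, 1, 1, 1, -1, 1],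
  [-1, -1, -1, -1, -1, 1, -1, 1, 1, -3, 1, 1, 3, 1, -1, -1, -1, -1, -3, -3, 1, -3, -1, 1],
  [-1, -1, -1, -1, -1, 1, 3, -3, -3, -3, 1, -3, -1, 1, -1, -1, -1, -1, 1, 1, 1, 1, -1, 1],
  [-1, -1, -1, 3, -1, -3, -1, -3, 1, 1, -3, 1, -1, 1, -1, -1, -1, -1, 1, 1, 1, -3, -1, 1],
  [-3, 1, 1, 1, 1, -1, 1, -1, -1, -1, -1, -1, 1, -1, 1, 1, 1, 1, -1, -1, -5, -1, 1, 3],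
  [1, 1, -3, 1, 1, -1, 1, -1, -1, -1, -1, 3, 1, -1, -3, 1, 1, 1, -1, -1, -1, 3, -3, -1],
  [-1, 3, -1, 3, 3, 1, -1, 1, 1, 1, 1, -3, -1, 1, -1, -1, -1, -1, 1, -3, 1, 1, -1, 1],
  [-1, -1, 3, -1, -1, -3, -1, 1, -3, 1, 1, 1, -1, -3, -1, -1, -1, -1, 1, -3, 1, 1, -1, 1],
  [1, 1, 1, 1, -3, 3, 1, -1, -1, 3, -1, -1, 1, -1, -3, 1, -3, 1, -1, -1, -1, -1, 1, -1],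
  [-1, -1, -1, -1, 3, 1, 3, 1, 1, 1, 1, 1, -1, -3, -1, 3, -1, -1, 1, 1, 1, -3, -1, 1],
  [5, 1, 1, 1, 1, -1, 1, -1, -1, -1, -1, -1, 1, -1, 1, 1, 1, 1, -1, -1, 3, -1, 1, 3]]

/-- Data. -/
def T175 : List (List ℤ) := [[4, 0, 0, 0, 0, 0, 0, 0, -2, 0, 0, 0, 0, -2, 0, -2, -2, 0, 2, -2, -2, 2, 0, 4],
  [0, 0, 0, 0, 0, 0, 0, 0, 2, 0, -4, 4, 0, -2, 0, 2, -2, 0, 2, 2, -2, -2, 0, 0],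
  [0, 0, -4, 0, 0, -4, 0, 0, -2, 0, 0, 0, 0, -2, 0, 2, 2, 0, -2, -2, -2, -2, 0, 0],
  [0, 4, 0, 0, 0, 0, 0, 0, -2, 0, 0, 0, 0, 2, 0, 2, -2, -4, -2, 2, -2, 2, 0, 0],
  [0, 4, 0, 0, 0, 0, 0, 0, 2, 0, 0, 0, 0, -2, 0, -2, 2, -4, 2, -2, 2, -2, 0, 0],
  [0, 0, 0, 0, 0, 0, 0, 0, -2, 4, 0, 0, 4, -2, 0, -2, -2, 0, -2, 2, 2, -2, 0, 0],
  [2, -2, -2, -2, -2, 2, -2, -2, 0, -2, 2, 2, 2, 0, -2, 0, 0, -2, 0, 0, 0, 0, 2, -2],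
  [-2, 2, -2, -2, 2, 2, 2, -2, 0, 2, 2, 2, -2, 0, -2, 0, 0, 2, 0, 0, 0, 0, 2, 2],
  [0, 0, -4, 0, 0, -4, 0, 0, 2, 0, 0, 0, 0, 2, 0, -2, -2, 0, 2, 2, 2, 2, 0, 0],
  [0, 0, 0, 4, 0, 0, 0, 0, 2, 0, 0, 0, 0, -2, -4, 2, -2, 0, -2, -2, 2, 2, 0, 0],
  [-2, -2, -2, 2, 2, 2, 2, 2, 0, -2, 2, 2, 2, 0, 2, 0, 0, -2, 0, 0, 0, 0, -2, 2],
  [0, 0, 0, 0, 0, 0, 0, 0, 2, 0, 4, -4, 0, -2, 0, 2, -2, 0, 2, 2, -2, -2, 0, 0],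
  [0, 0, 0, 0, -4, 0, 4, 0, 2, 0, 0, 0, 0, -2, 0, -2, 2, 0, -2, 2, -2, 2, 0, 0],
  [0, 0, 0, 0, 0, 0, 0, 0, -2, -4, 0, 0, -4, -2, 0, -2, -2, 0, -2, 2, 2, -2, 0, 0],
  [-2, 2, -2, -2, -2, 2, -2, 2, 0, -2, -2, -2, 2, 0, -2, 0, 0, 2, 0, 0, 0, 0, -2, 2],
  [-2, -2, 2, -2, 2, -2, 2, -2, 0, -2, -2, -2, 2, 0, -2, 0, 0, -2, 0, 0, 0, 0, 2, 2],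
  [-2, -2, -2, 2, -2, 2, -2, -2, 0, 2, -2, -2, -2, 0, 2, 0, 0, -2, 0, 0, 0, 0, 2, 2],
  [-2, -2, 2, -2, -2, -2, -2, 2, 0, 2, 2, 2, -2, 0, -2, 0, 0, -2, 0, 0, 0, 0, -2, 2],
  [0, 0, 0, 0, 4, 0, -4, 0, 2, 0, 0, 0, 0, -2, 0, -2, 2, 0, -2, 2, -2, 2, 0, 0],
  [0, 0, 0, 0, 0, 0, 0, 4, 2, 0, 0, 0, 0, 2, 0, -2, -2, 0, -2, -2, -2, -2, 4, 0],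
  [0, 0, 0, 0, 0, 0, 0, -4, 2, 0, 0, 0, 0, 2, 0, -2, -2, 0, -2, -2, -2, -2, -4, 0],
  [0, 0, 0, 4, 0, 0, 0, 0, -2, 0, 0, 0, 0, 2, -4, -2, 2, 0, 2, 2, -2, -2, 0, 0],
  [2, -2, -2, -2, 2, 2, 2, 2, 0, 2, -2, -2, -2, 0, -2, 0, 0, -2, 0, 0, 0, 0, -2, -2],
  [4, 0, 0, 0, 0, 0, 0, 0, 2, 0, 0, 0, 0, 2, 0, 2, 2, 0, -2, 2, 2, -2, 0, 4]]

/-- Data. -/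
def T176 : List (List ℤ) := [[2, 0, 0, 0, 0, 0, 2, 0, 0, 0, 2, 0, 0, 0, -2, 0, 0, -2, 0, 2, -2, 0, 0, 6],
  [0, -2, 2, 2, 2, 2, 0, 2, -2, 2, 0, -2, -2, -2, 0, -2, -2, 0, -2, 0, 0, 2, 2, 0],
  [0, 2, -2, -2, 2, -2, 0, -2, -2, -2, 0, -2, -2, -2, 0, 2, -2, 0, -2, 0, 0, -2, 2, 0],
  [0, 2, -2, -2, -2, -2, 0, 2, 2, 2, 0, 2, -2, 2, 0, -2, -2, 0, -2, 0, 0, 2, 2, 0],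
  [0, 2, 2, -2, -2, 2, 0, 2, -2, -2, 0, 2, 2, -2, 0, -2, -2, 0, 2, 0, 0, -2, 2, 0],
  [0, 2, -2, -2, 2, -2, 0, 2, -2, 2, 0, -2, 2, -2, 0, -2, 2, 0, 2, 0, 0, 2, -2, 0],
  [2, 0, 0, 0, 0, 0, -6, 0, 0, 0, 2, 0, 0, 0, -2, 0, 0, -2, 0, 2, -2, 0, 0, -2],
  [0, 2, -2, 2, 2, 2, 0, -2, -2, 2, 0, 2, 2, 2, 0, -2, -2, 0, -2, 0, 0, -2, -2, 0],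
  [0, -2, -2, 2, -2, -2, 0, -2, -2, 2, 0, 2, 2, -2, 0, 2, -2, 0, 2, 0, 0, 2, 2, 0],
  [0, 2, -2, 2, -2, 2, 0, 2, 2, -2, 0, -2, 2, -2, 0, 2, -2, 0, -2, 0, 0, 2, -2, 0],
  [2, 0, 0, 0, 0, 0, 2, 0, 0, 0, -6, 0, 0, 0, -2, 0, 0, -2, 0, 2, -2, 0, 0, -2],
  [0, -2, -2, 2, 2, -2, 0, 2, 2, -2, 0, -2, 2, 2, 0, -2, -2, 0, 2, 0, 0, -2, 2, 0],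
  [0, -2, -2, -2, 2, 2, 0, 2, 2, 2, 0, 2, -2, -2, 0, 2, -2, 0, 2, 0, 0, -2, -2, 0],
  [0, -2, -2, 2, -2, -2, 0, 2, -2, -2, 0, 2, -2, -2, 0, -2, 2, 0, -2, 0, 0, -2, -2, 0],
  [-2, 0, 0, 0, 0, 0, -2, 0, 0, 0, -2, 0, 0, 0, -6, 0, 0, 2, 0, -2, 2, 0, 0, 2],
  [0, -2, 2, -2, -2, -2, 0, -2, 2, 2, 0, -2, 2, -2, 0, -2, -2, 0, -2, 0, 0, -2, -2, 0],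
  [0, -2, -2, -2, -2, 2, 0, -2, -2, -2, 0, -2, -2, 2, 0, -2, -2, 0, 2, 0, 0, 2, -2, 0],
  [-2, 0, 0, 0, 0, 0, -2, 0, 0, 0, -2, 0, 0, 0, 2, 0, 0, -6, 0, -2, 2, 0, 0, 2],
  [0, -2, -2, -2, 2, 2, 0, -2, 2, -2, 0, 2, 2, -2, 0, -2, 2, 0, -2, 0, 0, 2, 2, 0],
  [2, 0, 0, 0, 0, 0, 2, 0, 0, 0, 2, 0, 0, 0, -2, 0, 0, -2, 0, -6, -2, 0, 0, -2],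
  [-2, 0, 0, 0, 0, 0, -2, 0, 0, 0, -2, 0, 0, 0, 2, 0, 0, 2, 0, -2, -6, 0, 0, 2],
  [0, 2, -2, 2, -2, 2, 0, -2, 2, 2, 0, -2, -2, -2, 0, -2, 2, 0, 2, 0, 0, -2, 2, 0],
  [0, 2, 2, 2, 2, -2, 0, -2, 2, -2, 0, 2, -2, -2, 0, -2, -2, 0, 2, 0, 0, 2, -2, 0],
  [6, 0, 0, 0, 0, 0, -2, 0, 0, 0, -2, 0, 0, 0, 2, 0, 0, 2, 0, -2, 2, 0, 0, 2]]

/-- Data. -/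
def T177 : List (List ℤ) := [[2, 0, -2, 0, 2, 0, 0, 2, 0, 0, 0, 0, 0, 0, 0, 0, 0, -2, 2, 0, -2, 0, 0, 6],
  [0, -2, 0, -2, 0, 2, 2, 0, 2, 2, 2, 2, -2, -2, -2, 2, -2, 0, 0, 2, 0, -2, -2, 0],
  [-2, 0, -6, 0, -2, 0, 0, -2, 0, 0, 0, 0, 0, 0, 0, 0, 0, 2, -2, 0, 2, 0, 0, 2],
  [0, -2, 0, -2, 0, 2, -2, 0, -2, 2, -2, 2, 2, 2, -2, -2, -2, 0, 0, 2, 0, 2, 2, 0],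
  [2, 0, -2, 0, -6, 0, 0, 2, 0, 0, 0, 0, 0, 0, 0, 0, 0, -2, 2, 0, -2, 0, 0, -2],
  [0, 2, 0, 2, 0, -2, -2, 0, -2, 2, 2, 2, -2, -2, 2, -2, -2, 0, 0, 2, 0, -2, 2, 0],
  [0, 2, 0, -2, 0, -2, -2, 0, 2, -2, 2, 2, 2, -2, -2, 2, -2, 0, 0, -2, 0, 2, 2, 0],
  [2, 0, -2, 0, 2, 0, 0, -6, 0, 0, 0, 0, 0, 0, 0, 0, 0, -2, 2, 0, -2, 0, 0, -2],
  [0, 2, 0, -2, 0, -2, 2, 0, -2, 2, 2, -2, 2, -2, -2, -2, 2, 0, 0, 2, 0, 2, -2, 0],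
  [0, 2, 0, 2, 0, 2, -2, 0, 2, -2, -2, 2, 2, -2, -2, -2, 2, 0, 0, 2, 0, -2, -2, 0],
  [0, 2, 0, -2, 0, 2, 2, 0, 2, -2, -2, -2, -2, -2, 2, -2, -2, 0, 0, 2, 0, 2, 2, 0],
  [0, 2, 0, 2, 0, 2, 2, 0, -2, 2, -2, -2, 2, -2, -2, 2, -2, 0, 0, -2, 0, -2, 2, 0],
  [0, -2, 0, 2, 0, -2, 2, 0, 2, 2, -2, 2, -2, -2, -2, -2, 2, 0, 0, -2, 0, 2, 2, 0],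
  [0, -2, 0, 2, 0, -2, -2, 0, -2, -2, -2, -2, -2, -2, -2, 2, -2, 0, 0, 2, 0, 2, -2, 0],
  [0, -2, 0, -2, 0, 2, -2, 0, -2, -2, 2, -2, -2, -2, -2, -2, 2, 0, 0, -2, 0, -2, 2, 0],
  [0, 2, 0, -2, 0, -2, 2, 0, -2, -2, -2, 2, -2, 2, -2, -2, -2, 0, 0, -2, 0, -2, -2, 0],
  [0, -2, 0, -2, 0, -2, -2, 0, 2, 2, -2, -2, 2, -2, 2, -2, -2, 0, 0, -2, 0, -2, -2, 0],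
  [-2, 0, 2, 0, -2, 0, 0, -2, 0, 0, 0, 0, 0, 0, 0, 0, 0, -6, -2, 0, 2, 0, 0, 2],
  [2, 0, -2, 0, 2, 0, 0, 2, 0, 0, 0, 0, 0, 0, 0, 0, 0, -2, -6, 0, -2, 0, 0, -2],
  [0, 2, 0, 2, 0, 2, -2, 0, 2, 2, 2, -2, -2, 2, -2, -2, -2, 0, 0, -2, 0, 2, -2, 0],
  [-2, 0, 2, 0, -2, 0, 0, -2, 0, 0, 0, 0, 0, 0, 0, 0, 0, 2, -2, 0, -6, 0, 0, 2],
  [0, -2, 0, 2, 0, -2, 2, 0, 2, -2, 2, -2, 2, 2, -2, -2, -2, 0, 0, 2, 0, -2, 2, 0],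
  [0, -2, 0, 2, 0, 2, 2, 0, -2, -2, 2, 2, 2, -2, 2, -2, -2, 0, 0, -2, 0, 2, -2, 0],
  [6, 0, 2, 0, -2, 0, 0, -2, 0, 0, 0, 0, 0, 0, 0, 0, 0, 2, -2, 0, 2, 0, 0, 2]]

/-- Data. -/
def T178 : List (List ℤ) := [[4, 0, 0, 0, 0, 0, 0, 0, 0, 0, 0, 0, 0, 0, 0, -4, 0, -4, 0, 0, 0, 0, 0, 4],
  [0, -4, 0, 0, 0, 0, 0, 0, 0, 0, 0, 0, 0, -4, 0, 0, 0, 0, 4, 4, 0, 0, 0, 0],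
  [0, 0, -4, 0, 0, 0, -4, 0, -4, 0, 0, 0, 0, 0, 0, 0, 0, 0, 0, 0, 0, 0, -4, 0],
  [0, 0, 0, -4, 4, 0, 0, 0, 0, 0, 4, 0, 0, 0, 0, 0, -4, 0, 0, 0, 0, 0, 0, 0],
  [0, 0, 0, 4, -4, 0, 0, 0, 0, 0, 4, 0, 0, 0, 0, 0, -4, 0, 0, 0, 0, 0, 0, 0],
  [0, 0, 0, 0, 0, -4, 0, 0, 0, 0, 0, 4, 4, 0, 0, 0, 0, 0, 0, 0, -4, 0, 0, 0],
  [0, 0, -4, 0, 0, 0, -4, 0, 4, 0, 0, 0, 0, 0, 0, 0, 0, 0, 0, 0, 0, 0, 4, 0],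
  [0, 0, 0, 0, 0, 0, 0, -4, 0, 4, 0, 0, 0, 0, -4, 0, 0, 0, 0, 0, 0, 4, 0, 0],
  [0, 0, -4, 0, 0, 0, 4, 0, -4, 0, 0, 0, 0, 0, 0, 0, 0, 0, 0, 0, 0, 0, 4, 0],
  [0, 0, 0, 0, 0, 0, 0, 4, 0, -4, 0, 0, 0, 0, -4, 0, 0, 0, 0, 0, 0, 4, 0, 0],
  [0, 0, 0, 4, 4, 0, 0, 0, 0, 0, -4, 0, 0, 0, 0, 0, -4, 0, 0, 0, 0, 0, 0, 0],
  [0, 0, 0, 0, 0, 4, 0, 0, 0, 0, 0, -4, 4, 0, 0, 0, 0, 0, 0, 0, -4, 0, 0, 0],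
  [0, 0, 0, 0, 0, 4, 0, 0, 0, 0, 0, 4, -4, 0, 0, 0, 0, 0, 0, 0, -4, 0, 0, 0],
  [0, -4, 0, 0, 0, 0, 0, 0, 0, 0, 0, 0, 0, -4, 0, 0, 0, 0, -4, -4, 0, 0, 0, 0],
  [0, 0, 0, 0, 0, 0, 0, -4, 0, -4, 0, 0, 0, 0, -4, 0, 0, 0, 0, 0, 0, -4, 0, 0],
  [-4, 0, 0, 0, 0, 0, 0, 0, 0, 0, 0, 0, 0, 0, 0, 4, 0, -4, 0, 0, 0, 0, 0, 4],
  [0, 0, 0, -4, -4, 0, 0, 0, 0, 0, -4, 0, 0, 0, 0, 0, -4, 0, 0, 0, 0, 0, 0, 0],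
  [-4, 0, 0, 0, 0, 0, 0, 0, 0, 0, 0, 0, 0, 0, 0, -4, 0, 4, 0, 0, 0, 0, 0, 4],
  [0, 4, 0, 0, 0, 0, 0, 0, 0, 0, 0, 0, 0, -4, 0, 0, 0, 0, -4, 4, 0, 0, 0, 0],
  [0, 4, 0, 0, 0, 0, 0, 0, 0, 0, 0, 0, 0, -4, 0, 0, 0, 0, 4, -4, 0, 0, 0, 0],
  [0, 0, 0, 0, 0, -4, 0, 0, 0, 0, 0, -4, -4, 0, 0, 0, 0, 0, 0, 0, -4, 0, 0, 0],
  [0, 0, 0, 0, 0, 0, 0, 4, 0, 4, 0, 0, 0, 0, -4, 0, 0, 0, 0, 0, 0, -4, 0, 0],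
  [0, 0, -4, 0, 0, 0, 4, 0, 4, 0, 0, 0, 0, 0, 0, 0, 0, 0, 0, 0, 0, 0, -4, 0],
  [4, 0, 0, 0, 0, 0, 0, 0, 0, 0, 0, 0, 0, 0, 0, 4, 0, 4, 0, 0, 0, 0, 0, 4]]

/-- Data. -/
def T179 : List (List ℤ) := [[2, 0, -2, 0, 0, 2, 0, 0, 0, 0, 0, 0, 0, 0, 0, -2, -2, 0, 2, 0, 0, 2, 0, 6],
  [0, -2, 0, 2, 2, 0, 2, 2, -2, -2, 2, 2, 2, -2, 2, 0, 0, -2, 0, -2, -2, 0, -2, 0],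
  [-2, 0, -6, 0, 0, -2, 0, 0, 0, 0, 0, 0, 0, 0, 0, 2, 2, 0, -2, 0, 0, -2, 0, 2],
  [0, 2, 0, -2, 2, 0, 2, -2, -2, 2, 2, 2, -2, -2, -2, 0, 0, 2, 0, -2, -2, 0, 2, 0],
  [0, 2, 0, 2, -2, 0, 2, -2, 2, -2, -2, 2, 2, 2, -2, 0, 0, -2, 0, -2, -2, 0, 2, 0],
  [2, 0, -2, 0, 0, -6, 0, 0, 0, 0, 0, 0, 0, 0, 0, -2, -2, 0, 2, 0, 0, 2, 0, -2],
  [0, 2, 0, 2, 2, 0, -2, -2, -2, -2, 2, -2, 2, -2, -2, 0, 0, -2, 0, 2, 2, 0, 2, 0],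
  [0, 2, 0, -2, -2, 0, -2, -2, 2, 2, 2, 2, 2, -2, 2, 0, 0, -2, 0, 2, -2, 0, -2, 0],
  [0, -2, 0, -2, 2, 0, -2, 2, -2, 2, -2, 2, 2, 2, -2, 0, 0, -2, 0, 2, -2, 0, 2, 0],
  [0, -2, 0, 2, -2, 0, -2, 2, 2, -2, 2, 2, -2, -2, -2, 0, 0, 2, 0, 2, -2, 0, 2, 0],
  [0, 2, 0, 2, -2, 0, 2, 2, -2, 2, -2, 2, -2, -2, -2, 0, 0, -2, 0, 2, 2, 0, -2, 0],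
  [0, 2, 0, 2, 2, 0, -2, 2, 2, 2, 2, -2, -2, 2, -2, 0, 0, -2, 0, -2, -2, 0, -2, 0],
  [0, 2, 0, -2, 2, 0, 2, 2, 2, -2, -2, -2, -2, -2, 2, 0, 0, -2, 0, 2, -2, 0, 2, 0],
  [0, -2, 0, -2, 2, 0, -2, -2, 2, -2, -2, 2, -2, -2, -2, 0, 0, -2, 0, -2, 2, 0, -2, 0],
  [0, 2, 0, -2, -2, 0, -2, 2, -2, -2, -2, -2, 2, -2, -2, 0, 0, 2, 0, -2, -2, 0, -2, 0],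
  [-2, 0, 2, 0, 0, -2, 0, 0, 0, 0, 0, 0, 0, 0, 0, -6, 2, 0, -2, 0, 0, -2, 0, 2],
  [-2, 0, 2, 0, 0, -2, 0, 0, 0, 0, 0, 0, 0, 0, 0, 2, -6, 0, -2, 0, 0, -2, 0, 2],
  [0, -2, 0, 2, -2, 0, -2, -2, -2, 2, -2, -2, -2, -2, 2, 0, 0, -2, 0, -2, -2, 0, 2, 0],
  [2, 0, -2, 0, 0, 2, 0, 0, 0, 0, 0, 0, 0, 0, 0, -2, -2, 0, -6, 0, 0, 2, 0, -2],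
  [0, -2, 0, -2, -2, 0, 2, 2, 2, 2, 2, -2, 2, -2, -2, 0, 0, -2, 0, -2, 2, 0, 2, 0],
  [0, -2, 0, -2, -2, 0, 2, -2, -2, -2, 2, -2, -2, 2, -2, 0, 0, -2, 0, 2, -2, 0, -2, 0],
  [2, 0, -2, 0, 0, 2, 0, 0, 0, 0, 0, 0, 0, 0, 0, -2, -2, 0, 2, 0, 0, -6, 0, -2],
  [0, -2, 0, 2, 2, 0, 2, -2, 2, 2, -2, -2, 2, -2, -2, 0, 0, 2, 0, 2, -2, 0, -2, 0],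
  [6, 0, 2, 0, 0, -2, 0, 0, 0, 0, 0, 0, 0, 0, 0, 2, 2, 0, -2, 0, 0, -2, 0, 2]]

/-- Data. -/
def T180 : List (List ℤ) := [[6, 2, 0, 2, 2, 0, 0, 0, 0, 0, 0, -2, 0, 0, 0, 0, 0, 0, 0, 2, 2, 0, 0, 2],
  [0, 0, -2, 0, 0, 2, -2, 2, -2, 2, 2, 0, 2, -2, 2, 2, -2, 2, 2, 0, 0, -2, 2, 0],
  [0, 0, 2, 0, 0, 2, 2, 2, -2, -2, 2, 0, -2, 2, 2, 2, 2, -2, 2, 0, 0, -2, -2, 0],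
  [0, 0, 2, 0, 0, 2, 2, 2, 2, 2, 2, 0, -2, -2, -2, -2, 2, 2, -2, 0, 0, -2, 2, 0],
  [2, -2, 0, -2, 6, 0, 0, 0, 0, 0, 0, 2, 0, 0, 0, 0, 0, 0, 0, -2, -2, 0, 0, -2],
  [2, -2, 0, 6, -2, 0, 0, 0, 0, 0, 0, 2, 0, 0, 0, 0, 0, 0, 0, -2, -2, 0, 0, -2],
  [0, 0, -2, 0, 0, 2, 2, 2, 2, 2, -2, 0, -2, 2, 2, -2, -2, 2, 2, 0, 0, 2, -2, 0],
  [0, 0, 2, 0, 0, 2, -2, 2, 2, -2, -2, 0, 2, -2, 2, -2, 2, -2, 2, 0, 0, 2, 2, 0],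
  [0, 0, 2, 0, 0, 2, 2, -2, 2, -2, 2, 0, 2, -2, -2, 2, -2, 2, 2, 0, 0, 2, -2, 0],
  [0, 0, 2, 0, 0, 2, 2, -2, -2, 2, 2, 0, 2, 2, 2, -2, -2, -2, -2, 0, 0, 2, 2, 0],
  [0, 0, -2, 0, 0, 2, -2, -2, 2, 2, 2, 0, -2, 2, -2, 2, 2, -2, 2, 0, 0, 2, 2, 0],
  [0, 0, -2, 0, 0, -2, 2, 2, 2, 2, 2, 0, 2, -2, 2, 2, 2, -2, -2, 0, 0, 2, -2, 0],
  [0, 0, -2, 0, 0, -2, 2, 2, -2, -2, 2, 0, 2, 2, -2, -2, 2, 2, 2, 0, 0, 2, 2, 0],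
  [0, 0, 2, 0, 0, -2, -2, -2, 2, 2, 2, 0, 2, 2, 2, -2, 2, 2, 2, 0, 0, -2, -2, 0],
  [0, 0, 2, 0, 0, -2, 2, -2, -2, 2, -2, 0, -2, -2, 2, 2, 2, 2, 2, 0, 0, 2, 2, 0],
  [0, 0, 2, 0, 0, -2, -2, 2, 2, -2, 2, 0, -2, 2, 2, 2, -2, 2, -2, 0, 0, 2, 2, 0],
  [0, 0, 2, 0, 0, 2, -2, 2, -2, 2, -2, 0, 2, 2, -2, 2, 2, 2, -2, 0, 0, 2, -2, 0],
  [2, -2, 0, -2, -2, 0, 0, 0, 0, 0, 0, 2, 0, 0, 0, 0, 0, 0, 0, -2, 6, 0, 0, -2],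
  [0, 0, 2, 0, 0, -2, 2, 2, 2, 2, -2, 0, 2, 2, -2, 2, -2, -2, 2, 0, 0, -2, 2, 0],
  [2, -2, 0, -2, -2, 0, 0, 0, 0, 0, 0, 2, 0, 0, 0, 0, 0, 0, 0, 6, -2, 0, 0, -2],
  [0, 0, -2, 0, 0, 2, 2, -2, 2, -2, -2, 0, 2, 2, 2, 2, 2, 2, -2, 0, 0, -2, 2, 0],
  [-2, 2, 0, 2, 2, 0, 0, 0, 0, 0, 0, 6, 0, 0, 0, 0, 0, 0, 0, 2, 2, 0, 0, 2],
  [2, 6, 0, -2, -2, 0, 0, 0, 0, 0, 0, 2, 0, 0, 0, 0, 0, 0, 0, -2, -2, 0, 0, -2],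
  [2, -2, 0, -2, -2, 0, 0, 0, 0, 0, 0, 2, 0, 0, 0, 0, 0, 0, 0, -2, -2, 0, 0, 6]]

/-- Data. -/
def T181 : List (List ℤ) := [[6, 0, 0, 0, 0, 0, -2, 2, 2, 2, 0, 2, 0, 0, 0, 0, 0, 0, 0, 0, 2, 0, 0, 2],
  [0, 2, -2, 2, 2, -2, 0, 0, 0, 0, 2, 0, 2, 2, -2, 2, -2, 2, 2, -2, 0, 2, -2, 0],
  [0, -2, 2, 2, -2, 2, 0, 0, 0, 0, -2, 0, 2, 2, 2, -2, 2, 2, 2, -2, 0, 2, -2, 0],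
  [2, 0, 0, 0, 0, 0, 2, 6, -2, -2, 0, -2, 0, 0, 0, 0, 0, 0, 0, 0, -2, 0, 0, -2],
  [0, 2, 2, -2, 2, 2, 0, 0, 0, 0, 2, 0, 2, -2, 2, -2, -2, 2, -2, 2, 0, 2, -2, 0],
  [2, 0, 0, 0, 0, 0, 2, -2, 6, -2, 0, -2, 0, 0, 0, 0, 0, 0, 0, 0, -2, 0, 0, -2],
  [-2, 0, 0, 0, 0, 0, 6, 2, 2, 2, 0, 2, 0, 0, 0, 0, 0, 0, 0, 0, 2, 0, 0, 2],
  [0, 2, 2, 2, -2, 2, 0, 0, 0, 0, -2, 0, -2, -2, -2, 2, -2, 2, 2, 2, 0, 2, 2, 0],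
  [0, -2, 2, 2, 2, 2, 0, 0, 0, 0, 2, 0, 2, -2, -2, 2, 2, -2, 2, 2, 0, -2, -2, 0],
  [2, 0, 0, 0, 0, 0, 2, -2, -2, 6, 0, -2, 0, 0, 0, 0, 0, 0, 0, 0, -2, 0, 0, -2],
  [0, 2, -2, -2, -2, 2, 0, 0, 0, 0, 2, 0, 2, -2, 2, 2, 2, -2, 2, -2, 0, 2, 2, 0],
  [0, -2, -2, 2, 2, 2, 0, 0, 0, 0, -2, 0, 2, 2, 2, 2, -2, -2, -2, 2, 0, 2, 2, 0],
  [0, 2, -2, -2, 2, 2, 0, 0, 0, 0, -2, 0, 2, 2, -2, -2, 2, 2, 2, 2, 0, -2, 2, 0],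
  [0, -2, 2, -2, -2, -2, 0, 0, 0, 0, 2, 0, 2, 2, 2, 2, -2, 2, 2, 2, 0, -2, 2, 0],
  [0, 2, 2, -2, 2, -2, 0, 0, 0, 0, -2, 0, -2, 2, 2, 2, 2, -2, 2, 2, 0, 2, -2, 0],
  [2, 0, 0, 0, 0, 0, 2, -2, -2, -2, 0, -2, 0, 0, 0, 0, 0, 0, 0, 0, 6, 0, 0, -2],
  [0, -2, 2, -2, 2, 2, 0, 0, 0, 0, 2, 0, -2, 2, -2, 2, 2, 2, -2, -2, 0, 2, 2, 0],
  [0, 2, 2, 2, 2, -2, 0, 0, 0, 0, -2, 0, 2, -2, 2, 2, 2, 2, -2, -2, 0, -2, 2, 0],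
  [0, 2, 2, 2, 2, 2, 0, 0, 0, 0, 2, 0, -2, 2, 2, -2, -2, -2, 2, -2, 0, -2, 2, 0],
  [2, 0, 0, 0, 0, 0, 2, -2, -2, -2, 0, 6, 0, 0, 0, 0, 0, 0, 0, 0, -2, 0, 0, -2],
  [0, 2, -2, 2, -2, 2, 0, 0, 0, 0, 2, 0, -2, 2, 2, 2, 2, 2, -2, 2, 0, -2, -2, 0],
  [0, -2, -2, 2, 2, -2, 0, 0, 0, 0, 2, 0, -2, -2, 2, -2, 2, 2, 2, 2, 0, 2, 2, 0],
  [0, 2, 2, 2, -2, -2, 0, 0, 0, 0, 2, 0, 2, 2, -2, -2, 2, -2, -2, 2, 0, 2, 2, 0],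
  [2, 0, 0, 0, 0, 0, 2, -2, -2, -2, 0, -2, 0, 0, 0, 0, 0, 0, 0, 0, -2, 0, 0, 6]]

/-- Data. -/
def T182 : List (List ℤ) := [[5, -1, -1, 1, 1, 1, 1, 1, 1, -1, 1, 1, 1, 1, 1, 1, 1, -1, -1, 1, 1, -1, 3, 3],
  [1, 3, -1, 1, 1, 1, 1, 1, -3, 3, 1, 1, 1, 1, -3, 1, 1, -1, -1, -3, 1, -1, -1, -1],
  [1, -1, 3, -3, 1, 1, 1, 1, 1, -1, -3, 1, 1, 1, 1, 1, 1, -1, 3, -3, 1, -1, -1, -1],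
  [1, -1, -1, 1, 1, 1, 1, 1, 1, -1, 1, 1, -3, 1, -3, 1, -3, 3, 3, 1, 1, -1, -1, -1],
  [1, -1, -1, -3, 1, 1, 1, 1, 1, 3, 1, 1, 1, -3, 1, 1, 1, 3, -1, 1, -3, -1, -1, -1],
  [-1, 1, 1, 3, -1, 3, -1, -1, 3, 1, -1, 3, -1, -1, -1, -1, 3, 1, 1, -1, -1, 1, 1, 1],
  [-1, 1, 1, 3, 3, -1, 3, 3, -1, 1, -1, -1, -1, -1, 3, -1, -1, 1, 1, -1, -1, 1, 1, 1],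
  [1, 3, 3, 1, -3, 1, 1, 1, 1, -1, 1, 1, 1, -3, 1, 1, -3, -1, -1, 1, 1, -1, -1, -1],
  [1, -1, 3, 1, 1, 1, 1, 1, 1, -1, 1, -3, 1, 1, -3, 1, 1, -1, -1, 1, -3, 3, -1, -1],
  [-1, 1, 1, -1, -1, -1, 3, -1, -1, 1, -1, 3, 3, 3, -1, -1, -1, 1, 1, 3, -1, 1, 1, 1],
  [3, 1, 1, -1, -1, -1, -1, -1, -1, 1, -1, -1, -1, -1, -1, -1, -1, 1, 1, -1, -1, 1, 5, -3],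
  [1, 3, -1, -3, 1, 1, 1, 1, 1, -1, 1, 1, -3, 1, 1, -3, 1, -1, -1, 1, 1, 3, -1, -1],
  [-1, 1, 1, -1, 3, -1, -1, -1, 3, 1, 3, -1, 3, -1, -1, -1, -1, 1, 1, -1, 3, 1, 1, 1],
  [-1, 1, 1, -1, -1, 3, -1, -1, -1, 1, 3, -1, -1, 3, 3, 3, -1, 1, 1, -1, -1, 1, 1, 1],
  [1, -1, 3, 1, 1, -3, 1, -3, 1, 3, 1, 1, -3, 1, 1, 1, 1, -1, -1, 1, 1, -1, -1, -1],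
  [1, -1, -1, 1, -3, -3, 1, 1, 1, -1, 1, 1, 1, 1, 1, 1, 1, 3, -1, -3, 1, 3, -1, -1],
  [1, -1, 3, 1, 1, 1, -3, 1, -3, -1, 1, 1, 1, 1, 1, -3, 1, 3, -1, 1, 1, -1, -1, -1],
  [1, 3, -1, 1, 1, 1, 1, -3, 1, -1, -3, -3, 1, 1, 1, 1, 1, 3, -1, 1, 1, -1, -1, -1],
  [1, -1, -1, 1, -3, 1, 1, 1, 1, 3, 1, -3, 1, 1, 1, -3, 1, -1, 3, 1, 1, -1, -1, -1],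
  [1, -1, -1, 1, 1, 1, 1, -3, -3, -1, 1, 1, 1, -3, 1, 1, 1, -1, 3, 1, 1, 3, -1, -1],
  [-1, 1, 1, -1, -1, -1, -1, 3, -1, 1, -1, -1, -1, -1, -1, 3, 3, 1, 1, 3, 3, 1, 1, 1],
  [1, -1, -1, 1, 1, 1, -3, 1, 1, 3, -3, 1, 1, 1, 1, 1, -3, -1, -1, 1, 1, 3, -1, -1],
  [1, 3, -1, 1, 1, -3, -3, 1, 1, -1, 1, 1, 1, 1, 1, 1, 1, -1, 3, 1, -3, -1, -1, -1],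
  [3, 1, 1, -1, -1, -1, -1, -1, -1, 1, -1, -1, -1, -1, -1, -1, -1, 1, 1, -1, -1, 1, -3, 5]]

/-- Data. -/
def T183 : List (List ℤ) := [[6, 2, -2, 2, 0, 2, 0, 0, 0, 0, 0, 0, 0, 0, 2, 0, 0, 2, 0, 0, 0, 0, 0, 2],
  [0, 0, 0, 0, 2, 0, -2, 2, 2, 2, 2, -2, 2, 2, 0, -2, 2, 0, -2, -2, -2, 2, 2, 0],
  [-2, 2, 6, 2, 0, 2, 0, 0, 0, 0, 0, 0, 0, 0, 2, 0, 0, 2, 0, 0, 0, 0, 0, 2],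
  [0, 0, 0, 0, 2, 0, 2, 2, 2, -2, 2, 2, 2, -2, 0, -2, 2, 0, 2, -2, 2, -2, -2, 0],
  [0, 0, 0, 0, 2, 0, 2, 2, -2, -2, 2, 2, 2, 2, 0, 2, -2, 0, -2, 2, -2, 2, -2, 0],
  [0, 0, 0, 0, -2, 0, 2, 2, 2, -2, 2, -2, -2, -2, 0, 2, 2, 0, 2, 2, -2, 2, 2, 0],
  [0, 0, 0, 0, 2, 0, 2, 2, 2, 2, -2, -2, -2, 2, 0, -2, -2, 0, 2, 2, 2, 2, -2, 0],
  [2, -2, 2, 6, 0, -2, 0, 0, 0, 0, 0, 0, 0, 0, -2, 0, 0, -2, 0, 0, 0, 0, 0, -2],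
  [2, -2, 2, -2, 0, 6, 0, 0, 0, 0, 0, 0, 0, 0, -2, 0, 0, -2, 0, 0, 0, 0, 0, -2],
  [0, 0, 0, 0, 2, 0, 2, -2, -2, 2, 2, 2, -2, 2, 0, -2, 2, 0, 2, 2, -2, -2, 2, 0],
  [2, 6, 2, -2, 0, -2, 0, 0, 0, 0, 0, 0, 0, 0, -2, 0, 0, -2, 0, 0, 0, 0, 0, -2],
  [0, 0, 0, 0, -2, 0, 2, 2, -2, 2, -2, 2, 2, -2, 0, -2, 2, 0, -2, 2, 2, 2, 2, 0],
  [0, 0, 0, 0, 2, 0, -2, 2, -2, 2, 2, -2, 2, -2, 0, 2, -2, 0, 2, 2, 2, -2, 2, 0],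
  [0, 0, 0, 0, -2, 0, 2, -2, -2, 2, 2, -2, 2, 2, 0, 2, 2, 0, 2, -2, 2, 2, -2, 0],
  [2, -2, 2, -2, 0, -2, 0, 0, 0, 0, 0, 0, 0, 0, 6, 0, 0, -2, 0, 0, 0, 0, 0, -2],
  [0, 0, 0, 0, 2, 0, 2, -2, 2, -2, -2, -2, 2, 2, 0, 2, 2, 0, -2, 2, 2, -2, 2, 0],
  [2, -2, 2, -2, 0, -2, 0, 0, 0, 0, 0, 0, 0, 0, -2, 0, 0, 6, 0, 0, 0, 0, 0, -2],
  [0, 0, 0, 0, -2, 0, -2, 2, 2, 2, 2, 2, -2, 2, 0, 2, 2, 0, -2, 2, 2, -2, -2, 0],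
  [0, 0, 0, 0, -2, 0, 2, 2, 2, 2, -2, 2, 2, 2, 0, 2, -2, 0, 2, -2, -2, -2, 2, 0],
  [0, 0, 0, 0, 2, 0, -2, -2, 2, 2, -2, 2, 2, -2, 0, 2, 2, 0, 2, 2, -2, 2, -2, 0],
  [0, 0, 0, 0, 2, 0, -2, 2, -2, -2, -2, 2, -2, 2, 0, 2, 2, 0, 2, -2, 2, 2, 2, 0],
  [0, 0, 0, 0, 2, 0, 2, -2, 2, 2, 2, 2, -2, -2, 0, 2, -2, 0, -2, -2, 2, 2, 2, 0],
  [0, 0, 0, 0, -2, 0, -2, -2, 2, -2, 2, 2, 2, 2, 0, -2, -2, 0, 2, 2, 2, 2, 2, 0],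
  [2, -2, 2, -2, 0, -2, 0, 0, 0, 0, 0, 0, 0, 0, -2, 0, 0, -2, 0, 0, 0, 0, 0, 6]]

/-- Data. -/
def T184 : List (List ℤ) := [[4, 0, 0, 2, 2, 0, 0, 2, 0, 0, 2, 0, 0, 0, 0, 0, 0, 2, 0, 2, 2, 0, 2, 4],
  [2, 2, -2, 0, 0, 2, -2, 0, -2, 2, 0, -2, 2, -2, 2, 2, -2, 0, 2, 0, 0, -2, 0, -2],
  [0, 0, 4, -2, 2, 0, 0, 2, 0, 0, -2, 0, 0, 0, 0, 0, 0, 2, 4, -2, 2, 0, -2, 0],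
  [0, 0, 0, 2, -2, 0, 0, 2, 4, 0, -2, 0, 4, 0, 0, 0, 0, 2, 0, 2, -2, 0, -2, 0],
  [0, 0, 0, -2, 2, 4, 0, -2, 0, 0, -2, 0, 0, 0, 0, 0, 0, 2, 0, 2, -2, 4, 2, 0],
  [2, 2, 2, 0, 0, 2, 2, 0, 2, 2, 0, -2, -2, -2, -2, -2, 2, 0, -2, 0, 0, -2, 0, -2],
  [0, 0, 0, 2, 2, 0, 4, 2, 0, 0, -2, 0, 0, 0, 4, 0, 0, -2, 0, -2, -2, 0, 2, 0],
  [0, 0, 0, 2, -2, 4, 0, 2, 0, 0, 2, 0, 0, 0, 0, 0, 0, -2, 0, -2, 2, 4, -2, 0],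
  [2, -2, -2, 0, 0, 2, 2, 0, 2, -2, 0, 2, -2, 2, -2, 2, -2, 0, 2, 0, 0, -2, 0, -2],
  [0, 0, 0, -2, 2, 0, 0, 2, 0, 4, 2, 0, 0, 4, 0, 0, 0, -2, 0, 2, -2, 0, -2, 0],
  [0, 4, 0, -2, -2, 0, 0, 2, 0, 0, 2, 4, 0, 0, 0, 0, 0, 2, 0, -2, -2, 0, 2, 0],
  [2, -2, -2, 0, 0, -2, -2, 0, 2, 2, 0, 2, -2, -2, 2, -2, 2, 0, 2, 0, 0, 2, 0, -2],
  [2, 2, -2, 0, 0, -2, 2, 0, -2, -2, 0, -2, 2, 2, -2, -2, 2, 0, 2, 0, 0, 2, 0, -2],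
  [0, 0, 0, 2, -2, 0, 0, -2, 0, 4, -2, 0, 0, 4, 0, 0, 0, 2, 0, -2, 2, 0, 2, 0],
  [0, 0, 0, -2, -2, 0, 4, -2, 0, 0, 2, 0, 0, 0, 4, 0, 0, 2, 0, 2, 2, 0, -2, 0],
  [2, -2, 2, 0, 0, 2, -2, 0, -2, -2, 0, 2, 2, 2, 2, -2, 2, 0, -2, 0, 0, -2, 0, -2],
  [2, 2, 2, 0, 0, -2, -2, 0, 2, -2, 0, -2, -2, 2, 2, 2, -2, 0, -2, 0, 0, 2, 0, -2],
  [0, 0, 0, -2, -2, 0, 0, 2, 0, 0, -2, 0, 0, 0, 0, 4, 4, -2, 0, 2, 2, 0, 2, 0],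
  [0, 0, 4, 2, -2, 0, 0, -2, 0, 0, 2, 0, 0, 0, 0, 0, 0, -2, 4, 2, -2, 0, 2, 0],
  [0, 4, 0, 2, 2, 0, 0, -2, 0, 0, -2, 4, 0, 0, 0, 0, 0, -2, 0, 2, 2, 0, -2, 0],
  [0, 0, 0, 2, 2, 0, 0, -2, 0, 0, 2, 0, 0, 0, 0, 4, 4, 2, 0, -2, -2, 0, -2, 0],
  [2, -2, 2, 0, 0, -2, 2, 0, -2, 2, 0, 2, 2, -2, -2, 2, -2, 0, -2, 0, 0, 2, 0, -2],
  [0, 0, 0, -2, 2, 0, 0, -2, 4, 0, 2, 0, 4, 0, 0, 0, 0, -2, 0, -2, 2, 0, 2, 0],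
  [4, 0, 0, -2, -2, 0, 0, -2, 0, 0, -2, 0, 0, 0, 0, 0, 0, -2, 0, -2, -2, 0, -2, 4]]

/-- Data. -/
def T185 : List (List ℤ) := [[6, 0, 0, 0, 0, 2, 0, 0, 0, 0, 0, 2, 2, 0, 0, 2, 0, 2, 0, 0, -2, 0, 0, 2],
  [0, 2, -2, -2, 2, 0, 2, -2, 2, -2, 2, 0, 0, 2, -2, 0, 2, 0, 2, -2, 0, 2, 2, 0],
  [0, -2, 2, 2, -2, 0, 2, -2, 2, -2, 2, 0, 0, 2, 2, 0, 2, 0, 2, 2, 0, -2, -2, 0],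
  [2, 0, 0, 0, 0, 6, 0, 0, 0, 0, 0, -2, -2, 0, 0, -2, 0, -2, 0, 0, 2, 0, 0, -2],
  [2, 0, 0, 0, 0, -2, 0, 0, 0, 0, 0, 6, -2, 0, 0, -2, 0, -2, 0, 0, 2, 0, 0, -2],
  [0, -2, 2, 2, 2, 0, -2, 2, 2, -2, 2, 0, 0, -2, 2, 0, -2, 0, 2, -2, 0, 2, 2, 0],
  [0, -2, 2, -2, 2, 0, 2, 2, 2, 2, -2, 0, 0, 2, -2, 0, -2, 0, 2, 2, 0, 2, -2, 0],
  [0, 2, 2, 2, 2, 0, 2, 2, -2, -2, -2, 0, 0, -2, -2, 0, 2, 0, 2, 2, 0, -2, 2, 0],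
  [0, 2, 2, 2, -2, 0, 2, 2, 2, 2, 2, 0, 0, -2, -2, 0, 2, 0, -2, -2, 0, 2, -2, 0],
  [0, 2, 2, -2, -2, 0, 2, -2, -2, 2, 2, 0, 0, -2, 2, 0, -2, 0, 2, 2, 0, 2, 2, 0],
  [2, 0, 0, 0, 0, -2, 0, 0, 0, 0, 0, -2, 6, 0, 0, -2, 0, -2, 0, 0, 2, 0, 0, -2],
  [0, 2, -2, 2, 2, 0, 2, 2, -2, -2, 2, 0, 0, 2, 2, 0, -2, 0, -2, 2, 0, 2, -2, 0],
  [0, 2, 2, 2, 2, 0, -2, -2, 2, 2, 2, 0, 0, 2, -2, 0, -2, 0, -2, 2, 0, -2, 2, 0],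
  [0, 2, 2, -2, 2, 0, -2, 2, -2, 2, 2, 0, 0, 2, 2, 0, 2, 0, 2, -2, 0, -2, -2, 0],
  [0, -2, 2, 2, 2, 0, 2, -2, -2, 2, -2, 0, 0, 2, 2, 0, 2, 0, -2, -2, 0, 2, 2, 0],
  [2, 0, 0, 0, 0, -2, 0, 0, 0, 0, 0, -2, -2, 0, 0, 6, 0, -2, 0, 0, 2, 0, 0, -2],
  [-2, 0, 0, 0, 0, 2, 0, 0, 0, 0, 0, 2, 2, 0, 0, 2, 0, 2, 0, 0, 6, 0, 0, 2],
  [2, 0, 0, 0, 0, -2, 0, 0, 0, 0, 0, -2, -2, 0, 0, -2, 0, 6, 0, 0, 2, 0, 0, -2],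
  [0, 2, -2, 2, -2, 0, 2, 2, 2, 2, -2, 0, 0, 2, 2, 0, -2, 0, 2, -2, 0, -2, 2, 0],
  [0, -2, -2, -2, 2, 0, 2, 2, 2, 2, 2, 0, 0, -2, 2, 0, 2, 0, -2, 2, 0, -2, 2, 0],
  [0, 2, 2, -2, -2, 0, -2, 2, 2, -2, -2, 0, 0, 2, 2, 0, 2, 0, -2, 2, 0, 2, 2, 0],
  [0, 2, -2, 2, 2, 0, -2, -2, 2, 2, -2, 0, 0, -2, 2, 0, 2, 0, 2, 2, 0, 2, -2, 0],
  [0, -2, -2, 2, -2, 0, -2, 2, -2, 2, 2, 0, 0, 2, -2, 0, 2, 0, 2, 2, 0, 2, 2, 0],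
  [2, 0, 0, 0, 0, -2, 0, 0, 0, 0, 0, -2, -2, 0, 0, -2, 0, -2, 0, 0, 2, 0, 0, 6]]

/-- Data. -/
def T186 : List (List ℤ) := [[3, 1, -1, -1, 1, -3, -1, -1, 1, 1, 1, -1, 1, -1, -1, 1, 1, 1, -1, -1, 1, -1, -1, 5],
  [-1, -3, -1, -1, -3, 1, -1, 3, -3, 1, 1, -1, 1, -1, -1, -3, 1, 1, -1, -1, 1, -1, -1, 1],
  [1, -1, 1, -3, 3, -1, 1, 1, -1, -1, -1, 1, 3, -3, 1, -1, -1, -1, -3, 1, -1, 1, 1, -1],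
  [-1, -3, -1, -1, 1, 1, -1, -1, 1, -3, 1, 3, 1, 3, -1, 1, 1, 1, -1, -1, 1, 3, -1, 1],
  [-1, 1, 3, -1, 1, 1, -1, -1, -3, 1, 1, -1, 1, 3, -1, 1, 1, 1, -1, 3, -3, -1, -1, 1],
  [1, -1, -3, 1, -1, -1, 1, 1, -1, -1, -1, 1, -1, 1, 1, 3, 3, -1, -3, 1, -1, -3, 1, -1],
  [-1, 1, -1, -1, 1, 1, 3, -1, -3, 1, 1, -1, -3, -1, 3, 1, 1, 1, -1, -1, 1, 3, -1, 1],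
  [1, 3, 1, 1, -1, -1, -3, 1, -1, -1, -1, 1, -1, 1, 1, -1, -1, -1, -3, 1, 3, 1, -3, -1],
  [1, -1, 1, 1, -1, -1, -3, -3, -1, -1, -1, 1, -1, -3, 1, -1, 3, 3, 1, 1, -1, 1, 1, -1],
  [-3, -1, 1, 1, -1, -5, 1, 1, -1, -1, -1, 1, -1, 1, 1, -1, -1, -1, 1, 1, -1, 1, 1, 3],
  [-1, 1, -1, -1, -3, 1, -1, -1, 1, -3, 1, -1, 1, -1, 3, 1, -3, 1, -1, -1, -3, -1, -1, 1],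
  [1, -1, 1, -3, -1, -1, -3, 1, -1, 3, -1, 1, -1, 1, 1, 3, -1, -1, 1, -3, -1, 1, 1, -1],
  [-1, 1, -1, -1, 1, 1, -1, -1, -3, -3, -3, -1, 1, -1, -1, 1, 1, -3, 3, -1, 1, -1, -1, 1],
  [-1, 1, -1, -1, 1, 1, -1, -1, 1, 1, 1, 3, -3, -1, -1, -3, 1, -3, -1, -1, -3, -1, -1, 1],
  [1, -1, -3, 1, -1, -1, 1, -3, -1, 3, -1, 1, 3, 1, 1, -1, -1, -1, 1, 1, -1, 1, -3, -1],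
  [-1, 1, -1, -1, -3, 1, -1, -1, 1, 1, 1, -1, 1, -1, -1, 1, 1, -3, -1, 3, 1, 3, 3, 1],
  [1, 3, -3, -3, -1, -1, 1, 1, -1, -1, -1, 1, -1, 1, -3, -1, -1, 3, 1, 1, -1, 1, 1, -1],
  [-1, 1, -1, 3, 1, 1, -1, -1, -3, 1, 1, 3, 1, -1, -1, 1, -3, 1, -1, -1, 1, -1, 3, 1],
  [-1, -3, -1, -1, 1, 1, -1, -1, 1, 1, -3, -1, -3, -1, -1, 1, -3, 1, -1, 3, 1, -1, -1, 1],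
  [1, -1, 1, -3, -1, -1, 1, -3, -1, -1, 3, 1, -1, 1, 1, -1, -1, -1, 1, 1, 3, -3, 1, -1],
  [1, -1, -3, 1, 3, -1, -3, 1, -1, -1, 3, -3, -1, 1, 1, -1, -1, -1, 1, 1, -1, 1, 1, -1],
  [-1, 1, -1, -1, 1, 1, -1, -1, 1, 1, -3, -1, 1, 3, 3, -3, 1, 1, -1, -1, 1, -1, 3, 1],
  [1, -1, 1, 1, -1, -1, 1, -3, -1, -1, -1, -3, -1, 1, -3, -1, -1, -1, -3, -3, -1, 1, 1, -1],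
  [5, -1, 1, 1, -1, 3, 1, 1, -1, -1, -1, 1, -1, 1, 1, -1, -1, -1, 1, 1, -1, 1, 1, 3]]

/-- Data. -/
def T187 : List (List ℤ) := [[3, -1, -1, -1, 1, -1, -3, 1, -1, -1, 1, -1, 1, 1, 1, 1, -1, -1, -1, 1, 1, -1, 1, 5],
  [-1, -1, -1, -1, 1, -1, 1, 1, -1, -1, -3, -1, 1, 1, -3, 1, -1, 3, -1, -3, -3, -1, 1, 1],
  [1, 1, 1, 1, 3, 1, -1, -1, -3, 1, -1, 1, -1, -1, -1, -1, -3, 1, -3, 3, -1, 1, -1, -1],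
  [-1, -1, -1, -1, 1, 3, 1, -3, -1, -1, 1, -1, 1, -3, 1, 1, 3, 3, -1, 1, 1, -1, 1, 1],
  [1, -3, 1, -3, -1, 1, -1, -1, -3, 1, 3, 1, -1, 3, -1, -1, 1, 1, 1, -1, -1, 1, -1, -1],
  [1, 1, -3, 1, -1, 1, -1, -1, 1, -3, -1, 1, -1, 3, 3, -1, 1, 1, -3, -1, -1, 1, -1, -1],
  [-1, -1, -1, -1, 1, -1, 1, 1, -1, 3, -3, -1, 1, 1, 1, 1, 3, -1, -1, 1, 1, 3, -3, 1],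
  [1, -3, 1, 1, -1, -3, -1, -1, 1, 1, -1, 1, -1, -1, -1, -1, 1, 1, -3, -1, 3, 1, 3, -1],
  [1, 1, 1, -3, -1, -3, -1, -1, 1, -3, -1, 1, -1, -1, -1, 3, 1, 1, 1, 3, -1, 1, -1, -1],
  [-1, -1, -1, -1, 1, -1, 1, -3, -1, -1, -3, -1, -3, 1, 1, -3, -1, -1, 3, 1, 1, -1, 1, 1],
  [-1, -1, -1, 3, -3, -1, 1, -3, -1, -1, 1, -1, 1, 1, -3, 1, -1, -1, -1, 1, 1, -1, -3, 1],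
  [-1, 3, 3, -1, 1, -1, 1, -3, -1, -1, 1, -1, 1, 1, 1, 1, -1, -1, -1, -3, 1, 3, 1, 1],
  [-3, 1, 1, 1, -1, 1, -5, -1, 1, 1, -1, 1, -1, -1, -1, -1, 1, 1, 1, -1, -1, 1, -1, 3],
  [-1, -1, -1, -1, -3, -1, 1, 1, -1, -1, 1, -1, 1, -3, 1, -3, -1, -1, -1, 1, -3, 3, 1, 1],
  [-1, -1, -1, -1, 1, -1, 1, -3, 3, 3, 1, 3, 1, 1, 1, 1, -1, -1, -1, 1, -3, -1, 1, 1],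
  [1, 1, -3, 1, -1, 1, -1, -1, -3, 1, -1, 1, -1, -1, -1, 3, 1, -3, 1, -1, -1, 1, 3, -1],
  [-1, 3, -1, -1, 1, -1, 1, 1, -1, -1, 1, 3, 1, 1, -3, -3, 3, -1, -1, 1, 1, -1, 1, 1],
  [1, 1, -3, 1, 3, -3, -1, -1, 1, 1, 3, -3, -1, -1, -1, -1, 1, 1, 1, -1, -1, 1, -1, -1],
  [-1, -1, -1, -1, 1, -1, 1, 1, -1, -1, 1, 3, -3, -3, 1, 1, -1, -1, -1, -3, 1, -1, -3, 1],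
  [1, 1, 1, 1, -1, -3, -1, -1, -3, 1, -1, 1, 3, -1, 3, -1, 1, 1, 1, -1, -1, -3, -1, -1],
  [1, 1, -3, -3, -1, 1, -1, -1, 1, 1, -1, 1, 3, -1, -1, -1, -3, 1, 1, -1, 3, 1, -1, -1],
  [-1, 3, -1, -1, -3, -1, 1, 1, -1, 3, 1, -1, -3, 1, 1, 1, -1, 3, -1, 1, 1, -1, 1, 1],
  [1, 1, 1, -3, -1, 1, -1, -1, 1, 1, -1, -3, -1, -1, -1, -1, 1, -3, -3, -1, -1, -3, -1, -1],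
  [5, 1, 1, 1, -1, 1, 3, -1, 1, 1, -1, 1, -1, -1, -1, -1, 1, 1, 1, -1, -1, 1, -1, 3]]

/-- Data. -/
def T188 : List (List ℤ) := [[4, 0, -2, -2, -2, 0, -2, -2, 0, 0, 0, -2, 0, 0, 0, 0, 0, 0, 0, 0, 2, 2, 0, 4],
  [-2, -2, 0, 0, 0, 2, 0, 0, -2, -2, -2, 0, 2, 2, -2, -2, 2, -2, -2, -2, 0, 0, 2, 2],
  [0, -4, -2, 2, 2, 0, -2, -2, 0, 0, 0, 2, 0, 0, 0, 0, 0, 0, 0, 4, -2, 2, 0, 0],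
  [0, 0, -2, 2, -2, 0, 2, -2, 0, 0, 0, 2, 0, 0, 0, 0, 0, 4, -4, 0, 2, -2, 0, 0],
  [0, 0, 2, 2, 2, 0, -2, -2, -4, 4, 0, -2, 0, 0, 0, 0, 0, 0, 0, 0, 2, -2, 0, 0],
  [2, -2, 0, 0, 0, -2, 0, 0, -2, -2, 2, 0, 2, -2, 2, 2, 2, -2, -2, -2, 0, 0, -2, -2],
  [0, 0, 2, -2, 2, -4, 2, -2, 0, 0, -4, 2, 0, 0, 0, 0, 0, 0, 0, 0, 2, 2, 0, 0],
  [0, 0, 2, -2, 2, 0, -2, 2, 0, 0, 0, -2, 0, 0, 0, 0, 0, 4, -4, 0, -2, 2, 0, 0],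
  [0, 0, -2, -2, 2, 0, -2, 2, 0, 0, 0, 2, -4, 0, 0, 0, 4, 0, 0, 0, 2, -2, 0, 0],
  [-2, -2, 0, 0, 0, -2, 0, 0, 2, 2, 2, 0, -2, 2, 2, -2, -2, -2, -2, -2, 0, 0, -2, 2],
  [-2, -2, 0, 0, 0, -2, 0, 0, -2, -2, 2, 0, -2, -2, -2, 2, -2, 2, 2, -2, 0, 0, 2, 2],
  [0, 0, -2, -2, 2, 0, 2, -2, 0, 0, 0, -2, 0, 4, 0, 4, 0, 0, 0, 0, -2, -2, 0, 0],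
  [0, 0, 2, -2, -2, 0, -2, -2, 0, 0, 0, 2, 0, 0, -4, 0, 0, 0, 0, 0, -2, -2, -4, 0],
  [0, 0, -2, -2, 2, 0, 2, -2, 0, 0, 0, -2, 0, -4, 0, -4, 0, 0, 0, 0, -2, -2, 0, 0],
  [0, 0, -2, -2, -2, 0, 2, 2, -4, 4, 0, 2, 0, 0, 0, 0, 0, 0, 0, 0, -2, 2, 0, 0],
  [0, 4, -2, 2, 2, 0, -2, -2, 0, 0, 0, 2, 0, 0, 0, 0, 0, 0, 0, -4, -2, 2, 0, 0],
  [-2, 2, 0, 0, 0, -2, 0, 0, 2, 2, 2, 0, 2, -2, -2, 2, 2, -2, -2, 2, 0, 0, 2, 2],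
  [0, 0, -2, -2, 2, 0, -2, 2, 0, 0, 0, 2, 4, 0, 0, 0, -4, 0, 0, 0, 2, -2, 0, 0],
  [-2, 2, 0, 0, 0, 2, 0, 0, -2, -2, -2, 0, -2, -2, 2, 2, -2, -2, -2, 2, 0, 0, -2, 2],
  [0, 0, 2, -2, -2, 0, -2, -2, 0, 0, 0, 2, 0, 0, 4, 0, 0, 0, 0, 0, -2, -2, 4, 0],
  [2, 2, 0, 0, 0, -2, 0, 0, -2, -2, 2, 0, -2, 2, -2, -2, -2, -2, -2, 2, 0, 0, 2, -2],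
  [-2, 2, 0, 0, 0, -2, 0, 0, -2, -2, 2, 0, 2, 2, 2, -2, 2, 2, 2, 2, 0, 0, -2, 2],
  [0, 0, -2, 2, -2, -4, -2, 2, 0, 0, -4, -2, 0, 0, 0, 0, 0, 0, 0, 0, -2, -2, 0, 0],
  [4, 0, 2, 2, 2, 0, 2, 2, 0, 0, 0, 2, 0, 0, 0, 0, 0, 0, 0, 0, -2, -2, 0, 4]]

/-- Data. -/
def T189 : List (List ℤ) := [[4, 0, 0, 0, 0, 2, -2, 0, 2, 2, 0, 0, 0, 0, -2, 0, 0, 0, 2, -2, -2, 0, 0, 4],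
  [0, 0, 0, 0, 0, 2, 2, 4, -2, -2, 0, 4, 0, 0, -2, 0, 0, 0, 2, -2, 2, 0, 0, 0],
  [0, 0, 4, 0, 0, -2, -2, 0, -2, 2, 0, 0, 0, 4, -2, 0, 0, 0, 2, 2, 2, 0, 0, 0],
  [0, 4, 0, 0, 0, 2, -2, 0, -2, -2, 0, 0, 0, 0, 2, 0, 0, 0, 2, 2, -2, 0, 4, 0],
  [0, 0, 0, -4, 0, -2, 2, 0, 2, -2, 0, 0, 0, 0, -2, -4, 0, 0, 2, 2, -2, 0, 0, 0],
  [2, -2, -2, -2, 2, 0, 0, 2, 0, 0, 2, -2, 2, 2, 0, 2, -2, -2, 0, 0, 0, -2, 2, -2],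
  [0, 0, 0, 0, 0, -2, 2, 0, -2, 2, 0, 0, 4, 0, 2, 0, 0, 0, 2, -2, -2, 4, 0, 0],
  [0, 4, 0, 0, 0, -2, 2, 0, 2, 2, 0, 0, 0, 0, -2, 0, 0, 0, -2, -2, 2, 0, 4, 0],
  [2, 2, -2, 2, -2, 0, 0, -2, 0, 0, 2, 2, 2, 2, 0, -2, 2, -2, 0, 0, 0, -2, -2, -2],
  [0, 0, 0, 0, 0, 2, 2, 0, 2, 2, -4, 0, 0, 0, 2, 0, 0, -4, 2, 2, 2, 0, 0, 0],
  [2, -2, 2, 2, -2, 0, 0, 2, 0, 0, 2, -2, -2, -2, 0, -2, 2, -2, 0, 0, 0, 2, 2, -2],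
  [0, 0, 0, 0, -4, 2, 2, 0, -2, 2, 0, 0, 0, 0, -2, 0, -4, 0, -2, 2, -2, 0, 0, 0],
  [2, 2, 2, 2, 2, 0, 0, 2, 0, 0, -2, -2, 2, -2, 0, -2, -2, 2, 0, 0, 0, -2, -2, -2],
  [0, 0, 4, 0, 0, 2, 2, 0, 2, -2, 0, 0, 0, 4, 2, 0, 0, 0, -2, -2, -2, 0, 0, 0],
  [0, 0, 0, 0, 0, -2, 2, 0, -2, 2, 0, 0, -4, 0, 2, 0, 0, 0, 2, -2, -2, -4, 0, 0],
  [0, 0, 0, 0, -4, -2, -2, 0, 2, -2, 0, 0, 0, 0, 2, 0, -4, 0, 2, -2, 2, 0, 0, 0],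
  [0, 0, 0, 0, 0, 2, 2, -4, -2, -2, 0, -4, 0, 0, -2, 0, 0, 0, 2, -2, 2, 0, 0, 0],
  [-2, -2, -2, 2, -2, 0, 0, 2, 0, 0, -2, -2, 2, 2, 0, -2, 2, 2, 0, 0, 0, -2, 2, 2],
  [0, 0, 0, 0, 0, 2, 2, 0, 2, 2, 4, 0, 0, 0, 2, 0, 0, 4, 2, 2, 2, 0, 0, 0],
  [-2, -2, 2, 2, 2, 0, 0, -2, 0, 0, 2, 2, 2, -2, 0, -2, -2, -2, 0, 0, 0, -2, 2, 2],
  [-2, 2, 2, -2, -2, 0, 0, 2, 0, 0, 2, -2, 2, -2, 0, 2, 2, -2, 0, 0, 0, -2, -2, 2],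
  [-2, 2, -2, 2, 2, 0, 0, 2, 0, 0, 2, -2, -2, 2, 0, -2, -2, -2, 0, 0, 0, 2, -2, 2],
  [0, 0, 0, 4, 0, -2, 2, 0, 2, -2, 0, 0, 0, 0, -2, 4, 0, 0, 2, 2, -2, 0, 0, 0],
  [4, 0, 0, 0, 0, -2, 2, 0, -2, -2, 0, 0, 0, 0, 2, 0, 0, 0, -2, 2, 2, 0, 0, 4]]

/-- Data. -/
def T190 : List (List ℤ) := [[3, -1, 1, -1, -1, 1, 1, 1, -1, -3, -1, -1, -1, -1, -1, 1, 1, 1, -1, 1, -1, 1, 1, 5],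
  [-1, -1, 1, -1, -1, 1, -3, -3, 3, 1, -1, 3, -1, -1, -1, 1, 1, 1, -1, 1, 3, 1, 1, 1],
  [-1, -1, -3, -1, -1, 1, 1, 1, -1, 1, -1, 3, -1, -1, -1, 1, -3, -3, -1, -3, -1, 1, 1, 1],
  [1, 1, -1, -3, 1, -1, -1, -1, 1, -1, -3, -3, -3, 1, -3, -1, -1, -1, 1, -1, 1, -1, -1, -1],
  [1, -3, -1, 1, -3, -1, 3, -1, 1, -1, 1, 1, -3, 1, 1, -1, -1, 3, 1, -1, 1, -1, -1, -1],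
  [-3, 1, -1, 1, 1, -1, -1, -1, 1, -5, 1, 1, 1, 1, 1, -1, -1, -1, 1, -1, 1, -1, -1, 3],
  [-1, -1, 1, -1, -1, 1, 1, -3, -1, 1, -1, -1, -1, -1, 3, -3, 1, -3, -1, 1, -1, -3, 1, 1],
  [-1, -1, 1, -1, -1, 1, -3, 1, -1, 1, 3, -1, -1, -1, -1, 1, -3, 1, -1, 1, -1, -3, -3, 1],
  [-1, -1, 1, 3, -1, -3, -3, 1, -1, 1, -1, -1, -1, -1, -1, -3, 1, 1, -1, -3, -1, 1, 1, 1],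
  [-1, -1, 1, -1, 3, -3, 1, 1, -1, 1, -1, -1, -1, -1, 3, 1, -3, 1, -1, 1, 3, 1, 1, 1],
  [1, 1, -1, 1, 1, 3, -1, -1, -3, -1, -3, 1, 1, 1, 1, -1, -1, 3, -3, -1, 1, -1, -1, -1],
  [-1, -1, 1, 3, -1, 1, 1, 1, -1, 1, -1, -1, -1, 3, -1, 1, 1, -3, -1, 1, 3, 1, -3, 1],
  [1, 1, -1, 1, 1, -1, -1, -1, -3, -1, 1, 1, -3, -3, 1, 3, 3, -1, 1, -1, 1, -1, -1, -1],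
  [1, 1, -1, 1, 1, -1, -1, -1, 1, -1, 1, 1, -3, 1, 1, -1, -1, -1, -3, 3, -3, 3, -1, -1],
  [-1, -1, 1, -1, 3, 1, 1, 1, -1, 1, -1, 3, -1, -1, -1, -3, 1, 1, 3, 1, -1, 1, -3, 1],
  [1, 1, 3, 1, 1, -1, 3, -1, 1, -1, 1, 1, 1, -3, -3, -1, -1, -1, -3, -1, 1, -1, -1, -1],
  [-1, -1, -3, 3, 3, 1, 1, 1, 3, 1, -1, -1, -1, -1, -1, 1, 1, 1, -1, 1, -1, -3, 1, 1],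
  [1, -3, -1, 1, 1, 3, -1, -1, 1, -1, 1, -3, 1, -3, 1, -1, -1, -1, 1, -1, 1, 3, -1, -1],
  [-1, -1, -3, -1, -1, -3, 1, -3, -1, 1, -1, -1, 3, -1, -1, 1, 1, 1, -1, 1, -1, 1, -3, 1],
  [-1, 3, 1, -1, -1, 1, 1, 1, 3, 1, -1, -1, -1, -1, 3, 1, 1, 1, -1, -3, -1, 1, -3, 1],
  [1, 1, -1, 1, -3, -1, -1, 3, 1, -1, -3, 1, 1, -3, 1, -1, -1, -1, 1, 3, 1, -1, -1, -1],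
  [1, -3, 3, 1, 1, -1, -1, -1, 1, -1, -3, 1, 1, 1, 1, 3, -1, -1, 1, -1, -3, -1, -1, -1],
  [1, -3, -1, -3, 1, -1, -1, 3, 1, -1, 1, 1, 1, 1, 1, -1, 3, -1, -3, -1, 1, -1, -1, -1],
  [5, 1, -1, 1, 1, -1, -1, -1, 1, 3, 1, 1, 1, 1, 1, -1, -1, -1, 1, -1, 1, -1, -1, 3]]

/-- Data. -/
def T191 : List (List ℤ) := [[3, -1, -1, 1, 1, -3, -1, -1, -1, -1, 1, -1, 1, 1, -1, 1, -1, 1, -1, -1, 1, 1, 1, 5],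
  [-1, -1, -1, 1, -3, 1, -1, -1, -1, -1, 1, -1, 1, 1, -1, 1, -1, -3, -1, 3, 1, -3, -3, 1],
  [1, 1, -3, -1, -1, -1, 1, 1, 1, 1, -1, 1, -1, -1, 1, 3, -3, -1, -3, 1, -1, 3, -1, -1],
  [-1, -1, -1, -3, 1, 1, -1, -1, 3, -1, 1, 3, 1, 1, -1, 1, 3, 1, -1, -1, 1, 1, -3, 1],
  [-1, -1, -1, 1, -3, 1, -1, -1, -1, 3, 1, -1, 1, 1, 3, 1, 3, 1, -1, -1, -3, 1, 1, 1],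
  [1, 1, 1, -1, -1, -1, 1, 1, -3, -3, 3, 1, -1, -1, 1, -1, 1, 3, -3, 1, -1, -1, -1, -1],
  [1, -3, 1, -1, 3, -1, 1, -3, -3, 1, -1, 1, -1, -1, 1, 3, 1, -1, 1, 1, -1, -1, -1, -1],
  [1, -3, 1, -1, -1, -1, -3, 1, 1, 1, -1, 1, -1, -1, 1, -1, 1, -1, -3, 1, 3, -1, 3, -1],
  [-1, 3, -1, 1, 1, 1, -1, -1, -1, -1, -3, -1, -3, 1, -1, 1, 3, 1, -1, 3, 1, 1, 1, 1],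
  [-3, 1, 1, -1, -1, -5, 1, 1, 1, 1, -1, 1, -1, -1, 1, -1, 1, -1, 1, 1, -1, -1, -1, 3],
  [-1, -1, -1, -3, 1, 1, -1, 3, -1, -1, -3, -1, 1, 1, -1, 1, -1, 1, -1, -1, -3, -3, 1, 1],
  [-1, 3, 3, -3, 1, 1, -1, -1, -1, -1, 1, -1, 1, 1, 3, 1, -1, -3, -1, -1, 1, 1, 1, 1],
  [-1, -1, -1, -3, -3, 1, -1, -1, -1, -1, 1, -1, -3, -3, -1, 1, -1, 1, 3, -1, 1, 1, 1, 1],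
  [-1, -1, -1, 1, 1, 1, -1, -1, -1, -1, 1, 3, -3, 1, -1, -3, -1, -3, -1, -1, -3, 1, 1, 1],
  [-1, -1, -1, -3, 1, 1, 3, -1, -1, 3, 1, -1, 1, 1, -1, -3, -1, 1, -1, 3, 1, 1, 1, 1],
  [1, 1, 1, -1, -1, -1, -3, 1, -3, 1, -1, 1, 3, -1, -3, -1, 1, -1, 1, 1, -1, 3, -1, -1],
  [1, 1, -3, -1, -1, -1, 1, -3, 1, -3, -1, 1, 3, -1, 1, -1, 1, -1, 1, 1, -1, -1, 3, -1],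
  [1, 1, -3, -1, 3, -1, -3, 1, 1, 1, 3, -3, -1, -1, 1, -1, 1, -1, 1, 1, -1, -1, -1, -1],
  [-1, -1, -1, 1, 1, 1, -1, -1, -1, -1, -3, -1, 1, -3, 3, -3, -1, 1, -1, -1, 1, 1, -3, 1],
  [1, 1, -3, -1, -1, -1, 1, 1, -3, 1, -1, 1, -1, 3, 1, -1, 1, -1, 1, -3, 3, -1, -1, -1],
  [-1, 3, -1, 1, 1, 1, -1, -1, -1, 3, 1, 3, 1, -3, -1, 1, -1, 1, -1, -1, 1, -3, 1, 1],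
  [1, 1, 1, -1, -1, -1, -3, -3, 1, 1, -1, 1, -1, 3, 1, -1, -3, 3, 1, 1, -1, -1, -1, -1],
  [1, 1, 1, -1, -1, -1, 1, -3, 1, 1, -1, -3, -1, -1, -3, -1, 1, -1, -3, -3, -1, -1, -1, -1],
  [5, 1, 1, -1, -1, 3, 1, 1, 1, 1, -1, 1, -1, -1, 1, -1, 1, -1, 1, 1, -1, -1, -1, 3]]

/-- Data. -/
def T192 : List (List ℤ) := [[4, 0, 0, 0, 0, 2, 0, 0, 2, 0, 2, 0, 2, 0, 0, 0, 0, -2, 0, -2, -2, -2, 0, 4],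
  [0, 0, 0, 4, 0, -2, 0, 4, 2, 0, -2, 0, 2, 0, 0, 0, 0, -2, 0, -2, 2, 2, 0, 0],
  [0, 0, 4, 0, 0, -2, 0, 0, -2, 0, 2, 0, 2, 4, 0, 0, 0, -2, 0, 2, 2, -2, 0, 0],
  [0, 0, 0, 0, -4, -2, 0, 0, 2, 0, 2, 0, 2, 0, 0, 0, 0, 2, 0, 2, -2, 2, 4, 0],
  [0, 0, 0, 0, 0, 2, 0, 0, -2, 0, -2, -4, 2, 0, 0, -4, 0, -2, 0, 2, -2, 2, 0, 0],
  [2, 2, -2, 2, -2, 0, -2, -2, 0, 2, 0, 2, 0, 2, -2, -2, 2, 0, 2, 0, 0, 0, -2, -2],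
  [-2, 2, -2, -2, 2, 0, 2, 2, 0, 2, 0, 2, 0, 2, 2, -2, 2, 0, 2, 0, 0, 0, 2, 2],
  [0, 4, 0, 0, 0, 2, 0, 0, -2, 0, 2, 0, 2, 0, 0, 0, -4, 2, 0, -2, 2, 2, 0, 0],
  [2, -2, -2, -2, 2, 0, -2, 2, 0, 2, 0, -2, 0, 2, -2, 2, -2, 0, 2, 0, 0, 0, 2, -2],
  [2, -2, 2, -2, -2, 0, 2, 2, 0, 2, 0, 2, 0, -2, 2, -2, -2, 0, 2, 0, 0, 0, -2, -2],
  [0, 0, 0, 0, 0, 2, 0, 0, 2, -4, 2, 0, -2, 0, 0, 0, 0, -2, 4, 2, 2, 2, 0, 0],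
  [0, 4, 0, 0, 0, -2, 0, 0, 2, 0, -2, 0, -2, 0, 0, 0, -4, -2, 0, 2, -2, -2, 0, 0],
  [0, 0, 0, 0, 0, 2, 4, 0, 2, 0, -2, 0, 2, 0, -4, 0, 0, 2, 0, 2, 2, -2, 0, 0],
  [0, 0, 4, 0, 0, 2, 0, 0, 2, 0, -2, 0, -2, 4, 0, 0, 0, 2, 0, -2, -2, 2, 0, 0],
  [-2, -2, -2, 2, -2, 0, 2, -2, 0, 2, 0, -2, 0, 2, 2, 2, -2, 0, 2, 0, 0, 0, -2, 2],
  [0, 0, 0, 0, -4, 2, 0, 0, -2, 0, -2, 0, -2, 0, 0, 0, 0, -2, 0, -2, 2, -2, 4, 0],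
  [0, 0, 0, 0, 0, -2, 0, 0, 2, 0, 2, -4, -2, 0, 0, -4, 0, 2, 0, -2, 2, -2, 0, 0],
  [0, 0, 0, 0, 0, -2, 0, 0, -2, -4, -2, 0, 2, 0, 0, 0, 0, 2, 4, -2, -2, -2, 0, 0],
  [2, 2, 2, 2, 2, 0, 2, -2, 0, 2, 0, -2, 0, -2, 2, 2, 2, 0, 2, 0, 0, 0, 2, -2],
  [-2, -2, 2, 2, 2, 0, -2, -2, 0, 2, 0, 2, 0, -2, -2, -2, -2, 0, 2, 0, 0, 0, 2, 2],
  [-2, 2, 2, -2, -2, 0, -2, 2, 0, 2, 0, -2, 0, -2, -2, 2, 2, 0, 2, 0, 0, 0, -2, 2],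
  [0, 0, 0, 0, 0, -2, 4, 0, -2, 0, 2, 0, -2, 0, -4, 0, 0, -2, 0, -2, -2, 2, 0, 0],
  [0, 0, 0, 4, 0, 2, 0, 4, -2, 0, 2, 0, -2, 0, 0, 0, 0, 2, 0, 2, -2, -2, 0, 0],
  [4, 0, 0, 0, 0, -2, 0, 0, -2, 0, -2, 0, -2, 0, 0, 0, 0, 2, 0, 2, 2, 2, 0, 4]]

/-- Data. -/
def T193 : List (List ℤ) := [[3, 1, 1, 1, -1, -1, -1, 1, 1, -3, -1, -1, -1, -1, 1, -1, 1, 1, -1, 1, -1, 1, -1, 5],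
  [1, -1, 3, -1, 1, 1, -3, -1, -1, -1, 1, 1, 1, -3, 3, 1, -1, -1, -3, -1, 1, -1, 1, -1],
  [-1, 1, -3, 1, -1, -1, -1, 1, 1, 1, -1, 3, -1, -1, 1, -1, -3, -3, -1, -3, -1, 1, -1, 1],
  [1, -1, -1, -1, -3, 1, 1, -1, -1, -1, 1, -3, 1, 1, -1, -3, -1, -1, -3, -1, 1, -1, -3, -1],
  [1, -1, -1, 3, 1, 1, 1, -1, -1, -1, -3, -3, -3, 1, 3, 1, -1, -1, 1, -1, 1, -1, 1, -1],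
  [-1, -3, 1, 1, -1, -1, -1, 1, -3, 1, -1, -1, -1, -1, -3, -1, 1, 1, -1, -3, -1, 1, 3, 1],
  [-1, -3, 1, -3, -1, -1, -1, -3, 1, 1, -1, -1, -1, -1, 1, -1, -3, 1, 3, 1, -1, 1, -1, 1],
  [-1, 1, 1, 1, -1, -1, -1, -3, 1, 1, -1, -1, -1, -1, -3, 3, 1, -3, -1, 1, -1, -3, -1, 1],
  [-3, -1, -1, -1, 1, 1, 1, -1, -1, -5, 1, 1, 1, 1, -1, 1, -1, -1, 1, -1, 1, -1, 1, 3],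
  [-1, 1, 1, 1, -1, -1, 3, -3, -3, 1, -1, 3, -1, -1, 1, -1, 1, 1, -1, 1, 3, 1, -1, 1],
  [1, -1, -1, -1, 1, -3, 1, -1, 3, -1, -3, 1, 1, 1, -1, 1, -1, 3, -3, -1, 1, -1, 1, -1],
  [1, -1, 3, -1, 1, -3, 1, 3, -1, -1, 1, 1, -3, 1, -1, 1, -1, -1, 1, -1, 1, -1, -3, -1],
  [-1, -3, -3, 1, -1, -1, -1, 1, 1, 1, 3, -1, -1, -1, 1, 3, 1, 1, -1, 1, 3, 1, -1, 1],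
  [1, -1, -1, -1, 1, 1, 1, -1, -1, -1, 1, 1, -3, 1, -1, 1, -1, -1, -3, 3, -3, 3, 1, -1],
  [-1, -3, 1, 1, 3, -1, 3, 1, 1, 1, -1, -1, 3, -1, 1, -1, 1, -3, -1, 1, -1, 1, -1, 1],
  [-1, 1, 1, 1, 3, 3, -1, 1, 1, 1, -1, -1, -1, -1, -3, -1, -3, 1, -1, 1, 3, 1, -1, 1],
  [1, -1, -1, 3, 1, 1, 1, -1, -1, -1, 1, 1, 1, -3, -1, 1, -1, 3, 1, -1, -3, -1, -3, -1],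
  [1, -1, -1, -1, 1, 1, 1, -1, 3, -1, 1, 1, -3, -3, -1, -3, 3, -1, 1, -1, 1, -1, 1, -1],
  [-1, 1, -3, -3, 3, -1, -1, 1, -3, 1, -1, -1, -1, -1, 1, -1, 1, 1, -1, 1, -1, -3, -1, 1],
  [-1, 1, 1, -3, -1, 3, 3, 1, 1, 1, -1, -1, -1, -1, 1, 3, 1, 1, -1, -3, -1, 1, -1, 1],
  [1, -1, -1, -1, -3, 1, 1, 3, -1, -1, -3, 1, 1, -3, -1, 1, -1, -1, 1, 3, 1, -1, 1, -1],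
  [-1, -3, 1, 1, -1, 3, -1, 1, 1, 1, -1, 3, -1, 3, 1, -1, 1, 1, -1, 1, -1, -3, -1, 1],
  [1, -1, -1, -1, 1, 1, -3, -1, -1, -1, -3, 1, 1, 1, -1, 1, 3, -1, 1, -1, 1, 3, -3, -1],
  [5, -1, -1, -1, 1, 1, 1, -1, -1, 3, 1, 1, 1, 1, -1, 1, -1, -1, 1, -1, 1, -1, 1, 3]]

/-- Data. -/
def T194 : List (List ℤ) := [[5, 1, 1, 1, 1, 1, -1, 1, -1, -1, 1, 1, 1, -1, 1, 1, 1, -1, 1, -1, 1, 3, 1, 3],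
  [1, 1, 1, 1, 1, -3, 3, 1, 3, -1, 1, 1, -3, -1, -3, 1, 1, -1, 1, -1, 1, -1, 1, -1],
  [1, -3, 1, 1, 1, -3, -1, 1, -1, 3, 1, -3, 1, 3, 1, 1, 1, -1, 1, -1, 1, -1, 1, -1],
  [1, 1, -3, 1, 1, 1, -1, 1, -1, -1, -3, 1, -3, 3, 1, 1, 1, 3, 1, -1, 1, -1, 1, -1],
  [-1, -1, -1, -1, 3, -1, 1, 3, 1, 1, -1, 3, 3, 1, -1, -1, 3, 1, -1, 1, -1, 1, -1, 1],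
  [1, 1, 1, -3, 1, 1, 3, 1, -1, -1, 1, -3, 1, -1, 1, 1, 1, 3, -3, -1, 1, -1, 1, -1],
  [-1, -1, 3, -1, -1, -1, 1, -1, 1, 1, -1, 3, -1, 1, 3, -1, -1, 1, -1, 1, 3, 1, 3, 1],
  [1, 1, 1, 1, 1, 1, -1, -3, 3, -1, 1, 1, 1, 3, 1, 1, 1, -1, -3, -1, 1, -1, -3, -1],
  [1, 1, 1, 1, -3, -3, -1, 1, -1, -1, 1, 1, 1, -1, 1, 1, 1, 3, 1, 3, 1, -1, -3, -1],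
  [1, 1, 1, 1, 1, 1, 3, 1, -1, 3, -3, 1, 1, -1, 1, 1, -3, -1, 1, -1, 1, -1, -3, -1],
  [1, 1, 1, 1, 1, 1, -1, 1, 3, -1, -3, -3, 1, -1, 1, -3, 1, -1, 1, 3, 1, -1, 1, -1],
  [3, -1, -1, -1, -1, -1, 1, -1, 1, 1, -1, -1, -1, 1, -1, -1, -1, 1, -1, 1, -1, 5, -1, -3],
  [-1, -1, -1, 3, -1, 3, 1, 3, 1, 1, 3, -1, -1, 1, -1, -1, -1, 1, -1, 1, 3, 1, -1, 1],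
  [1, 1, 1, 1, -3, 1, 3, 1, -1, -1, 1, 1, 1, 3, 1, -3, 1, -1, 1, -1, -3, -1, 1, -1],
  [-1, 3, -1, -1, 3, -1, 1, -1, 1, 1, 3, -1, -1, 1, 3, -1, -1, 1, 3, 1, -1, 1, -1, 1],
  [1, 1, 1, -3, 1, 1, -1, 1, -1, -1, 1, 1, 1, 3, -3, 1, -3, -1, 1, 3, 1, -1, 1, -1],
  [1, 1, 1, 1, 1, 1, -1, -3, -1, 3, 1, 1, 1, -1, -3, -3, 1, 3, 1, -1, 1, -1, 1, -1],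
  [1, 1, -3, -3, -3, 1, -1, 1, 3, 3, 1, 1, 1, -1, 1, 1, 1, -1, 1, -1, 1, -1, 1, -1],
  [-1, -1, 3, -1, -1, 3, 1, -1, 1, 1, -1, -1, -1, 1, -1, 3, 3, 1, 3, 1, -1, 1, -1, 1],
  [1, 1, 1, 1, 1, 1, -1, 1, -1, 3, 1, 1, -3, -1, 1, 1, 1, -1, -3, 3, -3, -1, 1, -1],
  [-1, 3, -1, 3, -1, -1, 1, -1, 1, 1, -1, -1, 3, 1, -1, 3, -1, 1, -1, 1, -1, 1, 3, 1],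
  [1, -3, -3, 1, 1, 1, 3, -3, -1, -1, 1, 1, 1, -1, 1, 1, 1, -1, 1, 3, 1, -1, 1, -1],
  [1, -3, 1, 1, 1, 1, -1, 1, 3, -1, 1, 1, 1, -1, 1, 1, -3, 3, 1, -1, -3, -1, 1, -1],
  [3, -1, -1, -1, -1, -1, 1, -1, 1, 1, -1, -1, -1, 1, -1, -1, -1, 1, -1, 1, -1, -3, -1, 5]]

/-- Data. -/
def T195 : List (List ℤ) := [[5, 1, 1, 1, 1, 1, -1, 1, -1, 1, 1, 1, 1, -1, -1, 1, -1, 1, 1, 1, 3, 1, -1, 3],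
  [1, 1, 1, 1, 1, 1, 3, -3, 3, -3, 1, -3, 1, -1, -1, 1, -1, 1, 1, 1, -1, 1, -1, -1],
  [-1, 3, 3, -1, -1, -1, 1, -1, 1, 3, 3, -1, -1, 1, 1, 3, 1, -1, -1, -1, 1, -1, 1, 1],
  [1, 1, 1, 1, -3, -3, -1, 1, -1, -3, 1, 1, 1, -1, 3, 1, 3, 1, 1, 1, -1, 1, -1, -1],
  [-1, 3, -1, 3, 3, -1, 1, -1, 1, -1, -1, 3, -1, 1, 1, -1, 1, -1, -1, 3, 1, -1, 1, 1],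
  [3, -1, -1, -1, -1, -1, 1, -1, 1, -1, -1, -1, -1, 1, 1, -1, 1, -1, -1, -1, 5, -1, 1, -3],
  [1, -3, 1, 1, 1, 1, -1, -3, -1, 1, 1, 1, -3, 3, 3, 1, -1, 1, 1, 1, -1, 1, -1, -1],
  [1, 1, 1, 1, 1, 1, -1, 1, -1, 1, -3, -3, 1, 3, -1, 1, 3, 1, -3, 1, -1, 1, -1, -1],
  [-1, -1, -1, -1, -1, 3, 1, -1, 1, -1, -1, 3, 3, 1, 1, 3, 1, 3, -1, -1, 1, -1, 1, 1],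
  [1, 1, 1, 1, 1, 1, 3, 1, -1, 1, -3, 1, 1, -1, 3, 1, -1, -3, 1, -3, -1, 1, -1, -1],
  [1, -3, 1, 1, 1, 1, -1, 1, 3, 1, 1, 1, 1, -1, -1, 1, 3, -3, 1, 1, -1, -3, -1, -1],
  [1, -3, 1, 1, 1, -3, 3, 1, -1, 1, 1, 1, 1, -1, -1, 1, -1, 1, -3, 1, -1, 1, 3, -1],
  [1, 1, 1, 1, -3, 1, -1, 1, 3, 1, -3, 1, -3, -1, -1, 1, -1, 1, 1, 1, -1, 1, 3, -1],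
  [1, 1, 1, 1, -3, 1, 3, 1, -1, 1, 1, 1, 1, 3, -1, -3, -1, 1, 1, 1, -1, -3, -1, -1],
  [-1, -1, -1, -1, -1, -1, 1, -1, 1, 3, -1, -1, 3, 1, 1, -1, 1, -1, 3, 3, 1, 3, 1, 1],
  [1, 1, -3, 1, 1, 1, -1, 1, -1, 1, 1, -3, 1, -1, 3, 1, -1, 1, 1, 1, -1, -3, 3, -1],
  [1, 1, -3, 1, 1, -3, -1, 1, 3, 1, 1, 1, 1, 3, -1, 1, -1, 1, 1, -3, -1, 1, -1, -1],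
  [1, 1, 1, -3, 1, 1, -1, 1, -1, -3, 1, 1, 1, 3, -1, 1, -1, -3, 1, 1, -1, 1, 3, -1],
  [-1, -1, 3, -1, 3, -1, 1, 3, 1, -1, -1, -1, -1, 1, 1, -1, 1, 3, 3, -1, 1, -1, 1, 1],
  [1, 1, 1, -3, 1, 1, -1, 1, 3, 1, 1, 1, 1, -1, 3, -3, -1, 1, -3, 1, -1, 1, -1, -1],
  [1, 1, 1, 1, 1, 1, -1, -3, -1, 1, 1, 1, 1, -1, -1, -3, 3, 1, 1, -3, -1, 1, 3, -1],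
  [1, 1, -3, -3, 1, 1, 3, 1, -1, 1, 1, 1, -3, -1, -1, 1, 3, 1, 1, 1, -1, 1, -1, -1],
  [-1, -1, -1, 3, -1, 3, 1, 3, 1, -1, 3, -1, -1, 1, 1, -1, 1, -1, -1, -1, 1, 3, 1, 1],
  [3, -1, -1, -1, -1, -1, 1, -1, 1, -1, -1, -1, -1, 1, 1, -1, 1, -1, -1, -1, -3, -1, 1, 5]]

/-- Data. -/
def T196 : List (List ℤ) := [[6, 0, 0, 0, 2, 0, 0, 0, 2, 0, -2, 0, 2, 0, 0, 0, 0, 0, 0, 0, 2, 0, 2, 2],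
  [2, 0, 0, 0, -2, 0, 0, 0, 6, 0, 2, 0, -2, 0, 0, 0, 0, 0, 0, 0, -2, 0, -2, -2],
  [0, 2, 2, -2, 0, 2, -2, -2, 0, 2, 0, -2, 0, 2, 2, 2, -2, 2, 2, -2, 0, 2, 0, 0],
  [0, -2, 2, 2, 0, -2, -2, -2, 0, -2, 0, 2, 0, 2, -2, 2, 2, 2, 2, 2, 0, 2, 0, 0],
  [0, -2, -2, 2, 0, 2, -2, 2, 0, 2, 0, 2, 0, 2, 2, 2, -2, -2, -2, 2, 0, 2, 0, 0],
  [0, 2, 2, 2, 0, -2, -2, 2, 0, 2, 0, 2, 0, -2, 2, 2, 2, 2, -2, -2, 0, -2, 0, 0],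
  [0, -2, 2, -2, 0, -2, 2, 2, 0, 2, 0, -2, 0, 2, 2, -2, 2, 2, -2, 2, 0, 2, 0, 0],
  [0, 2, -2, 2, 0, 2, 2, -2, 0, -2, 0, -2, 0, 2, 2, 2, 2, 2, -2, 2, 0, -2, 0, 0],
  [2, 0, 0, 0, -2, 0, 0, 0, -2, 0, 2, 0, -2, 0, 0, 0, 0, 0, 0, 0, 6, 0, -2, -2],
  [0, -2, 2, 2, 0, 2, 2, -2, 0, 2, 0, 2, 0, -2, 2, -2, -2, 2, 2, 2, 0, -2, 0, 0],
  [0, -2, -2, 2, 0, 2, 2, 2, 0, 2, 0, -2, 0, -2, -2, 2, 2, 2, 2, -2, 0, 2, 0, 0],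
  [0, 2, -2, -2, 0, -2, 2, 2, 0, -2, 0, 2, 0, -2, 2, 2, -2, 2, 2, 2, 0, 2, 0, 0],
  [0, 2, 2, 2, 0, 2, 2, 2, 0, -2, 0, 2, 0, 2, -2, -2, -2, 2, -2, -2, 0, 2, 0, 0],
  [0, 2, 2, 2, 0, -2, 2, 2, 0, 2, 0, -2, 0, 2, -2, 2, -2, -2, 2, 2, 0, -2, 0, 0],
  [0, 2, -2, 2, 0, -2, 2, -2, 0, 2, 0, 2, 0, 2, 2, -2, 2, -2, 2, -2, 0, 2, 0, 0],
  [0, 2, -2, -2, 0, 2, -2, 2, 0, 2, 0, 2, 0, 2, -2, -2, 2, 2, 2, 2, 0, -2, 0, 0],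
  [2, 0, 0, 0, -2, 0, 0, 0, -2, 0, 2, 0, 6, 0, 0, 0, 0, 0, 0, 0, -2, 0, -2, -2],
  [2, 0, 0, 0, -2, 0, 0, 0, -2, 0, 2, 0, -2, 0, 0, 0, 0, 0, 0, 0, -2, 0, 6, -2],
  [0, -2, 2, -2, 0, 2, 2, 2, 0, -2, 0, 2, 0, 2, 2, 2, 2, -2, 2, -2, 0, -2, 0, 0],
  [0, 2, 2, -2, 0, 2, 2, -2, 0, 2, 0, 2, 0, -2, -2, 2, 2, -2, -2, 2, 0, 2, 0, 0],
  [-2, 0, 0, 0, 2, 0, 0, 0, 2, 0, 6, 0, 2, 0, 0, 0, 0, 0, 0, 0, 2, 0, 2, 2],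
  [2, 0, 0, 0, 6, 0, 0, 0, -2, 0, 2, 0, -2, 0, 0, 0, 0, 0, 0, 0, -2, 0, -2, -2],
  [0, 2, 2, 2, 0, 2, -2, 2, 0, -2, 0, -2, 0, -2, 2, -2, 2, -2, 2, 2, 0, 2, 0, 0],
  [2, 0, 0, 0, -2, 0, 0, 0, -2, 0, 2, 0, -2, 0, 0, 0, 0, 0, 0, 0, -2, 0, -2, 6]]

/-- Data. -/
def T197 : List (List ℤ) := [[6, 0, -2, 0, 0, 2, 0, 0, 2, 0, 0, 0, 0, 2, 0, 0, 0, 0, 0, 2, 2, 0, 0, 2],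
  [2, 0, 2, 0, 0, 6, 0, 0, -2, 0, 0, 0, 0, -2, 0, 0, 0, 0, 0, -2, -2, 0, 0, -2],
  [2, 0, 2, 0, 0, -2, 0, 0, -2, 0, 0, 0, 0, 6, 0, 0, 0, 0, 0, -2, -2, 0, 0, -2],
  [0, 2, 0, 2, -2, 0, -2, 2, 0, 2, 2, 2, -2, 0, 2, 2, 2, 2, -2, 0, 0, -2, -2, 0],
  [0, 2, 0, -2, 2, 0, 2, 2, 0, -2, 2, 2, -2, 0, 2, -2, 2, -2, -2, 0, 0, 2, 2, 0],
  [0, -2, 0, -2, 2, 0, -2, 2, 0, -2, 2, -2, 2, 0, 2, 2, 2, 2, 2, 0, 0, 2, -2, 0],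
  [0, -2, 0, -2, -2, 0, 2, -2, 0, 2, -2, 2, -2, 0, 2, 2, 2, 2, 2, 0, 0, 2, 2, 0],
  [0, 2, 0, 2, 2, 0, 2, -2, 0, -2, -2, -2, 2, 0, 2, 2, 2, 2, -2, 0, 0, -2, 2, 0],
  [2, 0, 2, 0, 0, -2, 0, 0, -2, 0, 0, 0, 0, -2, 0, 0, 0, 0, 0, -2, 6, 0, 0, -2],
  [0, 2, 0, 2, 2, 0, 2, 2, 0, 2, -2, -2, -2, 0, 2, -2, -2, 2, 2, 0, 0, 2, -2, 0],
  [0, -2, 0, 2, 2, 0, 2, 2, 0, -2, 2, 2, -2, 0, -2, 2, -2, 2, 2, 0, 0, -2, 2, 0],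
  [2, 0, 2, 0, 0, -2, 0, 0, -2, 0, 0, 0, 0, -2, 0, 0, 0, 0, 0, 6, -2, 0, 0, -2],
  [2, 0, 2, 0, 0, -2, 0, 0, 6, 0, 0, 0, 0, -2, 0, 0, 0, 0, 0, -2, -2, 0, 0, -2],
  [0, -2, 0, 2, -2, 0, 2, 2, 0, 2, 2, -2, 2, 0, 2, -2, 2, -2, 2, 0, 0, -2, 2, 0],
  [0, 2, 0, -2, 2, 0, 2, -2, 0, 2, 2, 2, 2, 0, 2, 2, -2, -2, 2, 0, 0, -2, -2, 0],
  [0, 2, 0, -2, -2, 0, 2, 2, 0, 2, 2, -2, 2, 0, -2, 2, -2, 2, -2, 0, 0, 2, 2, 0],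
  [0, 2, 0, 2, -2, 0, -2, -2, 0, -2, 2, 2, 2, 0, 2, -2, -2, 2, 2, 0, 0, 2, 2, 0],
  [0, 2, 0, -2, 2, 0, -2, 2, 0, 2, -2, 2, 2, 0, -2, -2, 2, 2, 2, 0, 0, -2, 2, 0],
  [-2, 0, 6, 0, 0, 2, 0, 0, 2, 0, 0, 0, 0, 2, 0, 0, 0, 0, 0, 2, 2, 0, 0, 2],
  [0, -2, 0, 2, 2, 0, -2, 2, 0, 2, -2, 2, 2, 0, 2, 2, -2, -2, -2, 0, 0, 2, 2, 0],
  [0, 2, 0, 2, 2, 0, -2, -2, 0, 2, 2, -2, -2, 0, -2, 2, 2, -2, 2, 0, 0, 2, 2, 0],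
  [0, -2, 0, 2, 2, 0, 2, -2, 0, 2, 2, 2, 2, 0, -2, -2, 2, 2, -2, 0, 0, 2, -2, 0],
  [0, 2, 0, 2, -2, 0, 2, 2, 0, -2, -2, 2, 2, 0, -2, 2, 2, -2, 2, 0, 0, 2, -2, 0],
  [2, 0, 2, 0, 0, -2, 0, 0, -2, 0, 0, 0, 0, -2, 0, 0, 0, 0, 0, -2, -2, 0, 0, 6]]

/-- Data. -/
def T198 : List (List ℤ) := [[6, 2, 0, 0, 0, 2, 2, 0, 0, 0, 0, 0, 0, 0, 0, 0, 0, 0, -2, 0, 2, 0, 2, 2],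
  [0, 0, 2, 2, 2, 0, 0, 2, 2, -2, -2, 2, 2, 2, -2, -2, -2, 2, 0, -2, 0, 2, 0, 0],
  [0, 0, 2, -2, -2, 0, 0, -2, 2, 2, 2, 2, 2, 2, 2, -2, 2, 2, 0, -2, 0, -2, 0, 0],
  [0, 0, 2, -2, 2, 0, 0, 2, -2, -2, 2, -2, 2, -2, 2, 2, 2, 2, 0, -2, 0, 2, 0, 0],
  [0, 0, 2, -2, 2, 0, 0, -2, 2, 2, -2, 2, 2, -2, -2, 2, 2, -2, 0, 2, 0, 2, 0, 0],
  [0, 0, 2, 2, -2, 0, 0, -2, -2, -2, 2, 2, -2, 2, -2, 2, 2, 2, 0, 2, 0, 2, 0, 0],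
  [0, 0, 2, -2, 2, 0, 0, 2, -2, 2, -2, 2, -2, 2, 2, 2, -2, 2, 0, 2, 0, -2, 0, 0],
  [0, 0, -2, 2, 2, 0, 0, -2, 2, -2, -2, -2, 2, 2, 2, 2, 2, 2, 0, 2, 0, -2, 0, 0],
  [2, -2, 0, 0, 0, -2, -2, 0, 0, 0, 0, 0, 0, 0, 0, 0, 0, 0, 2, 0, 6, 0, -2, -2],
  [2, -2, 0, 0, 0, -2, 6, 0, 0, 0, 0, 0, 0, 0, 0, 0, 0, 0, 2, 0, -2, 0, -2, -2],
  [0, 0, 2, 2, 2, 0, 0, 2, 2, 2, 2, -2, -2, -2, -2, -2, 2, 2, 0, 2, 0, -2, 0, 0],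
  [0, 0, -2, 2, -2, 0, 0, 2, -2, 2, -2, 2, 2, -2, 2, -2, 2, 2, 0, 2, 0, 2, 0, 0],
  [2, -2, 0, 0, 0, 6, -2, 0, 0, 0, 0, 0, 0, 0, 0, 0, 0, 0, 2, 0, -2, 0, -2, -2],
  [-2, 2, 0, 0, 0, 2, 2, 0, 0, 0, 0, 0, 0, 0, 0, 0, 0, 0, 6, 0, 2, 0, 2, 2],
  [0, 0, 2, 2, 2, 0, 0, -2, -2, 2, 2, -2, 2, 2, 2, -2, -2, -2, 0, 2, 0, 2, 0, 0],
  [2, -2, 0, 0, 0, -2, -2, 0, 0, 0, 0, 0, 0, 0, 0, 0, 0, 0, 2, 0, -2, 0, 6, -2],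
  [2, 6, 0, 0, 0, -2, -2, 0, 0, 0, 0, 0, 0, 0, 0, 0, 0, 0, 2, 0, -2, 0, -2, -2],
  [0, 0, -2, -2, -2, 0, 0, 2, 2, 2, 2, -2, 2, 2, -2, 2, -2, 2, 0, 2, 0, 2, 0, 0],
  [0, 0, 2, 2, -2, 0, 0, 2, 2, 2, -2, -2, -2, 2, 2, 2, 2, -2, 0, -2, 0, 2, 0, 0],
  [0, 0, -2, -2, 2, 0, 0, 2, 2, -2, 2, 2, -2, 2, 2, -2, 2, -2, 0, 2, 0, 2, 0, 0],
  [0, 0, -2, 2, 2, 0, 0, 2, -2, 2, 2, 2, 2, 2, -2, 2, 2, -2, 0, -2, 0, -2, 0, 0],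
  [0, 0, -2, 2, 2, 0, 0, -2, 2, 2, 2, 2, -2, -2, 2, 2, -2, 2, 0, -2, 0, 2, 0, 0],
  [0, 0, 2, 2, -2, 0, 0, 2, 2, -2, 2, 2, 2, -2, 2, 2, -2, -2, 0, 2, 0, -2, 0, 0],
  [2, -2, 0, 0, 0, -2, -2, 0, 0, 0, 0, 0, 0, 0, 0, 0, 0, 0, 2, 0, -2, 0, -2, 6]]

/-- Data. -/
def T199 : List (List ℤ) := [[4, 0, 0, 2, 0, 2, 0, 0, 0, 0, 2, 0, 0, 0, 0, 2, 2, 0, 0, 2, 0, 2, 2, 4],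
  [0, 0, 0, 2, 0, 2, 0, 0, 4, 0, -2, 4, 0, 0, 0, -2, 2, 0, 0, -2, 0, -2, 2, 0],
  [0, 0, 0, -2, 0, 2, 0, 0, 0, 0, 2, 0, 0, 4, 4, 2, -2, 0, 0, -2, 0, -2, 2, 0],
  [2, 2, 2, 0, -2, 0, 2, -2, -2, -2, 0, 2, -2, 2, -2, 0, 0, 2, -2, 0, 2, 0, 0, -2],
  [2, 2, 2, 0, 2, 0, -2, 2, -2, 2, 0, 2, -2, -2, 2, 0, 0, -2, -2, 0, -2, 0, 0, -2],
  [2, -2, 2, 0, -2, 0, -2, -2, 2, 2, 0, -2, 2, -2, 2, 0, 0, 2, -2, 0, 2, 0, 0, -2],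
  [0, 0, 0, 2, 0, -2, 0, 0, 0, 0, -2, 0, 0, 4, 4, -2, 2, 0, 0, 2, 0, 2, -2, 0],
  [0, 0, 0, 2, 4, -2, 0, 0, 0, 0, 2, 0, 0, 0, 0, 2, 2, 4, 0, -2, 0, -2, -2, 0],
  [0, 0, 0, -2, 0, -2, 0, 4, 0, 0, -2, 0, 0, 0, 0, 2, 2, 0, 0, 2, 4, -2, 2, 0],
  [0, 0, 0, 2, 0, 2, 4, 0, 0, 4, -2, 0, 0, 0, 0, 2, -2, 0, 0, 2, 0, -2, -2, 0],
  [2, 2, -2, 0, -2, 0, 2, 2, 2, -2, 0, -2, -2, -2, 2, 0, 0, 2, 2, 0, -2, 0, 0, -2],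
  [2, -2, -2, 0, 2, 0, 2, -2, -2, -2, 0, 2, 2, -2, 2, 0, 0, -2, 2, 0, 2, 0, 0, -2],
  [2, -2, 2, 0, 2, 0, 2, 2, 2, -2, 0, -2, 2, 2, -2, 0, 0, -2, -2, 0, -2, 0, 0, -2],
  [0, 0, 4, 2, 0, -2, 0, 0, 0, 0, 2, 0, 0, 0, 0, -2, -2, 0, 4, 2, 0, -2, 2, 0],
  [0, 0, 0, -2, 0, -2, 4, 0, 0, 4, 2, 0, 0, 0, 0, -2, 2, 0, 0, -2, 0, 2, 2, 0],
  [0, 4, 0, 2, 0, -2, 0, 0, 0, 0, -2, 0, 4, 0, 0, 2, -2, 0, 0, -2, 0, 2, 2, 0],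
  [2, 2, -2, 0, 2, 0, -2, -2, 2, 2, 0, -2, -2, 2, -2, 0, 0, -2, 2, 0, 2, 0, 0, -2],
  [0, 4, 0, -2, 0, 2, 0, 0, 0, 0, 2, 0, 4, 0, 0, -2, 2, 0, 0, 2, 0, -2, -2, 0],
  [0, 0, 4, -2, 0, 2, 0, 0, 0, 0, -2, 0, 0, 0, 0, 2, 2, 0, 4, -2, 0, 2, -2, 0],
  [0, 0, 0, -2, 0, -2, 0, 0, 4, 0, 2, 4, 0, 0, 0, 2, -2, 0, 0, 2, 0, 2, -2, 0],
  [2, -2, -2, 0, -2, 0, -2, 2, -2, 2, 0, 2, 2, 2, -2, 0, 0, 2, 2, 0, -2, 0, 0, -2],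
  [0, 0, 0, -2, 4, 2, 0, 0, 0, 0, -2, 0, 0, 0, 0, -2, -2, 4, 0, 2, 0, 2, 2, 0],
  [0, 0, 0, 2, 0, 2, 0, 4, 0, 0, 2, 0, 0, 0, 0, -2, -2, 0, 0, -2, 4, 2, -2, 0],
  [4, 0, 0, -2, 0, -2, 0, 0, 0, 0, -2, 0, 0, 0, 0, -2, -2, 0, 0, -2, 0, -2, -2, 4]]

/-- Data. -/
def T200 : List (List ℤ) := [[5, -1, 1, -1, 1, 1, -1, 1, 1, -1, 1, 1, 1, 1, -1, 1, 1, 1, 1, 1, -1, 3, 1, 3],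
  [1, 3, 1, 3, 1, 1, -1, 1, 1, -1, 1, 1, -3, 1, -1, -3, 1, 1, 1, 1, -1, -1, -3, -1],
  [-1, 1, 3, 1, -1, -1, 1, -1, -1, 1, 3, -1, 3, 3, 1, -1, -1, 3, -1, -1, 1, 1, -1, 1],
  [1, -1, 1, 3, 1, -3, -1, -3, 1, -1, -3, 1, 1, 1, -1, 1, 1, 1, 1, 1, 3, -1, 1, -1],
  [-1, 1, -1, 1, -1, -1, 1, -1, 3, 1, 3, 3, -1, -1, 1, 3, -1, -1, -1, 3, 1, 1, -1, 1],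
  [1, -1, -3, -1, 1, 1, -1, 1, 1, -1, 1, -3, 1, 1, 3, 1, 1, 1, 1, 1, 3, -1, -3, -1],
  [1, -1, 1, -1, 1, -3, 3, 1, -3, -1, 1, 1, -3, 1, 3, 1, 1, 1, 1, 1, -1, -1, 1, -1],
  [1, -1, 1, -1, 1, 1, -1, 1, 1, 3, 1, 1, -3, 1, -1, 1, 1, 1, -3, -3, 3, -1, 1, -1],
  [1, 3, 1, -1, -3, 1, -1, 1, 1, -1, -3, 1, 1, 1, 3, 1, 1, 1, -3, 1, -1, -1, 1, -1],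
  [1, -1, 1, -1, 1, 1, 3, 1, 1, 3, -3, 1, 1, 1, -1, 1, -3, 1, 1, 1, -1, -1, -3, -1],
  [1, -1, 1, -1, -3, 1, 3, 1, 1, -1, 1, 1, 1, -3, -1, -3, 1, 1, 1, 1, 3, -1, 1, -1],
  [-1, 1, -1, 1, 3, 3, 1, -1, -1, 1, -1, -1, -1, -1, 1, -1, -1, 3, -1, 3, 1, 1, 3, 1],
  [1, -1, 1, 3, 1, 1, -1, 1, 1, -1, 1, 1, 1, -3, 3, 1, -3, 1, 1, -3, -1, -1, 1, -1],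
  [-1, 1, -1, 1, -1, -1, 1, 3, 3, 1, -1, -1, -1, 3, 1, -1, -1, -1, 3, -1, 1, 1, 3, 1],
  [1, -1, 1, -1, 1, 1, -1, -3, 1, 3, 1, 1, 1, 1, 3, -3, 1, -3, 1, 1, -1, -1, 1, -1],
  [1, -1, -3, 3, -3, 1, -1, 1, -3, 3, 1, 1, 1, 1, -1, 1, 1, 1, 1, 1, -1, -1, 1, -1],
  [1, 3, -3, -1, 1, 1, 3, -3, 1, -1, 1, 1, 1, 1, -1, 1, 1, 1, 1, -3, -1, -1, 1, -1],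
  [1, 3, 1, -1, 1, -3, -1, 1, 1, 3, 1, -3, 1, -3, -1, 1, 1, 1, 1, 1, -1, -1, 1, -1],
  [-1, 1, 3, 1, -1, 3, 1, -1, -1, 1, -1, -1, -1, -1, 1, 3, 3, -1, 3, -1, 1, 1, -1, 1],
  [-1, 1, -1, 1, 3, -1, 1, 3, -1, 1, -1, 3, 3, -1, 1, -1, 3, -1, -1, -1, 1, 1, -1, 1],
  [1, 3, 1, -1, 1, 1, -1, 1, -3, -1, 1, 1, 1, 1, -1, 1, -3, -3, 1, 1, 3, -1, 1, -1],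
  [3, 1, -1, 1, -1, -1, 1, -1, -1, 1, -1, -1, -1, -1, 1, -1, -1, -1, -1, -1, 1, 5, -1, -3],
  [1, -1, 1, 3, 1, 1, 3, 1, 1, -1, 1, -3, 1, 1, -1, 1, 1, -3, -3, 1, -1, -1, 1, -1],
  [3, 1, -1, 1, -1, -1, 1, -1, -1, 1, -1, -1, -1, -1, 1, -1, -1, -1, -1, -1, 1, -3, -1, 5]]

/-- Data. -/
def T201 : List (List ℤ) := [[5, 1, -1, 1, 1, 1, 1, 1, 1, 1, -1, -1, 1, 1, -1, 3, 1, -1, -1, 1, 1, 1, 1, 3],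
  [1, -3, -1, 1, 1, 1, 1, 1, 1, 1, -1, -1, 1, -3, -1, -1, 1, 3, 3, -3, 1, 1, 1, -1],
  [-1, -1, 1, -1, -1, -1, -1, -1, 3, 3, 1, 1, 3, 3, 1, 1, 3, 1, 1, -1, -1, -1, -1, 1],
  [-1, -1, 1, -1, -1, -1, -1, 3, -1, -1, 1, 1, -1, -1, 1, 1, 3, 1, 1, 3, 3, -1, 3, 1],
  [1, 1, -1, 1, 1, -3, 1, 1, 1, 1, -1, 3, -3, 1, -1, -1, 1, 3, -1, 1, -3, 1, 1, -1],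
  [1, 1, -1, 1, 1, 1, 1, -3, 1, -3, -1, -1, 1, 1, 3, -1, 1, 3, -1, 1, 1, -3, 1, -1],
  [-1, -1, 1, -1, 3, -1, 3, -1, -1, -1, 1, 1, -1, 3, 1, 1, -1, 1, 1, -1, 3, 3, -1, 1],
  [3, -1, 1, -1, -1, -1, -1, -1, -1, -1, 1, 1, -1, -1, 1, 5, -1, 1, 1, -1, -1, -1, -1, -3],
  [1, 1, 3, 1, 1, 1, -3, 1, -3, 1, -1, -1, 1, 1, -1, -1, 1, 3, -1, 1, 1, 1, -3, -1],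
  [-1, -1, 1, 3, -1, 3, 3, -1, -1, 3, 1, 1, -1, -1, 1, 1, -1, 1, 1, 3, -1, -1, -1, 1],
  [-1, 3, 1, -1, 3, 3, -1, 3, 3, -1, 1, 1, -1, -1, 1, 1, -1, 1, 1, -1, -1, -1, -1, 1],
  [1, -3, -1, 1, 1, 1, -3, 1, 1, 1, -1, 3, 1, 1, 3, -1, -3, -1, -1, 1, 1, 1, 1, -1],
  [1, 1, -1, 1, -3, 1, 1, 1, 1, -3, -1, 3, 1, 1, -1, -1, 1, -1, 3, 1, 1, 1, -3, -1],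
  [1, 1, 3, 1, 1, -3, 1, 1, 1, 1, -1, -1, 1, 1, -1, -1, -3, -1, 3, 1, 1, -3, 1, -1],
  [1, 1, -1, -3, 1, 1, 1, 1, -3, 1, -1, -1, 1, 1, 3, -1, 1, -1, 3, 1, -3, 1, 1, -1],
  [1, 1, -1, -3, -3, 1, 1, 1, 1, 1, 3, -1, 1, 1, -1, -1, -3, 3, -1, 1, 1, 1, 1, -1],
  [1, 1, -1, 1, 1, 1, 1, 1, -3, 1, 3, 3, 1, 1, -1, -1, 1, -1, -1, -3, 1, -3, 1, -1],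
  [-1, 3, 1, 3, -1, -1, -1, -1, -1, -1, 1, 1, 3, -1, 1, 1, -1, 1, 1, -1, -1, 3, 3, 1],
  [1, 1, 3, 1, -3, 1, 1, 1, 1, 1, -1, -1, -3, 1, 3, -1, 1, -1, -1, -3, 1, 1, 1, -1],
  [1, 1, -1, 1, 1, -3, 1, 1, 1, 1, 3, -1, 1, -3, 3, -1, 1, -1, -1, 1, 1, 1, -3, -1],
  [1, 1, -1, 1, 1, 1, -3, -3, 1, 1, 3, -1, -3, 1, -1, -1, 1, -1, 3, 1, 1, 1, 1, -1],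
  [1, 1, 3, -3, 1, 1, 1, -3, 1, 1, -1, 3, 1, -3, -1, -1, 1, -1, -1, 1, 1, 1, 1, -1],
  [1, -3, 3, 1, 1, 1, 1, 1, 1, -3, 3, -1, 1, 1, -1, -1, 1, -1, -1, 1, -3, 1, 1, -1],
  [3, -1, 1, -1, -1, -1, -1, -1, -1, -1, 1, 1, -1, -1, 1, -3, -1, 1, 1, -1, -1, -1, -1, 5]]

/-- Data. -/
def T202 : List (List ℤ) := [[5, 1, 1, -1, -1, 1, -1, 1, 1, -1, 1, 3, 1, -1, 1, 1, -1, 1, 1, 1, 1, 1, 1, 3],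
  [1, 1, 1, 3, -1, 1, 3, 1, 1, -1, 1, -1, 1, -1, 1, 1, -1, -3, -3, 1, 1, -3, 1, -1],
  [1, -3, 1, -1, -1, -3, -1, 1, 1, 3, 1, -1, 1, 3, 1, 1, -1, 1, 1, 1, 1, -3, 1, -1],
  [1, 1, 1, 3, -1, -3, -1, 1, -3, -1, 1, -1, 1, -1, 1, 1, 3, 1, 1, 1, 1, 1, -3, -1],
  [1, 1, -3, -1, 3, -3, 3, 1, 1, -1, -3, -1, 1, -1, 1, 1, -1, 1, 1, 1, 1, 1, 1, -1],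
  [1, 1, 1, -1, -1, 1, -1, 1, 1, -1, -3, -1, 1, 3, 1, 1, 3, 1, -3, 1, -3, 1, 1, -1],
  [-1, -1, 3, 1, 1, -1, 1, -1, -1, 1, -1, 1, -1, 1, 3, -1, 1, -1, -1, -1, 3, 3, 3, 1],
  [1, 1, 1, -1, 3, 1, -1, -3, 1, -1, 1, -1, -3, -1, 1, 1, 3, 1, 1, 1, 1, -3, 1, -1],
  [-1, -1, -1, 1, 1, 3, 1, -1, -1, 1, -1, 1, 3, 1, -1, 3, 1, 3, -1, -1, 3, -1, -1, 1],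
  [-1, -1, -1, 1, 1, 3, 1, 3, -1, 1, -1, 1, -1, 1, 3, -1, 1, -1, 3, 3, -1, -1, -1, 1],
  [1, -3, 1, -1, -1, 1, 3, 1, 1, -1, 1, -1, 1, -1, -3, -3, 3, 1, 1, 1, 1, 1, 1, -1],
  [1, 1, 1, -1, 3, 1, -1, 1, 1, 3, 1, -1, 1, -1, 1, -3, -1, 1, -3, 1, 1, 1, -3, -1],
  [1, -3, 1, 3, 3, 1, -1, 1, 1, -1, 1, -1, 1, -1, 1, 1, -1, 1, 1, -3, -3, 1, 1, -1],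
  [-1, 3, 3, 1, 1, -1, 1, -1, 3, 1, -1, 1, 3, 1, -1, -1, 1, -1, 3, -1, -1, -1, -1, 1],
  [1, 1, 1, -1, -1, 1, 3, -3, -3, 3, 1, -1, 1, -1, 1, 1, -1, 1, 1, 1, -3, 1, 1, -1],
  [1, 1, -3, 3, -1, 1, -1, -3, 1, -1, 1, -1, 1, 3, 1, -3, -1, 1, 1, 1, 1, 1, 1, -1],
  [1, 1, 1, -1, 3, 1, -1, 1, -3, -1, 1, -1, 1, 3, -3, 1, -1, -3, 1, 1, 1, 1, 1, -1],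
  [-1, 3, -1, 1, 1, -1, 1, 3, -1, 1, 3, 1, -1, 1, -1, -1, 1, 3, -1, -1, -1, -1, 3, 1],
  [1, 1, 1, -1, -1, 1, 3, 1, 1, -1, 1, -1, -3, 3, 1, 1, -1, 1, 1, -3, 1, 1, -3, -1],
  [-1, -1, -1, 1, 1, -1, 1, -1, 3, 1, 3, 1, -1, 1, -1, 3, 1, -1, -1, 3, -1, 3, -1, 1],
  [1, 1, -3, -1, -1, 1, -1, 1, 1, 3, 1, -1, 1, -1, 1, 1, 3, -3, 1, -3, 1, 1, 1, -1],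
  [3, -1, -1, 1, 1, -1, 1, -1, -1, 1, -1, 5, -1, 1, -1, -1, 1, -1, -1, -1, -1, -1, -1, -3],
  [1, 1, 1, 3, -1, 1, -1, 1, 1, 3, -3, -1, -3, -1, -3, 1, -1, 1, 1, 1, 1, 1, 1, -1],
  [3, -1, -1, 1, 1, -1, 1, -1, -1, 1, -1, -3, -1, 1, -1, -1, 1, -1, -1, -1, -1, -1, -1, 5]]

/-- Data. -/
def T203 : List (List ℤ) := [[6, 0, 0, 2, 0, -2, 0, 2, 0, 0, 2, 0, 0, 0, 0, 0, 0, 0, 0, 0, 2, 2, 0, 2],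
  [2, 0, 0, 6, 0, 2, 0, -2, 0, 0, -2, 0, 0, 0, 0, 0, 0, 0, 0, 0, -2, -2, 0, -2],
  [0, -2, 2, 0, 2, 0, -2, 0, -2, 2, 0, -2, 2, 2, 2, 2, 2, -2, 2, -2, 0, 0, 2, 0],
  [0, 2, 2, 0, -2, 0, -2, 0, -2, -2, 0, 2, 2, -2, 2, 2, 2, 2, 2, 2, 0, 0, -2, 0],
  [0, 2, -2, 0, 2, 0, 2, 0, 2, 2, 0, -2, 2, -2, 2, 2, 2, -2, -2, 2, 0, 0, -2, 0],
  [2, 0, 0, -2, 0, 2, 0, -2, 0, 0, -2, 0, 0, 0, 0, 0, 0, 0, 0, 0, 6, -2, 0, -2],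
  [0, 2, 2, 0, 2, 0, 2, 0, -2, 2, 0, 2, -2, 2, 2, -2, 2, 2, -2, -2, 0, 0, -2, 0],
  [0, -2, -2, 0, -2, 0, 2, 0, 2, -2, 0, 2, 2, 2, 2, 2, 2, 2, -2, -2, 0, 0, 2, 0],
  [0, 2, 2, 0, 2, 0, -2, 0, 2, -2, 0, -2, -2, 2, 2, 2, -2, 2, -2, 2, 0, 0, 2, 0],
  [0, -2, 2, 0, 2, 0, 2, 0, 2, -2, 0, 2, 2, 2, 2, -2, -2, -2, 2, 2, 0, 0, -2, 0],
  [-2, 0, 0, 2, 0, 6, 0, 2, 0, 0, 2, 0, 0, 0, 0, 0, 0, 0, 0, 0, 2, 2, 0, 2],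
  [0, -2, -2, 0, 2, 0, -2, 0, 2, 2, 0, 2, -2, -2, 2, -2, 2, 2, 2, 2, 0, 0, 2, 0],
  [2, 0, 0, -2, 0, 2, 0, 6, 0, 0, -2, 0, 0, 0, 0, 0, 0, 0, 0, 0, -2, -2, 0, -2],
  [0, 2, 2, 0, -2, 0, 2, 0, 2, 2, 0, -2, 2, -2, 2, -2, -2, 2, 2, -2, 0, 0, 2, 0],
  [0, 2, -2, 0, -2, 0, 2, 0, -2, 2, 0, 2, -2, 2, 2, 2, -2, -2, 2, 2, 0, 0, 2, 0],
  [0, 2, -2, 0, 2, 0, 2, 0, -2, -2, 0, -2, 2, 2, -2, -2, 2, 2, 2, 2, 0, 0, 2, 0],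
  [2, 0, 0, -2, 0, 2, 0, -2, 0, 0, 6, 0, 0, 0, 0, 0, 0, 0, 0, 0, -2, -2, 0, -2],
  [0, 2, 2, 0, -2, 0, -2, 0, 2, 2, 0, 2, 2, 2, -2, -2, 2, -2, -2, 2, 0, 0, 2, 0],
  [0, -2, 2, 0, -2, 0, 2, 0, 2, 2, 0, -2, -2, 2, -2, 2, 2, 2, 2, 2, 0, 0, -2, 0],
  [2, 0, 0, -2, 0, 2, 0, -2, 0, 0, -2, 0, 0, 0, 0, 0, 0, 0, 0, 0, -2, 6, 0, -2],
  [0, 2, -2, 0, 2, 0, -2, 0, 2, 2, 0, 2, 2, 2, -2, 2, -2, 2, 2, -2, 0, 0, -2, 0],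
  [0, -2, 2, 0, 2, 0, 2, 0, -2, 2, 0, 2, 2, -2, -2, 2, -2, 2, -2, 2, 0, 0, 2, 0],
  [0, 2, 2, 0, 2, 0, 2, 0, 2, -2, 0, 2, -2, -2, -2, 2, 2, -2, 2, -2, 0, 0, 2, 0],
  [2, 0, 0, -2, 0, 2, 0, -2, 0, 0, -2, 0, 0, 0, 0, 0, 0, 0, 0, 0, -2, -2, 0, 6]]

/-- Data. -/
def T204 : List (List ℤ) := [[6, 0, 0, 0, 0, 0, 0, 0, 0, 0, 2, 2, 0, -2, 0, 0, 2, 0, 2, 0, 2, 0, 0, 2],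
  [0, 2, -2, 2, 2, 2, 2, 2, 2, -2, 0, 0, 2, 0, 2, -2, 0, 2, 0, -2, 0, -2, -2, 0],
  [-2, 0, 0, 0, 0, 0, 0, 0, 0, 0, 2, 2, 0, 6, 0, 0, 2, 0, 2, 0, 2, 0, 0, 2],
  [0, 2, 2, 2, -2, -2, -2, 2, -2, -2, 0, 0, 2, 0, 2, 2, 0, 2, 0, 2, 0, 2, -2, 0],
  [0, -2, -2, 2, 2, 2, 2, -2, -2, -2, 0, 0, 2, 0, 2, 2, 0, -2, 0, 2, 0, 2, 2, 0],
  [2, 0, 0, 0, 0, 0, 0, 0, 0, 0, -2, -2, 0, 2, 0, 0, -2, 0, -2, 0, 6, 0, 0, -2],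
  [0, -2, 2, -2, 2, -2, 2, -2, 2, 2, 0, 0, 2, 0, 2, 2, 0, 2, 0, -2, 0, 2, -2, 0],
  [0, 2, 2, -2, 2, 2, -2, -2, 2, -2, 0, 0, -2, 0, 2, 2, 0, 2, 0, 2, 0, -2, 2, 0],
  [2, 0, 0, 0, 0, 0, 0, 0, 0, 0, -2, -2, 0, 2, 0, 0, 6, 0, -2, 0, -2, 0, 0, -2],
  [0, 2, 2, 2, -2, 2, 2, -2, 2, 2, 0, 0, -2, 0, 2, -2, 0, -2, 0, 2, 0, 2, -2, 0],
  [0, 2, 2, 2, 2, -2, 2, 2, 2, -2, 0, 0, -2, 0, -2, 2, 0, -2, 0, -2, 0, 2, 2, 0],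
  [0, 2, -2, -2, 2, 2, 2, 2, -2, 2, 0, 0, -2, 0, -2, 2, 0, 2, 0, 2, 0, 2, -2, 0],
  [0, -2, 2, -2, -2, 2, 2, 2, 2, -2, 0, 0, 2, 0, -2, -2, 0, 2, 0, 2, 0, 2, 2, 0],
  [2, 0, 0, 0, 0, 0, 0, 0, 0, 0, -2, -2, 0, 2, 0, 0, -2, 0, 6, 0, -2, 0, 0, -2],
  [0, 2, 2, -2, 2, -2, 2, 2, -2, 2, 0, 0, 2, 0, 2, -2, 0, -2, 0, 2, 0, -2, 2, 0],
  [0, 2, -2, 2, -2, -2, 2, -2, 2, 2, 0, 0, 2, 0, -2, 2, 0, 2, 0, 2, 0, -2, 2, 0],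
  [0, 2, 2, 2, 2, 2, -2, -2, -2, 2, 0, 0, 2, 0, -2, -2, 0, 2, 0, -2, 0, 2, 2, 0],
  [0, 2, -2, -2, -2, 2, -2, 2, 2, 2, 0, 0, 2, 0, 2, 2, 0, -2, 0, -2, 0, 2, 2, 0],
  [0, -2, 2, 2, -2, 2, 2, 2, -2, 2, 0, 0, -2, 0, 2, 2, 0, 2, 0, -2, 0, -2, 2, 0],
  [2, 0, 0, 0, 0, 0, 0, 0, 0, 0, -2, 6, 0, 2, 0, 0, -2, 0, -2, 0, -2, 0, 0, -2],
  [2, 0, 0, 0, 0, 0, 0, 0, 0, 0, 6, -2, 0, 2, 0, 0, -2, 0, -2, 0, -2, 0, 0, -2],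
  [0, -2, -2, 2, 2, -2, -2, 2, 2, 2, 0, 0, -2, 0, 2, -2, 0, 2, 0, 2, 0, 2, 2, 0],
  [0, -2, 2, 2, 2, 2, -2, 2, 2, 2, 0, 0, 2, 0, -2, 2, 0, -2, 0, 2, 0, -2, -2, 0],
  [2, 0, 0, 0, 0, 0, 0, 0, 0, 0, -2, -2, 0, 2, 0, 0, -2, 0, -2, 0, -2, 0, 0, 6]]

/-- Data. -/
def T205 : List (List ℤ) := [[6, 0, 0, 0, 0, 0, 0, 2, 0, 0, 0, 0, 0, 0, 0, 2, -2, 0, 0, 2, 2, 0, 2, 2],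
  [0, -2, -2, 2, 2, 2, 2, 0, 2, -2, 2, 2, -2, 2, -2, 0, 0, 2, 2, 0, 0, -2, 0, 0],
  [0, -2, 2, -2, -2, -2, -2, 0, 2, 2, 2, 2, 2, 2, 2, 0, 0, 2, 2, 0, 0, -2, 0, 0],
  [2, 0, 0, 0, 0, 0, 0, -2, 0, 0, 0, 0, 0, 0, 0, -2, 2, 0, 0, -2, 6, 0, -2, -2],
  [0, -2, 2, 2, 2, -2, 2, 0, -2, 2, 2, 2, 2, -2, -2, 0, 0, 2, -2, 0, 0, 2, 0, 0],
  [-2, 0, 0, 0, 0, 0, 0, 2, 0, 0, 0, 0, 0, 0, 0, 2, 6, 0, 0, 2, 2, 0, 2, 2],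
  [0, 2, 2, -2, 2, 2, 2, 0, -2, 2, -2, 2, -2, 2, 2, 0, 0, 2, -2, 0, 0, -2, 0, 0],
  [0, 2, 2, 2, 2, -2, -2, 0, 2, -2, 2, -2, -2, 2, 2, 0, 0, 2, -2, 0, 0, 2, 0, 0],
  [2, 0, 0, 0, 0, 0, 0, -2, 0, 0, 0, 0, 0, 0, 0, 6, 2, 0, 0, -2, -2, 0, -2, -2],
  [0, -2, 2, -2, 2, 2, 2, 0, 2, 2, 2, -2, -2, -2, 2, 0, 0, -2, 2, 0, 0, 2, 0, 0],
  [0, 2, 2, 2, -2, 2, -2, 0, 2, 2, -2, 2, -2, -2, -2, 0, 0, 2, 2, 0, 0, 2, 0, 0],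
  [2, 0, 0, 0, 0, 0, 0, -2, 0, 0, 0, 0, 0, 0, 0, -2, 2, 0, 0, 6, -2, 0, -2, -2],
  [0, 2, 2, 2, -2, 2, 2, 0, 2, -2, 2, 2, 2, -2, 2, 0, 0, -2, -2, 0, 0, -2, 0, 0],
  [0, 2, 2, 2, 2, -2, 2, 0, 2, 2, -2, -2, 2, 2, -2, 0, 0, -2, 2, 0, 0, -2, 0, 0],
  [0, 2, -2, 2, -2, -2, 2, 0, -2, 2, 2, 2, -2, 2, 2, 0, 0, -2, 2, 0, 0, 2, 0, 0],
  [0, 2, -2, 2, 2, 2, -2, 0, -2, 2, 2, -2, 2, -2, 2, 0, 0, 2, 2, 0, 0, -2, 0, 0],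
  [2, 0, 0, 0, 0, 0, 0, -2, 0, 0, 0, 0, 0, 0, 0, -2, 2, 0, 0, -2, -2, 0, 6, -2],
  [0, 2, 2, -2, 2, 2, -2, 0, -2, -2, 2, 2, 2, 2, -2, 0, 0, -2, 2, 0, 0, 2, 0, 0],
  [0, -2, 2, 2, -2, 2, 2, 0, -2, -2, -2, -2, 2, 2, 2, 0, 0, 2, 2, 0, 0, 2, 0, 0],
  [0, -2, -2, 2, 2, 2, -2, 0, 2, 2, -2, 2, 2, 2, 2, 0, 0, -2, -2, 0, 0, 2, 0, 0],
  [0, 2, -2, -2, -2, 2, 2, 0, 2, 2, 2, -2, 2, 2, -2, 0, 0, 2, -2, 0, 0, 2, 0, 0],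
  [0, 2, -2, -2, 2, -2, 2, 0, 2, -2, -2, 2, 2, -2, 2, 0, 0, 2, 2, 0, 0, 2, 0, 0],
  [2, 0, 0, 0, 0, 0, 0, 6, 0, 0, 0, 0, 0, 0, 0, -2, 2, 0, 0, -2, -2, 0, -2, -2],
  [2, 0, 0, 0, 0, 0, 0, -2, 0, 0, 0, 0, 0, 0, 0, -2, 2, 0, 0, -2, -2, 0, -2, 6]]

/-- Data. -/
def T206 : List (List ℤ) := [[4, 2, 0, 2, 0, 0, 0, 2, 0, 0, 0, 0, 2, 0, 0, 0, 2, 0, 0, 2, 2, 2, 0, 4],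
  [0, -2, 0, 2, 0, 0, 0, 2, 4, 0, 0, 0, 2, 0, 0, 0, -2, 4, 0, 2, -2, -2, 0, 0],
  [0, 2, 0, -2, 0, 0, 0, 2, 0, 0, 0, 0, 2, 4, 4, 0, -2, 0, 0, -2, 2, -2, 0, 0],
  [0, -2, 0, -2, 0, 0, 0, 2, 0, 0, 0, 0, -2, 0, 0, 4, 2, 0, 0, 2, 2, -2, 4, 0],
  [2, 0, -2, 0, -2, 2, 2, 0, -2, 2, -2, 2, 0, -2, 2, -2, 0, 2, -2, 0, 0, 0, 2, -2],
  [2, 0, 2, 0, -2, -2, -2, 0, -2, -2, 2, 2, 0, -2, 2, 2, 0, 2, 2, 0, 0, 0, -2, -2],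
  [0, -2, 0, 2, 0, 0, 0, -2, 0, 0, 0, 0, -2, 4, 4, 0, 2, 0, 0, 2, -2, 2, 0, 0],
  [0, 2, 0, -2, 0, 0, 0, -2, 4, 0, 0, 0, -2, 0, 0, 0, 2, 4, 0, -2, 2, 2, 0, 0],
  [2, 0, 2, 0, 2, 2, -2, 0, -2, 2, -2, -2, 0, 2, -2, 2, 0, 2, -2, 0, 0, 0, -2, -2],
  [0, 2, 4, -2, 0, 0, 4, 2, 0, 0, 0, 0, -2, 0, 0, 0, -2, 0, 0, 2, -2, 2, 0, 0],
  [2, 0, 2, 0, 2, 2, -2, 0, 2, -2, -2, -2, 0, -2, 2, -2, 0, -2, 2, 0, 0, 0, 2, -2],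
  [2, 0, -2, 0, 2, -2, 2, 0, 2, 2, 2, -2, 0, -2, 2, 2, 0, -2, -2, 0, 0, 0, -2, -2],
  [0, -2, 0, 2, 0, 4, 0, 2, 0, 0, 4, 0, -2, 0, 0, 0, -2, 0, 0, -2, 2, 2, 0, 0],
  [0, 2, 0, 2, 0, 0, 0, 2, 0, 4, 0, 0, -2, 0, 0, 0, 2, 0, 4, -2, -2, -2, 0, 0],
  [0, -2, 0, -2, 0, 0, 0, -2, 0, 4, 0, 0, 2, 0, 0, 0, -2, 0, 4, 2, 2, 2, 0, 0],
  [2, 0, -2, 0, 2, -2, 2, 0, -2, -2, 2, -2, 0, 2, -2, -2, 0, 2, 2, 0, 0, 0, 2, -2],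
  [0, 2, 0, 2, 0, 0, 0, -2, 0, 0, 0, 0, 2, 0, 0, 4, -2, 0, 0, -2, -2, 2, 4, 0],
  [2, 0, 2, 0, -2, -2, -2, 0, 2, 2, 2, 2, 0, 2, -2, -2, 0, -2, -2, 0, 0, 0, 2, -2],
  [0, -2, 4, 2, 0, 0, 4, -2, 0, 0, 0, 0, 2, 0, 0, 0, 2, 0, 0, -2, 2, -2, 0, 0],
  [0, -2, 0, -2, 4, 0, 0, 2, 0, 0, 0, 4, 2, 0, 0, 0, 2, 0, 0, -2, -2, 2, 0, 0],
  [0, 2, 0, -2, 0, 4, 0, -2, 0, 0, 4, 0, 2, 0, 0, 0, 2, 0, 0, 2, -2, -2, 0, 0],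
  [0, 2, 0, 2, 4, 0, 0, -2, 0, 0, 0, 4, -2, 0, 0, 0, -2, 0, 0, 2, 2, -2, 0, 0],
  [2, 0, -2, 0, -2, 2, 2, 0, 2, -2, -2, 2, 0, 2, -2, 2, 0, -2, 2, 0, 0, 0, -2, -2],
  [4, -2, 0, -2, 0, 0, 0, -2, 0, 0, 0, 0, -2, 0, 0, 0, -2, 0, 0, -2, -2, -2, 0, 4]]

/-- Data. -/
def T207 : List (List ℤ) := [[6, 0, 0, 0, 0, 0, 0, 2, 0, 0, 0, 0, 0, 0, 0, 2, 2, 0, 0, 2, -2, 0, 2, 2],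
  [2, 0, 0, 0, 0, 0, 0, 6, 0, 0, 0, 0, 0, 0, 0, -2, -2, 0, 0, -2, 2, 0, -2, -2],
  [0, 2, 2, 2, -2, -2, 2, 0, -2, 2, 2, -2, 2, 2, 2, 0, 0, 2, -2, 0, 0, -2, 0, 0],
  [0, 2, 2, -2, -2, 2, -2, 0, 2, -2, -2, 2, 2, 2, 2, 0, 0, 2, -2, 0, 0, 2, 0, 0],
  [2, 0, 0, 0, 0, 0, 0, -2, 0, 0, 0, 0, 0, 0, 0, -2, -2, 0, 0, 6, 2, 0, -2, -2],
  [-2, 0, 0, 0, 0, 0, 0, 2, 0, 0, 0, 0, 0, 0, 0, 2, 2, 0, 0, 2, 6, 0, 2, 2],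
  [0, -2, 2, -2, 2, -2, 2, 0, -2, -2, 2, 2, -2, 2, 2, 0, 0, 2, 2, 0, 0, 2, 0, 0],
  [2, 0, 0, 0, 0, 0, 0, -2, 0, 0, 0, 0, 0, 0, 0, -2, 6, 0, 0, -2, 2, 0, -2, -2],
  [2, 0, 0, 0, 0, 0, 0, -2, 0, 0, 0, 0, 0, 0, 0, 6, -2, 0, 0, -2, 2, 0, -2, -2],
  [0, -2, 2, 2, -2, -2, 2, 0, 2, 2, -2, 2, 2, -2, 2, 0, 0, -2, 2, 0, 0, 2, 0, 0],
  [0, 2, -2, 2, -2, 2, 2, 0, 2, -2, 2, -2, -2, -2, 2, 0, 0, 2, 2, 0, 0, 2, 0, 0],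
  [0, -2, -2, -2, 2, 2, 2, 0, 2, 2, 2, 2, 2, -2, 2, 0, 0, 2, -2, 0, 0, -2, 0, 0],
  [0, -2, 2, 2, 2, 2, 2, 0, 2, -2, 2, -2, 2, 2, -2, 0, 0, -2, -2, 0, 0, 2, 0, 0],
  [0, 2, 2, -2, -2, 2, 2, 0, 2, 2, 2, 2, -2, 2, -2, 0, 0, -2, 2, 0, 0, -2, 0, 0],
  [0, 2, -2, -2, 2, 2, 2, 0, -2, 2, -2, -2, 2, 2, 2, 0, 0, -2, 2, 0, 0, 2, 0, 0],
  [2, 0, 0, 0, 0, 0, 0, -2, 0, 0, 0, 0, 0, 0, 0, -2, -2, 0, 0, -2, 2, 0, 6, -2],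
  [0, -2, -2, 2, -2, 2, -2, 0, -2, 2, 2, 2, 2, 2, -2, 0, 0, 2, 2, 0, 0, 2, 0, 0],
  [0, 2, -2, 2, 2, -2, -2, 0, 2, -2, 2, 2, 2, 2, 2, 0, 0, -2, 2, 0, 0, -2, 0, 0],
  [0, -2, 2, 2, 2, 2, -2, 0, 2, 2, -2, -2, -2, 2, 2, 0, 0, 2, 2, 0, 0, -2, 0, 0],
  [0, 2, 2, 2, 2, 2, -2, 0, -2, 2, 2, 2, -2, -2, 2, 0, 0, -2, -2, 0, 0, 2, 0, 0],
  [0, 2, 2, -2, 2, -2, -2, 0, 2, 2, 2, -2, 2, -2, -2, 0, 0, 2, 2, 0, 0, 2, 0, 0],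
  [0, 2, -2, 2, 2, -2, 2, 0, 2, 2, -2, 2, -2, 2, -2, 0, 0, 2, -2, 0, 0, 2, 0, 0],
  [0, 2, 2, 2, 2, 2, 2, 0, -2, -2, -2, 2, 2, -2, -2, 0, 0, 2, 2, 0, 0, -2, 0, 0],
  [2, 0, 0, 0, 0, 0, 0, -2, 0, 0, 0, 0, 0, 0, 0, -2, -2, 0, 0, -2, 2, 0, -2, 6]]

/-- Data. -/
def T208 : List (List ℤ) := [[5, 3, 1, 1, 1, -1, 1, 1, 1, -1, 1, 1, -1, 1, -1, -1, 1, 1, -1, 1, 1, 1, 1, 3],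
  [1, -1, 1, 1, 1, 3, 1, 1, 1, -1, -3, 1, 3, 1, -1, -1, -3, 1, -1, -3, 1, 1, 1, -1],
  [-1, 1, 3, -1, 3, 1, -1, -1, -1, 1, -1, -1, 1, 3, 1, 1, 3, -1, 1, -1, -1, -1, 3, 1],
  [1, -1, 1, 1, 1, -1, -3, 1, 1, -1, 1, -3, -1, 1, 3, 3, -3, 1, -1, 1, 1, 1, 1, -1],
  [-1, 1, -1, 3, 3, 1, -1, -1, -1, 1, -1, 3, 1, -1, 1, 1, -1, -1, 1, 3, 3, -1, -1, 1],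
  [-1, 1, -1, -1, -1, 1, -1, -1, 3, 1, -1, -1, 1, -1, 1, 1, 3, 3, 1, -1, 3, 3, -1, 1],
  [1, -1, 1, 1, 1, -1, 1, 1, -3, 3, 1, 1, -1, 1, 3, -1, 1, 1, -1, -3, 1, 1, -3, -1],
  [1, -1, 1, 1, -3, 3, 1, -3, -3, -1, 1, 1, -1, 1, -1, 3, 1, 1, -1, 1, 1, 1, 1, -1],
  [1, -1, 1, -3, 1, -1, 1, 1, 1, -1, 1, 1, 3, 1, -1, 3, 1, 1, -1, 1, 1, -3, -3, -1],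
  [-1, 1, 3, -1, -1, 1, 3, 3, -1, 1, -1, -1, 1, -1, 1, 1, -1, -1, 1, 3, -1, 3, -1, 1],
  [1, -1, 1, 1, 1, 3, 1, 1, 1, 3, 1, -3, -1, -3, -1, -1, 1, 1, -1, 1, 1, -3, 1, -1],
  [1, -1, -3, -3, 1, 3, 1, 1, 1, -1, 1, 1, -1, 1, 3, -1, 1, -3, -1, 1, 1, 1, 1, -1],
  [1, -1, 1, 1, 1, -1, 1, 1, 1, -1, 1, 1, -1, -3, -1, 3, 1, -3, 3, -3, 1, 1, 1, -1],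
  [-1, 1, -1, 3, -1, 1, 3, -1, 3, 1, 3, -1, 1, 3, 1, 1, -1, -1, 1, -1, -1, -1, -1, 1],
  [1, -1, 1, -3, 1, -1, 1, -3, 1, 3, 1, 1, -1, 1, -1, -1, -3, 1, 3, 1, 1, 1, 1, -1],
  [-1, 1, -1, -1, -1, 1, -1, 3, -1, 1, 3, 3, 1, -1, 1, 1, -1, 3, 1, -1, -1, -1, 3, 1],
  [1, -1, -3, 1, 1, -1, 1, 1, -3, -1, 1, -3, 3, 1, -1, -1, 1, 1, 3, 1, 1, 1, 1, -1],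
  [3, 5, -1, -1, -1, 1, -1, -1, -1, 1, -1, -1, 1, -1, 1, 1, -1, -1, 1, -1, -1, -1, -1, -3],
  [1, -1, 1, 1, -3, -1, 1, 1, 1, -1, -3, 1, -1, 1, 3, -1, 1, 1, 3, 1, 1, -3, 1, -1],
  [1, -1, -3, 1, 1, -1, 1, 1, 1, 3, -3, 1, -1, 1, -1, 3, 1, 1, -1, 1, -3, 1, 1, -1],
  [1, -1, 1, 1, -3, -1, -3, 1, 1, 3, 1, 1, 3, 1, -1, -1, 1, -3, -1, 1, 1, 1, 1, -1],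
  [1, -1, 1, 1, 1, -1, 1, -3, 1, -1, 1, 1, 3, -3, 3, -1, 1, 1, -1, 1, -3, 1, 1, -1],
  [1, -1, 1, 1, 1, 3, -3, 1, 1, -1, 1, 1, -1, 1, -1, -1, 1, 1, 3, 1, -3, 1, -3, -1],
  [3, -3, -1, -1, -1, 1, -1, -1, -1, 1, -1, -1, 1, -1, 1, 1, -1, -1, 1, -1, -1, -1, -1, 5]]

/-- Data. -/
def T209 : List (List ℤ) := [[5, 1, 1, -1, 3, 1, -1, 1, 1, -1, 1, -1, 1, -1, 1, 1, -1, 1, 1, 1, 1, 1, 1, 3],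
  [1, -3, 1, 3, -1, 1, -1, 1, 1, -1, 1, 3, 1, -1, 1, 1, -1, 1, 1, -3, -3, 1, 1, -1],
  [1, 1, 1, -1, -1, 1, -1, -3, 1, 3, -3, -1, 1, 3, 1, 1, -1, 1, 1, -3, 1, 1, 1, -1],
  [1, 1, 1, -1, -1, 1, -1, -3, 1, -1, 1, 3, -3, -1, 1, 1, 3, 1, 1, 1, 1, -3, 1, -1],
  [1, 1, -3, -1, -1, -3, 3, 1, 1, -1, -3, 3, 1, -1, 1, 1, -1, 1, 1, 1, 1, 1, 1, -1],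
  [1, 1, 1, 3, -1, -3, -1, 1, 1, -1, 1, -1, -3, 3, 1, 1, -1, 1, -3, 1, 1, 1, 1, -1],
  [-1, -1, 3, 1, 1, -1, 1, -1, -1, 1, -1, 1, 3, 1, 3, 3, 1, -1, -1, 3, -1, -1, -1, 1],
  [1, 1, 1, -1, -1, 1, 3, 1, -3, -1, 1, -1, 1, -1, 1, 1, 3, 1, -3, -3, 1, 1, 1, -1],
  [1, -3, -3, -1, -1, 1, -1, 1, 1, -1, 1, -1, 1, 3, 1, 1, 3, 1, 1, 1, 1, 1, -3, -1],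
  [1, -3, 1, -1, -1, 1, 3, 1, 1, 3, 1, -1, -3, -1, 1, 1, -1, -3, 1, 1, 1, 1, 1, -1],
  [1, 1, 1, 3, -1, 1, 3, -3, 1, -1, 1, -1, 1, -1, -3, 1, -1, 1, 1, 1, 1, 1, -3, -1],
  [1, 1, 1, -1, -1, 1, -1, 1, 1, 3, 1, 3, 1, -1, 1, -3, -1, 1, -3, 1, 1, 1, -3, -1],
  [1, 1, 1, 3, -1, 1, -1, 1, 1, -1, -3, -1, 1, -1, 1, -3, 3, -3, 1, 1, 1, 1, 1, -1],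
  [1, 1, 1, -1, -1, 1, 3, 1, 1, -1, 1, -1, 1, 3, 1, -3, -1, 1, 1, 1, -3, -3, 1, -1],
  [-1, 3, -1, 1, 1, -1, 1, -1, -1, 1, 3, 1, -1, 1, 3, -1, 1, -1, 3, -1, -1, 3, -1, 1],
  [-1, -1, -1, 1, 1, -1, 1, -1, 3, 1, 3, 1, 3, 1, -1, -1, 1, -1, -1, -1, 3, -1, 3, 1],
  [1, 1, -3, 3, -1, 1, -1, 1, -3, 3, 1, -1, 1, -1, 1, 1, -1, 1, 1, 1, 1, -3, 1, -1],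
  [1, 1, 1, -1, -1, -3, -1, 1, 1, 3, 1, -1, 1, -1, -3, 1, 3, 1, 1, 1, -3, 1, 1, -1],
  [-1, -1, 3, 1, 1, -1, 1, 3, -1, 1, -1, 1, -1, 1, -1, -1, 1, 3, 3, -1, 3, -1, -1, 1],
  [3, -1, -1, 1, 5, -1, 1, -1, -1, 1, -1, 1, -1, 1, -1, -1, 1, -1, -1, -1, -1, -1, -1, -3],
  [1, 1, 1, -1, -1, 1, -1, 1, -3, -1, 1, 3, 1, 3, -3, 1, -1, -3, 1, 1, 1, 1, 1, -1],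
  [-1, -1, -1, 1, 1, 3, 1, -1, -1, 1, -1, 1, -1, 1, -1, -1, 1, 3, -1, 3, -1, 3, 3, 1],
  [-1, 3, -1, 1, 1, 3, 1, 3, 3, 1, -1, 1, -1, 1, -1, 3, 1, -1, -1, -1, -1, -1, -1, 1],
  [3, -1, -1, 1, -3, -1, 1, -1, -1, 1, -1, 1, -1, 1, -1, -1, 1, -1, -1, -1, -1, -1, -1, 5]]

end

end Cfsg.Agent.LeechCount.Co2Mult
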