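import Cfsg.Agent.Lib.LeechCount.Co2Mult.Data
import Cfsg.Agent.Lib.LeechCount.Co2Mult.TabData

/-! Checked relations (produced by an offline script). -/

set_option autoImplicit false
set_option maxRecDepth 100000

namespace Cfsg.Agent.LeechCount.Co2Mult

open Cfsg Cfsg.Agent.Leech Cfsg.Agent.Golay24

noncomputable section

attribute [local irreducible] normFS

theorem mon_kE : monB ⟨[], 7215414, 18521891927846527759470648371169506, 145837658621012005934344893682090135⟩ T1 = true := by decide +kernel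

theorem x0 : Rep (xiEl [0, 2, 5, 5, 3, 3, 5, 1, 2, 3, 4, 4, 5, 4, 3, 1, 0, 2, 4, 1, 0, 2, 1, 0]) T2 := xiB_spec (by decide +kernel)

theorem pre_kE_0 : (mulB T2 T1 T3 && smallB T3) = true := by decide +kernel

theorem x1 : Rep (xiEl [0, 3, 0, 1, 4, 4, 4, 2, 2, 3, 0, 4, 5, 5, 2, 3, 2, 5, 1, 1, 3, 5, 1, 0]) T4 := xiB_spec (by decide +kernel)

theorem pre_kE_1 : (mulB T4 T3 T5 && smallB T5) = true := by decide +kernel

theorem x2 : Rep (xiEl [0, 4, 0, 0, 1, 2, 0, 2, 2, 4, 3, 4, 5, 1, 3, 3, 5, 1, 2, 1, 5, 3, 4, 5]) T6 := xiB_spec (by decide +kernel)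

theorem pre_kE_2 : (mulB T6 T5 T7 && smallB T7) = true := by decide +kernel

theorem rep_kE : Rep kE.co T7 :=
  rep_co mon_kE (rep_pre_cons x2 (rep_pre_cons x1 (rep_pre_cons x0 (rep_pre_nil (monB_spec mon_kE)) pre_kE_0) pre_kE_1) pre_kE_2)

theorem mon_g1E : monB ⟨[], 7190628, 65094261326064537546365397712421225, 399941573878375048441051146991580903⟩ T8 = true := by decide +kernel

theorem x3 : Rep (xiEl [0, 2, 3, 0, 2, 5, 3, 5, 1, 2, 3, 4, 5, 2, 0, 0, 5, 4, 1, 4, 1, 3, 4, 1]) T9 := xiB_spec (by decide +kernel)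

theorem pre_g1E_0 : (mulB T9 T8 T10 && smallB T10) = true := by decide +kernel

theorem x4 : Rep (xiEl [1, 0, 0, 5, 1, 5, 2, 3, 4, 3, 3, 4, 5, 1, 4, 2, 0, 4, 5, 3, 2, 2, 0, 1]) T11 := xiB_spec (by decide +kernel)

theorem pre_g1E_1 : (mulB T11 T10 T12 && smallB T12) = true := by decide +kernel

theorem rep_g1E : Rep (g1E.g : ↥Co0) T12 :=
  rep_el mon_g1E (rep_pre_cons x4 (rep_pre_cons x3 (rep_pre_nil (monB_spec mon_g1E)) pre_g1E_0) pre_g1E_1) (by decide +kernel)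

theorem mon_g2E : monB ⟨[], 8660134, 476690350002791594874687226409910948, 302509927550625856444245849846125058⟩ T13 = true := by decide +kernel

theorem x5 : Rep (xiEl [0, 2, 2, 0, 4, 0, 5, 4, 3, 4, 5, 4, 5, 3, 2, 3, 1, 0, 1, 1, 1, 3, 5, 2]) T14 := xiB_spec (by decide +kernel)

theorem pre_g2E_0 : (mulB T14 T13 T15 && smallB T15) = true := by decide +kernel

theorem x6 : Rep (xiEl [1, 3, 5, 3, 0, 5, 4, 1, 4, 1, 0, 4, 5, 0, 2, 2, 3, 2, 3, 0, 4, 2, 5, 1]) T16 := xiB_spec (by decide +kernel)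

theorem pre_g2E_1 : (mulB T16 T15 T17 && smallB T17) = true := by decide +kernel

theorem rep_g2E : Rep (g2E.g : ↥Co0) T17 :=
  rep_el mon_g2E (rep_pre_cons x6 (rep_pre_cons x5 (rep_pre_nil (monB_spec mon_g2E)) pre_g2E_0) pre_g2E_1) (by decide +kernel)

theorem mon_q3_a1 : monB ⟨[], 15526270, 955839535290895945227147871896372354, 960799663535779488827095189936472150⟩ T18 = true := by decide +kernel

theorem x7 : Rep (xiEl [0, 3, 1, 2, 5, 2, 2, 4, 3, 4, 0, 5, 0, 1, 3, 3, 4, 0, 5, 5, 4, 1, 2, 1]) T19 := xiB_spec (by decide +kernel)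

theorem pre_q3_a1_0 : (mulB T19 T18 T20 && smallB T20) = true := by decide +kernel

theorem x8 : Rep (xiEl [1, 1, 0, 1, 2, 4, 5, 3, 2, 3, 4, 4, 5, 0, 5, 4, 3, 2, 1, 5, 0, 0, 2, 3]) T21 := xiB_spec (by decide +kernel)

theorem pre_q3_a1_1 : (mulB T21 T20 T22 && smallB T22) = true := by decide +kernel

theorem x9 : Rep (xiEl [0, 3, 0, 5, 1, 2, 5, 1, 2, 3, 3, 4, 5, 2, 4, 3, 5, 1, 1, 2, 0, 4, 4, 0]) T23 := xiB_spec (by decide +kernel)

theorem pre_q3_a1_2 : (mulB T23 T22 T24 && smallB T24) = true := by decide +kernel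

theorem rep_q3_a1 : Rep (q3_a1.g : ↥Co0) T24 :=
  rep_el mon_q3_a1 (rep_pre_cons x9 (rep_pre_cons x8 (rep_pre_cons x7 (rep_pre_nil (monB_spec mon_q3_a1)) pre_q3_a1_0) pre_q3_a1_1) pre_q3_a1_2) (by decide +kernel)

theorem mon_q3_b1 : monB ⟨[], 7001086, 962335866270701638723064084442659042, 968867000812504911416754801961337041⟩ T25 = true := by decide +kernel

theorem x10 : Rep (xiEl [0, 3, 1, 2, 2, 5, 3, 2, 2, 3, 4, 4, 5, 0, 1, 1, 0, 1, 4, 3, 0, 5, 5, 4]) T26 := xiB_spec (by decide +kernel)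

theorem pre_q3_b1_0 : (mulB T26 T25 T27 && smallB T27) = true := by decide +kernel

theorem x11 : Rep (xiEl [1, 1, 0, 1, 2, 1, 2, 3, 5, 5, 4, 4, 5, 3, 0, 4, 2, 0, 4, 3, 5, 2, 3, 0]) T28 := xiB_spec (by decide +kernel)

theorem pre_q3_b1_1 : (mulB T28 T27 T29 && smallB T29) = true := by decide +kernel

theorem x12 : Rep (xiEl [0, 3, 0, 4, 5, 1, 2, 4, 2, 3, 3, 4, 5, 4, 5, 0, 1, 2, 1, 5, 3, 1, 2, 0]) T30 := xiB_spec (by decide +kernel)

theorem pre_q3_b1_2 : (mulB T30 T29 T31 && smallB T31) = true := by decide +kernel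

theorem rep_q3_b1 : Rep (q3_b1.g : ↥Co0) T31 :=
  rep_el mon_q3_b1 (rep_pre_cons x12 (rep_pre_cons x11 (rep_pre_cons x10 (rep_pre_nil (monB_spec mon_q3_b1)) pre_q3_b1_0) pre_q3_b1_1) pre_q3_b1_2) (by decide +kernel)

theorem mon_q3_a2 : monB ⟨[], 9607201, 980517877266518006780111404092471695, 964860464898575067765310237576377936⟩ T32 = true := by decide +kernel

theorem x13 : Rep (xiEl [0, 2, 1, 3, 1, 5, 4, 1, 2, 3, 4, 5, 5, 3, 4, 5, 2, 0, 1, 4, 0, 2, 3, 0]) T33 := xiB_spec (by decide +kernel)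

theorem pre_q3_a2_0 : (mulB T33 T32 T34 && smallB T34) = true := by decide +kernel

theorem x14 : Rep (xiEl [0, 3, 2, 2, 3, 0, 4, 5, 5, 4, 5, 0, 0, 5, 3, 1, 4, 1, 4, 2, 1, 2, 3, 1]) T35 := xiB_spec (by decide +kernel)

theorem pre_q3_a2_1 : (mulB T35 T34 T36 && smallB T36) = true := by decide +kernel

theorem rep_q3_a2 : Rep (q3_a2.g : ↥Co0) T36 :=
  rep_el mon_q3_a2 (rep_pre_cons x14 (rep_pre_cons x13 (rep_pre_nil (monB_spec mon_q3_a2)) pre_q3_a2_0) pre_q3_a2_1) (by decide +kernel)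

theorem mon_q3_b2 : monB ⟨[], 6807258, 960954588851152592466652941837749669, 963502012562324986071824175278132753⟩ T37 = true := by decide +kernel

theorem x15 : Rep (xiEl [0, 2, 0, 2, 4, 3, 5, 4, 0, 5, 5, 4, 5, 3, 1, 2, 2, 1, 1, 0, 3, 1, 4, 3]) T38 := xiB_spec (by decide +kernel)

theorem pre_q3_b2_0 : (mulB T38 T37 T39 && smallB T39) = true := by decide +kernel

theorem x16 : Rep (xiEl [1, 1, 5, 5, 1, 2, 3, 5, 4, 4, 1, 4, 5, 2, 0, 3, 4, 2, 0, 3, 2, 0, 3, 0]) T40 := xiB_spec (by decide +kernel)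

theorem pre_q3_b2_1 : (mulB T40 T39 T41 && smallB T41) = true := by decide +kernel

theorem x17 : Rep (xiEl [0, 1, 1, 1, 2, 0, 3, 3, 4, 4, 4, 5, 5, 3, 1, 5, 3, 0, 4, 2, 5, 2, 2, 0]) T42 := xiB_spec (by decide +kernel)

theorem pre_q3_b2_2 : (mulB T42 T41 T43 && smallB T43) = true := by decide +kernel

theorem rep_q3_b2 : Rep (q3_b2.g : ↥Co0) T43 :=
  rep_el mon_q3_b2 (rep_pre_cons x17 (rep_pre_cons x16 (rep_pre_cons x15 (rep_pre_nil (monB_spec mon_q3_b2)) pre_q3_b2_0) pre_q3_b2_1) pre_q3_b2_2) (by decide +kernel)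

theorem mon_q3_z : monB ⟨[], 11426287, 188240542423668699797073419674114701, 335554213091325553917182820169715829⟩ T44 = true := by decide +kernel

theorem x18 : Rep (xiEl [0, 4, 5, 3, 0, 4, 2, 3, 3, 5, 4, 5, 5, 0, 1, 2, 3, 4, 1, 1, 0, 2, 1, 2]) T45 := xiB_spec (by decide +kernel)

theorem pre_q3_z_0 : (mulB T45 T44 T46 && smallB T46) = true := by decide +kernel

theorem x19 : Rep (xiEl [1, 1, 1, 0, 2, 4, 2, 4, 2, 3, 3, 4, 5, 0, 2, 3, 4, 5, 0, 5, 1, 0, 5, 3]) T47 := xiB_spec (by decide +kernel)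

theorem pre_q3_z_1 : (mulB T47 T46 T48 && smallB T48) = true := by decide +kernel

theorem x20 : Rep (xiEl [1, 1, 1, 2, 0, 2, 3, 3, 5, 4, 4, 5, 5, 0, 2, 4, 0, 2, 5, 3, 4, 3, 0, 1]) T49 := xiB_spec (by decide +kernel)

theorem pre_q3_z_2 : (mulB T49 T48 T50 && smallB T50) = true := by decide +kernel

theorem rep_q3_z : Rep (q3_z.g : ↥Co0) T50 :=
  rep_el mon_q3_z (rep_pre_cons x20 (rep_pre_cons x19 (rep_pre_cons x18 (rep_pre_nil (monB_spec mon_q3_z)) pre_q3_z_0) pre_q3_z_1) pre_q3_z_2) (by decide +kernel)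

theorem mon_q3_iota : monB ⟨[], 9969957, 984818225758488488355990491334508578, 984818225758488488355990491334508578⟩ T51 = true := by decide +kernel

theorem x21 : Rep (xiEl [0, 4, 2, 4, 4, 2, 3, 1, 2, 5, 3, 4, 5, 2, 3, 1, 1, 3, 5, 0, 0, 5, 1, 0]) T52 := xiB_spec (by decide +kernel)

theorem pre_q3_iota_0 : (mulB T52 T51 T53 && smallB T53) = true := by decide +kernel

theorem x22 : Rep (xiEl [0, 1, 2, 3, 4, 0, 4, 5, 0, 4, 5, 5, 5, 0, 1, 3, 1, 3, 1, 2, 2, 3, 4, 2]) T54 := xiB_spec (by decide +kernel)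

theorem pre_q3_iota_1 : (mulB T54 T53 T55 && smallB T55) = true := by decide +kernel

theorem rep_q3_iota : Rep (q3_iota.g : ↥Co0) T55 :=
  rep_el mon_q3_iota (rep_pre_cons x22 (rep_pre_cons x21 (rep_pre_nil (monB_spec mon_q3_iota)) pre_q3_iota_0) pre_q3_iota_1) (by decide +kernel)

theorem mon_q3_gam : monB ⟨[], 3596691, 17752677316903936656171223291630103, 17752677316903936656171223291630103⟩ T56 = true := by decide +kernel

theorem x23 : Rep (xiEl [0, 4, 4, 0, 5, 2, 4, 3, 3, 0, 3, 4, 5, 1, 2, 3, 5, 1, 2, 5, 1, 2, 0, 1]) T57 := xiB_spec (by decide +kernel)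

theorem pre_q3_gam_0 : (mulB T57 T56 T58 && smallB T58) = true := by decide +kernel

theorem x24 : Rep (xiEl [1, 0, 3, 1, 0, 3, 5, 5, 4, 1, 3, 4, 5, 1, 0, 0, 3, 2, 4, 4, 2, 5, 2, 2]) T59 := xiB_spec (by decide +kernel)

theorem pre_q3_gam_1 : (mulB T59 T58 T60 && smallB T60) = true := by decide +kernel

theorem rep_q3_gam : Rep (q3_gam.g : ↥Co0) T60 :=
  rep_el mon_q3_gam (rep_pre_cons x24 (rep_pre_cons x23 (rep_pre_nil (monB_spec mon_q3_gam)) pre_q3_gam_0) pre_q3_gam_1) (by decide +kernel)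

theorem mon_q3_g : monB ⟨[], 13062145, 46267232285897012069696828732517384, 382188480819787932295130681988295393⟩ T61 = true := by decide +kernel

theorem x25 : Rep (xiEl [0, 5, 4, 1, 5, 0, 2, 1, 2, 3, 4, 5, 0, 3, 0, 1, 1, 3, 4, 3, 4, 2, 5, 2]) T62 := xiB_spec (by decide +kernel)

theorem pre_q3_g_0 : (mulB T62 T61 T63 && smallB T63) = true := by decide +kernel

theorem x26 : Rep (xiEl [0, 4, 0, 0, 2, 3, 4, 1, 2, 0, 3, 4, 5, 3, 1, 5, 3, 5, 5, 1, 1, 2, 4, 2]) T64 := xiB_spec (by decide +kernel)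

theorem pre_q3_g_1 : (mulB T64 T63 T65 && smallB T65) = true := by decide +kernel

theorem x27 : Rep (xiEl [0, 0, 5, 4, 2, 2, 4, 2, 0, 3, 4, 5, 5, 4, 3, 2, 1, 1, 5, 3, 1, 1, 3, 0]) T66 := xiB_spec (by decide +kernel)

theorem pre_q3_g_2 : (mulB T66 T65 T67 && smallB T67) = true := by decide +kernel

theorem rep_q3_g : Rep (q3_g.g : ↥Co0) T67 :=
  rep_el mon_q3_g (rep_pre_cons x27 (rep_pre_cons x26 (rep_pre_cons x25 (rep_pre_nil (monB_spec mon_q3_g)) pre_q3_g_0) pre_q3_g_1) pre_q3_g_2) (by decide +kernel)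

theorem mon_q3_gz : monB ⟨[], 9887535, 917996186091470110083960651960033293, 362904970324396554125556135578252609⟩ T68 = true := by decide +kernel

theorem x28 : Rep (xiEl [0, 2, 3, 2, 1, 2, 5, 2, 4, 3, 4, 5, 5, 0, 1, 3, 4, 4, 1, 0, 1, 3, 0, 5]) T69 := xiB_spec (by decide +kernel)

theorem pre_q3_gz_0 : (mulB T69 T68 T70 && smallB T70) = true := by decide +kernel

theorem x29 : Rep (xiEl [1, 1, 1, 3, 4, 4, 2, 2, 3, 4, 0, 0, 5, 0, 0, 3, 3, 5, 4, 1, 5, 2, 5, 2]) T71 := xiB_spec (by decide +kernel)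

theorem pre_q3_gz_1 : (mulB T71 T70 T72 && smallB T72) = true := by decide +kernel

theorem pre_q3_gz_2 : (mulB T49 T72 T73 && smallB T73) = true := by decide +kernel

theorem rep_q3_gz : Rep (q3_gz.g : ↥Co0) T73 :=
  rep_el mon_q3_gz (rep_pre_cons x20 (rep_pre_cons x29 (rep_pre_cons x28 (rep_pre_nil (monB_spec mon_q3_gz)) pre_q3_gz_0) pre_q3_gz_1) pre_q3_gz_2) (by decide +kernel)

theorem mon_q3_c : monB ⟨[], 8114118, 971627111579252686946710931743913634, 959341993091575799361463178452173092⟩ T74 = true := by decide +kernel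

theorem x30 : Rep (xiEl [0, 3, 5, 0, 1, 0, 4, 2, 3, 3, 4, 5, 0, 1, 2, 2, 2, 4, 1, 5, 3, 5, 4, 1]) T75 := xiB_spec (by decide +kernel)

theorem pre_q3_c_0 : (mulB T75 T74 T76 && smallB T76) = true := by decide +kernel

theorem x31 : Rep (xiEl [1, 1, 0, 2, 4, 3, 1, 1, 5, 3, 3, 4, 5, 4, 3, 2, 5, 2, 4, 0, 2, 0, 5, 0]) T77 := xiB_spec (by decide +kernel)

theorem pre_q3_c_1 : (mulB T77 T76 T78 && smallB T78) = true := by decide +kernel

theorem x32 : Rep (xiEl [0, 5, 0, 2, 4, 4, 4, 2, 5, 3, 4, 0, 5, 2, 1, 2, 3, 3, 5, 3, 1, 1, 1, 0]) T79 := xiB_spec (by decide +kernel)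

theorem pre_q3_c_2 : (mulB T79 T78 T80 && smallB T80) = true := by decide +kernel

theorem rep_q3_c : Rep (q3_c.g : ↥Co0) T80 :=
  rep_el mon_q3_c (rep_pre_cons x32 (rep_pre_cons x31 (rep_pre_cons x30 (rep_pre_nil (monB_spec mon_q3_c)) pre_q3_c_0) pre_q3_c_1) pre_q3_c_2) (by decide +kernel)

theorem mon_q3_gc : monB ⟨[], 12361671, 222030595521535506955670408554225038, 722261924730888765591319979847098031⟩ T81 = true := by decide +kernel

theorem x33 : Rep (xiEl [0, 5, 2, 4, 0, 0, 1, 2, 4, 3, 4, 5, 5, 2, 0, 1, 3, 1, 1, 4, 3, 2, 5, 3]) T82 := xiB_spec (by decide +kernel)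

theorem pre_q3_gc_0 : (mulB T82 T81 T83 && smallB T83) = true := by decide +kernel

theorem x34 : Rep (xiEl [1, 1, 1, 5, 1, 3, 0, 5, 0, 3, 5, 4, 5, 2, 0, 4, 2, 4, 3, 3, 0, 4, 2, 2]) T84 := xiB_spec (by decide +kernel)

theorem pre_q3_gc_1 : (mulB T84 T83 T85 && smallB T85) = true := by decide +kernel

theorem x35 : Rep (xiEl [1, 1, 1, 0, 2, 0, 3, 3, 5, 4, 4, 5, 5, 2, 0, 4, 2, 0, 5, 3, 4, 3, 2, 1]) T86 := xiB_spec (by decide +kernel)

theorem pre_q3_gc_2 : (mulB T86 T85 T87 && smallB T87) = true := by decide +kernel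

theorem rep_q3_gc : Rep (q3_gc.g : ↥Co0) T87 :=
  rep_el mon_q3_gc (rep_pre_cons x35 (rep_pre_cons x34 (rep_pre_cons x33 (rep_pre_nil (monB_spec mon_q3_gc)) pre_q3_gc_0) pre_q3_gc_1) pre_q3_gc_2) (by decide +kernel)

theorem mon_q5_a : monB ⟨[], 15594226, 974472232489068301369426722658856963, 982900327246390183039396134022816353⟩ T88 = true := by decide +kernel

theorem x36 : Rep (xiEl [0, 2, 0, 4, 1, 2, 5, 3, 0, 5, 0, 4, 5, 1, 3, 1, 3, 4, 1, 5, 4, 2, 2, 3]) T89 := xiB_spec (by decide +kernel)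

theorem pre_q5_a_0 : (mulB T89 T88 T90 && smallB T90) = true := by decide +kernel

theorem x37 : Rep (xiEl [1, 1, 2, 4, 1, 2, 3, 0, 5, 2, 3, 4, 5, 5, 0, 3, 0, 0, 2, 1, 4, 5, 3, 4]) T91 := xiB_spec (by decide +kernel)

theorem pre_q5_a_1 : (mulB T91 T90 T92 && smallB T92) = true := by decide +kernel

theorem x38 : Rep (xiEl [0, 1, 1, 0, 3, 1, 4, 5, 5, 2, 3, 4, 5, 2, 1, 3, 3, 0, 4, 5, 2, 4, 2, 0]) T93 := xiB_spec (by decide +kernel)

theorem pre_q5_a_2 : (mulB T93 T92 T94 && smallB T94) = true := by decide +kernel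

theorem rep_q5_a : Rep (q5_a.g : ↥Co0) T94 :=
  rep_el mon_q5_a (rep_pre_cons x38 (rep_pre_cons x37 (rep_pre_cons x36 (rep_pre_nil (monB_spec mon_q5_a)) pre_q5_a_0) pre_q5_a_1) pre_q5_a_2) (by decide +kernel)

theorem mon_q5_b : monB ⟨[], 10347774, 978005450083451171596417793881983012, 981473766498030394258277650061991985⟩ T95 = true := by decide +kernel

theorem x39 : Rep (xiEl [0, 2, 3, 3, 1, 1, 2, 3, 5, 5, 4, 5, 5, 2, 2, 4, 3, 0, 4, 1, 4, 0, 0, 1]) T96 := xiB_spec (by decide +kernel)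

theorem pre_q5_b_0 : (mulB T96 T95 T97 && smallB T97) = true := by decide +kernel

theorem x40 : Rep (xiEl [1, 1, 1, 2, 0, 0, 4, 3, 5, 0, 4, 5, 5, 2, 3, 3, 4, 4, 1, 0, 2, 2, 3, 5]) T98 := xiB_spec (by decide +kernel)

theorem pre_q5_b_1 : (mulB T98 T97 T99 && smallB T99) = true := by decide +kernel

theorem x41 : Rep (xiEl [0, 5, 2, 2, 0, 1, 5, 3, 2, 0, 3, 4, 5, 3, 1, 4, 1, 5, 4, 3, 1, 2, 4, 0]) T100 := xiB_spec (by decide +kernel)

theorem pre_q5_b_2 : (mulB T100 T99 T101 && smallB T101) = true := by decide +kernel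

theorem rep_q5_b : Rep (q5_b.g : ↥Co0) T101 :=
  rep_el mon_q5_b (rep_pre_cons x41 (rep_pre_cons x40 (rep_pre_cons x39 (rep_pre_nil (monB_spec mon_q5_b)) pre_q5_b_0) pre_q5_b_1) pre_q5_b_2) (by decide +kernel)

theorem mon_q5_z : monB ⟨[], 14149586, 983016536626150657514255191167741315, 970574708018884947477746061307562311⟩ T102 = true := by decide +kernel

theorem x42 : Rep (xiEl [0, 1, 0, 5, 2, 0, 1, 3, 2, 3, 4, 5, 0, 1, 4, 1, 2, 2, 4, 5, 4, 5, 3, 3]) T103 := xiB_spec (by decide +kernel)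

theorem pre_q5_z_0 : (mulB T103 T102 T104 && smallB T104) = true := by decide +kernel

theorem x43 : Rep (xiEl [1, 1, 2, 4, 1, 3, 2, 0, 2, 0, 3, 4, 5, 3, 2, 5, 5, 3, 5, 4, 1, 0, 0, 4]) T105 := xiB_spec (by decide +kernel)

theorem pre_q5_z_1 : (mulB T105 T104 T106 && smallB T106) = true := by decide +kernel

theorem x44 : Rep (xiEl [0, 5, 2, 0, 2, 3, 4, 3, 2, 2, 3, 4, 5, 1, 1, 5, 1, 4, 4, 1, 3, 0, 5, 0]) T107 := xiB_spec (by decide +kernel)

theorem pre_q5_z_2 : (mulB T107 T106 T108 && smallB T108) = true := by decide +kernel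

theorem rep_q5_z : Rep (q5_z.g : ↥Co0) T108 :=
  rep_el mon_q5_z (rep_pre_cons x44 (rep_pre_cons x43 (rep_pre_cons x42 (rep_pre_nil (monB_spec mon_q5_z)) pre_q5_z_0) pre_q5_z_1) pre_q5_z_2) (by decide +kernel)

theorem mon_q5_iota : monB ⟨[], 8783649, 965016908023861747820010547217313160, 972549723651716386909571852449460584⟩ T109 = true := by decide +kernel

theorem x45 : Rep (xiEl [0, 1, 2, 4, 2, 3, 4, 2, 3, 3, 3, 4, 5, 1, 5, 1, 5, 0, 0, 1, 2, 4, 5, 0]) T110 := xiB_spec (by decide +kernel)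

theorem pre_q5_iota_0 : (mulB T110 T109 T111 && smallB T111) = true := by decide +kernel

theorem x46 : Rep (xiEl [0, 2, 1, 1, 5, 0, 2, 2, 3, 0, 0, 4, 5, 1, 2, 5, 1, 3, 3, 4, 4, 5, 4, 3]) T112 := xiB_spec (by decide +kernel)

theorem pre_q5_iota_1 : (mulB T112 T111 T113 && smallB T113) = true := by decide +kernel

theorem rep_q5_iota : Rep (q5_iota.g : ↥Co0) T113 :=
  rep_el mon_q5_iota (rep_pre_cons x46 (rep_pre_cons x45 (rep_pre_nil (monB_spec mon_q5_iota)) pre_q5_iota_0) pre_q5_iota_1) (by decide +kernel)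

theorem mon_q5_gz : monB ⟨[], 10486557, 963632532375573679572584264801834082, 976239407945123453063072962800812658⟩ T114 = true := by decide +kernel

theorem x47 : Rep (xiEl [0, 4, 2, 2, 2, 4, 3, 1, 2, 0, 3, 4, 5, 4, 1, 1, 3, 1, 5, 5, 5, 0, 3, 0]) T115 := xiB_spec (by decide +kernel)

theorem pre_q5_gz_0 : (mulB T115 T114 T116 && smallB T116) = true := by decide +kernel

theorem x48 : Rep (xiEl [0, 1, 3, 0, 0, 4, 5, 2, 0, 3, 4, 5, 5, 2, 4, 5, 2, 1, 1, 4, 2, 3, 1, 3]) T117 := xiB_spec (by decide +kernel)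

theorem pre_q5_gz_1 : (mulB T117 T116 T118 && smallB T118) = true := by decide +kernel

theorem rep_q5_gz : Rep (q5_gz.g : ↥Co0) T118 :=
  rep_el mon_q5_gz (rep_pre_cons x48 (rep_pre_cons x47 (rep_pre_nil (monB_spec mon_q5_gz)) pre_q5_gz_0) pre_q5_gz_1) (by decide +kernel)

/-- Data. -/
def sO : El := ⟨[], 2605066, 984818244535754528103549039458486304, 984818244535754528103549039458486304⟩

theorem mon_sO : monB ⟨[], 2605066, 984818244535754528103549039458486304, 984818244535754528103549039458486304⟩ T119 = true := by decide +kernel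

theorem rep_sO : Rep (sO.g : ↥Co0) T119 :=
  rep_el mon_sO (rep_pre_nil (monB_spec mon_sO)) (by decide +kernel)

/-- Data. -/
def pS : El := ⟨[], 0, 980315668202993199018439250323548448, 980315668202993199018439250323548448⟩

theorem mon_pS : monB ⟨[], 0, 980315668202993199018439250323548448, 980315668202993199018439250323548448⟩ T120 = true := by decide +kernel

theorem rep_pS : Rep (pS.g : ↥Co0) T120 :=
  rep_el mon_pS (rep_pre_nil (monB_spec mon_pS)) (by decide +kernel)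

/-- Data. -/
def pT : El := ⟨[], 0, 28178099544003410202651033216256119, 28178099544003410202651033216256119⟩

theorem mon_pT : monB ⟨[], 0, 28178099544003410202651033216256119, 28178099544003410202651033216256119⟩ T121 = true := by decide +kernel

theorem rep_pT : Rep (pT.g : ↥Co0) T121 :=
  rep_el mon_pT (rep_pre_nil (monB_spec mon_pT)) (by decide +kernel)

theorem m0 : (mulB T12 T119 T122 && smallB T122) = true := by decide +kernel

theorem m1 : (mulB T120 T12 T122 && smallB T122) = true := by decide +kernel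

theorem g1_rel : gp [g1E, sO] = gp [pS, g1E] :=
  gp_eq (rep_gp_cons rep_g1E (rep_gp_one rep_sO) m0) (rep_gp_cons rep_pS (rep_gp_one rep_g1E) m1)

theorem m2 : (mulB T17 T120 T123 && smallB T123) = true := by decide +kernel

theorem m3 : (mulB T121 T17 T123 && smallB T123) = true := by decide +kernel

theorem g2_rel : gp [g2E, pS] = gp [pT, g2E] :=
  gp_eq (rep_gp_cons rep_g2E (rep_gp_one rep_pS) m2) (rep_gp_cons rep_pT (rep_gp_one rep_g2E) m3)

theorem m4 : (mulB T120 T120 idTab && smallB idTab) = true := by decide +kernel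

theorem pS_sq : gp [pS, pS] = gp [] :=
  gp_eq (rep_gp_cons rep_pS (rep_gp_one rep_pS) m4) (rep_gp_nil)

theorem m5 : (mulB T121 T121 idTab && smallB idTab) = true := by decide +kernel

theorem pT_sq : gp [pT, pT] = gp [] :=
  gp_eq (rep_gp_cons rep_pT (rep_gp_one rep_pT) m5) (rep_gp_nil)

theorem m6 : (mulB T119 T119 idTab && smallB idTab) = true := by decide +kernel

theorem sO_sq : gp [sO, sO] = gp [] :=
  gp_eq (rep_gp_cons rep_sO (rep_gp_one rep_sO) m6) (rep_gp_nil)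

theorem m7 : (mulB T94 T94 T124 && smallB T124) = true := by decide +kernel

theorem m8 : (mulB T94 T124 T125 && smallB T125) = true := by decide +kernel

theorem m9 : (mulB T94 T125 T126 && smallB T126) = true := by decide +kernel

theorem m10 : (mulB T94 T126 idTab && smallB idTab) = true := by decide +kernel

theorem cA5 : gp [q5_a, q5_a, q5_a, q5_a, q5_a] = gp [] :=
  gp_eq (rep_gp_cons rep_q5_a (rep_gp_cons rep_q5_a (rep_gp_cons rep_q5_a (rep_gp_cons rep_q5_a (rep_gp_one rep_q5_a) m7) m8) m9) m10) (rep_gp_nil)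

theorem m11 : (mulB T101 T101 T127 && smallB T127) = true := by decide +kernel

theorem m12 : (mulB T101 T127 T128 && smallB T128) = true := by decide +kernel

theorem m13 : (mulB T101 T128 T129 && smallB T129) = true := by decide +kernel

theorem m14 : (mulB T101 T129 idTab && smallB idTab) = true := by decide +kernel

theorem cB5 : gp [q5_b, q5_b, q5_b, q5_b, q5_b] = gp [] :=
  gp_eq (rep_gp_cons rep_q5_b (rep_gp_cons rep_q5_b (rep_gp_cons rep_q5_b (rep_gp_cons rep_q5_b (rep_gp_one rep_q5_b) m11) m12) m13) m14) (rep_gp_nil)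

theorem m15 : (mulB T108 T108 T130 && smallB T130) = true := by decide +kernel

theorem m16 : (mulB T108 T130 T131 && smallB T131) = true := by decide +kernel

theorem m17 : (mulB T108 T131 T132 && smallB T132) = true := by decide +kernel

theorem m18 : (mulB T108 T132 idTab && smallB idTab) = true := by decide +kernel

theorem cZ5 : gp [q5_z, q5_z, q5_z, q5_z, q5_z] = gp [] :=
  gp_eq (rep_gp_cons rep_q5_z (rep_gp_cons rep_q5_z (rep_gp_cons rep_q5_z (rep_gp_cons rep_q5_z (rep_gp_one rep_q5_z) m15) m16) m17) m18) (rep_gp_nil)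

theorem m19 : (mulB T101 T94 T133 && smallB T133) = true := by decide +kernel

theorem m20 : (mulB T94 T101 T134 && smallB T134) = true := by decide +kernel

theorem m21 : (mulB T108 T134 T133 && smallB T133) = true := by decide +kernel

theorem hba5 : gp [q5_b, q5_a] = gp [q5_z, q5_a, q5_b] :=
  gp_eq (rep_gp_cons rep_q5_b (rep_gp_one rep_q5_a) m19) (rep_gp_cons rep_q5_z (rep_gp_cons rep_q5_a (rep_gp_one rep_q5_b) m20) m21)

theorem m22 : (mulB T94 T108 T135 && smallB T135) = true := by decide +kernel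

theorem m23 : (mulB T108 T94 T135 && smallB T135) = true := by decide +kernel

theorem hAZ5 : gp [q5_a, q5_z] = gp [q5_z, q5_a] :=
  gp_eq (rep_gp_cons rep_q5_a (rep_gp_one rep_q5_z) m22) (rep_gp_cons rep_q5_z (rep_gp_one rep_q5_a) m23)

theorem m24 : (mulB T101 T108 T136 && smallB T136) = true := by decide +kernel

theorem m25 : (mulB T108 T101 T136 && smallB T136) = true := by decide +kernel

theorem hBZ5 : gp [q5_b, q5_z] = gp [q5_z, q5_b] :=
  gp_eq (rep_gp_cons rep_q5_b (rep_gp_one rep_q5_z) m24) (rep_gp_cons rep_q5_z (rep_gp_one rep_q5_b) m25)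

theorem m26 : (mulB T113 T94 T137 && smallB T137) = true := by decide +kernel

theorem m27 : (mulB T94 T113 T138 && smallB T138) = true := by decide +kernel

theorem m28 : (mulB T94 T138 T139 && smallB T139) = true := by decide +kernel

theorem m29 : (mulB T94 T139 T140 && smallB T140) = true := by decide +kernel

theorem m30 : (mulB T94 T140 T137 && smallB T137) = true := by decide +kernel

theorem hIA5 : gp [q5_iota, q5_a] = gp [q5_a, q5_a, q5_a, q5_a, q5_iota] :=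
  gp_eq (rep_gp_cons rep_q5_iota (rep_gp_one rep_q5_a) m26) (rep_gp_cons rep_q5_a (rep_gp_cons rep_q5_a (rep_gp_cons rep_q5_a (rep_gp_cons rep_q5_a (rep_gp_one rep_q5_iota) m27) m28) m29) m30)

theorem m31 : (mulB T113 T101 T141 && smallB T141) = true := by decide +kernel

theorem m32 : (mulB T101 T113 T142 && smallB T142) = true := by decide +kernel

theorem m33 : (mulB T101 T142 T143 && smallB T143) = true := by decide +kernel

theorem m34 : (mulB T101 T143 T144 && smallB T144) = true := by decide +kernel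

theorem m35 : (mulB T101 T144 T141 && smallB T141) = true := by decide +kernel

theorem hIB5 : gp [q5_iota, q5_b] = gp [q5_b, q5_b, q5_b, q5_b, q5_iota] :=
  gp_eq (rep_gp_cons rep_q5_iota (rep_gp_one rep_q5_b) m31) (rep_gp_cons rep_q5_b (rep_gp_cons rep_q5_b (rep_gp_cons rep_q5_b (rep_gp_cons rep_q5_b (rep_gp_one rep_q5_iota) m32) m33) m34) m35)

theorem m36 : (mulB T113 T108 T145 && smallB T145) = true := by decide +kernel

theorem m37 : (mulB T108 T113 T145 && smallB T145) = true := by decide +kernel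

theorem hIZ5 : gp [q5_iota, q5_z] = gp [q5_z, q5_iota] :=
  gp_eq (rep_gp_cons rep_q5_iota (rep_gp_one rep_q5_z) m36) (rep_gp_cons rep_q5_z (rep_gp_one rep_q5_iota) m37)

theorem m38 : (mulB T118 T108 T146 && smallB T146) = true := by decide +kernel

theorem m39 : (mulB T108 T118 T147 && smallB T147) = true := by decide +kernel

theorem m40 : (mulB T108 T147 T148 && smallB T148) = true := by decide +kernel

theorem m41 : (mulB T108 T148 T149 && smallB T149) = true := by decide +kernel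

theorem m42 : (mulB T108 T149 T146 && smallB T146) = true := by decide +kernel

theorem hGZ5 : gp [q5_gz, q5_z] = gp [q5_z, q5_z, q5_z, q5_z, q5_gz] :=
  gp_eq (rep_gp_cons rep_q5_gz (rep_gp_one rep_q5_z) m38) (rep_gp_cons rep_q5_z (rep_gp_cons rep_q5_z (rep_gp_cons rep_q5_z (rep_gp_cons rep_q5_z (rep_gp_one rep_q5_gz) m39) m40) m41) m42)

theorem m43 : (mulB T24 T24 T150 && smallB T150) = true := by decide +kernel

theorem m44 : (mulB T24 T150 idTab && smallB idTab) = true := by decide +kernel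

theorem cA1 : gp [q3_a1, q3_a1, q3_a1] = gp [] :=
  gp_eq (rep_gp_cons rep_q3_a1 (rep_gp_cons rep_q3_a1 (rep_gp_one rep_q3_a1) m43) m44) (rep_gp_nil)

theorem m45 : (mulB T31 T31 T151 && smallB T151) = true := by decide +kernel

theorem m46 : (mulB T31 T151 idTab && smallB idTab) = true := by decide +kernel

theorem cB1 : gp [q3_b1, q3_b1, q3_b1] = gp [] :=
  gp_eq (rep_gp_cons rep_q3_b1 (rep_gp_cons rep_q3_b1 (rep_gp_one rep_q3_b1) m45) m46) (rep_gp_nil)

theorem m47 : (mulB T36 T36 T152 && smallB T152) = true := by decide +kernel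

theorem m48 : (mulB T36 T152 idTab && smallB idTab) = true := by decide +kernel

theorem cA2 : gp [q3_a2, q3_a2, q3_a2] = gp [] :=
  gp_eq (rep_gp_cons rep_q3_a2 (rep_gp_cons rep_q3_a2 (rep_gp_one rep_q3_a2) m47) m48) (rep_gp_nil)

theorem m49 : (mulB T43 T43 T153 && smallB T153) = true := by decide +kernel

theorem m50 : (mulB T43 T153 idTab && smallB idTab) = true := by decide +kernel

theorem cB2 : gp [q3_b2, q3_b2, q3_b2] = gp [] :=
  gp_eq (rep_gp_cons rep_q3_b2 (rep_gp_cons rep_q3_b2 (rep_gp_one rep_q3_b2) m49) m50) (rep_gp_nil)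

theorem m51 : (mulB T50 T50 T154 && smallB T154) = true := by decide +kernel

theorem m52 : (mulB T50 T154 idTab && smallB idTab) = true := by decide +kernel

theorem cZ : gp [q3_z, q3_z, q3_z] = gp [] :=
  gp_eq (rep_gp_cons rep_q3_z (rep_gp_cons rep_q3_z (rep_gp_one rep_q3_z) m51) m52) (rep_gp_nil)

theorem m53 : (mulB T80 T80 T155 && smallB T155) = true := by decide +kernel

theorem m54 : (mulB T80 T155 idTab && smallB idTab) = true := by decide +kernel

theorem cC : gp [q3_c, q3_c, q3_c] = gp [] :=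
  gp_eq (rep_gp_cons rep_q3_c (rep_gp_cons rep_q3_c (rep_gp_one rep_q3_c) m53) m54) (rep_gp_nil)

theorem m55 : (mulB T55 T24 T156 && smallB T156) = true := by decide +kernel

theorem m56 : (mulB T24 T55 T157 && smallB T157) = true := by decide +kernel

theorem m57 : (mulB T24 T157 T156 && smallB T156) = true := by decide +kernel

theorem iA1 : gp [q3_iota, q3_a1] = gp [q3_a1, q3_a1, q3_iota] :=
  gp_eq (rep_gp_cons rep_q3_iota (rep_gp_one rep_q3_a1) m55) (rep_gp_cons rep_q3_a1 (rep_gp_cons rep_q3_a1 (rep_gp_one rep_q3_iota) m56) m57)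

theorem m58 : (mulB T24 T50 T158 && smallB T158) = true := by decide +kernel

theorem m59 : (mulB T50 T24 T158 && smallB T158) = true := by decide +kernel

theorem zA1 : gp [q3_a1, q3_z] = gp [q3_z, q3_a1] :=
  gp_eq (rep_gp_cons rep_q3_a1 (rep_gp_one rep_q3_z) m58) (rep_gp_cons rep_q3_z (rep_gp_one rep_q3_a1) m59)

theorem m60 : (mulB T55 T31 T159 && smallB T159) = true := by decide +kernel

theorem m61 : (mulB T31 T55 T160 && smallB T160) = true := by decide +kernel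

theorem m62 : (mulB T31 T160 T159 && smallB T159) = true := by decide +kernel

theorem iB1 : gp [q3_iota, q3_b1] = gp [q3_b1, q3_b1, q3_iota] :=
  gp_eq (rep_gp_cons rep_q3_iota (rep_gp_one rep_q3_b1) m60) (rep_gp_cons rep_q3_b1 (rep_gp_cons rep_q3_b1 (rep_gp_one rep_q3_iota) m61) m62)

theorem m63 : (mulB T31 T50 T161 && smallB T161) = true := by decide +kernel

theorem m64 : (mulB T50 T31 T161 && smallB T161) = true := by decide +kernel

theorem zB1 : gp [q3_b1, q3_z] = gp [q3_z, q3_b1] :=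
  gp_eq (rep_gp_cons rep_q3_b1 (rep_gp_one rep_q3_z) m63) (rep_gp_cons rep_q3_z (rep_gp_one rep_q3_b1) m64)

theorem m65 : (mulB T55 T36 T162 && smallB T162) = true := by decide +kernel

theorem m66 : (mulB T36 T55 T163 && smallB T163) = true := by decide +kernel

theorem m67 : (mulB T36 T163 T162 && smallB T162) = true := by decide +kernel

theorem iA2 : gp [q3_iota, q3_a2] = gp [q3_a2, q3_a2, q3_iota] :=
  gp_eq (rep_gp_cons rep_q3_iota (rep_gp_one rep_q3_a2) m65) (rep_gp_cons rep_q3_a2 (rep_gp_cons rep_q3_a2 (rep_gp_one rep_q3_iota) m66) m67)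

theorem m68 : (mulB T36 T50 T164 && smallB T164) = true := by decide +kernel

theorem m69 : (mulB T50 T36 T164 && smallB T164) = true := by decide +kernel

theorem zA2 : gp [q3_a2, q3_z] = gp [q3_z, q3_a2] :=
  gp_eq (rep_gp_cons rep_q3_a2 (rep_gp_one rep_q3_z) m68) (rep_gp_cons rep_q3_z (rep_gp_one rep_q3_a2) m69)

theorem m70 : (mulB T55 T43 T165 && smallB T165) = true := by decide +kernel

theorem m71 : (mulB T43 T55 T166 && smallB T166) = true := by decide +kernel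

theorem m72 : (mulB T43 T166 T165 && smallB T165) = true := by decide +kernel

theorem iB2 : gp [q3_iota, q3_b2] = gp [q3_b2, q3_b2, q3_iota] :=
  gp_eq (rep_gp_cons rep_q3_iota (rep_gp_one rep_q3_b2) m70) (rep_gp_cons rep_q3_b2 (rep_gp_cons rep_q3_b2 (rep_gp_one rep_q3_iota) m71) m72)

theorem m73 : (mulB T43 T50 T167 && smallB T167) = true := by decide +kernel

theorem m74 : (mulB T50 T43 T167 && smallB T167) = true := by decide +kernel

theorem zB2 : gp [q3_b2, q3_z] = gp [q3_z, q3_b2] :=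
  gp_eq (rep_gp_cons rep_q3_b2 (rep_gp_one rep_q3_z) m73) (rep_gp_cons rep_q3_z (rep_gp_one rep_q3_b2) m74)

theorem m75 : (mulB T55 T50 T168 && smallB T168) = true := by decide +kernel

theorem m76 : (mulB T50 T55 T168 && smallB T168) = true := by decide +kernel

theorem iZ : gp [q3_iota, q3_z] = gp [q3_z, q3_iota] :=
  gp_eq (rep_gp_cons rep_q3_iota (rep_gp_one rep_q3_z) m75) (rep_gp_cons rep_q3_z (rep_gp_one rep_q3_iota) m76)

theorem m77 : (mulB T55 T80 T169 && smallB T169) = true := by decide +kernel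

theorem m78 : (mulB T80 T55 T169 && smallB T169) = true := by decide +kernel

theorem iC : gp [q3_iota, q3_c] = gp [q3_c, q3_iota] :=
  gp_eq (rep_gp_cons rep_q3_iota (rep_gp_one rep_q3_c) m77) (rep_gp_cons rep_q3_c (rep_gp_one rep_q3_iota) m78)

theorem m79 : (mulB T73 T50 T170 && smallB T170) = true := by decide +kernel

theorem m80 : (mulB T50 T73 T171 && smallB T171) = true := by decide +kernel

theorem m81 : (mulB T50 T171 T170 && smallB T170) = true := by decide +kernel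

theorem gzR : gp [q3_gz, q3_z] = gp [q3_z, q3_z, q3_gz] :=
  gp_eq (rep_gp_cons rep_q3_gz (rep_gp_one rep_q3_z) m79) (rep_gp_cons rep_q3_z (rep_gp_cons rep_q3_z (rep_gp_one rep_q3_gz) m80) m81)

theorem m82 : (mulB T87 T80 T172 && smallB T172) = true := by decide +kernel

theorem m83 : (mulB T80 T87 T173 && smallB T173) = true := by decide +kernel

theorem m84 : (mulB T80 T173 T172 && smallB T172) = true := by decide +kernel

theorem gcR : gp [q3_gc, q3_c] = gp [q3_c, q3_c, q3_gc] :=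
  gp_eq (rep_gp_cons rep_q3_gc (rep_gp_one rep_q3_c) m82) (rep_gp_cons rep_q3_c (rep_gp_cons rep_q3_c (rep_gp_one rep_q3_gc) m83) m84)

theorem m85 : (mulB T60 T24 T174 && smallB T174) = true := by decide +kernel

theorem m86 : (mulB T24 T60 T174 && smallB T174) = true := by decide +kernel

theorem mA1 : gp [q3_gam, q3_a1] = gp [q3_a1, q3_gam] :=
  gp_eq (rep_gp_cons rep_q3_gam (rep_gp_one rep_q3_a1) m85) (rep_gp_cons rep_q3_a1 (rep_gp_one rep_q3_gam) m86)

theorem m87 : (mulB T60 T31 T175 && smallB T175) = true := by decide +kernel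

theorem m88 : (mulB T31 T60 T175 && smallB T175) = true := by decide +kernel

theorem mB1 : gp [q3_gam, q3_b1] = gp [q3_b1, q3_gam] :=
  gp_eq (rep_gp_cons rep_q3_gam (rep_gp_one rep_q3_b1) m87) (rep_gp_cons rep_q3_b1 (rep_gp_one rep_q3_gam) m88)

theorem m89 : (mulB T60 T36 T176 && smallB T176) = true := by decide +kernel

theorem m90 : (mulB T36 T60 T177 && smallB T177) = true := by decide +kernel

theorem m91 : (mulB T36 T177 T176 && smallB T176) = true := by decide +kernel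

theorem mA2 : gp [q3_gam, q3_a2] = gp [q3_a2, q3_a2, q3_gam] :=
  gp_eq (rep_gp_cons rep_q3_gam (rep_gp_one rep_q3_a2) m89) (rep_gp_cons rep_q3_a2 (rep_gp_cons rep_q3_a2 (rep_gp_one rep_q3_gam) m90) m91)

theorem m92 : (mulB T60 T43 T178 && smallB T178) = true := by decide +kernel

theorem m93 : (mulB T43 T60 T179 && smallB T179) = true := by decide +kernel

theorem m94 : (mulB T43 T179 T178 && smallB T178) = true := by decide +kernel

theorem mB2 : gp [q3_gam, q3_b2] = gp [q3_b2, q3_b2, q3_gam] :=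
  gp_eq (rep_gp_cons rep_q3_gam (rep_gp_one rep_q3_b2) m92) (rep_gp_cons rep_q3_b2 (rep_gp_cons rep_q3_b2 (rep_gp_one rep_q3_gam) m93) m94)

theorem m95 : (mulB T24 T36 T180 && smallB T180) = true := by decide +kernel

theorem m96 : (mulB T36 T24 T180 && smallB T180) = true := by decide +kernel

theorem k13 : gp [q3_a1, q3_a2] = gp [q3_a2, q3_a1] :=
  gp_eq (rep_gp_cons rep_q3_a1 (rep_gp_one rep_q3_a2) m95) (rep_gp_cons rep_q3_a2 (rep_gp_one rep_q3_a1) m96)

theorem m97 : (mulB T24 T43 T181 && smallB T181) = true := by decide +kernel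

theorem m98 : (mulB T43 T24 T181 && smallB T181) = true := by decide +kernel

theorem k14 : gp [q3_a1, q3_b2] = gp [q3_b2, q3_a1] :=
  gp_eq (rep_gp_cons rep_q3_a1 (rep_gp_one rep_q3_b2) m97) (rep_gp_cons rep_q3_b2 (rep_gp_one rep_q3_a1) m98)

theorem m99 : (mulB T31 T36 T182 && smallB T182) = true := by decide +kernel

theorem m100 : (mulB T36 T31 T182 && smallB T182) = true := by decide +kernel

theorem k23 : gp [q3_b1, q3_a2] = gp [q3_a2, q3_b1] :=
  gp_eq (rep_gp_cons rep_q3_b1 (rep_gp_one rep_q3_a2) m99) (rep_gp_cons rep_q3_a2 (rep_gp_one rep_q3_b1) m100)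

theorem m101 : (mulB T31 T43 T183 && smallB T183) = true := by decide +kernel

theorem m102 : (mulB T43 T31 T183 && smallB T183) = true := by decide +kernel

theorem k24 : gp [q3_b1, q3_b2] = gp [q3_b2, q3_b1] :=
  gp_eq (rep_gp_cons rep_q3_b1 (rep_gp_one rep_q3_b2) m101) (rep_gp_cons rep_q3_b2 (rep_gp_one rep_q3_b1) m102)

theorem m103 : (mulB T31 T24 T184 && smallB T184) = true := by decide +kernel

theorem m104 : (mulB T24 T31 T185 && smallB T185) = true := by decide +kernel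

theorem m105 : (mulB T50 T185 T184 && smallB T184) = true := by decide +kernel

theorem hba : gp [q3_b1, q3_a1] = gp [q3_z, q3_a1, q3_b1] :=
  gp_eq (rep_gp_cons rep_q3_b1 (rep_gp_one rep_q3_a1) m103) (rep_gp_cons rep_q3_z (rep_gp_cons rep_q3_a1 (rep_gp_one rep_q3_b1) m104) m105)

theorem m106 : (mulB T67 T24 T186 && smallB T186) = true := by decide +kernel

theorem m107 : (mulB T36 T67 T186 && smallB T186) = true := by decide +kernel

theorem gA : gp [q3_g, q3_a1] = gp [q3_a2, q3_g] :=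
  gp_eq (rep_gp_cons rep_q3_g (rep_gp_one rep_q3_a1) m106) (rep_gp_cons rep_q3_a2 (rep_gp_one rep_q3_g) m107)

theorem m108 : (mulB T67 T31 T187 && smallB T187) = true := by decide +kernel

theorem m109 : (mulB T43 T67 T187 && smallB T187) = true := by decide +kernel

theorem gB : gp [q3_g, q3_b1] = gp [q3_b2, q3_g] :=
  gp_eq (rep_gp_cons rep_q3_g (rep_gp_one rep_q3_b1) m108) (rep_gp_cons rep_q3_b2 (rep_gp_one rep_q3_g) m109)

theorem m110 : (mulB T67 T50 T188 && smallB T188) = true := by decide +kernel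

theorem m111 : (mulB T50 T67 T188 && smallB T188) = true := by decide +kernel

theorem gZ : gp [q3_g, q3_z] = gp [q3_z, q3_g] :=
  gp_eq (rep_gp_cons rep_q3_g (rep_gp_one rep_q3_z) m110) (rep_gp_cons rep_q3_z (rep_gp_one rep_q3_g) m111)

theorem m112 : (mulB T67 T67 T189 && smallB T189) = true := by decide +kernel

theorem m113 : (mulB T67 T189 T190 && smallB T190) = true := by decide +kernel

theorem m114 : (mulB T67 T190 T55 && smallB T55) = true := by decide +kernel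

theorem m115 : (mulB T67 T55 T191 && smallB T191) = true := by decide +kernel

theorem m116 : (mulB T67 T191 T192 && smallB T192) = true := by decide +kernel

theorem m117 : (mulB T67 T192 T193 && smallB T193) = true := by decide +kernel

theorem m118 : (mulB T67 T193 idTab && smallB idTab) = true := by decide +kernel

theorem gord : gp [q3_g, q3_g, q3_g, q3_g, q3_g, q3_g, q3_g, q3_g] = gp [] :=
  gp_eq (rep_gp_cons rep_q3_g (rep_gp_cons rep_q3_g (rep_gp_cons rep_q3_g (rep_gp_cons rep_q3_g (rep_gp_cons rep_q3_g (rep_gp_cons rep_q3_g (rep_gp_cons rep_q3_g (rep_gp_one rep_q3_g) m112) m113) m114) m115) m116) m117) m118) (rep_gp_nil)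

theorem m119 : (mulB T80 T24 T194 && smallB T194) = true := by decide +kernel

theorem m120 : (mulB T43 T80 T195 && smallB T195) = true := by decide +kernel

theorem m121 : (mulB T43 T195 T196 && smallB T196) = true := by decide +kernel

theorem m122 : (mulB T36 T196 T197 && smallB T197) = true := by decide +kernel

theorem m123 : (mulB T36 T197 T198 && smallB T198) = true := by decide +kernel

theorem m124 : (mulB T31 T198 T199 && smallB T199) = true := by decide +kernel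

theorem m125 : (mulB T24 T199 T200 && smallB T200) = true := by decide +kernel

theorem m126 : (mulB T24 T200 T194 && smallB T194) = true := by decide +kernel

theorem cim_0 : gp [q3_c, q3_a1] = gp [q3_a1, q3_a1, q3_b1, q3_a2, q3_a2, q3_b2, q3_b2, q3_c] :=
  gp_eq (rep_gp_cons rep_q3_c (rep_gp_one rep_q3_a1) m119) (rep_gp_cons rep_q3_a1 (rep_gp_cons rep_q3_a1 (rep_gp_cons rep_q3_b1 (rep_gp_cons rep_q3_a2 (rep_gp_cons rep_q3_a2 (rep_gp_cons rep_q3_b2 (rep_gp_cons rep_q3_b2 (rep_gp_one rep_q3_c) m120) m121) m122) m123) m124) m125) m126)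

theorem m127 : (mulB T80 T31 T201 && smallB T201) = true := by decide +kernel

theorem m128 : (mulB T24 T195 T201 && smallB T201) = true := by decide +kernel

theorem cim_1 : gp [q3_c, q3_b1] = gp [q3_a1, q3_b2, q3_c] :=
  gp_eq (rep_gp_cons rep_q3_c (rep_gp_one rep_q3_b1) m127) (rep_gp_cons rep_q3_a1 (rep_gp_cons rep_q3_b2 (rep_gp_one rep_q3_c) m120) m128)

theorem m129 : (mulB T80 T36 T202 && smallB T202) = true := by decide +kernel

theorem m130 : (mulB T36 T195 T203 && smallB T203) = true := by decide +kernel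

theorem m131 : (mulB T36 T203 T204 && smallB T204) = true := by decide +kernel

theorem m132 : (mulB T31 T204 T205 && smallB T205) = true := by decide +kernel

theorem m133 : (mulB T31 T205 T206 && smallB T206) = true := by decide +kernel

theorem m134 : (mulB T24 T206 T207 && smallB T207) = true := by decide +kernel

theorem m135 : (mulB T24 T207 T202 && smallB T202) = true := by decide +kernel

theorem cim_2 : gp [q3_c, q3_a2] = gp [q3_a1, q3_a1, q3_b1, q3_b1, q3_a2, q3_a2, q3_b2, q3_c] :=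
  gp_eq (rep_gp_cons rep_q3_c (rep_gp_one rep_q3_a2) m129) (rep_gp_cons rep_q3_a1 (rep_gp_cons rep_q3_a1 (rep_gp_cons rep_q3_b1 (rep_gp_cons rep_q3_b1 (rep_gp_cons rep_q3_a2 (rep_gp_cons rep_q3_a2 (rep_gp_cons rep_q3_b2 (rep_gp_one rep_q3_c) m120) m130) m131) m132) m133) m134) m135)

theorem m136 : (mulB T80 T43 T208 && smallB T208) = true := by decide +kernel

theorem m137 : (mulB T36 T80 T209 && smallB T209) = true := by decide +kernel

theorem m138 : (mulB T31 T209 T208 && smallB T208) = true := by decide +kernel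

theorem cim_3 : gp [q3_c, q3_b2] = gp [q3_b1, q3_a2, q3_c] :=
  gp_eq (rep_gp_cons rep_q3_c (rep_gp_one rep_q3_b2) m136) (rep_gp_cons rep_q3_b1 (rep_gp_cons rep_q3_a2 (rep_gp_one rep_q3_c) m137) m138)

/-- Data. -/
def orb_z : List (List ℤ) := [[0, -4, 0, 0, 0, 0, 0, 0, 0, 0, 0, 0, 0, 0, 0, 0, 0, 0, 0, 0, 0, 0, 0, 4]]

theorem short_z : ∀ v ∈ orb_z, vecOf v ∈ leechLattice ∧ sqNorm (vecOf v) = 32 :=
  shortB_spec (by decide +kernel)

theorem notMem_z : q3_z.g ∉ Subgroup.closure (∅ : Set ↥co2G) :=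
  not_mem_of_orbit short_z (fun g h => h.elim) rep_q3_z (w := [1, 1, 1, -1, 1, -1, 1, -1, 1, -1, -1, -1, -1, -1, 1, -1, -1, -1, -1, -1, 1, -1, -1, 3]) (by decide +kernel)

/-- Data. -/
def orb_a1 : List (List ℤ) := [[0, -4, 0, 0, 0, 0, 0, 0, 0, 0, 0, 0, 0, 0, 0, 0, 0, 0, 0, 0, 0, 0, 0, 4],
  [1, 1, 1, -1, 1, -1, 1, -1, 1, -1, -1, -1, -1, -1, 1, -1, -1, -1, -1, -1, 1, -1, -1, 3],
  [2, 0, 0, 0, -2, 0, 0, 0, -2, 0, -2, 0, -2, 0, 0, 0, 0, 0, 0, 0, -2, 0, -2, 2]]

theorem short_a1 : ∀ v ∈ orb_a1, vecOf v ∈ leechLattice ∧ sqNorm (vecOf v) = 32 :=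
  shortB_spec (by decide +kernel)

theorem keep_a1_0 : Keeps orb_a1 q3_z.g :=
  keeps_of_keepB rep_q3_z short_a1 (im := [1, 2, 0]) (by decide +kernel)

theorem notMem_a1 : q3_a1.g ∉ Subgroup.closure ({q3_z.g} : Set ↥co2G) :=
  not_mem_of_orbit short_a1 (by rintro g (rfl); exacts [keep_a1_0]) rep_q3_a1 (w := [1, -1, 1, -1, 1, 1, -1, 1, -1, -1, -1, -1, -1, 1, 1, -1, -1, -1, -1, -1, -1, 1, -1, 3]) (by decide +kernel)

/-- Data. -/
def orb_a2 : List (List ℤ) := [[1, -1, -1, -1, -1, 1, -1, -1, -1, 1, 1, 1, -1, -1, -1, -1, -1, -1, -1, 1, 1, -1, 1, 3],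
  [1, 1, -1, -1, 1, -1, -1, -1, 1, -1, -1, -1, 1, 1, -1, -1, -1, -1, -1, 1, -1, 1, -1, 3],
  [2, 0, -2, 0, 0, -2, 0, 0, -2, 0, 0, 0, 0, -2, 0, 0, 0, 0, 0, -2, -2, 0, 0, 2]]

theorem short_a2 : ∀ v ∈ orb_a2, vecOf v ∈ leechLattice ∧ sqNorm (vecOf v) = 32 :=
  shortB_spec (by decide +kernel)

theorem keep_a2_0 : Keeps orb_a2 q3_a1.g :=
  keeps_of_keepB rep_q3_a1 short_a2 (im := [1, 2, 0]) (by decide +kernel)

theorem keep_a2_1 : Keeps orb_a2 q3_z.g :=
  keeps_of_keepB rep_q3_z short_a2 (im := [1, 2, 0]) (by decide +kernel)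

theorem notMem_a2 : q3_a2.g ∉ Subgroup.closure ({q3_a1.g, q3_z.g} : Set ↥co2G) :=
  not_mem_of_orbit short_a2 (by rintro g (rfl | rfl); exacts [keep_a2_0, keep_a2_1]) rep_q3_a2 (w := [1, 1, -1, -1, 1, -1, -1, 1, -1, 1, -1, -1, -1, -1, -1, -1, -1, -1, -1, -1, 1, 1, 1, 3]) (by decide +kernel)

/-- Data. -/
def orb_b1 : List (List ℤ) := [[2, 0, 0, 0, 0, 0, 0, 2, 2, 0, 0, 0, 0, -2, 0, 0, 0, 0, -2, 0, 0, -2, -2, 2],
  [2, -2, 0, 0, 0, 2, 0, 0, 0, -2, 0, -2, 0, -2, 0, 0, 0, 0, 0, 0, 0, 2, 0, 2],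
  [2, 0, 0, 2, 0, 0, 0, 0, 0, -2, -2, 2, -2, 0, -2, 0, 0, 0, 0, 0, 0, 0, 0, 2]]

theorem short_b1 : ∀ v ∈ orb_b1, vecOf v ∈ leechLattice ∧ sqNorm (vecOf v) = 32 :=
  shortB_spec (by decide +kernel)

theorem keep_b1_0 : Keeps orb_b1 q3_a2.g :=
  keeps_of_keepB rep_q3_a2 short_b1 (im := [1, 2, 0]) (by decide +kernel)

theorem keep_b1_1 : Keeps orb_b1 q3_a1.g :=
  keeps_of_keepB rep_q3_a1 short_b1 (im := [0, 1, 2]) (by decide +kernel)

theorem keep_b1_2 : Keeps orb_b1 q3_z.g :=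
  keeps_of_keepB rep_q3_z short_b1 (im := [2, 0, 1]) (by decide +kernel)

theorem notMem_b1 : q3_b1.g ∉ Subgroup.closure ({q3_a2.g, q3_a1.g, q3_z.g} : Set ↥co2G) :=
  not_mem_of_orbit short_b1 (by rintro g (rfl | rfl | rfl); exacts [keep_b1_0, keep_b1_1, keep_b1_2]) rep_q3_b1 (w := [2, 0, -2, 0, 0, 2, 0, 2, 0, -2, 0, 0, -2, 0, 0, 0, 0, 0, 0, 0, 0, 0, -2, 2]) (by decide +kernel)

/-- Data. -/
def orb_b2 : List (List ℤ) := [[0, 0, 0, 0, 0, 0, 0, 0, 0, 0, 0, 0, 0, 0, 0, 0, -4, 0, 0, 0, 0, 0, 0, 4],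
  [0, 0, 0, 0, 0, 0, 0, 0, 0, 0, 0, 0, 0, 0, 0, -4, 0, 0, 0, 0, 0, 0, 0, 4],
  [2, 0, 0, 0, 0, -2, 0, 0, 0, 0, 0, -2, -2, 0, 0, -2, 0, -2, 0, 0, -2, 0, 0, 2],
  [1, -1, -1, 1, -1, -1, 1, 1, -1, 1, -1, -1, 1, 1, -1, -1, -1, -1, -1, -1, -1, 1, -1, 3],
  [1, -1, -1, -1, -1, -1, 1, -1, 1, -1, 1, 1, -1, -1, 1, -1, -1, -1, 1, -1, -1, -1, 1, 3],
  [1, 1, -1, -1, -1, -1, 1, -1, 1, 1, -1, -1, -1, -1, -1, 1, -1, -1, 1, -1, -1, 1, -1, 3],
  [1, -1, -1, -1, -1, 1, 1, -1, -1, 1, -1, 1, 1, -1, -1, -1, 1, -1, 1, -1, -1, -1, -1, 3],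
  [2, -2, 0, 0, 0, 0, 0, 0, -2, 0, 0, 0, 0, 0, 0, 0, -2, -2, 0, 0, -2, -2, 0, 2],
  [1, 1, 1, -1, 1, 1, -1, -1, -1, 1, -1, -1, -1, -1, -1, -1, -1, -1, 1, 1, -1, -1, -1, 3]]

theorem short_b2 : ∀ v ∈ orb_b2, vecOf v ∈ leechLattice ∧ sqNorm (vecOf v) = 32 :=
  shortB_spec (by decide +kernel)

theorem keep_b2_0 : Keeps orb_b2 q3_b1.g :=
  keeps_of_keepB rep_q3_b1 short_b2 (im := [1, 4, 5, 6, 0, 8, 7, 3, 2]) (by decide +kernel)

theorem keep_b2_1 : Keeps orb_b2 q3_a2.g :=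
  keeps_of_keepB rep_q3_a2 short_b2 (im := [2, 5, 6, 4, 8, 7, 0, 1, 3]) (by decide +kernel)

theorem keep_b2_2 : Keeps orb_b2 q3_a1.g :=
  keeps_of_keepB rep_q3_a1 short_b2 (im := [3, 2, 4, 7, 1, 6, 8, 0, 5]) (by decide +kernel)

theorem keep_b2_3 : Keeps orb_b2 q3_z.g :=
  keeps_of_keepB rep_q3_z short_b2 (im := [2, 5, 6, 4, 8, 7, 0, 1, 3]) (by decide +kernel)

theorem notMem_b2 : q3_b2.g ∉ Subgroup.closure ({q3_b1.g, q3_a2.g, q3_a1.g, q3_z.g} : Set ↥co2G) :=
  not_mem_of_orbit short_b2 (by rintro g (rfl | rfl | rfl | rfl); exacts [keep_b2_0, keep_b2_1, keep_b2_2, keep_b2_3]) rep_q3_b2 (w := [2, 0, 0, -2, -2, 0, 0, 0, 0, 0, -2, 0, 0, 0, 0, -2, -2, -2, 0, 0, 0, 0, 0, 2]) (by decide +kernel)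

/-- Data. -/
def orb_c : List (List ℤ) := [[1, 1, -1, -1, -1, -1, -1, -1, -1, 1, 1, -1, 1, 1, -1, -1, -1, -1, 1, -1, -1, -1, 1, 3]]

theorem short_c : ∀ v ∈ orb_c, vecOf v ∈ leechLattice ∧ sqNorm (vecOf v) = 32 :=
  shortB_spec (by decide +kernel)

theorem keep_c_0 : Keeps orb_c q3_b2.g :=
  keeps_of_keepB rep_q3_b2 short_c (im := [0]) (by decide +kernel)

theorem keep_c_1 : Keeps orb_c q3_b1.g :=
  keeps_of_keepB rep_q3_b1 short_c (im := [0]) (by decide +kernel)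

theorem keep_c_2 : Keeps orb_c q3_a2.g :=
  keeps_of_keepB rep_q3_a2 short_c (im := [0]) (by decide +kernel)

theorem keep_c_3 : Keeps orb_c q3_a1.g :=
  keeps_of_keepB rep_q3_a1 short_c (im := [0]) (by decide +kernel)

theorem keep_c_4 : Keeps orb_c q3_z.g :=
  keeps_of_keepB rep_q3_z short_c (im := [0]) (by decide +kernel)

theorem notMem_c : q3_c.g ∉ Subgroup.closure ({q3_b2.g, q3_b1.g, q3_a2.g, q3_a1.g, q3_z.g} : Set ↥co2G) :=
  not_mem_of_orbit short_c (by rintro g (rfl | rfl | rfl | rfl | rfl); exacts [keep_c_0, keep_c_1, keep_c_2, keep_c_3, keep_c_4]) rep_q3_c (w := [1, -1, 1, 1, -1, 1, 1, 1, 1, -1, -1, -1, -1, -1, -1, -1, -1, -1, 1, -1, -1, -1, -1, 3]) (by decide +kernel)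

/-- Data. -/
def orb_z5 : List (List ℤ) := [[0, -4, 0, 0, 0, 0, 0, 0, 0, 0, 0, 0, 0, 0, 0, 0, 0, 0, 0, 0, 0, 0, 0, 4]]

theorem short_z5 : ∀ v ∈ orb_z5, vecOf v ∈ leechLattice ∧ sqNorm (vecOf v) = 32 :=
  shortB_spec (by decide +kernel)

theorem notMem_z5 : q5_z.g ∉ Subgroup.closure (∅ : Set ↥co2G) :=
  not_mem_of_orbit short_z5 (fun g h => h.elim) rep_q5_z (w := [2, 0, -2, 0, 0, -2, 0, 0, 0, 0, 0, 0, 0, 0, 0, -2, -2, 0, -2, 0, 0, -2, 0, 2]) (by decide +kernel)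

/-- Data. -/
def orb_a5 : List (List ℤ) := [[0, -4, 0, 0, 0, 0, 0, 0, 0, 0, 0, 0, 0, 0, 0, 0, 0, 0, 0, 0, 0, 0, 0, 4],
  [2, 0, -2, 0, 0, -2, 0, 0, 0, 0, 0, 0, 0, 0, 0, -2, -2, 0, -2, 0, 0, -2, 0, 2],
  [2, 0, 0, -2, 0, 0, 0, 0, 0, -2, -2, -2, -2, 0, -2, 0, 0, 0, 0, 0, 0, 0, 0, 2],
  [1, 1, 1, -1, -1, -1, -1, -1, -1, 1, -1, -1, 1, -1, 1, -1, 1, -1, -1, -1, -1, 1, -1, 3],
  [1, 1, -1, 1, -1, 1, -1, -1, -1, -1, 1, 1, -1, -1, -1, 1, -1, -1, 1, -1, -1, -1, -1, 3]]

theorem short_a5 : ∀ v ∈ orb_a5, vecOf v ∈ leechLattice ∧ sqNorm (vecOf v) = 32 :=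
  shortB_spec (by decide +kernel)

theorem keep_a5_0 : Keeps orb_a5 q5_z.g :=
  keeps_of_keepB rep_q5_z short_a5 (im := [1, 2, 3, 4, 0]) (by decide +kernel)

theorem notMem_a5 : q5_a.g ∉ Subgroup.closure ({q5_z.g} : Set ↥co2G) :=
  not_mem_of_orbit short_a5 (by rintro g (rfl); exacts [keep_a5_0]) rep_q5_a (w := [1, -1, -1, 1, -1, 1, -1, 1, -1, -1, -1, -1, 1, -1, 1, 1, 1, -1, -1, -1, -1, -1, -1, 3]) (by decide +kernel)

/-- Data. -/
def orb_b5 : List (List ℤ) := [[1, -1, -1, -1, -1, -1, 1, -1, -1, -1, -1, -1, 1, -1, -1, 1, 1, 1, -1, 1, -1, 1, -1, 3],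
  [1, -1, -1, -1, -1, 1, 1, 1, -1, -1, -1, 1, -1, -1, -1, 1, -1, -1, -1, -1, -1, 1, 1, 3],
  [1, 1, -1, -1, -1, -1, -1, -1, -1, 1, 1, -1, 1, 1, -1, -1, -1, -1, 1, -1, -1, -1, 1, 3],
  [2, 0, -2, 0, 0, 0, 0, 0, 0, -2, 0, -2, 0, 0, 0, 0, -2, -2, 0, -2, 0, 0, 0, 2],
  [2, -2, 0, 0, -2, -2, 0, -2, -2, 0, 0, 0, 0, 0, 0, -2, 0, 0, 0, 0, 0, 0, 0, 2]]

theorem short_b5 : ∀ v ∈ orb_b5, vecOf v ∈ leechLattice ∧ sqNorm (vecOf v) = 32 :=
  shortB_spec (by decide +kernel)

theorem keep_b5_0 : Keeps orb_b5 q5_a.g :=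
  keeps_of_keepB rep_q5_a short_b5 (im := [1, 3, 4, 2, 0]) (by decide +kernel)

theorem keep_b5_1 : Keeps orb_b5 q5_z.g :=
  keeps_of_keepB rep_q5_z short_b5 (im := [2, 4, 1, 0, 3]) (by decide +kernel)

theorem notMem_b5 : q5_b.g ∉ Subgroup.closure ({q5_a.g, q5_z.g} : Set ↥co2G) :=
  not_mem_of_orbit short_b5 (by rintro g (rfl | rfl); exacts [keep_b5_0, keep_b5_1]) rep_q5_b (w := [2, 0, -2, -2, -2, 0, 0, 0, -2, -2, 0, 0, 0, 0, 0, 0, 0, 0, 0, 0, 0, -2, 0, 2]) (by decide +kernel)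

end

end Cfsg.Agent.LeechCount.Co2Mult
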