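import Cfsg.Agent.Lib.LeechCount.Co2Mult.Base

/-!
No stem extension of the stabiliser of a minimal vector has kernel of order two.
-/

set_option autoImplicit false
set_option maxRecDepth 20000

namespace Cfsg.Agent.LeechCount.Co2Mult

open Cfsg Cfsg.Agent.Leech Cfsg.Agent.Golay24 Cfsg.Agent.SchurSplit MulAction
open Cfsg.Agent.LeechCount.Co3Out (ext_e8)

noncomputable section

attribute [local irreducible] normFS

/-- A basis mask. -/
def bas (i : ℕ) : ℕ := basis2.getD i 0

/-- The sum of a list of basis masks. -/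
def xr (l : List ℕ) : ℕ := l.foldr (fun i r => bas i ^^^ r) 0

/-- The sum of a list of masks. -/
def xs (l : List ℕ) : ℕ := l.foldr (fun o r => o ^^^ r) 0

/-- The group of sign changes. -/
abbrev VS : Subgroup ↥co2G := Subgroup.closure {g | ∃ i < 10, g = sgM (bas i)}

/-- A mask of the group of sign changes. -/
def Mem (m : ℕ) : Prop := okM m = true ∧ sgM m ∈ VS

theorem bas_ok : ∀ i < 10, okM (bas i) = true := by decide +kernel

theorem mem_bas {i : ℕ} (h : i < 10) : Mem (bas i) :=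
  ⟨bas_ok i h, Subgroup.subset_closure ⟨i, h, rfl⟩⟩

theorem mem_zero : Mem 0 := ⟨sgM_zero.1, by rw [sgM_zero.2]; exact one_mem _⟩

theorem Mem.xor {a b : ℕ} (ha : Mem a) (hb : Mem b) : Mem (a ^^^ b) :=
  ⟨(sgM_mul ha.1 hb.1).1, (sgM_mul ha.1 hb.1).2 ▸ mul_mem ha.2 hb.2⟩

theorem mem_xr : ∀ {l : List ℕ}, (∀ i ∈ l, i < 10) → Mem (xr l)
  | [], _ => mem_zero
  | i :: l, h => (mem_bas (h i List.mem_cons_self)).xor
      (mem_xr fun j hj => h j (List.mem_cons_of_mem _ hj))

theorem sgM_sq {m : ℕ} (h : okM m = true) : sgM m * sgM m = 1 := by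
  rw [(sgM_mul h h).2, Nat.xor_self, sgM_zero.2]

theorem VS_elim {g : ↥co2G} (hg : g ∈ VS) : ∃ m, Mem m ∧ g = sgM m := by
  induction hg using Subgroup.closure_induction with
  | mem x hx => obtain ⟨i, hi, rfl⟩ := hx; exact ⟨_, mem_bas hi, rfl⟩
  | one => exact ⟨0, mem_zero, sgM_zero.2.symm⟩
  | mul x y _ _ hx hy =>
    obtain ⟨a, ha, rfl⟩ := hx; obtain ⟨b, hb, rfl⟩ := hy
    exact ⟨_, ha.xor hb, (sgM_mul ha.1 hb.1).2⟩
  | inv x _ hx =>
    obtain ⟨a, ha, rfl⟩ := hx
    exact ⟨a, ha, inv_eq_of_mul_eq_one_right (sgM_sq ha.1)⟩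

/-- The three generators, by number. -/
def gN (n : ℕ) : ℕ := if n = 1 then m22Out.b else if n = 2 then m22Out.c else m22Out.a

theorem gN_ok (n : ℕ) : inH22 (gN n) = true := by
  have h : inH22 m22Out.a = true ∧ inH22 m22Out.b = true ∧ inH22 m22Out.c = true := by decide +kernel
  unfold gN; split_ifs <;> simp [h]

/-- The element of the point stabiliser. -/
abbrev gE (n : ℕ) : ↥co2G := j22 (m22El (gN n) (gN_ok n))

theorem act_check : ∀ n < 3, ∀ i < 10, ((actI.getD n []).getD i []).all (fun k => Nat.blt k 10) = true ∧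
    img (gN n) (bas i) = xr ((actI.getD n []).getD i []) := by decide +kernel

theorem gN_cases (n : ℕ) : ∃ k < 3, gN n = gN k := by
  rcases eq_or_ne n 1 with rfl | h1
  · exact ⟨1, by norm_num, rfl⟩
  rcases eq_or_ne n 2 with rfl | h2
  · exact ⟨2, by norm_num, rfl⟩
  exact ⟨0, by norm_num, by simp [gN, h1, h2]⟩

theorem mem_img_bas (n : ℕ) {i : ℕ} (hi : i < 10) : Mem (img (gN n) (bas i)) := by
  obtain ⟨k, hk, e⟩ := gN_cases n
  obtain ⟨h1, h2⟩ := act_check k hk i hi
  rw [e, h2]
  simp only [List.all_eq_true, Nat.blt_eq] at h1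
  exact mem_xr h1

theorem gE_VS (n : ℕ) {g : ↥co2G} (hg : g ∈ VS) : gE n * g * (gE n)⁻¹ ∈ VS := by
  induction hg using Subgroup.closure_induction with
  | mem x hx =>
    obtain ⟨i, hi, rfl⟩ := hx
    rw [(sgM_conj (bas_ok i hi) (gN_ok n)).2, mul_inv_cancel_right]
    exact (mem_img_bas n hi).2
  | one => simp
  | mul x y _ _ hx hy =>
    rw [show gE n * (x * y) * (gE n)⁻¹ = (gE n * x * (gE n)⁻¹) * (gE n * y * (gE n)⁻¹) by group]
    exact mul_mem hx hy
  | inv x _ hx =>
    rw [show gE n * x⁻¹ * (gE n)⁻¹ = (gE n * x * (gE n)⁻¹)⁻¹ by group]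
    exact inv_mem hx

theorem Mem.img {m : ℕ} (hm : Mem m) (n : ℕ) : Mem (Golay24.img (gN n) m) := by
  obtain ⟨h1, h2⟩ := sgM_conj hm.1 (gN_ok n)
  refine ⟨h1, ?_⟩
  have := gE_VS n hm.2
  rwa [h2, mul_inv_cancel_right] at this

/-- Points of a word: the masks met at the second and third letters, and the final one. -/
def pts : List ℕ → ℕ → ℕ × ℕ × ℕ
  | [], m => (0, 0, m)
  | n :: l, m =>
    let r := pts l m
    ((if n = 1 then r.1 ^^^ r.2.2 else r.1), (if n = 2 then r.2.1 ^^^ r.2.2 else r.2.1), img (gN n) r.2.2)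

/-- The packed value of a word. -/
def wP (l : List ℕ) : ℕ := l.foldr (fun n r => compP (gN n) r) idP

theorem wP_cons (n : ℕ) (l : List ℕ) : wP (n :: l) = compP (gN n) (wP l) := by
  rw [wP, List.foldr_cons]
  rfl

theorem wP_nil : wP [] = idP := by rw [wP, List.foldr_nil]

theorem wP_spec (l : List ℕ) : validP (wP l) = true ∧
    (((l.map fun n => m22El (gN n) (gN_ok n)).prod : ↥Spor.M22) : Equiv.Perm GolayPt) = toPerm (wP l) := by
  induction l with
  | nil =>
    rw [wP_nil, List.map_nil, List.prod_nil, OneMemClass.coe_one, toPerm_idP]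
    exact ⟨idP_spec.1, rfl⟩
  | cons n l ih =>
    obtain ⟨h1, h2⟩ := ih
    have hg : validP (gN n) = true := by
      have := gN_ok n
      simp only [inH22, Bool.and_eq_true] at this
      exact valid_of_inM24 this.1.1
    rw [wP_cons]
    refine ⟨validP_compP hg h1, ?_⟩
    rw [List.map_cons, List.prod_cons, Subgroup.coe_mul, h2, toPerm_compP hg h1]
    rfl

theorem items_check : itemI.all (fun q => isIdP (wP q.1) && q.2.all fun k => Nat.blt k 10) = true := by
  decide +kernel

/-- The points of an item. -/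
def itemPts (k : ℕ) : ℕ × ℕ × ℕ := pts (itemI.getD k ([], [])).1 (xr (itemI.getD k ([], [])).2)

/-- Sum of the points met at one letter over a combination. -/
def combB (c : List ℕ) : ℕ := c.foldr (fun k r => (itemPts k).1 ^^^ r) 0

/-- Sum of the points met at the other letter over a combination. -/
def combC (c : List ℕ) : ℕ := c.foldr (fun k r => (itemPts k).2.1 ^^^ r) 0

theorem combs_check : ∀ i < 10,
    ((relCombs.getD 0 []).getD i []).all (fun k => Nat.blt k itemI.length) = true ∧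
    combB ((relCombs.getD 0 []).getD i []) = bas i ∧ combC ((relCombs.getD 0 []).getD i []) = 0 ∧
    ((relCombs.getD 1 []).getD i []).all (fun k => Nat.blt k itemI.length) = true ∧
    combB ((relCombs.getD 1 []).getD i []) = 0 ∧ combC ((relCombs.getD 1 []).getD i []) = bas i := by
  decide +kernel

theorem octs_check : octsP.all (fun q => okM q.1 && inH22 q.2 && img q.2 oct0 == q.1) = true ∧
    okM oct0 = true := by decide +kernel

theorem pairs_check : ∀ i < 10, (octsP.map Prod.fst).contains (bas i) = true ∧ ∀ j < 10,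
    ((pairsM.getD i []).getD j []).all (fun o => (octsP.map Prod.fst).contains o &&
      (o == bas i || (octsP.map Prod.fst).contains (bas i ^^^ o))) = true ∧
    xs ((pairsM.getD i []).getD j []) = bas j := by decide +kernel

theorem span_check : ∀ i < 10, (spanI.getD i []).all (fun k => Nat.blt k 10) = true ∧
    img (gN 0) (xr (spanI.getD i [])) ^^^ xr (spanI.getD i []) = bas i := by decide +kernel

theorem ech_check : echI.length = 10 ∧ ∀ i < 10, ((echI.getD i ([], 0)).1).all (fun k => Nat.blt k 10) = true ∧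
    Nat.blt (echI.getD i ([], 0)).2 24 = true ∧
    (xr (echI.getD i ([], 0)).1).testBit (echI.getD i ([], 0)).2 = true ∧
    ∀ j < i, (xr (echI.getD j ([], 0)).1).testBit (echI.getD i ([], 0)).2 = false := by decide +kernel

theorem ap_sgM {m : ℕ} (h : okM m = true) (i : GolayPt) :
    ap (sgM m : ↥Co0) (e8 i) = if i ∈ Golay24.setOf m then -e8 i else e8 i := by
  rw [sgM_val h]
  funext j
  rw [ap_signCo _ (e8_mem i)]
  by_cases hji : j = i
  · subst hji; split_ifs <;> rfl
  · have : e8 i j = 0 := by simp [e8, hji]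
    split_ifs <;> simp [this]

theorem card_VS : 1024 ≤ Nat.card ↥VS := by
  obtain ⟨hlen, hech⟩ := ech_check
  let K : ℕ → Subgroup ↥co2G := fun n => Subgroup.closure {g | ∃ j < n, g = sgM (xr (echI.getD j ([], 0)).1)}
  have hmem : ∀ j < 10, Mem (xr (echI.getD j ([], 0)).1) := fun j hj => by
    have := (hech j hj).1
    simp only [List.all_eq_true, Nat.blt_eq] at this
    exact mem_xr this
  have step : ∀ n, n ≤ 10 → 2 ^ n ≤ Nat.card (K n) := by
    intro n hn
    induction n with
    | zero => exact Nat.card_pos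
    | succ n ih =>
      obtain ⟨-, hlt, hb, hlow⟩ := hech n hn
      rw [Nat.blt_eq] at hlt
      have hok := (hmem n hn).1
      have hnot : sgM (xr (echI.getD n ([], 0)).1) ∉ K n := by
        intro hmemK
        have key : ∀ g ∈ K n, ap (g : ↥Co0) (e8 (ptN (echI.getD n ([], 0)).2)) =
            e8 (ptN (echI.getD n ([], 0)).2) := by
          intro g hg
          induction hg using Subgroup.closure_induction with
          | mem x hx =>
            obtain ⟨j, hj, rfl⟩ := hx
            rw [ap_sgM (hmem j (by omega)).1, if_neg]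
            rw [mem_setOf, idx_ptN hlt, hlow j hj]
            simp
          | one => exact ap_one _
          | mul x y _ _ hx hy => rw [Subgroup.coe_mul, ap_mul _ _ (e8_mem _), hy, hx]
          | inv x _ hx =>
            rw [Subgroup.coe_inv]
            conv_lhs => rw [← hx]
            exact ap_inv_ap _ (e8_mem _)
        have h := key _ hmemK
        rw [ap_sgM hok, if_pos (by rw [mem_setOf, idx_ptN hlt, hb])] at h
        have h' := congrFun h (ptN (echI.getD n ([], 0)).2)
        simp [e8] at h'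
      have h := card_le_mul (K := K (n + 1))
        (show K n ≤ K (n + 1) by
          apply Subgroup.closure_mono
          rintro g ⟨j, hj, e⟩
          exact ⟨j, by omega, e⟩)
        (show sgM (xr (echI.getD n ([], 0)).1) ∈ K (n + 1) from Subgroup.subset_closure ⟨n, by omega, rfl⟩)
        Nat.prime_two (by rw [pow_two]; exact sgM_sq hok) hnot
      rw [pow_succ]
      exact le_trans (Nat.mul_le_mul_right 2 (ih (by omega))) h
  refine le_trans (step 10 le_rfl) (Subgroup.card_le_of_le ?_)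
  rw [Subgroup.closure_le]
  rintro g ⟨j, hj, rfl⟩
  exact (hmem j hj).2

/-- The involution exchanging the two points. -/
abbrev tS : ↥co2G := pT.g

theorem out_check : inM24 out0 = true ∧ app out0 23 = 0 ∧ app out0 0 = 23 ∧
    (∀ i < 10, okM (img out0 (bas i)) = true ∧ (actT.getD i []).all (fun k => Nat.blt k 10) = true ∧
      img out0 (bas i) = xr (actT.getD i [])) ∧
    pT.p = out0 ∧ pT.sg = 0 ∧ pS.p = sig0 ∧ pS.sg = 0 ∧ sO.sg = oct0 ∧ sO.p = idP ∧ inH22 sig0 = true := by
  decide +kernel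

theorem co_perm {p q : ℕ} (h : inM24 p = true) : El.co ⟨[], 0, p, q⟩ = permCo (toPerm p) (toPerm_mem_M24 h) := by
  have h0 : inCode (maskOf (Golay24.setOf 0)) = true := by decide +kernel
  rw [co_mono h0 h]
  have : signCo (Golay24.setOf 0) (inC_of h0) = 1 := by
    rw [← sgM_val sgM_zero.1, sgM_zero.2]; rfl
  rw [this, one_mul]

theorem tS_val : (tS : ↥Co0) = permCo (toPerm out0) (toPerm_mem_M24 out_check.1) := by
  obtain ⟨hM, -, -, -, hp, hsg, -⟩ := out_check
  have e : pT = ⟨[], 0, out0, pT.q⟩ := by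
    cases hh : pT with
    | mk l s p q =>
      have hl : pT.labs = [] := rfl
      rw [hh] at hl hp hsg
      simp only at hl hp hsg
      subst hl hp hsg
      rfl
  have hco : pT.co = permCo (toPerm out0) (toPerm_mem_M24 out_check.1) :=
    (congrArg El.co e).trans (co_perm hM)
  show (pT.g : ↥Co0) = _
  rw [El.g_val ?_, hco]
  rw [LeechCount.mem_co2G, hco]
  funext i
  rw [ap_permCo _ vecU_mem]
  revert i
  have hv := valid_of_inM24 hM
  have hb : ∀ i, Spor.vecU (appPt out0 i) = Spor.vecU i := by decide +kernel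
  intro i
  have := hb ((toPerm out0).symm i)
  rw [← toPerm_apply hv, Equiv.apply_symm_apply] at this
  exact this.symm

theorem tS_conj_sgM {i : ℕ} (hi : i < 10) : tS * sgM (bas i) * tS⁻¹ ∈ VS := by
  obtain ⟨hM, -, -, hall, -⟩ := out_check
  obtain ⟨hok, hlt, he⟩ := hall i hi
  simp only [List.all_eq_true, Nat.blt_eq] at hlt
  have hv := valid_of_inM24 hM
  have himg : Golay24.setOf (img out0 (bas i)) = (Golay24.setOf (bas i)).image (toPerm out0) := by
    open Pointwise in rw [← smul_setOf hv (bas i)]; rfl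
  have h : tS * sgM (bas i) = sgM (img out0 (bas i)) * tS := by
    apply Subtype.ext
    rw [Subgroup.coe_mul, Subgroup.coe_mul, sgM_val (bas_ok i hi), sgM_val hok, tS_val]
    refine ext_ap fun x hx => funext fun j => ?_
    rw [ap_mul _ _ hx, ap_mul _ _ hx, ap_permCo _ (ap_mem _ hx), ap_signCo (okM_spec (bas_ok i hi)).1 hx,
      ap_signCo (okM_spec hok).1 (ap_mem _ hx), ap_permCo _ hx]
    have e : j ∈ Golay24.setOf (img out0 (bas i)) ↔ (toPerm out0).symm j ∈ Golay24.setOf (bas i) := by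
      rw [himg]
      constructor
      · intro h
        obtain ⟨z, hz, rfl⟩ := Finset.mem_image.1 h
        rwa [Equiv.symm_apply_apply]
      · intro h
        exact Finset.mem_image.2 ⟨_, h, Equiv.apply_symm_apply _ j⟩
    by_cases h : (toPerm out0).symm j ∈ Golay24.setOf (bas i)
    · simp [h, e.2 h]
    · have h' := mt e.1 h
      simp [h, h']
  rw [h, mul_inv_cancel_right, he]
  exact (mem_xr hlt).2

theorem tS_conj_P22 {g : ↥co2G} (hg : g ∈ P22) : tS * g * tS⁻¹ ∈ P22 := by
  obtain ⟨hM, h23, h0, -⟩ := out_check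
  obtain ⟨σ, rfl⟩ := hg
  have hv := valid_of_inM24 hM
  have e1 : toPerm out0 none = some 0 :=
    idx_inj.1 (Fin.ext (by rw [idx_toPerm hv, idx_twentyThree, h23, idx_zero]))
  have e2 : toPerm out0 (some 0) = none :=
    idx_inj.1 (Fin.ext (by rw [idx_toPerm hv, idx_zero, h0, idx_twentyThree]))
  have e1' : (toPerm out0)⁻¹ none = some 0 := (Equiv.symm_apply_eq _).2 e2.symm
  have e2' : (toPerm out0)⁻¹ (some 0) = none := (Equiv.symm_apply_eq _).2 e1.symm
  have hmem : toPerm out0 * σ.1 * (toPerm out0)⁻¹ ∈ Spor.M22 := by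
    refine ⟨⟨Subgroup.mul_mem M24 (Subgroup.mul_mem M24 (toPerm_mem_M24 hM) (M22_le σ.2))
      (Subgroup.inv_mem M24 (toPerm_mem_M24 hM)), ?_⟩, ?_⟩
    · show (toPerm out0 * σ.1 * (toPerm out0)⁻¹) none = none
      rw [Equiv.Perm.mul_apply, Equiv.Perm.mul_apply, e1', show σ.1 (some 0) = some 0 from σ.2.2, e2]
    · show (toPerm out0 * σ.1 * (toPerm out0)⁻¹) (some 0) = some 0
      rw [Equiv.Perm.mul_apply, Equiv.Perm.mul_apply, e2', show σ.1 none = none from σ.2.1.2, e1]
  refine ⟨⟨_, hmem⟩, Subtype.ext ?_⟩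
  rw [Subgroup.coe_mul, Subgroup.coe_mul, Subgroup.coe_inv, tS_val]
  show Co3Out.permHom24 ⟨_, M22_le hmem⟩ = Co3Out.permHom24 ⟨toPerm out0, toPerm_mem_M24 hM⟩ *
    Co3Out.permHom24 ⟨σ.1, M22_le σ.2⟩ * (Co3Out.permHom24 ⟨toPerm out0, toPerm_mem_M24 hM⟩)⁻¹
  rw [← map_inv, ← map_mul, ← map_mul]
  rfl

variable {E : Type} [Group E] [Finite E] {π : E →* ↥co2G}

theorem good_octs (hs : Function.Surjective π) (hc : π.ker ≤ Subgroup.center E) (hk : ∀ v ∈ π.ker, v * v = 1)
    {T : Subgroup E} (hTk : ∀ x ∈ T, π x = 1 → x = 1) (hT : T.map π = P22) :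
    (∀ o ∈ octsP.map Prod.fst, Good π (sgM o)) ∧ Good π tS := by
  obtain ⟨-, -, -, -, -, -, hpS, hsgS, hsgO, hpO, hin⟩ := out_check
  have hpSg : pS.g = j22 (m22El sig0 hin) := by
    have e : pS = ⟨[], 0, sig0, pS.q⟩ := by
      cases hh : pS with
      | mk l s p q =>
        have hl : pS.labs = [] := rfl
        rw [hh] at hl hpS hsgS
        simp only at hl hpS hsgS
        subst hl hpS hsgS
        rfl
    have hM : inM24 sig0 = true := by
      have := hin; simp only [inH22, Bool.and_eq_true] at this; exact this.1.1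
    have hco : pS.co = (j22 (m22El sig0 hin) : ↥Co0) := by rw [e, co_perm hM]; rfl
    apply Subtype.ext
    rw [El.g_val ?_, hco]
    rw [hco]; exact (j22 _).2
  have hS : Good π pS.g := by
    refine good_of_split hc hk hTk (by rw [hT, hpSg]; exact ⟨_, rfl⟩) ?_
    have := pS_sq
    simpa [gp_cons, gp_nil] using this
  have hO : sO.g = sgM oct0 := by
    have e : sO = ⟨[], oct0, idP, sO.q⟩ := by
      cases hh : sO with
      | mk l s p q =>
        have hl : sO.labs = [] := rfl
        rw [hh] at hl hpO hsgO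
        simp only at hl hpO hsgO
        subst hl hpO hsgO
        rfl
    have h' : inCode (maskOf (Golay24.setOf oct0)) = true := by
      have := octs_check.2; simp only [okM, Bool.and_eq_true] at this; exact this.1.1
    have hco : sO.co = (sgM oct0 : ↥Co0) := by
      rw [e, co_sign h' idP_inM24 toPerm_idP, sgM_val octs_check.2]
    apply Subtype.ext
    rw [El.g_val ?_, hco]
    rw [hco]; exact (sgM oct0).2
  have hsO : Good π sO.g := by
    refine good_conj hs hS (g := g1E.g⁻¹) ?_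
    have := g1_rel
    simp only [gp_cons, gp_nil, mul_one] at this
    rw [inv_mul_eq_iff_eq_mul, ← mul_assoc, this, mul_inv_cancel_right]
  refine ⟨fun o ho => ?_, ?_⟩
  · obtain ⟨q, hq, rfl⟩ := List.mem_map.1 ho
    have h := octs_check.1
    simp only [List.all_eq_true, Bool.and_eq_true, beq_iff_eq] at h
    obtain ⟨⟨-, hg⟩, he⟩ := h q hq
    refine good_conj hs (hO ▸ hsO) (g := j22 (m22El q.2 hg)) ?_
    rw [(sgM_conj octs_check.2 hg).2, he]
  · refine good_conj hs hS (g := g2E.g) ?_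
    have := g2_rel
    simpa [gp_cons, gp_nil] using this

theorem noExt_two : NoExt ↥co2G 2 := by
  intro E _ _ π hs hc hcard hd
  classical
  have hk : ∀ v ∈ π.ker, v * v = 1 := fun v hv => by
    have := pow_card_eq_one' (x := (⟨v, hv⟩ : π.ker))
    rw [hcard, sq] at this
    simpa [Subtype.ext_iff] using this
  obtain ⟨hLmap, hLk⟩ := P22_split hs hc hcard
  obtain ⟨L, hLdef⟩ : ∃ L, ⁅P22.comap π, P22.comap π⁆ = L := ⟨_, rfl⟩
  rw [hLdef] at hLmap hLk
  obtain ⟨hgood, hgt⟩ := good_octs hs hc hk hLk hLmap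
  let sec : ↥co2G → E := Function.surjInv hs
  have hsec : ∀ g, π (sec g) = g := Function.surjInv_eq hs
  -- the preimage of the sign changes is commutative
  have key : ∀ i < 10, ∀ l : List ℕ,
      (∀ o ∈ l, o ∈ octsP.map Prod.fst ∧ (o = bas i ∨ bas i ^^^ o ∈ octsP.map Prod.fst)) →
      okM (xs l) = true ∧
      ∀ x y : E, π x = sgM (bas i) → π y = sgM (xs l) → x * y = y * x := by
    intro i hi l
    induction l with
    | nil => exact fun _ => ⟨sgM_zero.1, fun x y _ hy => cen_of hc (by rw [hy]; exact sgM_zero.2) x⟩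
    | cons o l ih =>
      intro h
      obtain ⟨hl, ihc⟩ := ih fun a ha => h a (List.mem_cons_of_mem _ ha)
      obtain ⟨ho, hor⟩ := h o List.mem_cons_self
      have hok : okM o = true := by
        obtain ⟨q, hq, rfl⟩ := List.mem_map.1 ho
        have h := octs_check.1
        simp only [List.all_eq_true, Bool.and_eq_true] at h
        exact (h q hq).1.1
      have hmul := sgM_mul hok hl
      refine ⟨hmul.1, fun x y hx hy => ?_⟩
      obtain ⟨w, hw⟩ := hs (sgM o)
      have h1 : x * w = w * x := by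
        rcases hor with rfl | hor
        · obtain ⟨k, hk'⟩ : ∃ k, x⁻¹ * w = k := ⟨_, rfl⟩
          have hk1 : π k = 1 := by rw [← hk', map_mul, map_inv, hx, hw, inv_mul_cancel]
          rw [show w = x * k by rw [← hk', mul_inv_cancel_left], mul_assoc x k x, ← cen_of hc hk1 x]
        · refine comm_of_good (hgood _ (List.mem_map.2 ?_)) (hgood o ho) ?_ hx hw
          · obtain ⟨q, hq, e⟩ := List.mem_map.1
              (show bas i ∈ octsP.map Prod.fst from List.contains_iff_mem.1 (pairs_check i hi).1)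
            exact ⟨q, hq, e⟩
          · rw [(sgM_mul (bas_ok i hi) hok).2]; exact hgood _ hor
      have h2 : x * (w⁻¹ * y) = (w⁻¹ * y) * x := ihc x (w⁻¹ * y) hx (by
        rw [map_mul, map_inv, hw, hy, show xs (o :: l) = o ^^^ xs l from rfl, ← hmul.2, inv_mul_cancel_left])
      calc x * y = (x * w) * (w⁻¹ * y) := by group
        _ = w * (x * (w⁻¹ * y)) := by rw [h1, mul_assoc]
        _ = y * x := by rw [h2]; group
  let S0 : Set E := {y | (∃ i < 10, π y = sgM (bas i)) ∨ π y = 1}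
  have hS0 : ∀ a ∈ S0, ∀ b ∈ S0, a * b = b * a := by
    rintro a (⟨i, hi, ha⟩ | ha) b hb
    · rcases hb with ⟨j, hj, hb⟩ | hb
      · obtain ⟨h1, h2⟩ := (pairs_check i hi).2 j hj
        simp only [List.all_eq_true, Bool.and_eq_true, Bool.or_eq_true, beq_iff_eq, List.contains_iff_mem] at h1
        exact (key i hi _ h1).2 a b ha (by rw [h2, hb])
      · exact cen_of hc hb a
    · exact (cen_of hc ha b).symm
  have hWS : VS.comap π ≤ Subgroup.closure S0 := by
    intro x hx
    have hmapS : VS ≤ (Subgroup.closure S0).map π := by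
      rw [MonoidHom.map_closure, Subgroup.closure_le]
      rintro g ⟨i, hi, rfl⟩
      exact Subgroup.subset_closure ⟨sec (sgM (bas i)), Or.inl ⟨i, hi, hsec _⟩, hsec _⟩
    obtain ⟨s, hs', he⟩ := hmapS hx
    rw [show x = s * (s⁻¹ * x) by group]
    exact mul_mem hs' (Subgroup.subset_closure (Or.inr (by rw [map_mul, map_inv, he, inv_mul_cancel])))
  have hcomm : ∀ a ∈ VS.comap π, ∀ b ∈ VS.comap π, a * b = b * a := by
    have h1 : Subgroup.closure S0 ≤ Subgroup.centralizer S0 := by
      rw [Subgroup.closure_le]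
      exact fun a ha => Subgroup.mem_centralizer_iff.2 fun b hb => hS0 b hb a ha
    have h2 : Subgroup.closure S0 ≤ Subgroup.centralizer (Subgroup.closure S0 : Set E) := by
      rw [Subgroup.closure_le]
      exact fun a ha => Subgroup.mem_centralizer_iff.2 fun b hb =>
        (Subgroup.mem_centralizer_iff.1 (h1 hb) a ha).symm
    exact fun a ha b hb => Subgroup.mem_centralizer_iff.1 (h2 (hWS hb)) a (hWS ha)
  -- lifts of the generators
  have hy : ∀ n, ∃ y ∈ L, π y = gE n := fun n => by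
    have h : gE n ∈ L.map π := by rw [hLmap]; exact ⟨_, rfl⟩
    obtain ⟨y, hy, e⟩ := h
    exact ⟨y, hy, e⟩
  choose yN hyL hyπ using hy
  have hconjVS : ∀ n, ∀ u, π u ∈ VS → π (yN n * u * (yN n)⁻¹) ∈ VS := fun n u hu => by
    rw [map_mul, map_mul, map_inv, hyπ]; exact gE_VS n hu
  -- the complement
  let φ : ↥VS →* E := MonoidHom.mk' (fun v => yN 0 * sec v.1 * (yN 0)⁻¹ * (sec v.1)⁻¹) (by
    intro u v
    have hu : sec u.1 ∈ VS.comap π := Subgroup.mem_comap.2 (by rw [hsec]; exact u.2)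
    have hv : sec v.1 ∈ VS.comap π := Subgroup.mem_comap.2 (by rw [hsec]; exact v.2)
    have hq : yN 0 * sec v.1 * (yN 0)⁻¹ * (sec v.1)⁻¹ ∈ VS.comap π :=
      mul_mem (Subgroup.mem_comap.2 (hconjVS 0 _ hv)) (inv_mem hv)
    show yN 0 * sec (u * v : ↥VS).1 * (yN 0)⁻¹ * (sec (u * v : ↥VS).1)⁻¹ = _
    rw [comm_central hc (a := sec (u * v : ↥VS).1) (b := yN 0) (a' := sec u.1 * sec v.1) (b' := yN 0)
      (by rw [map_mul, hsec, hsec, hsec]; rfl) rfl]
    calc yN 0 * (sec u.1 * sec v.1) * (yN 0)⁻¹ * (sec u.1 * sec v.1)⁻¹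
        = (yN 0 * sec u.1 * (yN 0)⁻¹) * ((yN 0 * sec v.1 * (yN 0)⁻¹ * (sec v.1)⁻¹) * (sec u.1)⁻¹) := by group
      _ = (yN 0 * sec u.1 * (yN 0)⁻¹) * ((sec u.1)⁻¹ * (yN 0 * sec v.1 * (yN 0)⁻¹ * (sec v.1)⁻¹)) := by
          rw [hcomm _ hq _ (inv_mem hu)]
      _ = _ := by group)
  let E' : Subgroup E := φ.range
  have hlift : ∀ u, π u ∈ VS → yN 0 * u * (yN 0)⁻¹ * u⁻¹ ∈ E' := fun u hu => by
    refine ⟨⟨π u, hu⟩, ?_⟩
    exact comm_central hc (a := sec (π u)) (b := yN 0) (a' := u) (b' := yN 0) (hsec _) rfl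
  have hEV : E'.map π = VS := by
    apply le_antisymm
    · rintro _ ⟨_, ⟨v, rfl⟩, rfl⟩
      show π (yN 0 * sec v.1 * (yN 0)⁻¹ * (sec v.1)⁻¹) ∈ VS
      rw [map_mul, map_inv, hsec]
      exact mul_mem (hconjVS 0 _ (by rw [hsec]; exact v.2)) (inv_mem v.2)
    · rw [Subgroup.closure_le]
      rintro g ⟨i, hi, rfl⟩
      obtain ⟨h1, h2⟩ := span_check i hi
      simp only [List.all_eq_true, Nat.blt_eq] at h1
      have hm := mem_xr h1
      obtain ⟨h3, h4⟩ := sgM_conj hm.1 (gN_ok 0)
      refine ⟨_, hlift (sec (sgM (xr (spanI.getD i [])))) (by rw [hsec]; exact hm.2), ?_⟩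
      rw [map_mul, map_mul, map_mul, map_inv, map_inv, hyπ, hsec, h4, mul_inv_cancel_right,
        inv_eq_of_mul_eq_one_right (sgM_sq hm.1), (sgM_mul h3 hm.1).2, h2]
  have hEk : ∀ x ∈ E', π x = 1 → x = 1 := by
    refine ker_free E' ?_
    rw [hEV]
    exact Nat.card_le_card_of_surjective φ.rangeRestrict φ.rangeRestrict_surjective
  have huniq : ∀ a ∈ E', ∀ b ∈ E', π a = π b → a = b := fun a ha b hb h => by
    have := hEk (a⁻¹ * b) (E'.mul_mem (E'.inv_mem ha) hb) (by rw [map_mul, map_inv, h, inv_mul_cancel])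
    exact inv_mul_eq_one.1 this
  -- the section
  have hs' : ∀ m, ∃ e, Mem m → e ∈ E' ∧ π e = sgM m := fun m => by
    by_cases h : Mem m
    · have h' : sgM m ∈ E'.map π := by rw [hEV]; exact h.2
      obtain ⟨e, he, e'⟩ := h'
      exact ⟨e, fun _ => ⟨he, e'⟩⟩
    · exact ⟨1, fun h' => absurd h' h⟩
  choose s hsp using hs'
  have smul' : ∀ a b, Mem a → Mem b → s (a ^^^ b) = s a * s b := fun a b ha hb =>
    huniq _ (hsp _ (ha.xor hb)).1 _ (E'.mul_mem (hsp a ha).1 (hsp b hb).1)
      (by rw [(hsp _ (ha.xor hb)).2, map_mul, (hsp a ha).2, (hsp b hb).2, (sgM_mul ha.1 hb.1).2])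
  let D : ℕ → ℕ → E := fun n m => yN n * s m * (yN n)⁻¹ * (s (img (gN n) m))⁻¹
  have hD : ∀ n m, Mem m → π (D n m) = 1 := fun n m hm => by
    simp only [D]
    rw [map_mul, map_mul, map_mul, map_inv, map_inv, hyπ, (hsp m hm).2, (hsp _ (hm.img n)).2,
      (sgM_conj hm.1 (gN_ok n)).2, mul_inv_cancel_right, mul_inv_cancel]
  have himgx : ∀ n a b, Mem a → Mem b → img (gN n) (a ^^^ b) = img (gN n) a ^^^ img (gN n) b := by
    intro n a b _ _
    apply Nat.eq_of_testBit_eq
    intro j
    have hv : validP (gN n) = true := by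
      have := gN_ok n
      simp only [inH22, Bool.and_eq_true] at this
      exact valid_of_inM24 this.1.1
    have hinj : ∀ i k : Fin 24, app (gN n) i = app (gN n) k → i = k := fun i k h => by
      have := (toPerm (gN n)).injective (a₁ := pt i) (a₂ := pt k)
        (idx_inj.1 (Fin.ext (by rw [idx_toPerm hv, idx_toPerm hv, idx_pt, idx_pt]; exact h)))
      exact ptEquiv.symm.injective this
    rw [Nat.testBit_xor, Bool.eq_iff_iff, testBit_img]
    by_cases hj : ∃ i : Fin 24, app (gN n) i = j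
    · obtain ⟨i, hi⟩ := hj
      have hone : ∀ c : ℕ, (img (gN n) c).testBit j = c.testBit i := fun c => by
        rw [Bool.eq_iff_iff, testBit_img]
        exact ⟨fun ⟨k, h1, h2⟩ => hinj k i (h2.trans hi.symm) ▸ h1, fun h => ⟨i, h, hi⟩⟩
      rw [hone, hone, ← Nat.testBit_xor]
      exact ⟨fun ⟨k, h1, h2⟩ => hinj k i (h2.trans hi.symm) ▸ h1, fun h => ⟨i, h, hi⟩⟩
    · have hnone : ∀ c : ℕ, (img (gN n) c).testBit j = false := fun c => by
        rw [Bool.eq_false_iff]
        intro h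
        obtain ⟨k, -, h2⟩ := (testBit_img _ _ _).1 h
        exact hj ⟨k, h2⟩
      rw [hnone, hnone]
      simp only [bne_self_eq_false, Bool.false_eq_true, iff_false]
      rintro ⟨k, -, h2⟩
      exact hj ⟨k, h2⟩
  have Dmul : ∀ n a b, Mem a → Mem b → D n (a ^^^ b) = D n a * D n b := by
    intro n a b ha hb
    simp only [D]
    rw [himgx n a b ha hb, smul' a b ha hb, smul' _ _ (ha.img n) (hb.img n)]
    have hcb := cen_of hc (hD n b hb) ((s (img (gN n) a))⁻¹)
    simp only [D] at hcb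
    calc yN n * (s a * s b) * (yN n)⁻¹ * (s (img (gN n) a) * s (img (gN n) b))⁻¹
        = (yN n * s a * (yN n)⁻¹) *
            ((yN n * s b * (yN n)⁻¹ * (s (img (gN n) b))⁻¹) * (s (img (gN n) a))⁻¹) := by group
      _ = _ := by rw [← hcb]; group
  have Dzero : ∀ n, D n 0 = 1 := fun n => by
    have := Dmul n 0 0 mem_zero mem_zero
    rw [Nat.xor_zero] at this
    exact mul_eq_left.1 this.symm
  have hAnorm : ∀ m, Mem m → yN 0 * s m * (yN 0)⁻¹ = s (img (gN 0) m) := by
    intro m hm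
    refine huniq _ ?_ _ (hsp _ (hm.img 0)).1 (by
      have := hD 0 m hm
      simp only [D] at this
      rw [map_mul, map_inv, mul_inv_eq_one] at this
      exact this)
    obtain ⟨v, hv⟩ := (hsp m hm).1
    rw [← hv]
    show yN 0 * (yN 0 * sec v.1 * (yN 0)⁻¹ * (sec v.1)⁻¹) * (yN 0)⁻¹ ∈ E'
    rw [show yN 0 * (yN 0 * sec v.1 * (yN 0)⁻¹ * (sec v.1)⁻¹) * (yN 0)⁻¹ =
      yN 0 * (yN 0 * sec v.1 * (yN 0)⁻¹) * (yN 0)⁻¹ * (yN 0 * sec v.1 * (yN 0)⁻¹)⁻¹ by group]
    exact hlift _ (hconjVS 0 _ (by rw [hsec]; exact v.2))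
  have hD0 : ∀ n, n ≠ 1 → n ≠ 2 → ∀ m, Mem m → yN n * s m * (yN n)⁻¹ = s (img (gN n) m) := by
    intro n h1 h2 m hm
    have e : gN n = gN 0 := by simp [gN, h1, h2]
    have e' : π (yN n) = π (yN 0) := by rw [hyπ, hyπ]; simp only [gE, e]
    rw [conj_central hc e' (s m), hAnorm m hm, e]
  have walk : ∀ (l : List ℕ) (m : ℕ), Mem m →
      Mem (pts l m).1 ∧ Mem (pts l m).2.1 ∧ Mem (pts l m).2.2 ∧
      (l.map yN).prod * s m * (l.map yN).prod⁻¹ = s (pts l m).2.2 * D 1 (pts l m).1 * D 2 (pts l m).2.1 := by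
    intro l m hm
    induction l with
    | nil => exact ⟨mem_zero, mem_zero, hm, by simp [pts, Dzero]⟩
    | cons n l ih =>
      obtain ⟨hB, hC, hE, heq⟩ := ih
      have c1 := cen_of hc (hD 1 _ hB)
      have c2 := cen_of hc (hD 2 _ hC)
      have base : ((n :: l).map yN).prod * s m * ((n :: l).map yN).prod⁻¹ =
          (yN n * s (pts l m).2.2 * (yN n)⁻¹) * D 1 (pts l m).1 * D 2 (pts l m).2.1 := by
        rw [List.map_cons, List.prod_cons, mul_inv_rev,
          show yN n * (l.map yN).prod * s m * ((l.map yN).prod⁻¹ * (yN n)⁻¹) =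
            yN n * ((l.map yN).prod * s m * (l.map yN).prod⁻¹) * (yN n)⁻¹ by group, heq]
        generalize D 1 (pts l m).1 = d1 at c1
        generalize D 2 (pts l m).2.1 = d2 at c2
        calc yN n * (s (pts l m).2.2 * d1 * d2) * (yN n)⁻¹
            = yN n * s (pts l m).2.2 * (d1 * (d2 * (yN n)⁻¹)) := by group
          _ = yN n * s (pts l m).2.2 * (d1 * ((yN n)⁻¹ * d2)) := by rw [c2]
          _ = yN n * s (pts l m).2.2 * ((d1 * (yN n)⁻¹) * d2) := by group
          _ = _ := by rw [← c1]; group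
      rcases eq_or_ne n 1 with rfl | h1
      · refine ⟨by simpa [pts] using hB.xor hE, by simpa [pts] using hC, by simpa [pts] using hE.img 1, ?_⟩
        rw [base]
        simp only [pts, if_pos, show ((1 : ℕ) = 2) = False by simp, if_false]
        rw [Dmul 1 _ _ hB hE]
        have cD := cen_of hc (hD 1 _ hE)
        simp only [D] at cD ⊢
        rw [c1 (yN 1 * s (pts l m).2.2 * (yN 1)⁻¹ * (s (img (gN 1) (pts l m).2.2))⁻¹) |>.symm]
        generalize yN 1 * s (pts l m).2.2 * (yN 1)⁻¹ = Y at cD ⊢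
        generalize s (img (gN 1) (pts l m).2.2) = S at cD ⊢
        rw [← mul_assoc S, cD S, inv_mul_cancel_right]
      rcases eq_or_ne n 2 with rfl | h2
      · refine ⟨by simpa [pts] using hB, by simpa [pts] using hC.xor hE, by simpa [pts] using hE.img 2, ?_⟩
        rw [base]
        simp only [pts, if_pos, show ((2 : ℕ) = 1) = False by simp, if_false]
        rw [Dmul 2 _ _ hC hE]
        have cD := cen_of hc (hD 2 _ hE)
        have cd : D 2 (pts l m).2.1 * D 2 (pts l m).2.2 = D 2 (pts l m).2.2 * D 2 (pts l m).2.1 :=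
          (c2 _).symm
        rw [cd]
        simp only [D] at cD c1 ⊢
        generalize yN 1 * s (pts l m).1 * (yN 1)⁻¹ * (s (img (gN 1) (pts l m).1))⁻¹ = d1 at c1
        generalize yN 2 * s (pts l m).2.2 * (yN 2)⁻¹ = Y at cD ⊢
        generalize s (img (gN 2) (pts l m).2.2) = S at cD ⊢
        rw [← mul_assoc (S * d1), mul_assoc S d1, ← c1 (Y * S⁻¹), ← mul_assoc S, cD S, inv_mul_cancel_right]
      · refine ⟨by simpa [pts, h1] using hB, by simpa [pts, h2] using hC, by simpa [pts] using hE.img n, ?_⟩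
        rw [base, hD0 n h1 h2 _ hE]
        simp only [pts, if_neg h1, if_neg h2]
  have hitem : ∀ k, k < itemI.length →
      D 1 (itemPts k).1 * D 2 (itemPts k).2.1 = 1 ∧ Mem (itemPts k).1 ∧ Mem (itemPts k).2.1 := by
    intro k hk'
    have hit := items_check
    simp only [List.all_eq_true, Bool.and_eq_true, Nat.blt_eq] at hit
    obtain ⟨hid, hlt⟩ := hit (itemI.getD k ([], [])) (by
      rw [List.getD_eq_getElem _ _ hk']; exact List.getElem_mem _)
    unfold itemPts
    generalize (itemI.getD k ([], [])).1 = l at hid ⊢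
    have hm := mem_xr hlt
    generalize xr (itemI.getD k ([], [])).2 = m at hm ⊢
    obtain ⟨hB, hC, hE, heq⟩ := walk l m hm
    obtain ⟨hv, hp⟩ := wP_spec l
    have hone : (l.map fun n => m22El (gN n) (gN_ok n)).prod = 1 :=
      Subtype.ext (hp.trans (toPerm_eq_one_of_isIdP hv hid))
    have hπ : π (l.map yN).prod = 1 := by
      rw [map_list_prod, List.map_map, show (⇑π ∘ yN) = fun n => j22 (m22El (gN n) (gN_ok n)) from funext hyπ]
      have := congrArg j22 hone
      rw [map_list_prod, List.map_map, map_one] at this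
      exact this
    have hprod : (l.map yN).prod = 1 := hLk _ (list_prod_mem fun x hx => by
      obtain ⟨n, -, rfl⟩ := List.mem_map.1 hx; exact hyL n) hπ
    rw [hprod, one_mul, inv_one, mul_one, mul_assoc] at heq
    have hsE : s m = s (pts l m).2.2 :=
      huniq _ (hsp m hm).1 _ (hsp _ hE).1 (by
        have := congrArg π heq
        rwa [map_mul, map_mul, hD 1 _ hB, hD 2 _ hC, one_mul, mul_one] at this)
    exact ⟨mul_eq_left.1 (hsE ▸ heq).symm, hB, hC⟩
  have hcomb : ∀ c : List ℕ, (∀ k ∈ c, k < itemI.length) →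
      Mem (combB c) ∧ Mem (combC c) ∧ D 1 (combB c) * D 2 (combC c) = 1 := by
    intro c
    induction c with
    | nil => exact fun _ => ⟨mem_zero, mem_zero, by simp [combB, combC, Dzero]⟩
    | cons k c ih =>
      intro h
      obtain ⟨h1, h2, h3⟩ := ih fun a ha => h a (List.mem_cons_of_mem _ ha)
      obtain ⟨e, hB, hC⟩ := hitem k (h k List.mem_cons_self)
      refine ⟨hB.xor h1, hC.xor h2, ?_⟩
      show D 1 ((itemPts k).1 ^^^ combB c) * D 2 ((itemPts k).2.1 ^^^ combC c) = 1
      rw [Dmul 1 _ _ hB h1, Dmul 2 _ _ hC h2]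
      calc D 1 (itemPts k).1 * D 1 (combB c) * (D 2 (itemPts k).2.1 * D 2 (combC c))
          = D 1 (itemPts k).1 * (D 1 (combB c) * D 2 (itemPts k).2.1) * D 2 (combC c) := by group
        _ = D 1 (itemPts k).1 * (D 2 (itemPts k).2.1 * D 1 (combB c)) * D 2 (combC c) := by
            rw [cen_of hc (hD 2 _ hC)]
        _ = (D 1 (itemPts k).1 * D 2 (itemPts k).2.1) * (D 1 (combB c) * D 2 (combC c)) := by group
        _ = 1 := by rw [e, h3, one_mul]
  have hDb : ∀ n, ∀ i < 10, yN n * s (bas i) * (yN n)⁻¹ ∈ E' := by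
    intro n i hi
    obtain ⟨a1, a2, a3, a4, a5, a6⟩ := combs_check i hi
    simp only [List.all_eq_true, Nat.blt_eq] at a1 a4
    have hone : yN n * s (bas i) * (yN n)⁻¹ = s (img (gN n) (bas i)) := by
      rcases eq_or_ne n 1 with rfl | h1
      · have := (hcomb _ a1).2.2
        rw [a2, a3, Dzero, mul_one] at this
        exact mul_inv_eq_one.1 this
      rcases eq_or_ne n 2 with rfl | h2
      · have := (hcomb _ a4).2.2
        rw [a5, a6, Dzero, one_mul] at this
        exact mul_inv_eq_one.1 this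
      · exact hD0 n h1 h2 _ (mem_bas hi)
    rw [hone]
    exact (hsp _ ((mem_bas hi).img n)).1
  have hEgen : E' = Subgroup.closure {e | ∃ i < 10, e = s (bas i)} := by
    apply le_antisymm
    · intro x hx
      have h' : π x ∈ (Subgroup.closure {e | ∃ i < 10, e = s (bas i)}).map π := by
        have : π x ∈ VS := hEV ▸ ⟨x, hx, rfl⟩
        refine Subgroup.closure_le _ |>.2 ?_ this
        rintro g ⟨i, hi, rfl⟩
        exact ⟨_, Subgroup.subset_closure ⟨i, hi, rfl⟩, (hsp _ (mem_bas hi)).2⟩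
      obtain ⟨y, hy', e⟩ := h'
      have hyE : y ∈ E' := by
        refine Subgroup.closure_le _ |>.2 ?_ hy'
        rintro g ⟨i, hi, rfl⟩
        exact (hsp _ (mem_bas hi)).1
      rw [← huniq y hyE x hx e]
      exact hy'
    · rw [Subgroup.closure_le]
      rintro g ⟨i, hi, rfl⟩
      exact (hsp _ (mem_bas hi)).1
  have hyNE : ∀ n, yN n ∈ Subgroup.normalizer (E' : Set E) := fun n => by
    rw [hEgen]
    refine mem_normalizer_closure _ _ ?_
    rintro x ⟨i, hi, rfl⟩
    rw [← hEgen]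
    exact hDb n i hi
  have hLN : L ≤ Subgroup.normalizer (E' : Set E) := by
    intro x hx
    have hπx : π x ∈ (Subgroup.closure {y | ∃ n, y = yN n}).map π := by
      have h' : π x ∈ P22 := hLmap ▸ ⟨x, hx, rfl⟩
      obtain ⟨σ, hσ⟩ := h'
      rw [← hσ]
      have hle : Subgroup.closure {m22OutHyp.A, m22OutHyp.B, m22OutHyp.C} ≤
          ((Subgroup.closure {y | ∃ n, y = yN n}).map π).comap j22 := by
        rw [Subgroup.closure_le]
        rintro g (rfl | rfl | rfl)
        exacts [⟨yN 0, Subgroup.subset_closure ⟨0, rfl⟩, hyπ 0⟩, ⟨yN 1, Subgroup.subset_closure ⟨1, rfl⟩, hyπ 1⟩,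
          ⟨yN 2, Subgroup.subset_closure ⟨2, rfl⟩, hyπ 2⟩]
      exact hle (by rw [m22OutHyp.gen_top]; trivial)
    obtain ⟨y, hy', e⟩ := hπx
    have hyL' : y ∈ L := Subgroup.closure_le _ |>.2 (by rintro g ⟨n, rfl⟩; exact hyL n) hy'
    have : y = x := inv_mul_eq_one.1 (hLk (y⁻¹ * x) (L.mul_mem (L.inv_mem hyL') hx)
      (by rw [map_mul, map_inv, e, inv_mul_cancel]))
    rw [← this]
    exact Subgroup.closure_le _ |>.2 (by rintro g ⟨n, rfl⟩; exact hyNE n) hy'
  -- the outer involution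
  obtain ⟨t, ht⟩ := hs tS
  have htV : ∀ g ∈ VS, tS * g * tS⁻¹ ∈ VS := fun g hg => by
    induction hg using Subgroup.closure_induction with
    | mem x hx => obtain ⟨i, hi, rfl⟩ := hx; exact tS_conj_sgM hi
    | one => simp
    | mul x y _ _ hx hy =>
      rw [show tS * (x * y) * tS⁻¹ = (tS * x * tS⁻¹) * (tS * y * tS⁻¹) by group]; exact mul_mem hx hy
    | inv x _ hx => rw [show tS * x⁻¹ * tS⁻¹ = (tS * x * tS⁻¹)⁻¹ by group]; exact inv_mem hx
  have htL : ∀ x ∈ L, t * x * t⁻¹ ∈ L := by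
    intro x hx
    have hW : (P22.comap π).map (MulAut.conj t).toMonoidHom ≤ P22.comap π := by
      rintro _ ⟨w, hw, rfl⟩
      show π (t * w * t⁻¹) ∈ P22
      rw [map_mul, map_mul, map_inv, ht]
      exact tS_conj_P22 hw
    rw [← hLdef] at hx ⊢
    have := Subgroup.mem_map_of_mem (MulAut.conj t).toMonoidHom hx
    rw [Subgroup.map_commutator] at this
    exact Subgroup.commutator_mono hW hW this
  have htN : t ∈ Subgroup.normalizer ((E' ⊔ L : Subgroup E) : Set E) := by
    rw [show (E' ⊔ L : Subgroup E) = Subgroup.closure ((E' : Set E) ∪ L) by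
      rw [Subgroup.closure_union, Subgroup.closure_eq, Subgroup.closure_eq]]
    refine mem_normalizer_closure _ _ ?_
    rintro x (hx | hx)
    · obtain ⟨v, rfl⟩ := hx
      refine Subgroup.subset_closure (Or.inl ?_)
      show t * (yN 0 * sec v.1 * (yN 0)⁻¹ * (sec v.1)⁻¹) * t⁻¹ ∈ E'
      have hu : π (t * sec v.1 * t⁻¹) ∈ E'.map π := by
        rw [hEV, map_mul, map_mul, map_inv, ht, hsec]; exact htV _ v.2
      obtain ⟨e, he, hee⟩ := hu
      have ha := hLN (htL _ (hyL 0))
      rw [show t * (yN 0 * sec v.1 * (yN 0)⁻¹ * (sec v.1)⁻¹) * t⁻¹ =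
        (t * yN 0 * t⁻¹) * (t * sec v.1 * t⁻¹) * (t * yN 0 * t⁻¹)⁻¹ * (t * sec v.1 * t⁻¹)⁻¹ by group,
        comm_central hc (a := t * sec v.1 * t⁻¹) (b := t * yN 0 * t⁻¹) (a' := e) (b' := t * yN 0 * t⁻¹)
          hee.symm rfl]
      exact mul_mem ((Subgroup.mem_normalizer_iff.1 ha e).1 he) (inv_mem he)
    · exact Subgroup.subset_closure (Or.inr (htL x hx))
  have ht2 : t ^ 2 = 1 := by rw [pow_two]; exact hgt t ht
  obtain ⟨T, hT⟩ : ∃ T, (E' ⊔ L) ⊔ Subgroup.zpowers t = T := ⟨_, rfl⟩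
  have hb1 : Nat.card ↥(E' ⊔ L : Subgroup E) ≤ Nat.card E' * Nat.card L := by
    have h2 := Finite.card_range_le (fun v : E' × L => (v.1 : E) * v.2)
    rw [Nat.card_prod] at h2
    refine le_trans (le_of_eq ?_) h2
    apply congrArg (fun s : Set E => Nat.card ↥s) (a₁ := ((E' ⊔ L : Subgroup E) : Set E))
    rw [Subgroup.coe_mul_of_right_le_normalizer_left _ _ hLN]
    ext y
    constructor
    · rintro ⟨a, ha, b, hb, rfl⟩; exact ⟨(⟨a, ha⟩, ⟨b, hb⟩), rfl⟩
    · rintro ⟨⟨a, b⟩, rfl⟩; exact Set.mul_mem_mul a.2 b.2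
  have hb2 := card_sup_zpowers_le (E' ⊔ L) t (by norm_num) ht2 htN
  rw [hT] at hb2
  have hEc : Nat.card E' ≤ Nat.card ↥VS := Nat.card_le_card_of_surjective φ.rangeRestrict φ.rangeRestrict_surjective
  have hLc : Nat.card L ≤ 443520 := by
    rw [← card_P22, ← hLmap]
    refine Nat.card_le_card_of_injective (π.subgroupMap L) ?_
    rw [injective_iff_map_eq_one]
    exact fun a ha => Subtype.ext (hLk _ a.2 (congrArg Subtype.val ha))
  -- the image
  have hVE : VS ≤ (E' ⊔ L).map π := hEV ▸ Subgroup.map_mono le_sup_left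
  have hPE : P22 ≤ (E' ⊔ L).map π := hLmap ▸ Subgroup.map_mono le_sup_right
  have hVP : ∀ g, g ∈ VS → g ∈ P22 → g = 1 := by
    rintro g hg ⟨σ, rfl⟩
    obtain ⟨m, hm, e⟩ := VS_elim hg
    have hσ : σ = 1 := Subtype.ext (Equiv.ext fun i => by
      have h1 : ap (j22 σ : ↥Co0) (e8 i) = e8 (σ.1 i) := funext fun j => by
        rw [j22_val, ap_permCo _ (e8_mem i)]
        simp only [e8, Equiv.symm_apply_eq]
      rw [e, ap_sgM hm.1] at h1
      have h2 := congrFun h1 i
      by_contra hne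
      have hne' : σ.1 i ≠ i := hne
      split_ifs at h2 <;> simp [e8, Ne.symm hne'] at h2)
    rw [hσ, map_one]
  have hKc : Nat.card ↥VS * 443520 ≤ Nat.card ↥((E' ⊔ L).map π) := by
    let f : ↥VS × ↥P22 → ↥((E' ⊔ L).map π) := fun q => ⟨q.1.1 * q.2.1, mul_mem (hVE q.1.2) (hPE q.2.2)⟩
    have hf : Function.Injective f := by
      rintro ⟨a, b⟩ ⟨c, d⟩ h
      have h' : a.1 * b.1 = c.1 * d.1 := congrArg Subtype.val h
      have h1 : c.1⁻¹ * a.1 = d.1 * b.1⁻¹ := by
        rw [inv_mul_eq_iff_eq_mul, ← mul_assoc, ← h', mul_inv_cancel_right]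
      have h2 := hVP _ (mul_mem (inv_mem c.2) a.2) (h1 ▸ mul_mem d.2 (inv_mem b.2))
      obtain rfl : a = c := Subtype.ext (inv_mul_eq_one.1 h2).symm
      exact Prod.ext rfl (Subtype.ext (mul_left_cancel h'))
    have := Nat.card_le_card_of_injective f hf
    rwa [Nat.card_prod, card_P22] at this
  have hnot : tS ∉ (E' ⊔ L).map π := by
    intro hmem
    rw [Subgroup.map_sup, hEV, hLmap] at hmem
    have hfix : ∀ g ∈ VS ⊔ P22, ap (g : ↥Co0) (e8 none) = e8 none := by
      intro g hg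
      have hle : VS ⊔ P22 ≤ (stabilizer ↥Co0 (⟨e8 none, e8_mem none⟩ : ↥leechLattice)).subgroupOf co2G := by
        rw [sup_le_iff]
        constructor
        · intro x hx
          obtain ⟨m, hm, rfl⟩ := VS_elim hx
          refine Subgroup.mem_subgroupOf.2 (mem_stabilizer_iff.2 ((smul_eq_iff_ap _ _ _).2 ?_))
          show ap (sgM m : ↥Co0) (e8 none) = e8 none
          rw [ap_sgM hm.1, if_neg (okM_spec hm.1).2.1]
        · rintro x ⟨σ, rfl⟩
          refine Subgroup.mem_subgroupOf.2 (mem_stabilizer_iff.2 ((smul_eq_iff_ap _ _ _).2 (funext fun i => ?_)))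
          show ap (j22 σ : ↥Co0) (e8 none) i = _
          rw [j22_val, ap_permCo _ (e8_mem none)]
          have h0 : σ.1.symm i = none ↔ i = none := by
            rw [Equiv.symm_apply_eq, show σ.1 none = none from σ.2.1.2]
          simp [e8, h0]
      exact (smul_eq_iff_ap _ _ _).1 (mem_stabilizer_iff.1 (Subgroup.mem_subgroupOf.1 (hle hg)))
    have h := congrFun (hfix _ hmem) (some 0)
    rw [tS_val, ap_permCo _ (e8_mem none)] at h
    have : (toPerm out0).symm (some 0) = none := by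
      rw [Equiv.symm_apply_eq]
      exact idx_inj.1 (Fin.ext (by
        rw [idx_toPerm (valid_of_inM24 out_check.1), idx_twentyThree, out_check.2.1, idx_zero]))
    rw [this] at h
    simp [e8] at h
  have htT : tS ∈ T.map π := ⟨t, hT ▸ Subgroup.mem_sup_right (Subgroup.mem_zpowers t), ht⟩
  have hts2 : tS ^ 2 = 1 := by rw [← ht, ← map_pow, ht2, map_one]
  have hlow := card_le_mul (H := (E' ⊔ L).map π) (K := T.map π)
    (Subgroup.map_mono (hT ▸ le_sup_left)) htT Nat.prime_two hts2 hnot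
  have hle : Nat.card (T.map π) ≤ Nat.card T :=
    Nat.card_le_card_of_surjective _ (π.subgroupMap_surjective T)
  have hV := card_VS
  have hchain : Nat.card T ≤ Nat.card ↥VS * 443520 * 2 :=
    le_trans hb2 (Nat.mul_le_mul_right 2 (le_trans hb1 (Nat.mul_le_mul hEc hLc)))
  have hlow' : Nat.card ↥VS * 443520 * 2 ≤ Nat.card (T.map π) := le_trans (Nat.mul_le_mul_right 2 hKc) hlow
  have hVdvd : Nat.card ↥VS = 1024 := by
    have hpg : IsPGroup 2 ↥VS := fun g => ⟨1, Subtype.ext (by
      obtain ⟨m, hm, e⟩ := VS_elim g.2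
      rw [pow_one, Subgroup.coe_pow, pow_two, e, sgM_sq hm.1]; rfl)⟩
    obtain ⟨k, hk⟩ := IsPGroup.iff_card.1 hpg
    have hd' := Subgroup.card_subgroup_dvd_card (T.map π)
    rw [card_co2G] at hd'
    have h6 : Nat.card (T.map π) = Nat.card ↥VS * 443520 * 2 := le_antisymm (le_trans hle hchain) hlow'
    rw [h6, hk] at hd'
    have hk10 : k ≤ 10 := by
      by_contra hlt
      have : 2 ^ 11 * 443520 * 2 ∣ 42305421312000 :=
        dvd_trans (Nat.mul_dvd_mul_right (Nat.mul_dvd_mul_right (pow_dvd_pow 2 (Nat.lt_of_not_le hlt)) _) _) hd'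
      exact absurd this (by decide +kernel)
    rw [hk] at hV ⊢
    exact le_antisymm (Nat.pow_le_pow_right (by norm_num) hk10) hV
  rw [hVdvd] at hchain hlow'
  have h6 : Nat.card (T.map π) = 908328960 := by omega
  have h5 := Subgroup.card_mul_index (T.map π)
  rw [card_co2G, h6] at h5
  refine false_of_split π hs hc Nat.prime_two hcard hd T (by omega) ?_
  rw [show (T.map π).index = 46575 by omega]
  decide

end

end Cfsg.Agent.LeechCount.Co2Mult
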