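import Cfsg.Agent.Lib.LeechCount.Co2Mult.Odd
import Cfsg.Agent.Lib.LeechCount.Co2Mult.Two
import Cfsg.Agent.Lib.SchurSplit.SmallMain
import Cfsg.Agent.Lib.LeechCount.Co2Out.Main

/-!
The stabiliser of a minimal vector has trivial multiplier.
-/

set_option autoImplicit false

namespace Cfsg.Agent.LeechCount.Co2Mult

open Cfsg Cfsg.Agent.Leech Cfsg.Agent.SchurSplit

/-- The part of the order prime to two, three and five is squarefree. -/
theorem sq_not_dvd {p : ℕ} (hp : p.Prime) (h2 : p ≠ 2) (h3 : p ≠ 3) (h5 : p ≠ 5) :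
    ¬ p ^ 2 ∣ 42305421312000 := by
  intro h
  have hco : ∀ q : ℕ, q.Prime → p ≠ q → ∀ k, Nat.Coprime (p ^ 2) (q ^ k) := fun q hq hne k =>
    Nat.Coprime.pow 2 k ((Nat.coprime_primes hp hq).2 hne)
  rw [show (42305421312000 : ℕ) = 2 ^ 18 * (3 ^ 6 * (5 ^ 3 * 1771)) by norm_num] at h
  have h' := (hco 5 (by norm_num) h5 3).dvd_of_dvd_mul_left
    ((hco 3 (by norm_num) h3 6).dvd_of_dvd_mul_left ((hco 2 Nat.prime_two h2 18).dvd_of_dvd_mul_left h))
  have hle : p ^ 2 ≤ 1771 := Nat.le_of_dvd (by norm_num) h'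
  have hlt : p < 43 := by nlinarith
  have hall : ∀ q < 43, ¬ (q ^ 2 ∣ 1771 ∧ 1 < q) := by decide +kernel
  exact hall p hlt ⟨h', hp.one_lt⟩

theorem multiplier : HasCyclicSchurMultiplier ↥Spor.Co2 1 := by
  haveI : Finite ↥Spor.Co2 := Finite.of_equiv _ Co2Out.co2Equiv.symm.toEquiv
  refine trivial_of_noExt fun p hp => noExt_congr Co2Out.co2Equiv.symm ?_
  rcases eq_or_ne p 2 with rfl | h2
  · exact noExt_two
  rcases eq_or_ne p 3 with rfl | h3
  · exact noExt_three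
  rcases eq_or_ne p 5 with rfl | h5
  · exact noExt_five
  exact noExt_of_sq_not_dvd hp (by rw [card_co2G]; exact sq_not_dvd hp h2 h3 h5)

end Cfsg.Agent.LeechCount.Co2Mult
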