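import Cfsg.Agent.Lib.LeechCount.Co2Mult.Facts
import Cfsg.Agent.Lib.LeechCount.Co2Mult.Lift

/-!
No stem extension of the stabiliser of a minimal vector has kernel of order three or five.
-/

set_option autoImplicit false
set_option maxRecDepth 100000
set_option maxHeartbeats 2000000

namespace Cfsg.Agent.LeechCount.Co2Mult

open Cfsg Cfsg.Agent.Leech Cfsg.Agent.Golay24 Cfsg.Agent.SchurSplit

noncomputable section

attribute [local irreducible] normFS

theorem five_le {H : Subgroup ↥co2G} (hz : q5_z.g ∈ H) (ha : q5_a.g ∈ H) (hb : q5_b.g ∈ H) :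
    125 ≤ Nat.card H := by
  have hp : (5 : ℕ).Prime := by norm_num
  have pw : ∀ {e : El}, gp [e, e, e, e, e] = gp [] → e.g ^ 5 = 1 := fun {e} h => by
    rw [← gp_nil, ← h, ← gp_replicate]; rfl
  have h1 := card_le_mul (H := ⊥) (K := Subgroup.closure {q5_z.g}) bot_le
    (Subgroup.subset_closure (Set.mem_singleton _)) hp (pw cZ5)
    (by have := notMem_z5; rwa [Subgroup.closure_empty] at this)
  have h2 := card_le_mul (Subgroup.closure_mono (Set.subset_insert q5_a.g _))
    (Subgroup.subset_closure (Set.mem_insert _ _)) hp (pw cA5) notMem_a5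
  have h3 := card_le_mul (K := H) (by
    rw [Subgroup.closure_le]; rintro x (rfl | rfl) <;> assumption) hb hp (pw cB5) notMem_b5
  rw [Subgroup.card_bot] at h1
  omega

theorem three_le {H : Subgroup ↥co2G} (hz : q3_z.g ∈ H) (h1 : q3_a1.g ∈ H) (h2 : q3_a2.g ∈ H)
    (h3 : q3_b1.g ∈ H) (h4 : q3_b2.g ∈ H) :
    243 ≤ Nat.card H ∧ (q3_c.g ∈ H → 729 ≤ Nat.card H) := by
  have hp : (3 : ℕ).Prime := Nat.prime_three
  have pw : ∀ {e : El}, gp [e, e, e] = gp [] → e.g ^ 3 = 1 := fun {e} h => by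
    rw [← gp_nil, ← h, ← gp_replicate]; rfl
  have n1 := card_le_mul (H := ⊥) (K := Subgroup.closure {q3_z.g}) bot_le
    (Subgroup.subset_closure (Set.mem_singleton _)) hp (pw cZ)
    (by have := notMem_z; rwa [Subgroup.closure_empty] at this)
  have n2 := card_le_mul (Subgroup.closure_mono (Set.subset_insert q3_a1.g _))
    (Subgroup.subset_closure (Set.mem_insert _ _)) hp (pw cA1) notMem_a1
  have n3 := card_le_mul (Subgroup.closure_mono (Set.subset_insert q3_a2.g _))
    (Subgroup.subset_closure (Set.mem_insert _ _)) hp (pw cA2) notMem_a2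
  have n4 := card_le_mul (Subgroup.closure_mono (Set.subset_insert q3_b1.g _))
    (Subgroup.subset_closure (Set.mem_insert _ _)) hp (pw cB1) notMem_b1
  have n5 := card_le_mul (Subgroup.closure_mono (Set.subset_insert q3_b2.g _))
    (Subgroup.subset_closure (Set.mem_insert _ _)) hp (pw cB2) notMem_b2
  have hsub : Subgroup.closure ({q3_b2.g, q3_b1.g, q3_a2.g, q3_a1.g, q3_z.g} : Set ↥co2G) ≤ H := by
    rw [Subgroup.closure_le]
    rintro x (rfl | rfl | rfl | rfl | rfl) <;> assumption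
  have n6 := Subgroup.card_le_of_le hsub
  rw [Subgroup.card_bot] at n1
  refine ⟨by omega, fun hc => ?_⟩
  have n7 := card_le_mul hsub hc hp (pw cC) notMem_c
  omega

theorem noExt_five : NoExt ↥co2G 5 := by
  intro E _ _ π hs hc hcard hd
  have hk : ∀ v ∈ π.ker, v ^ 5 = 1 := fun v hv => by
    have := pow_card_eq_one' (x := (⟨v, hv⟩ : π.ker))
    rw [hcard] at this
    simpa [Subtype.ext_iff] using this
  have cA := cA5; have cB := cB5; have cZ := cZ5
  have hba := hba5; have hAZ := hAZ5; have hBZ := hBZ5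
  have hIA := hIA5; have hIB := hIB5; have hIZ := hIZ5; have hGZ := hGZ5
  simp only [gp_cons, gp_nil, mul_one] at cA cB cZ hba hAZ hBZ hIA hIB hIZ hGZ
  have p4 : ∀ x y : ↥co2G, x * (x * (x * (x * y))) = x ^ 4 * y := fun x y => by simp [pow_succ, mul_assoc]
  have p5' : ∀ x : ↥co2G, x * (x * (x * (x * x))) = x ^ 5 := fun x => by simp [pow_succ, mul_assoc]
  simp only [p5'] at cA cB cZ
  simp only [p4] at hIA hIB hGZ
  obtain ⟨a, ha⟩ := hs q5_a.g
  obtain ⟨b, hb⟩ := hs q5_b.g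
  obtain ⟨z, hz⟩ : ∃ z, b * a * b⁻¹ * a⁻¹ = z := ⟨_, rfl⟩
  have hz' : π z = q5_z.g := by
    rw [← hz, map_mul, map_mul, map_mul, map_inv, map_inv, ha, hb, hba]; group
  have hp : (5 : ℕ).Prime := by norm_num
  have inv4 : ∀ x : ↥co2G, x ^ 5 = 1 → x ^ 4 = x⁻¹ := fun x hx =>
    (inv_eq_of_mul_eq_one_left (by rw [← pow_succ, hx])).symm
  have a5 := pow_lift_eq_one π hs hc hp hk cA (r := 4) (by norm_num) (by norm_num) hIA ha
  have b5 := pow_lift_eq_one π hs hc hp hk cB (r := 4) (by norm_num) (by norm_num) hIB hb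
  have z5 := pow_lift_eq_one π hs hc hp hk cZ (r := 4) (by norm_num) (by norm_num) hGZ hz'
  have az : a * z = z * a := lift_comm_of_inverted π hs hc hp (by norm_num) hk hAZ
    (by rw [hIA, inv4 _ cA]) hIZ ha hz'
  have bz : b * z = z * b := lift_comm_of_inverted π hs hc hp (by norm_num) hk hBZ
    (by rw [hIB, inv4 _ cB]) hIZ hb hz'
  have b1 : Nat.card (Subgroup.closure ({z} : Set E)) ≤ 5 := by
    rw [← Subgroup.zpowers_eq_closure, Nat.card_zpowers]
    exact Nat.le_of_dvd (by norm_num) (orderOf_dvd_of_pow_eq_one z5)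
  have b2 : Nat.card (Subgroup.closure (insert a ({z} : Set E))) ≤
      Nat.card (Subgroup.closure ({z} : Set E)) * 5 :=
    card_closure_insert_pow_le _ a (by norm_num) a5 fun s hs => by
      rw [Set.mem_singleton_iff] at hs
      subst hs
      rw [az, mul_inv_cancel_right]
      exact Subgroup.subset_closure rfl
  have b3' : Nat.card (Subgroup.closure (insert b (insert a ({z} : Set E)))) ≤
      Nat.card (Subgroup.closure (insert a ({z} : Set E))) * 5 :=
    card_closure_insert_pow_le _ b (by norm_num) b5 fun s hs => by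
      rcases hs with rfl | hs
      · have : b * s * b⁻¹ = z * s := by rw [← hz]; group
        rw [this]
        exact mul_mem (Subgroup.subset_closure (Or.inr rfl)) (Subgroup.subset_closure (Or.inl rfl))
      · rw [Set.mem_singleton_iff] at hs
        subst hs
        rw [bz, mul_inv_cancel_right]
        exact Subgroup.subset_closure (Or.inr rfl)
  obtain ⟨T, hT⟩ : ∃ T, Subgroup.closure (insert b (insert a ({z} : Set E))) = T := ⟨_, rfl⟩
  rw [hT] at b3'
  have hge : 125 ≤ Nat.card (T.map π) := by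
    rw [← hT]
    exact five_le ⟨z, Subgroup.subset_closure (Or.inr (Or.inr rfl)), hz'⟩
      ⟨a, Subgroup.subset_closure (Or.inr (Or.inl rfl)), ha⟩ ⟨b, Subgroup.subset_closure (Or.inl rfl), hb⟩
  have hle : Nat.card (T.map π) ≤ Nat.card T :=
    Nat.card_le_card_of_surjective _ (π.subgroupMap_surjective T)
  have h6 : Nat.card (T.map π) = 125 := by omega
  have h5 := Subgroup.card_mul_index (T.map π)
  rw [card_co2G, h6] at h5
  refine false_of_split π hs hc hp hcard hd T (by omega) ?_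
  rw [show (T.map π).index = 338443370496 by omega]
  norm_num

theorem noExt_three : NoExt ↥co2G 3 := by
  intro E _ _ π hs hc hcard hd
  have hp : (3 : ℕ).Prime := Nat.prime_three
  have hk : ∀ v ∈ π.ker, v ^ 3 = 1 := fun v hv => by
    have := pow_card_eq_one' (x := (⟨v, hv⟩ : π.ker))
    rw [hcard] at this
    simpa [Subtype.ext_iff] using this
  have hog : Nat.Coprime og3 3 := by decide
  have cA1 := cA1; have cB1 := cB1; have cA2 := cA2; have cB2 := cB2; have cZ := cZ; have cC := cC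
  have iA1 := iA1; have iB1 := iB1; have iA2 := iA2; have iB2 := iB2
  have zA1 := zA1; have zB1 := zB1; have zA2 := zA2; have zB2 := zB2
  have iZ := iZ; have iC := iC; have gzR := gzR; have gcR := gcR
  have mA1 := mA1; have mB1 := mB1; have mA2 := mA2; have mB2 := mB2
  have k13 := k13; have k14 := k14; have k23 := k23; have k24 := k24
  have hba := hba; have gA := gA; have gB := gB; have gZ := gZ
  have gord : q3_g.g ^ og3 = 1 := by rw [← gp_nil, ← gord, ← gp_replicate]; rfl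
  simp only [gp_cons, gp_nil, mul_one] at cA1 cB1 cA2 cB2 cZ cC iA1 iB1 iA2 iB2 zA1 zB1 zA2 zB2 iZ iC gzR gcR mA1 mB1 mA2 mB2 k13 k14 k23 k24 hba gA gB gZ
  have p3' : ∀ x : ↥co2G, x * (x * x) = x ^ 3 := fun x => by simp [pow_succ, mul_assoc]
  simp only [p3'] at cA1 cB1 cA2 cB2 cZ cC
  have sq_inv : ∀ (x y : ↥co2G), x ^ 3 = 1 → x * (x * y) = x⁻¹ * y := fun x y hx => by
    rw [← mul_assoc, show x * x = x⁻¹ from (inv_eq_of_mul_eq_one_left (by rw [← pow_two, ← pow_succ, hx])).symm]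
  rw [sq_inv _ _ cA1] at iA1; rw [sq_inv _ _ cB1] at iB1; rw [sq_inv _ _ cA2] at iA2 mA2
  rw [sq_inv _ _ cB2] at iB2 mB2
  obtain ⟨i, hi⟩ := hs q3_iota.g
  have hodd : Odd 3 := by decide
  obtain ⟨a1, ha1, va1⟩ := exists_inv_lift hs hc hk hodd i (a := q3_a1.g) (by rw [hi, iA1])
  obtain ⟨b1, hb1, vb1⟩ := exists_inv_lift hs hc hk hodd i (a := q3_b1.g) (by rw [hi, iB1])
  obtain ⟨a2, ha2, va2⟩ := exists_inv_lift hs hc hk hodd i (a := q3_a2.g) (by rw [hi, iA2])
  obtain ⟨b2, hb2, vb2⟩ := exists_inv_lift hs hc hk hodd i (a := q3_b2.g) (by rw [hi, iB2])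
  obtain ⟨z, hzd⟩ : ∃ z, b1 * a1 * b1⁻¹ * a1⁻¹ = z := ⟨_, rfl⟩
  have hz : π z = q3_z.g := by
    rw [← hzd, map_mul, map_mul, map_mul, map_inv, map_inv, ha1, hb1, hba]; group
  obtain ⟨g, hg⟩ := hs q3_g.g
  obtain ⟨c, hc'⟩ := hs q3_c.g
  have lc := fun {x y w : ↥co2G} {x' y' : E} (hxy : x * y = y * x) (hx : w * x = x⁻¹ * w) (hy : w * y = y * w)
      (hx' : π x' = x) (hy' : π y' = y) =>
    lift_comm_of_inverted π hs hc hp (by norm_num) hk hxy hx hy hx' hy'
  have za1 := lc zA1 iA1 iZ ha1 hz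
  have zb1 := lc zB1 iB1 iZ hb1 hz
  have za2 := lc zA2 iA2 iZ ha2 hz
  have zb2 := lc zB2 iB2 iZ hb2 hz
  have e13 := lc k13.symm mA2 mA1 ha2 ha1
  have e14 := lc k14.symm mB2 mA1 hb2 ha1
  have e23 := lc k23.symm mA2 mB1 ha2 hb1
  have e24 := lc k24.symm mB2 mB1 hb2 hb1
  have gz : g * z * g⁻¹ = z :=
    comm_of_pow hc hk (by rw [hg, hz, gZ]) (n := og3) (by rw [hg, gord]) hog
  have hba2 : b2 * a2 * b2⁻¹ * a2⁻¹ = z := by
    rw [comm_central hc (a' := g * a1 * g⁻¹) (b' := g * b1 * g⁻¹)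
      (by rw [map_mul, map_mul, map_inv, hg, ha1, ha2, gA, mul_inv_cancel_right])
      (by rw [map_mul, map_mul, map_inv, hg, hb1, hb2, gB, mul_inv_cancel_right]), ← gz, ← hzd]
    group
  have p3 : ∀ {x w : ↥co2G} {x' : E}, x ^ 3 = 1 → w * x = x⁻¹ * w → π x' = x → x' ^ 3 = 1 :=
    fun {x w x'} hx hw hx' => pow_lift_eq_one π hs hc hp hk hx (r := 2) (by norm_num) (by norm_num)
      (show w * x = x ^ 2 * w by rw [hw, inv_eq_of_mul_eq_one_left (by rw [← pow_succ, hx])]) hx'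
  have z3 : z ^ 3 = 1 := pow_lift_eq_one π hs hc hp hk cZ (r := 2) (by norm_num) (by norm_num)
    (show q3_gz.g * q3_z.g = q3_z.g ^ 2 * q3_gz.g by rw [gzR, pow_two, mul_assoc]) hz
  have c3 : c ^ 3 = 1 := pow_lift_eq_one π hs hc hp hk cC (r := 2) (by norm_num) (by norm_num)
    (show q3_gc.g * q3_c.g = q3_c.g ^ 2 * q3_gc.g by rw [gcR, pow_two, mul_assoc]) hc'
  -- the extraspecial part
  have b1' : Nat.card (Subgroup.closure ({z} : Set E)) ≤ 3 := by
    rw [← Subgroup.zpowers_eq_closure, Nat.card_zpowers]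
    exact Nat.le_of_dvd (by norm_num) (orderOf_dvd_of_pow_eq_one z3)
  have step : ∀ (x : E) (S : Set E), x ^ 3 = 1 → (∀ s ∈ S, x * s * x⁻¹ ∈ Subgroup.closure S) →
      Nat.card (Subgroup.closure (insert x S)) ≤ Nat.card (Subgroup.closure S) * 3 :=
    fun x S hx h => card_closure_insert_pow_le _ x (by norm_num) hx h
  have fix : ∀ {x s : E}, x * s = s * x → x * s * x⁻¹ = s := fun h => by rw [h, mul_inv_cancel_right]
  have n1 := step a1 {z} (p3 cA1 iA1 ha1) (fun s hs => by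
    rw [Set.mem_singleton_iff] at hs; subst hs
    rw [fix za1]; exact Subgroup.subset_closure rfl)
  have n2 := step a2 (insert a1 {z}) (p3 cA2 iA2 ha2) (fun s hs => by
    simp only [Set.mem_insert_iff, Set.mem_singleton_iff] at hs
    rcases hs with rfl | rfl
    · rw [fix e13]; exact Subgroup.subset_closure (by simp)
    · rw [fix za2]; exact Subgroup.subset_closure (by simp))
  have n3 := step b1 (insert a2 (insert a1 {z})) (p3 cB1 iB1 hb1) (fun s hs => by
    simp only [Set.mem_insert_iff, Set.mem_singleton_iff] at hs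
    rcases hs with rfl | rfl | rfl
    · rw [fix e23.symm]; exact Subgroup.subset_closure (by simp)
    · rw [show b1 * s * b1⁻¹ = z * s by rw [← hzd]; group]
      exact mul_mem (Subgroup.subset_closure (by simp)) (Subgroup.subset_closure (by simp))
    · rw [fix zb1]; exact Subgroup.subset_closure (by simp))
  have n4 := step b2 (insert b1 (insert a2 (insert a1 {z}))) (p3 cB2 iB2 hb2) (fun s hs => by
    simp only [Set.mem_insert_iff, Set.mem_singleton_iff] at hs
    rcases hs with rfl | rfl | rfl | rfl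
    · rw [fix e24]; exact Subgroup.subset_closure (by simp)
    · rw [show b2 * s * b2⁻¹ = z * s by rw [← hba2]; group]
      exact mul_mem (Subgroup.subset_closure (by simp)) (Subgroup.subset_closure (by simp))
    · rw [fix e14]; exact Subgroup.subset_closure (by simp)
    · rw [fix zb2]; exact Subgroup.subset_closure (by simp))
  obtain ⟨Q, hQ⟩ : ∃ Q, Subgroup.closure (insert b2 (insert b1 (insert a2 (insert a1 ({z} : Set E))))) = Q :=
    ⟨_, rfl⟩
  rw [hQ] at n4
  have hzQ : z ∈ Q ∧ a1 ∈ Q ∧ a2 ∈ Q ∧ b1 ∈ Q ∧ b2 ∈ Q := by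
    rw [← hQ]
    refine ⟨?_, ?_, ?_, ?_, ?_⟩ <;> exact Subgroup.subset_closure (by simp)
  obtain ⟨zQ, a1Q, a2Q, b1Q, b2Q⟩ := hzQ
  have hmapQ : ∀ e ∈ [q3_a1, q3_b1, q3_a2, q3_b2, q3_z], e.g ∈ Q.map π := by
    intro e he
    simp only [List.mem_cons, List.not_mem_nil, or_false] at he
    rcases he with rfl | rfl | rfl | rfl | rfl
    exacts [⟨_, a1Q, ha1⟩, ⟨_, b1Q, hb1⟩, ⟨_, a2Q, ha2⟩, ⟨_, b2Q, hb2⟩, ⟨_, zQ, hz⟩]
  have q243 := (three_le (H := Q.map π) ⟨_, zQ, hz⟩ ⟨_, a1Q, ha1⟩ ⟨_, a2Q, ha2⟩ ⟨_, b1Q, hb1⟩ ⟨_, b2Q, hb2⟩).1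
  have hQk := ker_free (π := π) Q (by omega)
  have iQ : i ∈ Subgroup.normalizer (Q : Set E) := by
    rw [← hQ]
    refine mem_normalizer_closure _ _ fun s hs => ?_
    rw [hQ]
    simp only [Set.mem_insert_iff, Set.mem_singleton_iff] at hs
    rcases hs with rfl | rfl | rfl | rfl | rfl
    · rw [vb2]; exact Q.inv_mem b2Q
    · rw [vb1]; exact Q.inv_mem b1Q
    · rw [va2]; exact Q.inv_mem a2Q
    · rw [va1]; exact Q.inv_mem a1Q
    · suffices i * s * i⁻¹ = s by rw [this]; exact zQ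
      rw [← hzd]
      calc i * (b1 * a1 * b1⁻¹ * a1⁻¹) * i⁻¹
          = (i * b1 * i⁻¹) * (i * a1 * i⁻¹) * (i * b1 * i⁻¹)⁻¹ * (i * a1 * i⁻¹)⁻¹ := by group
        _ = (a1 * b1)⁻¹ * (b1 * a1 * b1⁻¹ * a1⁻¹) * (a1 * b1) := by rw [va1, vb1]; group
        _ = b1 * a1 * b1⁻¹ * a1⁻¹ := by
          have hcm : (a1 * b1) * s = s * (a1 * b1) := by
            rw [mul_assoc, zb1, ← mul_assoc, za1, mul_assoc]
          rw [hzd, mul_assoc, ← hcm, inv_mul_cancel_left]
  have cQ : c ∈ Subgroup.normalizer (Q : Set E) := by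
    have key : ∀ j < 4, ∀ y : E, π y = ([q3_a1, q3_b1, q3_a2, q3_b2].getD j q3_z).g → i * y * i⁻¹ = y⁻¹ →
        c * y * c⁻¹ ∈ Q := by
      intro j hj y hy hyi
      refine inv_lift_mem hc hp (by norm_num) hk hQk iQ ?_ ?_
      · have e := conj_central hc (a := i * c) (b := c * i) (by rw [map_mul, map_mul, hi, hc', iC]) y
        calc i * (c * y * c⁻¹) * i⁻¹ = i * c * y * (i * c)⁻¹ := by group
          _ = c * (i * y * i⁻¹) * c⁻¹ := by rw [e]; group
          _ = (c * y * c⁻¹)⁻¹ := by rw [hyi]; group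
      · have fin : ∀ {x : El} {w : List El}, gp [q3_c, x] = gp (w ++ [q3_c]) → π y = x.g →
            (∀ e ∈ w, e ∈ [q3_a1, q3_b1, q3_a2, q3_b2, q3_z]) → π (c * y * c⁻¹) ∈ Q.map π := by
          intro x w h hxy hw
          rw [gp_cons, gp_cons, gp_nil, mul_one, ← hxy, ← hc', gp, List.map_append, List.prod_append,
            List.map_cons, List.map_nil, List.prod_cons, List.prod_nil, mul_one, ← hc'] at h
          rw [map_mul, map_mul, map_inv, h, mul_inv_cancel_right]
          exact list_prod_mem fun x hx => by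
            obtain ⟨e, he, rfl⟩ := List.mem_map.1 hx
            exact hmapQ e (hw e he)
        interval_cases j
        · exact fin (w := [q3_a1, q3_a1, q3_b1, q3_a2, q3_a2, q3_b2, q3_b2]) cim_0 hy (by simp)
        · exact fin (w := [q3_a1, q3_b2]) cim_1 hy (by simp)
        · exact fin (w := [q3_a1, q3_a1, q3_b1, q3_b1, q3_a2, q3_a2, q3_b2]) cim_2 hy (by simp)
        · exact fin (w := [q3_b1, q3_a2]) cim_3 hy (by simp)
    rw [← hQ]
    refine mem_normalizer_closure _ _ fun s hs => ?_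
    rw [hQ]
    simp only [Set.mem_insert_iff, Set.mem_singleton_iff] at hs
    rcases hs with rfl | rfl | rfl | rfl | rfl
    · exact key 3 (by norm_num) _ hb2 vb2
    · exact key 1 (by norm_num) _ hb1 vb1
    · exact key 2 (by norm_num) _ ha2 va2
    · exact key 0 (by norm_num) _ ha1 va1
    · have h1 := key 0 (by norm_num) _ ha1 va1
      have h2 := key 1 (by norm_num) _ hb1 vb1
      rw [← hzd, show c * (b1 * a1 * b1⁻¹ * a1⁻¹) * c⁻¹ =
        (c * b1 * c⁻¹) * (c * a1 * c⁻¹) * (c * b1 * c⁻¹)⁻¹ * (c * a1 * c⁻¹)⁻¹ by group]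
      exact mul_mem (mul_mem (mul_mem h2 h1) (Q.inv_mem h2)) (Q.inv_mem h1)
  have n5 := card_sup_zpowers_le Q c (by norm_num) c3 cQ
  obtain ⟨T, hT⟩ : ∃ T, Q ⊔ Subgroup.zpowers c = T := ⟨_, rfl⟩
  rw [hT] at n5
  have hQT : Q ≤ T := hT ▸ le_sup_left
  have hge : 729 ≤ Nat.card (T.map π) :=
    (three_le (H := T.map π) ⟨_, hQT zQ, hz⟩ ⟨_, hQT a1Q, ha1⟩ ⟨_, hQT a2Q, ha2⟩ ⟨_, hQT b1Q, hb1⟩
      ⟨_, hQT b2Q, hb2⟩).2 ⟨c, hT ▸ Subgroup.mem_sup_right (Subgroup.mem_zpowers c), hc'⟩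
  have hle : Nat.card (T.map π) ≤ Nat.card T :=
    Nat.card_le_card_of_surjective _ (π.subgroupMap_surjective T)
  have h6 : Nat.card (T.map π) = 729 := by omega
  have h5 := Subgroup.card_mul_index (T.map π)
  rw [card_co2G, h6] at h5
  refine false_of_split π hs hc hp hcard hd T (by omega) ?_
  rw [show (T.map π).index = 58032128000 by omega]
  norm_num

end

end Cfsg.Agent.LeechCount.Co2Mult
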