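import Cfsg.Agent.Lib.LeechCount.Co2Mult.Elt

/-!
Automorphisms given by the images of the 24 coordinate vectors, multiplied through one integer per image.
-/

set_option autoImplicit false

namespace Cfsg.Agent.LeechCount.Co2Mult

open Cfsg Cfsg.Agent.Leech Cfsg.Agent.Golay24 Cfsg.Agent.LeechCount.Co3Rank MulAction
open Cfsg.Agent.LeechCount.Co3Out (ext_e8 xiL sgnL pL tsumL eight_eq_sum e8L e8L_eq e8L_mem xi_vecOf)

noncomputable section

attribute [local irreducible] normFS dotFS

/-- One integer for a vector with small coordinates. -/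
def colK (c : List ℤ) : ℤ := c.foldr (fun x r => x + 32 * r) 0

/-- A linear combination. -/
def combK (K c : List ℤ) : ℤ := (List.zipWith (fun a b => a * b) c K).foldr (fun a r => a + r) 0

/-- The check that the table `C` is the product of `A` and `B`. -/
def mulB (A B C : List (List ℤ)) : Bool :=
  (List.zip B C).all fun p => decide (combK (A.map colK) p.1 = 8 * colK p.2)

/-- A table has the right shape. -/
def smallB (C : List (List ℤ)) : Bool :=
  C.length == 24 && C.all fun c => c.length == 24 && c.all fun x => decide (-15 ≤ x ∧ x ≤ 15)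

/-- The image of a vector is the stated one. -/
def appB (A : List (List ℤ)) (v w : List ℤ) : Bool :=
  v.length == 24 && w.length == 24 && w.all (fun x => decide (-15 ≤ x ∧ x ≤ 15)) &&
    decide (combK (A.map colK) v = 8 * colK w)

theorem colK_inj : ∀ {a b : List ℤ}, a.length = b.length → (∀ x ∈ a, -15 ≤ x ∧ x ≤ 15) →
    (∀ x ∈ b, -15 ≤ x ∧ x ≤ 15) → colK a = colK b → a = b
  | [], [], _, _, _, _ => rfl
  | [], _ :: _, h, _, _, _ => by simp at h
  | _ :: _, [], h, _, _, _ => by simp at h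
  | x :: a, y :: b, h, ha, hb, e => by
    have h1 := ha x List.mem_cons_self
    have h2 := hb y List.mem_cons_self
    have e' : x + 32 * colK a = y + 32 * colK b := e
    have hxy : x = y := by omega
    rw [hxy, colK_inj (by simpa using h) (fun z hz => ha z (List.mem_cons_of_mem _ hz))
      (fun z hz => hb z (List.mem_cons_of_mem _ hz)) (by omega)]

theorem colK_sum : ∀ (l : List ℤ), colK l = ∑ k ∈ Finset.range l.length, l.getD k 0 * 32 ^ k
  | [] => rfl
  | x :: l => by
    rw [show colK (x :: l) = x + 32 * colK l from rfl, colK_sum l, List.length_cons, Finset.sum_range_succ']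
    simp only [List.getD_cons_succ, List.getD_cons_zero, pow_zero, mul_one, pow_succ, Finset.mul_sum]
    rw [add_comm]
    congr 1
    exact Finset.sum_congr rfl fun k _ => by ring

theorem combK_sum : ∀ (K c : List ℤ), c.length = K.length →
    combK K c = ∑ k ∈ Finset.range c.length, c.getD k 0 * K.getD k 0
  | [], [], _ => rfl
  | [], _ :: _, h => by simp at h
  | _ :: _, [], h => by simp at h
  | y :: K, x :: c, h => by
    rw [show combK (y :: K) (x :: c) = x * y + combK K c from rfl, combK_sum K c (by simpa using h),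
      List.length_cons, Finset.sum_range_succ']
    simp only [List.getD_cons_succ, List.getD_cons_zero]
    rw [add_comm]

/-- The integer of a vector. -/
def phi (v : Vec) : ℤ := ∑ i, v i * 32 ^ (idx i).val

theorem phi_vecOf {l : List ℤ} (h : l.length = 24) : phi (vecOf l) = colK l := by
  rw [phi, colK_sum, h, ← Fin.sum_univ_eq_sum_range (fun k => l.getD k 0 * 32 ^ k),
    ← Equiv.sum_comp Golay24.ptEquiv.symm]
  exact Finset.sum_congr rfl fun k _ => by simp [vecOf, Golay24.ptEquiv]

/-- The coordinates of a vector. -/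
def lOf (v : Vec) : List ℤ := (List.range 24).map fun k => v (ptN k)

theorem vecOf_lOf (v : Vec) : vecOf (lOf v) = v := by
  rw [lOf, vecOf_range]; funext i; rw [ptN_idx]

theorem coord_le {v : Vec} {n : ℤ} (h : sqNorm v = n) (hn : n ≤ 225) (i : GolayPt) :
    -15 ≤ v i ∧ v i ≤ 15 := by
  have h1 : v i ^ 2 ≤ sqNorm v := by
    rw [sqNorm]
    exact Finset.single_le_sum (f := fun j => v j ^ 2) (fun j _ => sq_nonneg _) (Finset.mem_univ i)
  constructor <;> nlinarith

/-- The table represents the automorphism. -/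
def Rep (g : ↥Co0) (T : List (List ℤ)) : Prop :=
  T.length = 24 ∧ (∀ c ∈ T, c.length = 24) ∧ ∀ k < 24, ap g (vecOf (e8L k)) = vecOf (T.getD k [])

theorem e8L_mem' {k : ℕ} (hk : k < 24) : vecOf (e8L k) ∈ leechLattice := by
  have := e8L_mem (ptN k)
  rwa [idx_ptN hk] at this

theorem e8L_norm {k : ℕ} (hk : k < 24) : sqNorm (vecOf (e8L k)) = 64 := by
  have := e8L_eq (ptN k)
  rw [idx_ptN hk] at this
  rw [this, e8_norm]

theorem Rep.eq {g h : ↥Co0} {T : List (List ℤ)} (hg : Rep g T) (hh : Rep h T) : g = h :=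
  ext_e8 fun i => by rw [← e8L_eq, hg.2.2 _ (idx i).isLt, hh.2.2 _ (idx i).isLt]

theorem ap_comb (g : ↥Co0) {x : Vec} (hx : x ∈ leechLattice) :
    (8 : ℤ) • ap g x = ∑ i, x i • ap g (e8 i) := by
  have h8 : (8 : ℤ) • (⟨x, hx⟩ : ↥leechLattice) = ∑ i, x i • (⟨e8 i, e8_mem i⟩ : ↥leechLattice) := by
    apply Subtype.ext
    push_cast
    exact eight_eq_sum _
  have h1 := congrArg (fun v => ((coHom g v : ↥leechLattice) : Vec)) h8
  simp only [map_sum, map_zsmul] at h1
  push_cast at h1
  have e : ∀ (y : Vec) (hy : y ∈ leechLattice), ((coHom g ⟨y, hy⟩ : ↥leechLattice) : Vec) = ap g y :=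
    fun y hy => (ap_coe g ⟨y, hy⟩).symm
  simp only [e] at h1
  exact h1

theorem app_spec {g : ↥Co0} {A : List (List ℤ)} (hA : Rep g A) {v w : List ℤ} (h : appB A v w = true)
    (hv : vecOf v ∈ leechLattice) (hn : sqNorm (vecOf v) ≤ 225) : ap g (vecOf v) = vecOf w := by
  simp only [appB, Bool.and_eq_true, beq_iff_eq, List.all_eq_true, decide_eq_true_eq] at h
  obtain ⟨⟨⟨hvl, hwl⟩, hws⟩, he⟩ := h
  obtain ⟨hAl, hAc, hAe⟩ := hA
  have key : 8 * phi (ap g (vecOf v)) = combK (A.map colK) v := by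
    rw [combK_sum _ _ (by rw [List.length_map, hvl, hAl]), hvl,
      ← Fin.sum_univ_eq_sum_range (fun k => v.getD k 0 * (A.map colK).getD k 0),
      ← Equiv.sum_comp Golay24.ptEquiv]
    have h1 := congrArg phi (ap_comb g hv)
    have hl : phi ((8 : ℤ) • ap g (vecOf v)) = 8 * phi (ap g (vecOf v)) := by
      simp only [phi, Pi.smul_apply, smul_eq_mul, Finset.mul_sum, mul_assoc]
    rw [hl] at h1
    rw [h1]
    simp only [phi, Finset.sum_apply, Pi.smul_apply, smul_eq_mul, Finset.sum_mul]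
    rw [Finset.sum_comm]
    refine Finset.sum_congr rfl fun i _ => ?_
    simp only [mul_assoc, ← Finset.mul_sum]
    show vecOf v i * _ = v.getD (idx i).val 0 * (A.map colK).getD (idx i).val 0
    congr 1
    have hlt : (idx i).val < A.length := by rw [hAl]; exact (idx i).isLt
    have hm : (A.map colK).getD (idx i).val 0 = colK (A.getD (idx i).val []) := by
      rw [List.getD_eq_getElem _ _ hlt, List.getD_eq_getElem _ _ (by simpa using hlt), List.getElem_map]
    rw [hm, ← e8L_eq i, hAe _ (idx i).isLt, ← phi_vecOf (hAc _ (by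
      rw [List.getD_eq_getElem _ _ hlt]; exact List.getElem_mem _))]
    rfl
  have hcd : ∀ x ∈ lOf (ap g (vecOf v)), -15 ≤ x ∧ x ≤ 15 := fun x hx => by
    obtain ⟨k, -, rfl⟩ := List.mem_map.1 hx
    exact coord_le (ap_norm g hv) hn _
  have : lOf (ap g (vecOf v)) = w := by
    refine colK_inj (by simp [lOf, hwl]) hcd hws ?_
    rw [← phi_vecOf (by simp [lOf]), vecOf_lOf]
    omega
  rw [← this, vecOf_lOf]

theorem mul_spec {g h : ↥Co0} {A B C : List (List ℤ)} (hA : Rep g A) (hB : Rep h B)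
    (hm : mulB A B C = true) (hs : smallB C = true) : Rep (g * h) C := by
  simp only [smallB, Bool.and_eq_true, beq_iff_eq, List.all_eq_true] at hs
  refine ⟨hs.1, fun c hc => (hs.2 c hc).1, fun k hk => ?_⟩
  have hBk : k < B.length := hB.1 ▸ hk
  have hCk : k < C.length := hs.1 ▸ hk
  have hz : (B.getD k [], C.getD k []) ∈ List.zip B C := by
    rw [List.getD_eq_getElem _ _ hBk, List.getD_eq_getElem _ _ hCk, List.mem_iff_getElem]
    exact ⟨k, by rw [List.length_zip]; omega, by rw [List.getElem_zip]⟩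
  simp only [mulB, List.all_eq_true] at hm
  have hc := hs.2 (C.getD k []) (by rw [List.getD_eq_getElem _ _ hCk]; exact List.getElem_mem _)
  have hb : (B.getD k []).length = 24 := hB.2.1 _ (by rw [List.getD_eq_getElem _ _ hBk]; exact List.getElem_mem _)
  have hbm : vecOf (B.getD k []) ∈ leechLattice := hB.2.2 k hk ▸ ap_mem _ (e8L_mem' hk)
  have hbn : sqNorm (vecOf (B.getD k [])) = 64 := by
    rw [← hB.2.2 k hk, ap_norm _ (e8L_mem' hk), e8L_norm hk]
  rw [ap_mul _ _ (e8L_mem' hk), hB.2.2 k hk]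
  refine app_spec hA ?_ hbm (by rw [hbn]; norm_num)
  simp only [appB, Bool.and_eq_true, beq_iff_eq, List.all_eq_true]
  exact ⟨⟨⟨hb, hc.1⟩, hc.2⟩, hm _ hz⟩

/-- The coordinate vectors. -/
def idTab : List (List ℤ) := (List.range 24).map e8L

/-- Sum over one tetrad. -/
def tz (lab : List (Fin 6)) (l : List ℤ) (j : Fin 6) : ℤ :=
  (List.zip lab l).foldr (fun p r => bif p.1.val == j.val then p.2 + r else r) 0

/-- The sextet map on lists. -/
def xiF (lab : List (Fin 6)) (l : List ℤ) : List ℤ :=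
  (List.zip lab l).map fun p =>
    bif p.1.val == 0 then tz lab l p.1 / 2 - p.2 else p.2 - tz lab l p.1 / 2

theorem tz_eq : ∀ {lab : List (Fin 6)} {l : List ℤ} (_ : lab.length = l.length) (j : Fin 6),
    tz lab l j = ∑ k ∈ Finset.range l.length, if lab.getD k 0 = j then l.getD k 0 else 0
  | [], [], _, _ => rfl
  | [], _ :: _, h, _ => by simp at h
  | _ :: _, [], h, _ => by simp at h
  | a :: lab, x :: l, h, j => by
    rw [List.length_cons, Finset.sum_range_succ']
    simp only [List.getD_cons_succ, List.getD_cons_zero]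
    rw [← tz_eq (show lab.length = l.length by simpa using h) j]
    show (bif a.val == j.val then x + tz lab l j else tz lab l j) = _
    by_cases e : a = j
    · simp [e, add_comm]
    · have e' : (a.val == j.val) = false := by simpa using Fin.val_ne_of_ne e
      rw [e', if_neg e, add_zero]; rfl

theorem xiF_eq {lab : List (Fin 6)} {l : List ℤ} (h1 : lab.length = 24) (h2 : l.length = 24) :
    xiF lab l = xiL lab l := by
  have hs : ∀ j, tz lab l j = tsumL lab l j := fun j => by
    rw [tz_eq (h1.trans h2.symm), h2, tsumL]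
    rfl
  refine List.ext_getElem (by simp [xiF, xiL, h1, h2]) fun n hn hn' => ?_
  have hn24 : n < 24 := by simpa [xiL] using hn'
  simp only [xiF, xiL, List.getElem_map, List.getElem_zip, List.getElem_range, hs,
    List.getD_eq_getElem _ _ (show n < lab.length by omega), List.getD_eq_getElem _ _ (show n < l.length by omega)]
  by_cases e : lab[n]'(by omega) = 0
  · simp [e]
  · have : ((lab[n]'(by omega)).val == 0) = false := by
      simp only [beq_eq_false_iff_ne, ne_eq]
      exact fun hh => e (Fin.ext hh)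
    simp [e, this]

/-- A table of a sextet map. -/
def xiB (lab : List (Fin 6)) (T : List (List ℤ)) : Bool :=
  sxB lab && lab.length == 24 && T.length == 24 && T.all (fun c => c.length == 24) &&
    (List.zip idTab T).all fun p => xiF lab p.1 == p.2

theorem xiB_spec {lab : List (Fin 6)} {T : List (List ℤ)} (h : xiB lab T = true) : Rep (xiEl lab) T := by
  simp only [xiB, Bool.and_eq_true, beq_iff_eq, List.all_eq_true] at h
  obtain ⟨⟨⟨⟨hs, hl⟩, hT⟩, hTc⟩, hz⟩ := h
  refine ⟨hT, hTc, fun k hk => ?_⟩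
  have h1 := hz (e8L k, T.getD k []) (by
    rw [List.getD_eq_getElem _ _ (hT ▸ hk), List.mem_iff_getElem]
    exact ⟨k, by simp [idTab, List.length_zip, hT, hk], by simp [idTab, List.getElem_zip]⟩)
  rw [xiEl, dif_pos hs, Sx.ap_xiCo _ (e8L_mem' hk), xi_vecOf, ← xiF_eq hl (by simp [e8L]), h1]

/-- A table of a sign set after a permutation. -/
def monB (e : El) (T : List (List ℤ)) : Bool :=
  e.labs.isEmpty && e.ok && T.length == 24 && T.all (fun c => c.length == 24) &&
    (List.zip idTab T).all fun p => e.onL p.1 == p.2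

theorem monB_spec {e : El} {T : List (List ℤ)} (h : monB e T = true) : Rep e.co T := by
  simp only [monB, Bool.and_eq_true, beq_iff_eq, List.all_eq_true] at h
  obtain ⟨⟨⟨⟨-, hok⟩, hT⟩, hTc⟩, hz⟩ := h
  refine ⟨hT, hTc, fun k hk => ?_⟩
  rw [El.ap_co hok (e8L_mem' hk)]
  exact congrArg vecOf (hz (e8L k, T.getD k []) (by
    rw [List.getD_eq_getElem _ _ (hT ▸ hk), List.mem_iff_getElem]
    exact ⟨k, by simp [idTab, List.length_zip, hT, hk], by simp [idTab, List.getElem_zip]⟩))

theorem rep_one : Rep 1 idTab :=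
  ⟨by simp [idTab], fun c hc => by obtain ⟨k, -, rfl⟩ := List.mem_map.1 hc; simp [e8L], fun k hk => by
    rw [ap_one, List.getD_eq_getElem _ _ (by simpa [idTab] using hk)]; simp [idTab]⟩

/-- Sextet maps before a monomial automorphism. -/
def pre (L : List (List (Fin 6))) (m : ↥Co0) : ↥Co0 := (L.map xiEl).prod * m

theorem rep_pre_nil {m : ↥Co0} {T : List (List ℤ)} (h : Rep m T) : Rep (pre [] m) T := by
  rwa [pre, List.map_nil, List.prod_nil, one_mul]

theorem rep_pre_cons {a : List (Fin 6)} {L : List (List (Fin 6))} {m : ↥Co0} {A B C : List (List ℤ)}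
    (ha : Rep (xiEl a) A) (hL : Rep (pre L m) B) (h : (mulB A B C && smallB C) = true) :
    Rep (pre (a :: L) m) C := by
  rw [pre, List.map_cons, List.prod_cons, mul_assoc]
  rw [Bool.and_eq_true] at h
  exact mul_spec ha hL h.1 h.2

theorem co_split {L : List (List (Fin 6))} {s p q : ℕ} (h : inCode (maskOf (Golay24.setOf s)) = true ∧ inM24 p = true) :
    El.co ⟨L, s, p, q⟩ = pre L (El.co ⟨[], s, p, q⟩) := by
  simp only [El.co, pre, dif_pos h, List.map_nil, List.prod_nil, one_mul, mul_assoc]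

theorem rep_gp_nil : Rep ((gp [] : ↥co2G) : ↥Co0) idTab := by rw [gp_nil, Subgroup.coe_one]; exact rep_one

theorem rep_gp_cons {e : El} {w : List El} {A B C : List (List ℤ)}
    (he : Rep (e.g : ↥Co0) A) (hw : Rep (gp w : ↥Co0) B) (h : (mulB A B C && smallB C) = true) :
    Rep (gp (e :: w) : ↥Co0) C := by
  rw [gp_cons, Subgroup.coe_mul]
  rw [Bool.and_eq_true] at h
  exact mul_spec he hw h.1 h.2

theorem rep_gp_one {e : El} {A : List (List ℤ)} (he : Rep (e.g : ↥Co0) A) : Rep (gp [e] : ↥Co0) A := by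
  rw [gp_cons, gp_nil, mul_one]; exact he

theorem gp_eq {v w : List El} {T : List (List ℤ)} (hv : Rep (gp v : ↥Co0) T) (hw : Rep (gp w : ↥Co0) T) :
    gp v = gp w := Subtype.ext (hv.eq hw)

theorem mem_co2G_of_rep {e : El} {T : List (List ℤ)} (h : Rep e.co T) (hv : appB T vUL vUL = true) :
    e.co ∈ co2G := by
  rw [LeechCount.mem_co2G, ← vUL_eq]
  exact app_spec h hv vUL_mem (by rw [vUL_eq]; decide +kernel)

theorem rep_g {e : El} {T : List (List ℤ)} (h : Rep e.co T) (hv : appB T vUL vUL = true) :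
    Rep (e.g : ↥Co0) T := by rwa [El.g_val (mem_co2G_of_rep h hv)]

theorem rep_el {L : List (List (Fin 6))} {s p q : ℕ} {M T : List (List ℤ)} (hm : monB ⟨[], s, p, q⟩ M = true)
    (h : Rep (pre L (El.co ⟨[], s, p, q⟩)) T) (hv : appB T vUL vUL = true) :
    Rep ((El.g ⟨L, s, p, q⟩ : ↥co2G) : ↥Co0) T := by
  refine rep_g ?_ hv
  rw [co_split]
  · exact h
  · simp only [monB, El.ok, Bool.and_eq_true] at hm
    exact ⟨hm.1.1.1.2.1.1.2, hm.1.1.1.2.1.2⟩

theorem rep_co {L : List (List (Fin 6))} {s p q : ℕ} {M T : List (List ℤ)} (hm : monB ⟨[], s, p, q⟩ M = true)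
    (h : Rep (pre L (El.co ⟨[], s, p, q⟩)) T) : Rep (El.co ⟨L, s, p, q⟩) T := by
  rw [co_split]
  · exact h
  · simp only [monB, El.ok, Bool.and_eq_true] at hm
    exact ⟨hm.1.1.1.2.1.1.2, hm.1.1.1.2.1.2⟩

/-- A generator keeps a list of vectors. -/
def keepB (T : List (List ℤ)) (O : List (List ℤ)) (im : List ℕ) : Bool :=
  im.length == O.length && (List.zip O im).all fun p => Nat.blt p.2 O.length && appB T p.1 (O.getD p.2 [])

theorem card_le_mul {G : Type*} [Group G] [Finite G] {H K : Subgroup G} (hHK : H ≤ K) {x : G} (hx : x ∈ K)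
    {p : ℕ} (hp : p.Prime) (hxp : x ^ p = 1) (hn : x ∉ H) : Nat.card H * p ≤ Nat.card K := by
  let f : H × Fin p → K := fun q => ⟨q.1.1 * x ^ (q.2 : ℕ), K.mul_mem (hHK q.1.2) (K.pow_mem hx _)⟩
  have hord : orderOf x = p := by
    haveI := Fact.mk hp
    exact orderOf_eq_prime hxp fun e => hn (e ▸ H.one_mem)
  have hf : Function.Injective f := by
    rintro ⟨a, i⟩ ⟨b, j⟩ h
    have h' : a.1 * x ^ (i : ℕ) = b.1 * x ^ (j : ℕ) := congrArg Subtype.val h
    have key : ∀ (a b : H) (i j : ℕ), i ≤ j → j < p → a.1 * x ^ i = b.1 * x ^ j → i = j := by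
      intro a b i j hij hj h
      by_contra hne
      have hm : x ^ (j - i) ∈ H := by
        have : x ^ (j - i) = b.1⁻¹ * a.1 := by
          rw [pow_sub x hij, eq_inv_mul_iff_mul_eq, ← mul_assoc, ← h, mul_inv_cancel_right]
        rw [this]; exact H.mul_mem (H.inv_mem b.2) a.2
      obtain ⟨n, hn'⟩ := exists_pow_eq_self_of_coprime (x := x) (n := j - i) (by
        rw [hord]
        exact Nat.Coprime.symm ((Nat.Prime.coprime_iff_not_dvd hp).2 fun hd => by
          have := Nat.le_of_dvd (by omega) hd; omega))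
      exact hn (hn' ▸ H.pow_mem hm n)
    have hij : (i : ℕ) = j := by
      rcases le_total (i : ℕ) j with hl | hl
      · exact key a b i j hl j.2 h'
      · exact (key b a j i hl i.2 h'.symm).symm
    obtain rfl : i = j := Fin.ext hij
    exact Prod.ext (Subtype.ext (mul_right_cancel h')) rfl
  have := Nat.card_le_card_of_injective f hf
  rwa [Nat.card_prod, Nat.card_fin] at this

/-- The set of vectors of a list. -/
def Keeps (O : List (List ℤ)) (g : ↥co2G) : Prop := ∀ v ∈ O, ∃ w ∈ O, ap (g : ↥Co0) (vecOf v) = vecOf w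

theorem keeps_of_keepB {e : El} {T : List (List ℤ)} {O : List (List ℤ)} {im : List ℕ}
    (he : Rep (e.g : ↥Co0) T) (hO : ∀ v ∈ O, vecOf v ∈ leechLattice ∧ sqNorm (vecOf v) = 32)
    (h : keepB T O im = true) : Keeps O e.g := by
  simp only [keepB, Bool.and_eq_true, beq_iff_eq, List.all_eq_true, Nat.blt_eq] at h
  obtain ⟨hl, hall⟩ := h
  intro v hv
  obtain ⟨n, hn, rfl⟩ := List.mem_iff_getElem.1 hv
  obtain ⟨h1, h2⟩ := hall (O[n], im[n]'(by omega)) (List.mem_iff_getElem.2
    ⟨n, by rw [List.length_zip]; omega, by rw [List.getElem_zip]⟩)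
  refine ⟨O.getD (im[n]'(by omega)) [], ?_, app_spec he h2 (hO _ hv).1 (by rw [(hO _ hv).2]; norm_num)⟩
  rw [List.getD_eq_getElem _ _ h1]
  exact List.getElem_mem _

theorem not_mem_of_orbit {S : Set ↥co2G} {O : List (List ℤ)}
    (hO : ∀ v ∈ O, vecOf v ∈ leechLattice ∧ sqNorm (vecOf v) = 32) (hS : ∀ g ∈ S, Keeps O g)
    {e : El} {T : List (List ℤ)} (he : Rep (e.g : ↥Co0) T) {w : List ℤ}
    (h : (appB T (O.getD 0 []) w && Nat.blt 0 O.length && O.all (fun v => v.length == 24 && v != w)) = true) :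
    e.g ∉ Subgroup.closure S := by
  intro hmem
  rw [← Subgroup.mem_toSubmonoid, Subgroup.closure_toSubmonoid_of_finite] at hmem
  have hk : ∀ g ∈ Submonoid.closure S, Keeps O g := fun g hg => by
    induction hg using Submonoid.closure_induction with
    | mem x hx => exact hS x hx
    | one => exact fun v hv => ⟨v, hv, ap_one _⟩
    | mul x y _ _ hx hy =>
      intro v hv
      obtain ⟨u, hu, e1⟩ := hy v hv
      obtain ⟨z, hz, e2⟩ := hx u hu
      exact ⟨z, hz, by rw [Subgroup.coe_mul, ap_mul _ _ (hO v hv).1, e1, e2]⟩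
  simp only [Bool.and_eq_true, Nat.blt_eq, List.all_eq_true, beq_iff_eq, bne_iff_ne] at h
  obtain ⟨⟨h1, h2⟩, h3⟩ := h
  have h0 : O.getD 0 [] ∈ O := by rw [List.getD_eq_getElem _ _ h2]; exact List.getElem_mem _
  obtain ⟨u, hu, hap⟩ := hk _ hmem _ h0
  rw [app_spec he h1 (hO _ h0).1 (by rw [(hO _ h0).2]; norm_num)] at hap
  simp only [appB, Bool.and_eq_true, beq_iff_eq] at h1
  exact (h3 u hu).2 (vecOf_inj (h3 u hu).1 h1.1.1.2 hap.symm)

theorem orbit_short {T : List (List ℤ)} {g : ↥co2G} (hg : Rep (g : ↥Co0) T) {v : List ℤ}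
    (hv : vecOf v ∈ leechLattice ∧ sqNorm (vecOf v) = 32) {w : List ℤ} (h : appB T v w = true) :
    vecOf w ∈ leechLattice ∧ sqNorm (vecOf w) = 32 := by
  rw [← app_spec hg h hv.1 (by rw [hv.2]; norm_num)]
  exact ⟨ap_mem _ hv.1, (ap_norm _ hv.1).trans hv.2⟩

/-- A list of short vectors of the lattice. -/
def shortB (O : List (List ℤ)) : Bool :=
  O.all fun v => decide (((∀ i, (2 : ℤ) ∣ vecOf v i - 0) ∧ (8 : ℤ) ∣ (∑ i, vecOf v i) - 4 * 0 ∧
      inCode (maskOf (pat 0 (vecOf v))) = true) ∨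
    ((∀ i, (2 : ℤ) ∣ vecOf v i - 1) ∧ (8 : ℤ) ∣ (∑ i, vecOf v i) - 4 * 1 ∧
      inCode (maskOf (pat 1 (vecOf v))) = true)) && decide (sqNorm (vecOf v) = 32)

theorem shortB_spec {O : List (List ℤ)} (h : shortB O = true) :
    ∀ v ∈ O, vecOf v ∈ leechLattice ∧ sqNorm (vecOf v) = 32 := fun v hv => by
  simp only [shortB, List.all_eq_true, Bool.and_eq_true, decide_eq_true_eq] at h
  obtain ⟨h1, h2⟩ := h v hv
  refine ⟨(mem_leech_iff _).2 ?_, h2⟩
  rcases h1 with ⟨a, b, c⟩ | ⟨a, b, c⟩
  · exact ⟨0, a, b, mem_supports_iff_inCode.2 c⟩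
  · exact ⟨1, a, b, mem_supports_iff_inCode.2 c⟩

end

end Cfsg.Agent.LeechCount.Co2Mult
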